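import Mathlib
import Cfsg.Prelude.Def_LieExceptional

set_option autoImplicit false

namespace Cfsg.Agent.Lib.Helper3.Sz1

open Matrix

variable {F : Type*} [Field F]

/-- The hypotheses on the exponent `s` (`x ↦ x ^ s` is an additive map squaring to `x ↦ x ^ 2`). -/
structure Hyp (F : Type*) [Field F] (s : ℕ) : Prop where
  two : (2 : F) = 0
  add : ∀ x y : F, (x + y) ^ s = x ^ s + y ^ s
  sq : ∀ x : F, (x ^ s) ^ s = x ^ 2
  pos : 3 ≤ s

theorem hyp_of_card [Fintype F] {m : ℕ} (hm : 1 ≤ m) (hF : Fintype.card F = 2 ^ (2 * m + 1)) :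
    Hyp F (2 ^ (m + 1)) := by
  have h2 : (2 : F) = 0 := by
    have h := FiniteField.cast_card_eq_zero F
    rw [hF] at h
    push_cast at h
    exact pow_eq_zero_iff (by omega) |>.mp h
  have : CharP F 2 := CharTwo.of_one_ne_zero_of_two_eq_zero one_ne_zero h2
  have : Fact (Nat.Prime 2) := ⟨Nat.prime_two⟩
  refine ⟨h2, fun x y => add_pow_char_pow x y 2 (m + 1), fun x => ?_, ?_⟩
  · rw [← pow_mul, show 2 ^ (m + 1) * 2 ^ (m + 1) = 2 ^ (2 * m + 1) * 2 by ring, pow_mul, ← hF,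
      FiniteField.pow_card]
  · have h1 : 2 ^ 1 ≤ 2 ^ m := Nat.pow_le_pow_right (by norm_num) hm
    have h3 : 2 ^ (m + 1) = 2 * 2 ^ m := pow_succ' 2 m
    omega

omit [Field F] in
theorem card_gt [Fintype F] {m : ℕ} (hm : 1 ≤ m) (hF : Fintype.card F = 2 ^ (2 * m + 1)) :
    2 ^ (m + 1) + 2 < Fintype.card F := by
  have h1 : 2 ^ 1 ≤ 2 ^ m := Nat.pow_le_pow_right (by norm_num) hm
  have h3 : 2 ^ (m + 1) = 2 * 2 ^ m := pow_succ' 2 m
  have h4 : 2 ^ (2 * m + 1) = 2 * 2 ^ m * 2 ^ m := by ring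
  rw [hF, h4, h3]
  nlinarith

/-! ### the ovoid function -/

/-- `f(x, y) = x y + x^(s+2) + y^s`. -/
def fq (s : ℕ) (x y : F) : F := x * y + x ^ (s + 2) + y ^ s

theorem pow_s_zero {s : ℕ} (hs : Hyp F s) : (0 : F) ^ s = 0 := zero_pow (by have := hs.pos; omega)

theorem pow_s_eq_zero {s : ℕ} (hs : Hyp F s) {x : F} (h : x ^ s = 0) : x = 0 :=
  (pow_eq_zero_iff (by have := hs.pos; omega)).mp h

theorem fq_zero {s : ℕ} (hs : Hyp F s) : fq s (0 : F) 0 = 0 := by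
  unfold fq
  rw [pow_s_zero hs, zero_pow (by omega)]
  ring

/-- translation identity. -/
theorem fq_trans {s : ℕ} (hs : Hyp F s) (x y a b : F) :
    fq s (x + a) (y + b + a ^ s * x) =
      fq s x y + a * y + (b + a ^ (s + 1)) * x + fq s a b := by
  have h2 := hs.two
  simp only [fq, pow_add, hs.add, mul_pow, hs.sq, pow_one]
  linear_combination ((a ^ s) * a * x + (a ^ s) * x ^ 2 + (x ^ s) * a * x + (x ^ s) * a ^ 2) * h2

/-- `f(x,y)^s`. -/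
theorem fq_pow {s : ℕ} (hs : Hyp F s) (x y : F) :
    fq s x y ^ s = x ^ s * y ^ s + x ^ 2 * (x ^ s) ^ 2 + y ^ 2 := by
  simp only [fq, pow_add, hs.add, mul_pow, hs.sq]
  ring

/-- inversion identity. -/
theorem fq_inv {s : ℕ} (hs : Hyp F s) (x y : F) :
    fq s x y ^ (s + 1) = x * y * fq s x y ^ s + y ^ (s + 2) + x ^ s * fq s x y ^ 2 := by
  have h2 := hs.two
  rw [pow_succ, fq_pow hs]
  simp only [fq, pow_add]
  linear_combination (-((x ^ s) * (y ^ s) * x * y) + -((x ^ s) ^ 2 * x ^ 3 * y)) * h2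

/-- anisotropy. -/
theorem fq_aniso {s : ℕ} (hs : Hyp F s) {x y : F} (h : fq s x y = 0) : x = 0 ∧ y = 0 := by
  have h2 := hs.two
  have h' : x ^ s * y ^ s + x ^ 2 * (x ^ s) ^ 2 + y ^ 2 = 0 := by
    rw [← fq_pow hs, h, pow_s_zero hs]
  have h0 : x * y + x ^ s * x ^ 2 + y ^ s = 0 := by
    have h1 := h
    simp only [fq, pow_add] at h1
    exact h1
  have h3 : y * (x ^ s * x + y) = 0 := by
    linear_combination h' + (x ^ s) * h0 - (x ^ s * y ^ s + x ^ 2 * (x ^ s) ^ 2) * h2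
  rcases mul_eq_zero.mp h3 with hy | hy
  · rw [hy] at h0
    have h4 : x ^ (s + 2) = 0 := by
      rw [pow_add]
      rw [pow_s_zero hs] at h0
      linear_combination h0
    exact ⟨(pow_eq_zero_iff (by omega)).mp h4, hy⟩
  · have h4 : y ^ s = 0 := by linear_combination h0 - x * hy
    have hy0 := pow_s_eq_zero hs h4
    rw [hy0, add_zero] at hy
    have h5 : x ^ (s + 1) = 0 := by
      rw [pow_succ]
      exact hy
    exact ⟨(pow_eq_zero_iff (by omega)).mp h5, hy0⟩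

/-! ### vectors and the cone over the ovoid -/

/-- representative of the point at infinity. -/
def vInf : Fin 4 → F := ![1, 0, 0, 0]

/-- representative of the affine point `(x, y)`. -/
def vP (s : ℕ) (x y : F) : Fin 4 → F := ![fq s x y, y, x, 1]

theorem vInf_ne : (vInf : Fin 4 → F) ≠ 0 := fun h => one_ne_zero (α := F) (congrFun h 0)

theorem vP_ne (s : ℕ) (x y : F) : vP s x y ≠ 0 := fun h => one_ne_zero (α := F) (congrFun h 3)

/-- the cone over the ovoid, in coordinates. -/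
def ConeP (s : ℕ) (v : Fin 4 → F) : Prop :=
  (v 1 = 0 ∧ v 2 = 0 ∧ v 3 = 0 ∧ v 0 ≠ 0) ∨
  (v 3 ≠ 0 ∧ v 0 * v 3 ^ (s + 1) = v 1 * v 2 * v 3 ^ s + v 2 ^ (s + 2) + v 1 ^ s * v 3 ^ 2)

theorem coneP_smul_vInf {s : ℕ} {c : F} (hc : c ≠ 0) : ConeP s (c • (vInf : Fin 4 → F)) :=
  Or.inl (by simp [vInf, hc])

theorem coneP_smul_vP {s : ℕ} {c : F} (hc : c ≠ 0) (x y : F) : ConeP s (c • vP s x y) := by
  right
  refine ⟨by simp [vP, hc], ?_⟩
  simp only [vP, fq, Pi.smul_apply, smul_eq_mul, Matrix.cons_val_zero, Matrix.cons_val_one,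
    Matrix.cons_val]
  ring

theorem coneP_vInf {s : ℕ} : ConeP s (vInf : Fin 4 → F) := by
  have h := coneP_smul_vInf (s := s) (one_ne_zero (α := F))
  rwa [one_smul] at h

theorem coneP_vP {s : ℕ} (x y : F) : ConeP s (vP s x y) := by
  have h := coneP_smul_vP (s := s) (one_ne_zero (α := F)) x y
  rwa [one_smul] at h

theorem cone_aux {s : ℕ} (t a b : F) (ht : t ≠ 0) :
    t * (b / t * (a / t) + (b / t) ^ (s + 2) + (a / t) ^ s) * t ^ (s + 1) =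
      a * b * t ^ s + b ^ (s + 2) + a ^ s * t ^ 2 := by
  rw [div_pow, div_pow]
  field_simp
  ring

theorem coneP_cases {s : ℕ} {v : Fin 4 → F} (h : ConeP s v) :
    (∃ c : F, c ≠ 0 ∧ v = c • vInf) ∨ ∃ c : F, c ≠ 0 ∧ ∃ x y, v = c • vP s x y := by
  rcases h with ⟨h1, h2, h3, h0⟩ | ⟨h3, hQ⟩
  · left
    refine ⟨v 0, h0, ?_⟩
    funext i
    fin_cases i <;> simp [vInf, h1, h2, h3]
  · right
    refine ⟨v 3, h3, v 2 / v 3, v 1 / v 3, ?_⟩
    funext i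
    fin_cases i
    · show v 0 = v 3 * fq s (v 2 / v 3) (v 1 / v 3)
      have h4 : v 3 ^ (s + 1) ≠ 0 := pow_ne_zero _ h3
      apply mul_right_cancel₀ h4
      rw [hQ]
      unfold fq
      rw [cone_aux _ _ _ h3]
    · show v 1 = v 3 * (v 1 / v 3)
      rw [mul_div_cancel₀ _ h3]
    · show v 2 = v 3 * (v 2 / v 3)
      rw [mul_div_cancel₀ _ h3]
    · show v 3 = v 3 * 1
      rw [mul_one]

theorem mem_ovoid_iff (m : ℕ) (v : Fin 4 → F) (hv : v ≠ 0) :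
    Projectivization.mk F v hv ∈ Cfsg.suzukiOvoid F m ↔ ConeP (2 ^ (m + 1)) v := by
  constructor
  · rintro ⟨v', hv', heq, hcase⟩
    rw [Projectivization.mk_eq_mk_iff'] at heq
    obtain ⟨a, ha⟩ := heq
    have ha0 : a ≠ 0 := by
      rintro rfl
      rw [zero_smul] at ha
      exact hv ha.symm
    rw [← ha]
    rcases hcase with rfl | ⟨x, y, rfl⟩
    · exact coneP_smul_vInf ha0
    · exact coneP_smul_vP ha0 x y
  · intro h
    rcases coneP_cases h with ⟨c, hc, rfl⟩ | ⟨c, hc, x, y, rfl⟩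
    · refine ⟨vInf, vInf_ne, ?_, Or.inl rfl⟩
      rw [Projectivization.mk_eq_mk_iff']
      exact ⟨c, rfl⟩
    · refine ⟨vP _ x y, vP_ne _ x y, ?_, Or.inr ⟨x, y, rfl⟩⟩
      rw [Projectivization.mk_eq_mk_iff']
      exact ⟨c, rfl⟩

theorem mulVec_ne (g : Matrix.SpecialLinearGroup (Fin 4) F) {v : Fin 4 → F} (hv : v ≠ 0) :
    g.1 *ᵥ v ≠ 0 := (smul_ne_zero_iff_ne g).mpr hv

theorem smul_mk4 (g : Matrix.SpecialLinearGroup (Fin 4) F) (v : Fin 4 → F) (hv : v ≠ 0) :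
    g • Projectivization.mk F v hv = Projectivization.mk F (g.1 *ᵥ v) (mulVec_ne g hv) := rfl

theorem mem_Sz_iff [Finite F] (m : ℕ) (g : Matrix.SpecialLinearGroup (Fin 4) F) :
    g ∈ Cfsg.Sz F m ↔ ConeP (2 ^ (m + 1)) (g.1 *ᵥ vInf) ∧
      ∀ x y, ConeP (2 ^ (m + 1)) (g.1 *ᵥ vP (2 ^ (m + 1)) x y) := by
  rw [MulAction.mem_stabilizer_set' (Set.toFinite _)]
  constructor
  · intro h
    refine ⟨?_, fun x y => ?_⟩
    · have h1 := h ((mem_ovoid_iff m vInf vInf_ne).mpr coneP_vInf)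
      rw [smul_mk4] at h1
      exact (mem_ovoid_iff m _ _).mp h1
    · have h1 := h ((mem_ovoid_iff m _ (vP_ne _ x y)).mpr (coneP_vP x y))
      rw [smul_mk4] at h1
      exact (mem_ovoid_iff m _ _).mp h1
  · rintro ⟨h1, h2⟩ p ⟨v', hv', rfl, hcase⟩
    rw [smul_mk4, mem_ovoid_iff]
    rcases hcase with rfl | ⟨x, y, rfl⟩
    · exact h1
    · exact h2 x y

theorem mulVec4 (A : Matrix (Fin 4) (Fin 4) F) (v : Fin 4 → F) (i : Fin 4) :
    (A *ᵥ v) i = A i 0 * v 0 + A i 1 * v 1 + A i 2 * v 2 + A i 3 * v 3 := by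
  simp [Matrix.mulVec, dotProduct, Fin.sum_univ_four]

/-! ### explicit elements -/

/-- translation matrix. -/
def Tm (s : ℕ) (a b : F) : Matrix (Fin 4) (Fin 4) F :=
  !![1, a, b + a ^ (s + 1), fq s a b; 0, 1, a ^ s, b; 0, 0, 1, a; 0, 0, 0, 1]

theorem det_Tm (s : ℕ) (a b : F) : (Tm s a b).det = 1 := by
  rw [Matrix.det_of_isUpperTriangular]
  · simp [Tm, Fin.prod_univ_four]
  · intro i j hij
    fin_cases i <;> fin_cases j <;> simp [Tm] at hij ⊢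

/-- translation. -/
def T (s : ℕ) (a b : F) : Matrix.SpecialLinearGroup (Fin 4) F := ⟨Tm s a b, det_Tm s a b⟩

theorem T_vInf (s : ℕ) (a b : F) : (T s a b).1 *ᵥ vInf = vInf := by
  funext i
  rw [mulVec4]
  fin_cases i <;> simp [T, Tm, vInf]

theorem T_vP {s : ℕ} (hs : Hyp F s) (a b x y : F) :
    (T s a b).1 *ᵥ vP s x y = vP s (x + a) (y + b + a ^ s * x) := by
  funext i
  rw [mulVec4]
  fin_cases i
  · show (1 : F) * fq s x y + a * y + (b + a ^ (s + 1)) * x + fq s a b * 1 =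
      fq s (x + a) (y + b + a ^ s * x)
    rw [fq_trans hs]
    ring
  · show (0 : F) * fq s x y + 1 * y + a ^ s * x + b * 1 = y + b + a ^ s * x
    ring
  · show (0 : F) * fq s x y + 0 * y + 1 * x + a * 1 = x + a
    ring
  · show (0 : F) * fq s x y + 0 * y + 0 * x + 1 * 1 = 1
    ring

/-- the antidiagonal matrix. -/
def Jm : Matrix (Fin 4) (Fin 4) F := !![0, 0, 0, 1; 0, 0, 1, 0; 0, 1, 0, 0; 1, 0, 0, 0]

theorem Jm_sq : (Jm : Matrix (Fin 4) (Fin 4) F) * Jm = 1 := by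
  ext i j
  fin_cases i <;> fin_cases j <;> simp [Jm, Matrix.mul_apply, Fin.sum_univ_four]

theorem det_Jm {s : ℕ} (hs : Hyp F s) : (Jm : Matrix (Fin 4) (Fin 4) F).det = 1 := by
  have h := congrArg Matrix.det (Jm_sq (F := F))
  rw [Matrix.det_mul, Matrix.det_one] at h
  have h2 := hs.two
  have h3 : ((Jm : Matrix (Fin 4) (Fin 4) F).det - 1) ^ 2 = 0 := by
    linear_combination h + (1 - (Jm : Matrix (Fin 4) (Fin 4) F).det) * h2
  have h4 := pow_eq_zero_iff (two_ne_zero) |>.mp h3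
  linear_combination h4

/-- the inversion. -/
def W {s : ℕ} (hs : Hyp F s) : Matrix.SpecialLinearGroup (Fin 4) F := ⟨Jm, det_Jm hs⟩

theorem Jm_vInf {s : ℕ} (hs : Hyp F s) : (Jm : Matrix (Fin 4) (Fin 4) F) *ᵥ vInf = vP s 0 0 := by
  funext i
  rw [mulVec4]
  fin_cases i <;> simp [Jm, vInf, vP, fq_zero hs]

theorem Jm_vP (s : ℕ) (x y : F) :
    (Jm : Matrix (Fin 4) (Fin 4) F) *ᵥ vP s x y = ![1, x, y, fq s x y] := by
  funext i
  rw [mulVec4]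
  fin_cases i <;> simp [Jm, vP]

theorem coneP_Jm_vP {s : ℕ} (hs : Hyp F s) (x y : F) :
    ConeP s ((Jm : Matrix (Fin 4) (Fin 4) F) *ᵥ vP s x y) := by
  rw [Jm_vP]
  by_cases hf : fq s x y = 0
  · obtain ⟨hx, hy⟩ := fq_aniso hs hf
    left
    refine ⟨hx, hy, hf, ?_⟩
    show (1 : F) ≠ 0
    exact one_ne_zero
  · right
    refine ⟨hf, ?_⟩
    show (1 : F) * fq s x y ^ (s + 1) = x * y * fq s x y ^ s + y ^ (s + 2) + x ^ s * fq s x y ^ 2
    rw [one_mul, fq_inv hs]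

/-- diagonal matrix. -/
def Dm (s : ℕ) (k : Fˣ) : Matrix (Fin 4) (Fin 4) F :=
  Matrix.diagonal ![(k : F) ^ (s + 1), (k : F), ((k⁻¹ : Fˣ) : F), ((k⁻¹ : Fˣ) : F) ^ (s + 1)]

theorem det_Dm (s : ℕ) (k : Fˣ) : (Dm s k).det = 1 := by
  have h : (k : F) * ((k⁻¹ : Fˣ) : F) = 1 := by simp
  rw [Dm, Matrix.det_diagonal, Fin.prod_univ_four]
  show (k : F) ^ (s + 1) * (k : F) * ((k⁻¹ : Fˣ) : F) * ((k⁻¹ : Fˣ) : F) ^ (s + 1) = 1
  calc (k : F) ^ (s + 1) * (k : F) * ((k⁻¹ : Fˣ) : F) * ((k⁻¹ : Fˣ) : F) ^ (s + 1)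
      = ((k : F) * ((k⁻¹ : Fˣ) : F)) ^ (s + 1) * ((k : F) * ((k⁻¹ : Fˣ) : F)) := by ring
    _ = 1 := by rw [h, one_pow, one_mul]

/-- diagonal element. -/
def D (s : ℕ) (k : Fˣ) : Matrix.SpecialLinearGroup (Fin 4) F := ⟨Dm s k, det_Dm s k⟩

theorem Dm_mulVec (s : ℕ) (k : Fˣ) (v : Fin 4 → F) :
    Dm s k *ᵥ v = ![(k : F) ^ (s + 1) * v 0, (k : F) * v 1, ((k⁻¹ : Fˣ) : F) * v 2,
      ((k⁻¹ : Fˣ) : F) ^ (s + 1) * v 3] := by
  funext i
  rw [Dm, Matrix.mulVec_diagonal]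
  fin_cases i <;> rfl

theorem coneP_Dm_vInf (s : ℕ) (k : Fˣ) : ConeP s (Dm s k *ᵥ (vInf : Fin 4 → F)) := by
  rw [Dm_mulVec]
  left
  simp [vInf]

theorem coneP_Dm_vP {s : ℕ} (hs : Hyp F s) (k : Fˣ) (x y : F) :
    ConeP s (Dm s k *ᵥ vP s x y) := by
  rw [Dm_mulVec]
  right
  have hbc : (k : F) * ((k⁻¹ : Fˣ) : F) = 1 := by simp
  have hBC : (k : F) ^ s * ((k⁻¹ : Fˣ) : F) ^ s = 1 := by rw [← mul_pow, hbc, one_pow]
  refine ⟨?_, ?_⟩
  · show ((k⁻¹ : Fˣ) : F) ^ (s + 1) * 1 ≠ 0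
    rw [mul_one]
    exact pow_ne_zero _ (Units.ne_zero _)
  · show (k : F) ^ (s + 1) * fq s x y * (((k⁻¹ : Fˣ) : F) ^ (s + 1) * 1) ^ (s + 1) =
      (k : F) * y * (((k⁻¹ : Fˣ) : F) * x) * (((k⁻¹ : Fˣ) : F) ^ (s + 1) * 1) ^ s +
        (((k⁻¹ : Fˣ) : F) * x) ^ (s + 2) + ((k : F) * y) ^ s * (((k⁻¹ : Fˣ) : F) ^ (s + 1) * 1) ^ 2
    generalize (k : F) = b at hbc hBC ⊢
    generalize ((k⁻¹ : Fˣ) : F) = c at hbc hBC ⊢
    simp only [fq, pow_add, mul_pow, hs.sq, pow_one, mul_one]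
    linear_combination (x ^ s * x ^ 2 * c ^ s * c ^ 2 + y ^ s * b ^ s * (c ^ s) ^ 2 * c ^ 2) * hbc +
      (x * y * b * c ^ 3 * c ^ s + x ^ s * x ^ 2 * c ^ s * c ^ 2 * b * c) * hBC

end Cfsg.Agent.Lib.Helper3.Sz1
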