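import Mathlib
import Cfsg.Prelude.Def_LieExceptional
import Cfsg.Agent.Lib.Helper3.Sz1

set_option autoImplicit false

namespace Cfsg.Agent.Lib.Helper3.Sz2

open Matrix Cfsg.Agent.Lib.Helper3.Sz1

variable {F : Type*} [Field F]

open Polynomial in
/-- a function `c1 y + c2 y^2 + cs y^s + cs2 y^(s+2)` vanishing on a finite field with more than
`s + 2` elements has zero coefficients. -/
theorem four_coeff [Fintype F] {s : ℕ} (hs : 3 ≤ s) (hcard : s + 2 < Fintype.card F)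
    (c1 c2 cs cs2 : F)
    (h : ∀ y : F, c1 * y + c2 * y ^ 2 + cs * y ^ s + cs2 * y ^ (s + 2) = 0) :
    c1 = 0 ∧ c2 = 0 ∧ cs = 0 ∧ cs2 = 0 := by
  let p : F[X] := C c1 * X + C c2 * X ^ 2 + C cs * X ^ s + C cs2 * X ^ (s + 2)
  have hp : p = 0 := by
    apply Polynomial.eq_zero_of_natDegree_lt_card_of_eval_eq_zero p (f := id) Function.injective_id
    · intro y
      simp only [p, Polynomial.eval_add, Polynomial.eval_mul, Polynomial.eval_C, Polynomial.eval_X,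
        Polynomial.eval_pow, id]
      exact h y
    · have h1 : p.natDegree ≤ s + 2 := by
        simp only [p]
        compute_degree
      omega
  have hc : ∀ n, p.coeff n = (if n = 1 then c1 else 0) + (if n = 2 then c2 else 0) +
      (if n = s then cs else 0) + (if n = s + 2 then cs2 else 0) := by
    intro n
    simp only [p, Polynomial.coeff_add, Polynomial.coeff_C_mul, Polynomial.coeff_X_pow,
      Polynomial.coeff_X, mul_ite, mul_one, mul_zero]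
    congr 3
    by_cases h1 : n = 1
    · simp [h1]
    · simp [h1, Ne.symm h1]
  rw [hp] at hc
  have e1 := hc 1
  have e2 := hc 2
  have e3 := hc s
  have e4 := hc (s + 2)
  simp only [Polynomial.coeff_zero] at e1 e2 e3 e4
  have n0 : s ≠ 0 := by omega
  have n1 : (1 : ℕ) ≠ s := by omega
  have n2 : (2 : ℕ) ≠ s := by omega
  have n6 : s ≠ 1 := by omega
  have n7 : s ≠ 2 := by omega
  have n8 : s + 2 ≠ 1 := by omega
  simp [n0, n1, n2, n6, n7, n8] at e1 e2 e3 e4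
  exact ⟨e1.symm, e2.symm, e3.symm, e4.symm⟩

/-- membership predicate for the stabiliser of the ovoid. -/
def InS (s : ℕ) (g : Matrix.SpecialLinearGroup (Fin 4) F) : Prop :=
  ConeP s (g.1 *ᵥ vInf) ∧ ∀ x y, ConeP s (g.1 *ᵥ vP s x y)

theorem mem_Sz_iff' [Finite F] (m : ℕ) (g : Matrix.SpecialLinearGroup (Fin 4) F) :
    g ∈ Cfsg.Sz F m ↔ InS (2 ^ (m + 1)) g := mem_Sz_iff m g

theorem mulVec_vInf (A : Matrix (Fin 4) (Fin 4) F) (i : Fin 4) : (A *ᵥ vInf) i = A i 0 := by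
  rw [mulVec4]
  show A i 0 * 1 + A i 1 * 0 + A i 2 * 0 + A i 3 * 0 = A i 0
  ring

theorem mulVec_vP (A : Matrix (Fin 4) (Fin 4) F) (s : ℕ) (x y : F) (i : Fin 4) :
    (A *ᵥ vP s x y) i = A i 0 * fq s x y + A i 1 * y + A i 2 * x + A i 3 := by
  rw [mulVec4]
  show A i 0 * fq s x y + A i 1 * y + A i 2 * x + A i 3 * 1 = _
  rw [mul_one]

theorem inS_T {s : ℕ} (hs : Hyp F s) (a b : F) : InS s (T s a b) := by
  refine ⟨?_, fun x y => ?_⟩
  · rw [T_vInf]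
    exact coneP_vInf
  · rw [T_vP hs]
    exact coneP_vP _ _

theorem inS_W {s : ℕ} (hs : Hyp F s) : InS s (W hs) := by
  refine ⟨?_, fun x y => ?_⟩
  · show ConeP s (Jm *ᵥ vInf)
    rw [Jm_vInf hs]
    exact coneP_vP _ _
  · exact coneP_Jm_vP hs x y

theorem inS_D {s : ℕ} (hs : Hyp F s) (k : Fˣ) : InS s (D s k) :=
  ⟨coneP_Dm_vInf s k, fun x y => coneP_Dm_vP hs k x y⟩

/-- an element of the stabiliser of the ovoid fixing the points `(1,0,0,0)` and `(0,0,0,1)`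
is diagonal. -/
theorem diag_of_fix [Fintype F] {s : ℕ} (hs : Hyp F s) (hcard : s + 2 < Fintype.card F)
    (g : Matrix.SpecialLinearGroup (Fin 4) F) (hg : InS s g)
    (h10 : g.1 1 0 = 0) (h20 : g.1 2 0 = 0) (h30 : g.1 3 0 = 0)
    (h03 : g.1 0 3 = 0) (h13 : g.1 1 3 = 0) (h23 : g.1 2 3 = 0) : ∃ k : Fˣ, g = D s k := by
  have h2 := hs.two
  have hs0 : s ≠ 0 := by have := hs.pos; omega
  have hdet : g.1.det ≠ 0 := by
    rw [g.2]
    exact one_ne_zero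
  have hα : g.1 0 0 ≠ 0 := by
    intro h
    have h1 : g.1 *ᵥ vInf = 0 := by
      funext i
      rw [mulVec_vInf]
      fin_cases i
      · exact h
      · exact h10
      · exact h20
      · exact h30
    exact vInf_ne (Matrix.eq_zero_of_mulVec_eq_zero hdet h1)
  have hv3 : ∀ x y, (g.1 *ᵥ vP s x y) 3 ≠ 0 := by
    intro x y h3
    rcases hg.2 x y with ⟨e1, e2, e3, e0⟩ | ⟨e3, -⟩
    · have h1 : g.1 *ᵥ (vP s x y - ((g.1 *ᵥ vP s x y) 0 / g.1 0 0) • vInf) = 0 := by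
        rw [Matrix.mulVec_sub, Matrix.mulVec_smul]
        funext i
        rw [Pi.sub_apply, Pi.smul_apply, mulVec_vInf, Pi.zero_apply, smul_eq_mul]
        fin_cases i
        · show (g.1 *ᵥ vP s x y) 0 - (g.1 *ᵥ vP s x y) 0 / g.1 0 0 * g.1 0 0 = 0
          rw [div_mul_cancel₀ _ hα, sub_self]
        · show (g.1 *ᵥ vP s x y) 1 - (g.1 *ᵥ vP s x y) 0 / g.1 0 0 * g.1 1 0 = 0
          rw [e1, h10, mul_zero, sub_zero]
        · show (g.1 *ᵥ vP s x y) 2 - (g.1 *ᵥ vP s x y) 0 / g.1 0 0 * g.1 2 0 = 0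
          rw [e2, h20, mul_zero, sub_zero]
        · show (g.1 *ᵥ vP s x y) 3 - (g.1 *ᵥ vP s x y) 0 / g.1 0 0 * g.1 3 0 = 0
          rw [e3, h30, mul_zero, sub_zero]
      have h4 := Matrix.eq_zero_of_mulVec_eq_zero hdet h1
      have h5 : (vP s x y - ((g.1 *ᵥ vP s x y) 0 / g.1 0 0) • (vInf : Fin 4 → F)) 3 = 0 := by
        rw [h4]
        rfl
      have h6 : (vP s x y - ((g.1 *ᵥ vP s x y) 0 / g.1 0 0) • (vInf : Fin 4 → F)) 3 = 1 := by
        show (1 : F) - (g.1 *ᵥ vP s x y) 0 / g.1 0 0 * 0 = 1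
        ring
      rw [h6] at h5
      exact one_ne_zero h5
    · exact e3 h3
  have hQ : ∀ x y, (g.1 *ᵥ vP s x y) 0 * (g.1 *ᵥ vP s x y) 3 ^ (s + 1) =
      (g.1 *ᵥ vP s x y) 1 * (g.1 *ᵥ vP s x y) 2 * (g.1 *ᵥ vP s x y) 3 ^ s +
        (g.1 *ᵥ vP s x y) 2 ^ (s + 2) + (g.1 *ᵥ vP s x y) 1 ^ s * (g.1 *ᵥ vP s x y) 3 ^ 2 := by
    intro x y
    rcases hg.2 x y with ⟨e1, e2, e3, e0⟩ | ⟨e3, e⟩
    · exact absurd e3 (hv3 x y)
    · exact e
  simp only [mulVec_vP, h10, h20, h30, h03, h13, h23, zero_mul, add_zero, zero_add] at hv3 hQ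
  have hδ : g.1 3 3 ≠ 0 := by
    have h := hv3 0 0
    rwa [mul_zero, mul_zero, zero_add, zero_add] at h
  have h31 : g.1 3 1 = 0 := by
    by_contra h
    apply hv3 0 (-(g.1 3 3) / g.1 3 1)
    rw [mul_zero, add_zero, mul_div_cancel₀ _ h, neg_add_cancel]
  have h32 : g.1 3 2 = 0 := by
    by_contra h
    apply hv3 (-(g.1 3 3) / g.1 3 2) 0
    rw [mul_zero, zero_add, mul_div_cancel₀ _ h, neg_add_cancel]
  simp only [h31, h32, zero_mul, zero_add] at hQ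
  have hA := four_coeff hs.pos hcard (g.1 0 1 * g.1 3 3 ^ (s + 1))
    (-(g.1 1 1 * g.1 2 1 * g.1 3 3 ^ s))
    (g.1 0 0 * g.1 3 3 ^ (s + 1) - g.1 1 1 ^ s * g.1 3 3 ^ 2) (-(g.1 2 1 ^ (s + 2))) (by
      intro y
      have e := hQ 0 y
      have f0 : fq s 0 y = y ^ s := by
        unfold fq
        rw [zero_mul, zero_pow (by omega)]
        ring
      rw [f0] at e
      linear_combination e)
  obtain ⟨hA1, -, hA3, hA4⟩ := hA
  have hB := four_coeff hs.pos hcard (g.1 0 2 * g.1 3 3 ^ (s + 1))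
    (-(g.1 1 2 * g.1 2 2 * g.1 3 3 ^ s)) (-(g.1 1 2 ^ s * g.1 3 3 ^ 2))
    (g.1 0 0 * g.1 3 3 ^ (s + 1) - g.1 2 2 ^ (s + 2)) (by
      intro x
      have e := hQ x 0
      have f0 : fq s x 0 = x ^ (s + 2) := by
        unfold fq
        rw [pow_s_zero hs]
        ring
      rw [f0] at e
      linear_combination e)
  obtain ⟨hB1, -, hB3, hB4⟩ := hB
  have hpδ : g.1 3 3 ^ (s + 1) ≠ 0 := pow_ne_zero _ hδ
  have h01 : g.1 0 1 = 0 := (mul_eq_zero.mp hA1).resolve_right hpδ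
  have h02 : g.1 0 2 = 0 := (mul_eq_zero.mp hB1).resolve_right hpδ
  have h21 : g.1 2 1 = 0 := by
    rw [neg_eq_zero] at hA4
    exact (pow_eq_zero_iff (by omega)).mp hA4
  have h12 : g.1 1 2 = 0 := by
    rw [neg_eq_zero] at hB3
    have h := (mul_eq_zero.mp hB3).resolve_right (pow_ne_zero _ hδ)
    exact pow_s_eq_zero hs h
  have hE3 : g.1 0 0 * g.1 3 3 = g.1 1 1 * g.1 2 2 := by
    have e := hQ 1 1
    have f1 : fq s (1 : F) 1 = 3 := by
      unfold fq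
      rw [one_pow, one_pow]
      norm_num
    rw [f1, h01, h02, h12, h21] at e
    have h5 : (g.1 0 0 * g.1 3 3 - g.1 1 1 * g.1 2 2) * g.1 3 3 ^ s = 0 := by
      linear_combination e - hA3 - hB4
    have h6 := (mul_eq_zero.mp h5).resolve_right (pow_ne_zero _ hδ)
    linear_combination h6
  have hdiag : g.1 = Matrix.diagonal ![g.1 0 0, g.1 1 1, g.1 2 2, g.1 3 3] := by
    ext i j
    fin_cases i <;> fin_cases j <;>
      simp [Matrix.diagonal, h10, h20, h30, h03, h13, h23, h31, h32, h01, h02, h21, h12]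
  have hprod : g.1 0 0 * g.1 1 1 * g.1 2 2 * g.1 3 3 = 1 := by
    have h := g.2
    rw [hdiag, Matrix.det_diagonal, Fin.prod_univ_four] at h
    exact h
  have hαδ : g.1 0 0 * g.1 3 3 = 1 := by
    have h3 : (g.1 0 0 * g.1 3 3 - 1) ^ 2 = 0 := by
      linear_combination (g.1 0 0 * g.1 3 3) * hE3 + hprod + (1 - g.1 0 0 * g.1 3 3) * h2
    have h4 := (pow_eq_zero_iff (two_ne_zero)).mp h3
    linear_combination h4
  have hβγ : g.1 1 1 * g.1 2 2 = 1 := by rw [← hE3, hαδ]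
  have hβ : g.1 1 1 ≠ 0 := by
    intro h
    rw [h, zero_mul] at hβγ
    exact zero_ne_one hβγ
  have hE2 : g.1 3 3 ^ s = g.1 2 2 ^ (s + 2) := by
    linear_combination hB4 - (g.1 3 3 ^ s) * hαδ
  have hδ2 : g.1 3 3 ^ 2 = g.1 2 2 ^ 2 * (g.1 2 2 ^ 2) ^ s := by
    have h := congrArg (fun t => t ^ s) hE2
    simp only [pow_add, mul_pow, hs.sq] at h
    exact h
  have hδγ : g.1 3 3 = g.1 2 2 ^ (s + 1) := by
    have h3 : (g.1 3 3 - g.1 2 2 ^ (s + 1)) ^ 2 = 0 := by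
      linear_combination hδ2 + ((g.1 2 2 ^ (s + 1)) ^ 2 - g.1 3 3 * g.1 2 2 ^ (s + 1)) * h2
    have h4 := (pow_eq_zero_iff (two_ne_zero)).mp h3
    linear_combination h4
  have hαβ : g.1 0 0 = g.1 1 1 ^ (s + 1) := by
    have h1 : g.1 1 1 ^ (s + 1) * g.1 2 2 ^ (s + 1) = 1 := by rw [← mul_pow, hβγ, one_pow]
    have h3 : g.1 0 0 * g.1 2 2 ^ (s + 1) = 1 := by rw [← hδγ, hαδ]
    linear_combination (g.1 1 1 ^ (s + 1)) * h3 - (g.1 0 0) * h1
  refine ⟨Units.mk0 (g.1 1 1) hβ, ?_⟩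
  apply Subtype.ext
  show g.1 = Dm s (Units.mk0 (g.1 1 1) hβ)
  have hγ : ((Units.mk0 (g.1 1 1) hβ)⁻¹ : Fˣ) = g.1 2 2 := by
    rw [Units.val_inv_eq_inv_val, Units.val_mk0]
    exact (eq_inv_of_mul_eq_one_right hβγ).symm
  refine hdiag.trans ?_
  unfold Dm
  rw [hγ, Units.val_mk0, ← hαβ, ← hδγ]

end Cfsg.Agent.Lib.Helper3.Sz2
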