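import Mathlib
import Cfsg.Prelude.Def_LieExceptional
import Cfsg.Agent.Lib.Helper3.Sz1
import Cfsg.Agent.Lib.Helper3.Sz2

set_option autoImplicit false

namespace Cfsg.Agent.Lib.Helper3.Sz3

open Matrix MulAction Cfsg.Agent.Lib.Helper3.Sz1 Cfsg.Agent.Lib.Helper3.Sz2

variable {F : Type*} [Field F]

/-- the affine point `(x, y)` of the ovoid. -/
def pt (s : ℕ) (x y : F) : Projectivization F (Fin 4 → F) :=
  Projectivization.mk F (vP s x y) (vP_ne s x y)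

/-- representative of the point `(0,0,0,1)`. -/
def vZ : Fin 4 → F := ![0, 0, 0, 1]

theorem vZ_ne : (vZ : Fin 4 → F) ≠ 0 := fun h => one_ne_zero (α := F) (congrFun h 3)

theorem pInf_eq : Cfsg.suzukiPointInfinity F = Projectivization.mk F vInf vInf_ne := rfl

theorem pZero_eq : Cfsg.suzukiPointZero F = Projectivization.mk F vZ vZ_ne := rfl

theorem vP_zero {s : ℕ} (hs : Hyp F s) : vP s (0 : F) 0 = vZ := by
  unfold vP vZ
  rw [fq_zero hs]

theorem pt_zero {s : ℕ} (hs : Hyp F s) : pt s (0 : F) 0 = Cfsg.suzukiPointZero F := by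
  rw [pZero_eq, pt, Projectivization.mk_eq_mk_iff']
  exact ⟨1, by rw [one_smul, vP_zero hs]⟩

theorem smul_mk_eq (g : Matrix.SpecialLinearGroup (Fin 4) F) {v w : Fin 4 → F} (hv : v ≠ 0)
    (hw : w ≠ 0) (c : F) (h : g.1 *ᵥ v = c • w) :
    g • Projectivization.mk F v hv = Projectivization.mk F w hw := by
  rw [smul_mk4, Projectivization.mk_eq_mk_iff']
  exact ⟨c, h.symm⟩

theorem T_pInf (s : ℕ) (a b : F) :
    T s a b • Cfsg.suzukiPointInfinity F = Cfsg.suzukiPointInfinity F := by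
  rw [pInf_eq]
  exact smul_mk_eq _ _ _ 1 (by rw [T_vInf, one_smul])

theorem T_pt {s : ℕ} (hs : Hyp F s) (a b x y : F) :
    T s a b • pt s x y = pt s (x + a) (y + b + a ^ s * x) :=
  smul_mk_eq _ _ _ 1 (by rw [T_vP hs, one_smul])

theorem T_pZero {s : ℕ} (hs : Hyp F s) (a b : F) :
    T s a b • Cfsg.suzukiPointZero F = pt s a b := by
  rw [← pt_zero hs, T_pt hs, zero_add, zero_add, mul_zero, add_zero]

theorem W_pInf {s : ℕ} (hs : Hyp F s) :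
    W hs • Cfsg.suzukiPointInfinity F = Cfsg.suzukiPointZero F := by
  rw [pInf_eq, ← pt_zero hs]
  exact smul_mk_eq _ _ _ 1 (by rw [one_smul]; exact Jm_vInf hs)

theorem W_pZero {s : ℕ} (hs : Hyp F s) :
    W hs • Cfsg.suzukiPointZero F = Cfsg.suzukiPointInfinity F := by
  rw [pInf_eq, ← pt_zero hs]
  refine smul_mk_eq _ _ _ 1 ?_
  rw [one_smul]
  show Jm *ᵥ vP s 0 0 = vInf
  rw [Jm_vP, fq_zero hs]
  rfl

theorem D_pInf (s : ℕ) (k : Fˣ) :
    D s k • Cfsg.suzukiPointInfinity F = Cfsg.suzukiPointInfinity F := by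
  rw [pInf_eq]
  refine smul_mk_eq _ _ _ ((k : F) ^ (s + 1)) ?_
  show Dm s k *ᵥ vInf = _
  rw [Dm_mulVec]
  funext i
  fin_cases i <;> simp [vInf]

theorem D_pZero (s : ℕ) (k : Fˣ) :
    D s k • Cfsg.suzukiPointZero F = Cfsg.suzukiPointZero F := by
  rw [pZero_eq]
  refine smul_mk_eq _ _ _ (((k⁻¹ : Fˣ) : F) ^ (s + 1)) ?_
  show Dm s k *ᵥ vZ = _
  rw [Dm_mulVec]
  funext i
  fin_cases i <;> simp [vZ]

theorem pt_inj {s : ℕ} {x y x' y' : F} (h : pt s x y = pt s x' y') : x = x' ∧ y = y' := by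
  rw [pt, pt, Projectivization.mk_eq_mk_iff'] at h
  obtain ⟨c, hc⟩ := h
  have h3 : c * 1 = 1 := congrFun hc 3
  have h2 : c * x' = x := congrFun hc 2
  have h1 : c * y' = y := congrFun hc 1
  rw [mul_one] at h3
  rw [h3, one_mul] at h2 h1
  exact ⟨h2.symm, h1.symm⟩

theorem pt_ne_inf (s : ℕ) (x y : F) : pt s x y ≠ Cfsg.suzukiPointInfinity F := by
  intro h
  rw [pInf_eq, pt, Projectivization.mk_eq_mk_iff'] at h
  obtain ⟨c, hc⟩ := h
  have h3 : c * 0 = 1 := congrFun hc 3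
  rw [mul_zero] at h3
  exact zero_ne_one h3

theorem pZero_ne_inf : Cfsg.suzukiPointZero F ≠ Cfsg.suzukiPointInfinity F := by
  intro h
  rw [pInf_eq, pZero_eq, Projectivization.mk_eq_mk_iff'] at h
  obtain ⟨c, hc⟩ := h
  have h3 : c * 0 = 1 := congrFun hc 3
  rw [mul_zero] at h3
  exact zero_ne_one h3

theorem pInf_mem (m : ℕ) : Cfsg.suzukiPointInfinity F ∈ Cfsg.suzukiOvoid F m :=
  ⟨vInf, vInf_ne, rfl, Or.inl rfl⟩

theorem pt_mem (m : ℕ) (x y : F) : pt (2 ^ (m + 1)) x y ∈ Cfsg.suzukiOvoid F m :=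
  ⟨vP _ x y, vP_ne _ x y, rfl, Or.inr ⟨x, y, rfl⟩⟩

theorem ovoid_cases {m : ℕ} {p : Projectivization F (Fin 4 → F)} (hp : p ∈ Cfsg.suzukiOvoid F m) :
    p = Cfsg.suzukiPointInfinity F ∨ ∃ x y, p = pt (2 ^ (m + 1)) x y := by
  obtain ⟨v', hv', rfl, rfl | ⟨x, y, rfl⟩⟩ := hp
  · exact Or.inl rfl
  · exact Or.inr ⟨x, y, rfl⟩

theorem mulVec_vZ (A : Matrix (Fin 4) (Fin 4) F) (i : Fin 4) : (A *ᵥ vZ) i = A i 3 := by
  rw [mulVec4]
  show A i 0 * 0 + A i 1 * 0 + A i 2 * 0 + A i 3 * 1 = A i 3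
  ring

theorem fixInf_iff (g : Matrix.SpecialLinearGroup (Fin 4) F) :
    g • Cfsg.suzukiPointInfinity F = Cfsg.suzukiPointInfinity F ↔
      g.1 1 0 = 0 ∧ g.1 2 0 = 0 ∧ g.1 3 0 = 0 := by
  rw [pInf_eq, smul_mk4, Projectivization.mk_eq_mk_iff']
  constructor
  · rintro ⟨a, ha⟩
    have h1 := congrFun ha 1
    have h2 := congrFun ha 2
    have h3 := congrFun ha 3
    rw [mulVec_vInf] at h1 h2 h3
    refine ⟨h1.symm.trans ?_, h2.symm.trans ?_, h3.symm.trans ?_⟩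
    · show a * 0 = 0
      rw [mul_zero]
    · show a * 0 = 0
      rw [mul_zero]
    · show a * 0 = 0
      rw [mul_zero]
  · rintro ⟨h1, h2, h3⟩
    refine ⟨g.1 0 0, ?_⟩
    funext i
    rw [mulVec_vInf]
    fin_cases i
    · show g.1 0 0 * 1 = g.1 0 0
      rw [mul_one]
    · show g.1 0 0 * 0 = g.1 1 0
      rw [mul_zero, h1]
    · show g.1 0 0 * 0 = g.1 2 0
      rw [mul_zero, h2]
    · show g.1 0 0 * 0 = g.1 3 0
      rw [mul_zero, h3]

theorem fixZero_iff (g : Matrix.SpecialLinearGroup (Fin 4) F) :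
    g • Cfsg.suzukiPointZero F = Cfsg.suzukiPointZero F ↔
      g.1 0 3 = 0 ∧ g.1 1 3 = 0 ∧ g.1 2 3 = 0 := by
  rw [pZero_eq, smul_mk4, Projectivization.mk_eq_mk_iff']
  constructor
  · rintro ⟨a, ha⟩
    have h1 := congrFun ha 0
    have h2 := congrFun ha 1
    have h3 := congrFun ha 2
    rw [mulVec_vZ] at h1 h2 h3
    refine ⟨h1.symm.trans ?_, h2.symm.trans ?_, h3.symm.trans ?_⟩
    · show a * 0 = 0
      rw [mul_zero]
    · show a * 0 = 0
      rw [mul_zero]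
    · show a * 0 = 0
      rw [mul_zero]
  · rintro ⟨h1, h2, h3⟩
    refine ⟨g.1 3 3, ?_⟩
    funext i
    rw [mulVec_vZ]
    fin_cases i
    · show g.1 3 3 * 0 = g.1 0 3
      rw [mul_zero, h1]
    · show g.1 3 3 * 0 = g.1 1 3
      rw [mul_zero, h2]
    · show g.1 3 3 * 0 = g.1 2 3
      rw [mul_zero, h3]
    · show g.1 3 3 * 1 = g.1 3 3
      rw [mul_one]

theorem TD_entry (s : ℕ) (a b : F) (k : Fˣ) (i j : Fin 4) :
    (T s a b * D s k).1 i j = Tm s a b i j *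
      (![(k : F) ^ (s + 1), (k : F), ((k⁻¹ : Fˣ) : F), ((k⁻¹ : Fˣ) : F) ^ (s + 1)] : Fin 4 → F) j := by
  show (Tm s a b * Dm s k) i j = _
  rw [Dm, Matrix.mul_diagonal]

theorem TD_inj {s : ℕ} {a b a' b' : F} {k k' : Fˣ} (h : T s a b * D s k = T s a' b' * D s k') :
    a = a' ∧ b = b' ∧ k = k' := by
  have e : ∀ i j, (T s a b * D s k).1 i j = (T s a' b' * D s k').1 i j := fun i j => by rw [h]
  have e11 := e 1 1
  have e23 := e 2 3
  have e13 := e 1 3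
  rw [TD_entry, TD_entry] at e11 e23 e13
  have hk : (k : F) = (k' : F) := by
    have h1 : (1 : F) * (k : F) = 1 * (k' : F) := e11
    rwa [one_mul, one_mul] at h1
  have hkk : k = k' := Units.ext hk
  subst hkk
  have hne : ((k⁻¹ : Fˣ) : F) ^ (s + 1) ≠ 0 := pow_ne_zero _ (Units.ne_zero _)
  have ha : a * ((k⁻¹ : Fˣ) : F) ^ (s + 1) = a' * ((k⁻¹ : Fˣ) : F) ^ (s + 1) := e23
  have hb : b * ((k⁻¹ : Fˣ) : F) ^ (s + 1) = b' * ((k⁻¹ : Fˣ) : F) ^ (s + 1) := e13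
  exact ⟨mul_right_cancel₀ hne ha, mul_right_cancel₀ hne hb, rfl⟩

theorem D_one (s : ℕ) : D s (1 : Fˣ) = 1 := by
  apply Subtype.ext
  show Dm s 1 = 1
  ext i j
  fin_cases i <;> fin_cases j <;> simp [Dm]

theorem D_mul (s : ℕ) (k k' : Fˣ) : D s (k * k') = D s k * D s k' := by
  apply Subtype.ext
  show Dm s (k * k') = Dm s k * Dm s k'
  rw [Dm, Dm, Dm, Matrix.diagonal_mul_diagonal]
  congr 1
  funext i
  fin_cases i <;> simp [mul_pow, mul_comm]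

theorem D_inj {s : ℕ} {k k' : Fˣ} (h : D s k = D s k') : k = k' := by
  have e : (D s k).1 1 1 = (D s k').1 1 1 := by rw [h]
  have e' : (k : F) = (k' : F) := by
    have h1 : Dm s k 1 1 = Dm s k' 1 1 := e
    simpa [Dm] using h1
  exact Units.ext e'

section fin

variable [Fintype F] {m : ℕ}

theorem T_mem (hm : 1 ≤ m) (hF : Fintype.card F = 2 ^ (2 * m + 1)) (a b : F) :
    T (2 ^ (m + 1)) a b ∈ Cfsg.Sz F m :=
  (mem_Sz_iff' m _).mpr (inS_T (hyp_of_card hm hF) a b)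

theorem W_mem (hm : 1 ≤ m) (hF : Fintype.card F = 2 ^ (2 * m + 1)) :
    W (hyp_of_card hm hF) ∈ Cfsg.Sz F m :=
  (mem_Sz_iff' m _).mpr (inS_W (hyp_of_card hm hF))

theorem D_mem (hm : 1 ≤ m) (hF : Fintype.card F = 2 ^ (2 * m + 1)) (k : Fˣ) :
    D (2 ^ (m + 1)) k ∈ Cfsg.Sz F m :=
  (mem_Sz_iff' m _).mpr (inS_D (hyp_of_card hm hF) k)

theorem smul_mem_ovoid {g : Matrix.SpecialLinearGroup (Fin 4) F} (hg : g ∈ Cfsg.Sz F m)
    {p : Projectivization F (Fin 4 → F)} (hp : p ∈ Cfsg.suzukiOvoid F m) :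
    g • p ∈ Cfsg.suzukiOvoid F m :=
  (MulAction.mem_stabilizer_set' (Set.toFinite _)).mp hg hp

/-- the two-point stabiliser consists of the diagonal elements. -/
theorem stab_two (hm : 1 ≤ m) (hF : Fintype.card F = 2 ^ (2 * m + 1))
    {g : Matrix.SpecialLinearGroup (Fin 4) F} (hg : g ∈ Cfsg.Sz F m)
    (h1 : g • Cfsg.suzukiPointInfinity F = Cfsg.suzukiPointInfinity F)
    (h2 : g • Cfsg.suzukiPointZero F = Cfsg.suzukiPointZero F) :
    ∃ k : Fˣ, g = D (2 ^ (m + 1)) k := by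
  obtain ⟨e1, e2, e3⟩ := (fixInf_iff g).mp h1
  obtain ⟨e4, e5, e6⟩ := (fixZero_iff g).mp h2
  exact diag_of_fix (hyp_of_card hm hF) (card_gt hm hF) g ((mem_Sz_iff' m g).mp hg) e1 e2 e3 e4 e5 e6

/-- the stabiliser of the point at infinity. -/
theorem stab_one (hm : 1 ≤ m) (hF : Fintype.card F = 2 ^ (2 * m + 1))
    {g : Matrix.SpecialLinearGroup (Fin 4) F} (hg : g ∈ Cfsg.Sz F m)
    (h1 : g • Cfsg.suzukiPointInfinity F = Cfsg.suzukiPointInfinity F) :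
    ∃ (a b : F) (k : Fˣ), g = T (2 ^ (m + 1)) a b * D (2 ^ (m + 1)) k := by
  have hs := hyp_of_card hm hF
  have hO := smul_mem_ovoid hg (by rw [← pt_zero hs]; exact pt_mem m 0 0 :
    Cfsg.suzukiPointZero F ∈ Cfsg.suzukiOvoid F m)
  rcases ovoid_cases hO with h | ⟨a, b, h⟩
  · exfalso
    rw [← h1] at h
    exact pZero_ne_inf (smul_left_cancel g h)
  · have hg' : (T (2 ^ (m + 1)) a b)⁻¹ * g ∈ Cfsg.Sz F m :=
      (Cfsg.Sz F m).mul_mem ((Cfsg.Sz F m).inv_mem (T_mem hm hF a b)) hg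
    have e1 : ((T (2 ^ (m + 1)) a b)⁻¹ * g) • Cfsg.suzukiPointInfinity F =
        Cfsg.suzukiPointInfinity F := by
      rw [mul_smul, h1, inv_smul_eq_iff, T_pInf]
    have e2 : ((T (2 ^ (m + 1)) a b)⁻¹ * g) • Cfsg.suzukiPointZero F =
        Cfsg.suzukiPointZero F := by
      rw [mul_smul, h, inv_smul_eq_iff, T_pZero hs]
    obtain ⟨k, hk⟩ := stab_two hm hF hg' e1 e2
    exact ⟨a, b, k, by rw [← hk, mul_inv_cancel_left]⟩

/-- the diagonal subgroup as a homomorphism. -/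
def DHom (hm : 1 ≤ m) (hF : Fintype.card F = 2 ^ (2 * m + 1)) : Fˣ →* ↥(Cfsg.Sz F m) where
  toFun k := ⟨D (2 ^ (m + 1)) k, D_mem hm hF k⟩
  map_one' := Subtype.ext (D_one _)
  map_mul' k k' := Subtype.ext (D_mul _ k k')

/-- `S0328`. -/
theorem stab2_equiv (hm : 1 ≤ m) (hF : Fintype.card F = 2 ^ (2 * m + 1)) :
    Nonempty (↥(MulAction.stabilizer (Cfsg.Sz F m) (Cfsg.suzukiPointInfinity F) ⊓
        MulAction.stabilizer (Cfsg.Sz F m) (Cfsg.suzukiPointZero F)) ≃* Fˣ) := by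
  have hmem : ∀ k, DHom hm hF k ∈ MulAction.stabilizer (Cfsg.Sz F m) (Cfsg.suzukiPointInfinity F) ⊓
      MulAction.stabilizer (Cfsg.Sz F m) (Cfsg.suzukiPointZero F) :=
    fun k => ⟨D_pInf _ k, D_pZero _ k⟩
  let ψ := (DHom hm hF).codRestrict _ hmem
  have hinj : Function.Injective ψ := by
    intro k k' h
    have h0 : (ψ k : ↥(Cfsg.Sz F m)) = ψ k' := congrArg Subtype.val h
    have h1 : D (2 ^ (m + 1)) k = D (2 ^ (m + 1)) k' := congrArg Subtype.val h0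
    exact D_inj h1
  have hsurj : Function.Surjective ψ := by
    rintro ⟨⟨g, hg⟩, h1, h2⟩
    obtain ⟨k, hk⟩ := stab_two hm hF hg h1 h2
    exact ⟨k, Subtype.ext (Subtype.ext hk.symm)⟩
  exact ⟨(MulEquiv.ofBijective ψ ⟨hinj, hsurj⟩).symm⟩

/-- `S0329`. -/
theorem card_stab1 (hm : 1 ≤ m) (hF : Fintype.card F = 2 ^ (2 * m + 1)) :
    Nat.card (MulAction.stabilizer (Cfsg.Sz F m) (Cfsg.suzukiPointInfinity F)) =
      (2 ^ (2 * m + 1)) ^ 2 * (2 ^ (2 * m + 1) - 1) := by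
  have hs := hyp_of_card hm hF
  let Φ : F × F × Fˣ → ↥(MulAction.stabilizer (Cfsg.Sz F m) (Cfsg.suzukiPointInfinity F)) :=
    fun p => ⟨⟨T (2 ^ (m + 1)) p.1 p.2.1 * D (2 ^ (m + 1)) p.2.2,
      (Cfsg.Sz F m).mul_mem (T_mem hm hF _ _) (D_mem hm hF _)⟩, by
        show (T (2 ^ (m + 1)) p.1 p.2.1 * D (2 ^ (m + 1)) p.2.2) • Cfsg.suzukiPointInfinity F =
          Cfsg.suzukiPointInfinity F
        rw [mul_smul, D_pInf, T_pInf]⟩
  have hinj : Function.Injective Φ := by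
    rintro ⟨a, b, k⟩ ⟨a', b', k'⟩ h
    have h0 : (Φ (a, b, k) : ↥(Cfsg.Sz F m)) = Φ (a', b', k') := congrArg Subtype.val h
    have h1 : T (2 ^ (m + 1)) a b * D (2 ^ (m + 1)) k = T (2 ^ (m + 1)) a' b' * D (2 ^ (m + 1)) k' :=
      congrArg Subtype.val h0
    obtain ⟨e1, e2, e3⟩ := TD_inj h1
    rw [e1, e2, e3]
  have hsurj : Function.Surjective Φ := by
    rintro ⟨⟨g, hg⟩, h1⟩
    obtain ⟨a, b, k, hk⟩ := stab_one hm hF hg h1
    exact ⟨(a, b, k), Subtype.ext (Subtype.ext hk.symm)⟩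
  rw [← Nat.card_congr (Equiv.ofBijective Φ ⟨hinj, hsurj⟩), Nat.card_prod, Nat.card_prod,
    Nat.card_units, Nat.card_eq_fintype_card, hF]
  ring


theorem card_ovoid (hF : Fintype.card F = 2 ^ (2 * m + 1)) :
    (Cfsg.suzukiOvoid F m).ncard = (2 ^ (2 * m + 1)) ^ 2 + 1 := by
  let f : Option (F × F) → ↥(Cfsg.suzukiOvoid F m) := fun o =>
    match o with
    | none => ⟨Cfsg.suzukiPointInfinity F, pInf_mem m⟩
    | some p => ⟨pt (2 ^ (m + 1)) p.1 p.2, pt_mem m p.1 p.2⟩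
  have hinj : Function.Injective f := by
    rintro (_ | ⟨x, y⟩) (_ | ⟨x', y'⟩) h
    · rfl
    · exact absurd (congrArg Subtype.val h).symm (pt_ne_inf _ _ _)
    · exact absurd (congrArg Subtype.val h) (pt_ne_inf _ _ _)
    · obtain ⟨e1, e2⟩ := pt_inj (congrArg Subtype.val h)
      simp only at e1 e2
      rw [e1, e2]
  have hsurj : Function.Surjective f := by
    rintro ⟨p, hp⟩
    rcases ovoid_cases hp with rfl | ⟨x, y, rfl⟩
    · exact ⟨none, rfl⟩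
    · exact ⟨some (x, y), rfl⟩
  rw [← Nat.card_coe_set_eq, ← Nat.card_congr (Equiv.ofBijective f ⟨hinj, hsurj⟩),
    Finite.card_option, Nat.card_prod, Nat.card_eq_fintype_card, hF]
  ring

theorem orbit_eq (hm : 1 ≤ m) (hF : Fintype.card F = 2 ^ (2 * m + 1)) :
    MulAction.orbit ↥(Cfsg.Sz F m) (Cfsg.suzukiPointInfinity F) = Cfsg.suzukiOvoid F m := by
  have hs := hyp_of_card hm hF
  ext p
  constructor
  · rintro ⟨g, rfl⟩
    exact smul_mem_ovoid g.2 (pInf_mem m)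
  · intro hp
    rcases ovoid_cases hp with rfl | ⟨x, y, rfl⟩
    · exact MulAction.mem_orbit_self _
    · refine ⟨⟨T (2 ^ (m + 1)) x y * W hs, (Cfsg.Sz F m).mul_mem (T_mem hm hF x y) (W_mem hm hF)⟩, ?_⟩
      show (T (2 ^ (m + 1)) x y * W hs) • Cfsg.suzukiPointInfinity F = pt (2 ^ (m + 1)) x y
      rw [mul_smul, W_pInf hs, T_pZero hs]

/-- `S0324`. -/
theorem card_Sz (hm : 1 ≤ m) (hF : Fintype.card F = 2 ^ (2 * m + 1)) :
    Nat.card (Cfsg.Sz F m) =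
      (2 ^ (2 * m + 1)) ^ 2 * ((2 ^ (2 * m + 1)) ^ 2 + 1) * (2 ^ (2 * m + 1) - 1) := by
  have h := Nat.card_congr
    (MulAction.orbitProdStabilizerEquivGroup ↥(Cfsg.Sz F m) (Cfsg.suzukiPointInfinity F))
  rw [Nat.card_prod, card_stab1 hm hF, Nat.card_coe_set_eq, orbit_eq hm hF, card_ovoid hF] at h
  rw [← h]
  ring

end fin

end Cfsg.Agent.Lib.Helper3.Sz3
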