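import Mathlib
import Cfsg.Prelude.Def_LieExceptional
import Cfsg.Agent.Lib.Helper3.Sz1
import Cfsg.Agent.Lib.Helper3.Sz2
import Cfsg.Agent.Lib.Helper3.Sz3

set_option autoImplicit false

namespace Cfsg.Agent.Lib.Helper3.Sz4

open Matrix MulAction Cfsg.Agent.Lib.Helper3.Sz1 Cfsg.Agent.Lib.Helper3.Sz2
open Cfsg.Agent.Lib.Helper3.Sz3

variable {F : Type*} [Field F]

/-- preservation of the antidiagonal form. -/
def FormP (A : Matrix (Fin 4) (Fin 4) F) : Prop := Aᵀ * Jm * A = Jm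

theorem formP_mul {A B : Matrix (Fin 4) (Fin 4) F} (hA : FormP A) (hB : FormP B) :
    FormP (A * B) := by
  unfold FormP at *
  rw [Matrix.transpose_mul]
  calc Bᵀ * Aᵀ * Jm * (A * B) = Bᵀ * (Aᵀ * Jm * A) * B := by simp only [Matrix.mul_assoc]
    _ = Jm := by rw [hA, hB]

theorem formP_inv (g : Matrix.SpecialLinearGroup (Fin 4) F) (h : FormP g.1) : FormP (g⁻¹).1 := by
  unfold FormP at *
  have h1 : g.1 * (g⁻¹).1 = 1 := by
    rw [← Matrix.SpecialLinearGroup.coe_mul, mul_inv_cancel]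
    rfl
  calc (g⁻¹).1ᵀ * Jm * (g⁻¹).1 = (g⁻¹).1ᵀ * (g.1ᵀ * Jm * g.1) * (g⁻¹).1 := by rw [h]
    _ = (g.1 * (g⁻¹).1)ᵀ * Jm * (g.1 * (g⁻¹).1) := by
      rw [Matrix.transpose_mul]
      simp only [Matrix.mul_assoc]
    _ = Jm := by rw [h1, Matrix.transpose_one, Matrix.one_mul, Matrix.mul_one]

theorem form_T {s : ℕ} (hs : Hyp F s) (a b : F) : FormP (Tm s a b) := by
  have h2 := hs.two
  unfold FormP
  ext i j
  fin_cases i <;> fin_cases j <;>
    simp [Tm, Jm, Matrix.mul_apply, Fin.sum_univ_four]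
  all_goals first
    | linear_combination a * h2
    | linear_combination (a ^ s) * h2
    | linear_combination (b + a ^ (s + 1)) * h2
    | linear_combination (fq s a b + a * b) * h2

theorem form_J : FormP (Jm : Matrix (Fin 4) (Fin 4) F) := by
  unfold FormP
  ext i j
  fin_cases i <;> fin_cases j <;>
    simp [Jm, Matrix.mul_apply, Fin.sum_univ_four]

theorem form_D (s : ℕ) (k : Fˣ) : FormP (Dm s k) := by
  unfold FormP
  have h : (k : F) * ((k⁻¹ : Fˣ) : F) = 1 := by simp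
  have h' : ((k⁻¹ : Fˣ) : F) * (k : F) = 1 := by simp
  have hp : (k : F) ^ (s + 1) * ((k⁻¹ : Fˣ) : F) ^ (s + 1) = 1 := by rw [← mul_pow, h, one_pow]
  have hp' : ((k⁻¹ : Fˣ) : F) ^ (s + 1) * (k : F) ^ (s + 1) = 1 := by rw [← mul_pow, h', one_pow]
  rw [Dm, Matrix.diagonal_transpose]
  ext i j
  rw [Matrix.mul_diagonal, Matrix.diagonal_mul]
  fin_cases i <;> fin_cases j <;> simp [Jm]

section fin

variable [Fintype F] {m : ℕ}

theorem move_to_inf (hm : 1 ≤ m) (hF : Fintype.card F = 2 ^ (2 * m + 1))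
    {p : Projectivization F (Fin 4 → F)} (hp : p ∈ Cfsg.suzukiOvoid F m) :
    ∃ g ∈ Cfsg.Sz F m, g • p = Cfsg.suzukiPointInfinity F := by
  have hs := hyp_of_card hm hF
  rcases ovoid_cases hp with rfl | ⟨a, b, rfl⟩
  · exact ⟨1, (Cfsg.Sz F m).one_mem, one_smul _ _⟩
  · refine ⟨W hs * (T (2 ^ (m + 1)) a b)⁻¹,
      (Cfsg.Sz F m).mul_mem (W_mem hm hF) ((Cfsg.Sz F m).inv_mem (T_mem hm hF a b)), ?_⟩
    rw [mul_smul, inv_smul_eq_iff.mpr (T_pZero hs a b).symm, W_pZero hs]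

theorem two_trans (hm : 1 ≤ m) (hF : Fintype.card F = 2 ^ (2 * m + 1))
    {p q : Projectivization F (Fin 4 → F)} (hp : p ∈ Cfsg.suzukiOvoid F m)
    (hq : q ∈ Cfsg.suzukiOvoid F m) (hpq : p ≠ q) :
    ∃ g ∈ Cfsg.Sz F m, g • p = Cfsg.suzukiPointInfinity F ∧ g • q = Cfsg.suzukiPointZero F := by
  have hs := hyp_of_card hm hF
  obtain ⟨h1, hh1, e1⟩ := move_to_inf hm hF hp
  have hq' := smul_mem_ovoid hh1 hq
  rcases ovoid_cases hq' with h | ⟨c, d, h⟩
  · exfalso
    rw [← e1] at h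
    exact hpq (smul_left_cancel h1 h).symm
  · refine ⟨(T (2 ^ (m + 1)) c d)⁻¹ * h1,
      (Cfsg.Sz F m).mul_mem ((Cfsg.Sz F m).inv_mem (T_mem hm hF c d)) hh1, ?_, ?_⟩
    · rw [mul_smul, e1, inv_smul_eq_iff, T_pInf]
    · rw [mul_smul, h, inv_smul_eq_iff, T_pZero hs]

/-- `S0334`. -/
theorem form_of_mem (hm : 1 ≤ m) (hF : Fintype.card F = 2 ^ (2 * m + 1))
    {g : Matrix.SpecialLinearGroup (Fin 4) F} (hg : g ∈ Cfsg.Sz F m) : FormP g.1 := by
  have hs := hyp_of_card hm hF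
  have key : ∀ g : Matrix.SpecialLinearGroup (Fin 4) F, g ∈ Cfsg.Sz F m →
      g • Cfsg.suzukiPointInfinity F = Cfsg.suzukiPointInfinity F → FormP g.1 := by
    intro g hg h1
    obtain ⟨a, b, k, rfl⟩ := stab_one hm hF hg h1
    exact formP_mul (form_T hs a b) (form_D _ k)
  obtain ⟨h1, hh1, e1⟩ := move_to_inf hm hF (smul_mem_ovoid hg (pInf_mem m))
  have h2 := key (h1 * g) ((Cfsg.Sz F m).mul_mem hh1 hg) (by rw [mul_smul, e1])
  have h3 : FormP h1.1 := by
    -- h1 moves g • ∞ to ∞; decompose h1 itself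
    rcases ovoid_cases (smul_mem_ovoid ((Cfsg.Sz F m).inv_mem hh1) (pInf_mem m)) with h | ⟨a, b, h⟩
    · have h4 : h1 • Cfsg.suzukiPointInfinity F = Cfsg.suzukiPointInfinity F := by
        rw [inv_smul_eq_iff] at h
        exact h.symm
      exact key h1 hh1 h4
    · -- h1⁻¹ • ∞ = pt a b, so h1 * T a b * W⁻¹ fixes ∞
      have h4 : (h1 * T (2 ^ (m + 1)) a b * (W hs)⁻¹) • Cfsg.suzukiPointInfinity F =
          Cfsg.suzukiPointInfinity F := by
        rw [mul_smul, mul_smul, inv_smul_eq_iff.mpr (W_pZero hs).symm, T_pZero hs, ← h,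
          smul_inv_smul]
      have h5 := key _ ((Cfsg.Sz F m).mul_mem ((Cfsg.Sz F m).mul_mem hh1 (T_mem hm hF a b))
        ((Cfsg.Sz F m).inv_mem (W_mem hm hF))) h4
      have h6 : h1 = (h1 * T (2 ^ (m + 1)) a b * (W hs)⁻¹) * (W hs * (T (2 ^ (m + 1)) a b)⁻¹) := by
        group
      rw [h6]
      exact formP_mul h5 (formP_mul form_J (formP_inv _ (form_T hs a b)))
  have h7 : g = h1⁻¹ * (h1 * g) := by group
  rw [h7]
  exact formP_mul (formP_inv _ h3) h2

theorem indep3 {s : ℕ} (x y : F) (hxy : ¬ (x = 0 ∧ y = 0)) :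
    LinearIndependent F ![(vInf : Fin 4 → F), vZ, vP s x y] := by
  rw [Fintype.linearIndependent_iff]
  intro c hc
  have h0 := congrFun hc 0
  have h1 := congrFun hc 1
  have h2 := congrFun hc 2
  have h3 := congrFun hc 3
  simp [Fin.sum_univ_three, vInf, vZ, vP] at h0 h1 h2 h3
  have hc2 : c 2 = 0 := by
    by_contra hne
    exact hxy ⟨h2.resolve_left hne, h1.resolve_left hne⟩
  rw [hc2] at h0 h3
  intro i
  fin_cases i
  · simpa using h0
  · simpa using h3
  · exact hc2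

/-- `S0335`. -/
theorem ovoid_indep (hm : 1 ≤ m) (hF : Fintype.card F = 2 ^ (2 * m + 1))
    (p : Fin 3 ↪ Cfsg.suzukiOvoid F m) :
    Projectivization.Independent (fun i => (p i : Projectivization F (Fin 4 → F))) := by
  have hs := hyp_of_card hm hF
  have hne : ∀ i j : Fin 3, i ≠ j → (p i : Projectivization F (Fin 4 → F)) ≠ p j :=
    fun i j hij h => hij (p.injective (Subtype.ext h))
  obtain ⟨g, hg, e0, e1⟩ := two_trans hm hF (p 0).2 (p 1).2 (hne 0 1 (by decide))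
  have h2 := smul_mem_ovoid hg (p 2).2
  rcases ovoid_cases h2 with h | ⟨x, y, h⟩
  · exfalso
    rw [← e0] at h
    exact hne 2 0 (by decide) (smul_left_cancel g h)
  · have hxy : ¬ (x = 0 ∧ y = 0) := by
      rintro ⟨rfl, rfl⟩
      rw [pt_zero hs, ← e1] at h
      exact hne 2 1 (by decide) (smul_left_cancel g h)
    let w : Fin 3 → (Fin 4 → F) := ![vInf, vZ, vP (2 ^ (m + 1)) x y]
    have hw : ∀ i, w i ≠ 0 := by
      intro i
      fin_cases i
      · exact vInf_ne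
      · exact vZ_ne
      · exact vP_ne _ _ _
    have hf : ∀ i, (g⁻¹).1 *ᵥ w i ≠ 0 := fun i => mulVec_ne g⁻¹ (hw i)
    have hpf : (fun i => (p i : Projectivization F (Fin 4 → F))) =
        fun i => Projectivization.mk F ((g⁻¹).1 *ᵥ w i) (hf i) := by
      funext i
      have h5 : g • (p i : Projectivization F (Fin 4 → F)) = Projectivization.mk F (w i) (hw i) := by
        fin_cases i
        · exact e0
        · exact e1
        · exact h
      have h6 : g⁻¹ • Projectivization.mk F (w i) (hw i) =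
          Projectivization.mk F ((g⁻¹).1 *ᵥ w i) (hf i) := smul_mk4 g⁻¹ (w i) (hw i)
      rw [← h6, ← h5, inv_smul_smul]
    rw [hpf]
    refine Projectivization.Independent.mk _ hf ?_
    have hli := indep3 (s := 2 ^ (m + 1)) x y hxy
    have hdet : (g⁻¹).1.det ≠ 0 := by
      rw [(g⁻¹).2]
      exact one_ne_zero
    have hker : LinearMap.ker (Matrix.mulVecLin (g⁻¹).1) = ⊥ :=
      LinearMap.ker_eq_bot'.mpr (fun v hv => Matrix.eq_zero_of_mulVec_eq_zero hdet hv)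
    exact hli.map' (Matrix.mulVecLin (g⁻¹).1) hker

end fin

end Cfsg.Agent.Lib.Helper3.Sz4
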