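import Mathlib
import Cfsg.Prelude.Def_LieExceptional
import Cfsg.Agent.Lib.Helper3.Sz4

set_option autoImplicit false

namespace Cfsg.Agent.Lib.Helper3.Sz5

open Matrix MulAction Cfsg.Agent.Lib.Helper3.Sz1 Cfsg.Agent.Lib.Helper3.Sz2
open Cfsg.Agent.Lib.Helper3.Sz3 Cfsg.Agent.Lib.Helper3.Sz4

variable {F : Type*} [Field F]

theorem sq_eq_one_char2 {k : F} (h2 : (2 : F) = 0) (h : k ^ 2 = 1) : k = 1 := by
  have h3 : (k - 1) ^ 2 = 0 := by linear_combination h + (1 - k) * h2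
  exact sub_eq_zero.mp ((pow_eq_zero_iff two_ne_zero).mp h3)

theorem pow_s_eq_one {s : ℕ} (hs : Hyp F s) {k : F} (h : k ^ s = 1) : k = 1 := by
  apply sq_eq_one_char2 hs.two
  rw [← hs.sq, h, one_pow]

/-- `D k` fixing an affine point other than the origin forces `k = 1`. -/
theorem D_fix_pt {s : ℕ} (hs : Hyp F s) (k : Fˣ) (x y : F) (hxy : ¬ (x = 0 ∧ y = 0))
    (h : D s k • pt s x y = pt s x y) : k = 1 := by
  rw [pt, smul_mk4, Projectivization.mk_eq_mk_iff'] at h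
  obtain ⟨c, hc⟩ := h
  have hD : (D s k).1 *ᵥ vP s x y = _ := Dm_mulVec s k (vP s x y)
  rw [hD] at hc
  have h3 : c * 1 = ((k⁻¹ : Fˣ) : F) ^ (s + 1) * 1 := congrFun hc 3
  have h2 : c * x = ((k⁻¹ : Fˣ) : F) * x := congrFun hc 2
  have h1 : c * y = (k : F) * y := congrFun hc 1
  rw [mul_one, mul_one] at h3
  rw [h3] at h2 h1
  have hk : (k : F) * ((k⁻¹ : Fˣ) : F) = 1 := by simp
  have hc0 : ((k⁻¹ : Fˣ) : F) ≠ 0 := Units.ne_zero _
  generalize hd : ((k⁻¹ : Fˣ) : F) = d at h2 h1 hk hc0 h3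
  have hd1 : d = 1 := by
    by_cases hx : x = 0
    · have hy : y ≠ 0 := fun hy => hxy ⟨hx, hy⟩
      have h4 : d ^ (s + 1) = (k : F) := mul_right_cancel₀ hy h1
      have h5 : d ^ (s + 2) = 1 := by
        rw [show s + 2 = (s + 1) + 1 from rfl, pow_succ, h4, hk]
      have h6 : (d ^ (s + 1)) ^ 2 = 1 := by
        have h7 := congrArg (fun z => z ^ s) h5
        simp only [one_pow] at h7
        rw [← h7]
        simp only [pow_add, mul_pow, hs.sq]
        ring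
      have h7 : d ^ (s + 1) = 1 := sq_eq_one_char2 hs.two h6
      have h8 : d ^ (s + 2) = d ^ (s + 1) * d := pow_succ _ _
      rw [h7, one_mul] at h8
      rw [← h8, h5]
    · have h4 : d ^ (s + 1) = d := mul_right_cancel₀ hx h2
      have h5 : d ^ s = 1 := by
        rw [pow_succ] at h4
        exact mul_right_cancel₀ hc0 (h4.trans (one_mul d).symm)
      exact pow_s_eq_one hs h5
  have h9 : (k⁻¹ : Fˣ) = 1 := Units.ext (hd.trans hd1)
  exact inv_eq_one.mp h9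

section fin

variable [Fintype F] {m : ℕ}

theorem three_fix (hm : 1 ≤ m) (hF : Fintype.card F = 2 ^ (2 * m + 1))
    {g : Matrix.SpecialLinearGroup (Fin 4) F} (hg : g ∈ Cfsg.Sz F m)
    {a b c : Projectivization F (Fin 4 → F)} (ha : a ∈ Cfsg.suzukiOvoid F m)
    (hb : b ∈ Cfsg.suzukiOvoid F m) (hc : c ∈ Cfsg.suzukiOvoid F m)
    (hab : a ≠ b) (hbc : b ≠ c) (hac : a ≠ c)
    (ga : g • a = a) (gb : g • b = b) (gc : g • c = c) : g = 1 := by
  have hs := hyp_of_card hm hF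
  obtain ⟨h, hh, e0, e1⟩ := two_trans hm hF ha hb hab
  have hg' : h * g * h⁻¹ ∈ Cfsg.Sz F m := mul_mem (mul_mem hh hg) (inv_mem hh)
  have f0 : (h * g * h⁻¹) • Cfsg.suzukiPointInfinity F = Cfsg.suzukiPointInfinity F := by
    rw [← e0, mul_smul, mul_smul, inv_smul_smul, ga]
  have f1 : (h * g * h⁻¹) • Cfsg.suzukiPointZero F = Cfsg.suzukiPointZero F := by
    rw [← e1, mul_smul, mul_smul, inv_smul_smul, gb]
  obtain ⟨k, hk⟩ := stab_two hm hF hg' f0 f1
  have hc' := smul_mem_ovoid hh hc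
  rcases ovoid_cases hc' with e | ⟨x, y, e⟩
  · exact absurd (smul_left_cancel h (e0.trans e.symm)) hac
  · have hxy : ¬ (x = 0 ∧ y = 0) := by
      rintro ⟨rfl, rfl⟩
      rw [pt_zero hs] at e
      exact hbc (smul_left_cancel h (e1.trans e.symm))
    have f2 : D (2 ^ (m + 1)) k • pt (2 ^ (m + 1)) x y = pt (2 ^ (m + 1)) x y := by
      rw [← hk, ← e, mul_smul, mul_smul, inv_smul_smul, gc]
    have hk1 := D_fix_pt hs k x y hxy f2
    rw [hk1, D_one] at hk
    have h9 : g = h⁻¹ * (h * g * h⁻¹) * h := by group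
    rw [h9, hk]
    group

theorem pZero_mem (hm : 1 ≤ m) (hF : Fintype.card F = 2 ^ (2 * m + 1)) :
    Cfsg.suzukiPointZero F ∈ Cfsg.suzukiOvoid F m := by
  rw [← pt_zero (hyp_of_card hm hF)]
  exact pt_mem m 0 0

omit [Fintype F] in
theorem pt_one_ne_zero {s : ℕ} (hs : Hyp F s) : pt s (1 : F) 0 ≠ Cfsg.suzukiPointZero F := by
  rw [← pt_zero hs]
  intro h
  exact one_ne_zero (pt_inj h).1

theorem eq_of_smul_eq (hm : 1 ≤ m) (hF : Fintype.card F = 2 ^ (2 * m + 1))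
    {g h : Matrix.SpecialLinearGroup (Fin 4) F} (hg : g ∈ Cfsg.Sz F m) (hh : h ∈ Cfsg.Sz F m)
    (H : ∀ p ∈ Cfsg.suzukiOvoid F m, g • p = h • p) : g = h := by
  have hs := hyp_of_card hm hF
  have h1 : h⁻¹ * g = 1 := by
    have hf : ∀ p ∈ Cfsg.suzukiOvoid F m, (h⁻¹ * g) • p = p := by
      intro p hp
      rw [mul_smul, H p hp, inv_smul_smul]
    exact three_fix hm hF (mul_mem (inv_mem hh) hg) (pInf_mem m) (pZero_mem hm hF)
      (pt_mem m 1 0) (Ne.symm pZero_ne_inf) (Ne.symm (pt_one_ne_zero hs))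
      (Ne.symm (pt_ne_inf _ _ _)) (hf _ (pInf_mem m)) (hf _ (pZero_mem hm hF))
      (hf _ (pt_mem m 1 0))
  exact (inv_mul_eq_one.mp h1).symm

theorem T_mul (hm : 1 ≤ m) (hF : Fintype.card F = 2 ^ (2 * m + 1)) (a b c d : F) :
    T (2 ^ (m + 1)) c d * T (2 ^ (m + 1)) a b =
      T (2 ^ (m + 1)) (a + c) (b + d + c ^ (2 ^ (m + 1)) * a) := by
  have hs := hyp_of_card hm hF
  apply eq_of_smul_eq hm hF (mul_mem (T_mem hm hF c d) (T_mem hm hF a b)) (T_mem hm hF _ _)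
  intro p hp
  rcases ovoid_cases hp with rfl | ⟨x, y, rfl⟩
  · rw [mul_smul, T_pInf, T_pInf, T_pInf]
  · rw [mul_smul, T_pt hs, T_pt hs, T_pt hs, hs.add]
    congr 1 <;> ring

theorem T_zero (hm : 1 ≤ m) (hF : Fintype.card F = 2 ^ (2 * m + 1)) :
    T (2 ^ (m + 1)) (0 : F) 0 = 1 := by
  have hs := hyp_of_card hm hF
  apply eq_of_smul_eq hm hF (T_mem hm hF 0 0) (one_mem _)
  intro p hp
  rcases ovoid_cases hp with rfl | ⟨x, y, rfl⟩
  · rw [T_pInf, one_smul]
  · rw [T_pt hs, one_smul, pow_s_zero hs]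
    congr 1 <;> ring

end fin

/-- an involution with a unique fixed point inverts a regular normal subgroup. -/
theorem inverts {G : Type*} [Group G] {Ω : Type*} [MulAction G Ω] (N : Subgroup G)
    [hN : N.Normal] [Finite N]
    (hreg : ∀ a : Ω, ∀ n ∈ N, n • a = a → n = 1) (t : G) (ht : t * t = 1) (a : Ω)
    (hfix : ∀ x : Ω, t • x = x → x = a) (hta : t • a = a) : ∀ n ∈ N, t * n * t⁻¹ = n⁻¹ := by
  have ht' : t⁻¹ = t := inv_eq_of_mul_eq_one_left ht
  let φ : N → N := fun n =>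
    ⟨n.1⁻¹ * (t * n.1 * t⁻¹), mul_mem (inv_mem n.2) (hN.conj_mem n.1 n.2 t)⟩
  have hinj : Function.Injective φ := by
    intro n n' h
    have h1 : n.1⁻¹ * (t * n.1 * t⁻¹) = n'.1⁻¹ * (t * n'.1 * t⁻¹) := congrArg Subtype.val h
    have h3 : n.1⁻¹ * t * n.1 = n'.1⁻¹ * t * n'.1 := by
      have h2 := congrArg (· * t) h1
      simpa [mul_assoc] using h2
    have h2 : (n'.1 * n.1⁻¹) * t = t * (n'.1 * n.1⁻¹) := by
      calc (n'.1 * n.1⁻¹) * t = n'.1 * (n.1⁻¹ * t * n.1) * n.1⁻¹ := by group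
        _ = n'.1 * (n'.1⁻¹ * t * n'.1) * n.1⁻¹ := by rw [h3]
        _ = t * (n'.1 * n.1⁻¹) := by group
    have h4 : (n'.1 * n.1⁻¹) • a = a := by
      apply hfix
      rw [← mul_smul, ← h2, mul_smul, hta]
    have h5 := hreg a _ (mul_mem n'.2 (inv_mem n.2)) h4
    rw [mul_inv_eq_one] at h5
    exact Subtype.ext h5.symm
  have hsurj : Function.Surjective φ := Finite.injective_iff_surjective.mp hinj
  intro n hn
  obtain ⟨n', hn'⟩ := hsurj ⟨n, hn⟩
  have h1 : n'.1⁻¹ * (t * n'.1 * t⁻¹) = n := congrArg Subtype.val hn'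
  subst h1
  simp only [_root_.mul_inv_rev, ht', mul_assoc, ht, mul_one, inv_inv]

section fin

variable [Fintype F] {m : ℕ}

omit [Field F] in
theorem exists_ne_zero_one [Field F] (hm : 1 ≤ m) (hF : Fintype.card F = 2 ^ (2 * m + 1)) :
    ∃ b : F, b ≠ 0 ∧ b ≠ 1 := by
  classical
  by_contra hcon
  push Not at hcon
  have h1 : Fintype.card F ≤ 2 := by
    calc Fintype.card F = (Finset.univ : Finset F).card := rfl
      _ ≤ ({0, 1} : Finset F).card := by
        apply Finset.card_le_card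
        intro x _
        by_cases hx : x = 0
        · simp [hx]
        · simp [hcon x hx]
      _ ≤ 2 := Finset.card_le_two
  have h2 := card_gt hm hF
  exact Nat.not_lt.mpr (Nat.le_add_left 2 _) (lt_of_lt_of_le h2 h1)

/-- `S0327`. -/
theorem zassenhaus (hm : 1 ≤ m) (hF : Fintype.card F = 2 ^ (2 * m + 1)) :
    Cfsg.IsZassenhausGroup (Cfsg.Sz F m) (Cfsg.suzukiOvoid F m) := by
  have hs := hyp_of_card hm hF
  have h3 : ∀ g : ↥(Cfsg.Sz F m), ∀ a b c : ↥(Cfsg.suzukiOvoid F m), a ≠ b → b ≠ c → a ≠ c →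
      g • a = a → g • b = b → g • c = c → g = 1 := by
    intro g a b c hab hbc hac ga gb gc
    apply Subtype.ext
    exact three_fix hm hF g.2 a.2 b.2 c.2 (fun h => hab (Subtype.ext h))
      (fun h => hbc (Subtype.ext h)) (fun h => hac (Subtype.ext h))
      (congrArg Subtype.val ga) (congrArg Subtype.val gb) (congrArg Subtype.val gc)
  let Pi : ↥(Cfsg.suzukiOvoid F m) := ⟨Cfsg.suzukiPointInfinity F, pInf_mem m⟩
  let Pz : ↥(Cfsg.suzukiOvoid F m) := ⟨Cfsg.suzukiPointZero F, pZero_mem hm hF⟩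
  let P1 : ↥(Cfsg.suzukiOvoid F m) := ⟨pt (2 ^ (m + 1)) 1 0, pt_mem m 1 0⟩
  have hiz : Pi ≠ Pz := fun h => pZero_ne_inf (congrArg Subtype.val h).symm
  have hz1 : Pz ≠ P1 := fun h => pt_one_ne_zero hs (congrArg Subtype.val h).symm
  have hi1 : Pi ≠ P1 := fun h => pt_ne_inf _ _ _ (congrArg Subtype.val h).symm
  refine ⟨⟨?_⟩, ?_, h3, ?_, ?_⟩
  · intro g1 g2 h
    have h1 : g2⁻¹ * g1 = 1 := by
      have hf : ∀ p : ↥(Cfsg.suzukiOvoid F m), (g2⁻¹ * g1) • p = p := by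
        intro p
        rw [mul_smul, h p, inv_smul_smul]
      exact h3 _ Pi Pz P1 hiz hz1 hi1 (hf _) (hf _) (hf _)
    exact (inv_mul_eq_one.mp h1).symm
  · rw [is_two_pretransitive_iff]
    intro a b c d hab hcd
    obtain ⟨g1, hg1, e0, e1⟩ := two_trans hm hF a.2 b.2 (fun h => hab (Subtype.ext h))
    obtain ⟨g2, hg2, e0', e1'⟩ := two_trans hm hF c.2 d.2 (fun h => hcd (Subtype.ext h))
    refine ⟨⟨g2⁻¹ * g1, mul_mem (inv_mem hg2) hg1⟩, Subtype.ext ?_, Subtype.ext ?_⟩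
    · show (g2⁻¹ * g1) • a.1 = c.1
      rw [mul_smul, e0, ← e0', inv_smul_smul]
    · show (g2⁻¹ * g1) • b.1 = d.1
      rw [mul_smul, e1, ← e1', inv_smul_smul]
  · obtain ⟨x, hx0, hx1⟩ := exists_ne_zero_one hm hF
    refine ⟨⟨D (2 ^ (m + 1)) (Units.mk0 x hx0), D_mem hm hF _⟩, ?_, Pi, Pz, hiz,
      Subtype.ext (D_pInf _ _), Subtype.ext (D_pZero _ _)⟩
    intro h
    have h1 : D (2 ^ (m + 1)) (Units.mk0 x hx0) = D (2 ^ (m + 1)) 1 := by
      rw [D_one]
      exact congrArg Subtype.val h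
    have h2 := D_inj h1
    exact hx1 (congrArg Units.val h2)
  · intro N hN htr
    by_contra hcon
    push Not at hcon
    have hfin : Finite (Matrix.SpecialLinearGroup (Fin 4) F) :=
      Finite.of_injective (fun g => g.1) Subtype.val_injective
    have hreg : ∀ a : ↥(Cfsg.suzukiOvoid F m), ∀ n ∈ N, n • a = a → n = 1 := by
      intro a n hn hna
      have h1 : (⟨n, hn⟩ : N) ∈ MulAction.stabilizer N a := hna
      rw [hcon a, Subgroup.mem_bot] at h1
      exact congrArg Subtype.val h1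
    let t : F → ↥(Cfsg.Sz F m) := fun b => ⟨T (2 ^ (m + 1)) 0 b, T_mem hm hF 0 b⟩
    have htt : ∀ b, t b * t b = 1 := by
      intro b
      apply Subtype.ext
      show T (2 ^ (m + 1)) 0 b * T (2 ^ (m + 1)) 0 b = 1
      rw [T_mul hm hF, pow_s_zero hs, ← T_zero hm hF]
      congr 1
      · ring
      · linear_combination b * hs.two
    have hfix : ∀ b, b ≠ 0 → ∀ x : ↥(Cfsg.suzukiOvoid F m), t b • x = x → x = Pi := by
      intro b hb x hx
      rcases ovoid_cases x.2 with e | ⟨u, v, e⟩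
      · exact Subtype.ext e
      · exfalso
        have h1 : T (2 ^ (m + 1)) 0 b • x.1 = x.1 := congrArg Subtype.val hx
        rw [e, T_pt hs] at h1
        have h2 := (pt_inj h1).2
        rw [pow_s_zero hs, zero_mul, add_zero] at h2
        exact hb (by linear_combination h2)
    have hta : ∀ b, t b • Pi = Pi := fun b => Subtype.ext (T_pInf _ 0 b)
    have hinv : ∀ b, b ≠ 0 → ∀ n ∈ N, t b * n * (t b)⁻¹ = n⁻¹ := fun b hb =>
      inverts N hreg (t b) (htt b) Pi (hfix b hb) (hta b)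
    obtain ⟨b, hb0, hb1⟩ := exists_ne_zero_one hm hF
    have hmul : t 1 * t b = t (1 + b) := by
      apply Subtype.ext
      show T (2 ^ (m + 1)) 0 1 * T (2 ^ (m + 1)) 0 b = T (2 ^ (m + 1)) 0 (1 + b)
      rw [T_mul hm hF, pow_s_zero hs]
      congr 1
      · ring
      · ring
    have hb2 : (1 : F) + b ≠ 0 := by
      intro h
      apply hb1
      linear_combination h - hs.two
    obtain ⟨n, hn⟩ := htr.exists_smul_eq Pi Pz
    have c1 := hinv 1 one_ne_zero n.1 n.2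
    have c2 := hinv b hb0 n.1 n.2
    have c4 : t (1 + b) * n.1 * (t (1 + b))⁻¹ = n.1 := by
      rw [← hmul]
      calc t 1 * t b * n.1 * (t 1 * t b)⁻¹ = t 1 * (t b * n.1 * (t b)⁻¹) * (t 1)⁻¹ := by group
        _ = (t 1 * n.1 * (t 1)⁻¹)⁻¹ := by rw [c2]; group
        _ = n.1 := by rw [c1, inv_inv]
    have c6 : t (1 + b) * n.1 = n.1 * t (1 + b) := by
      calc t (1 + b) * n.1 = t (1 + b) * n.1 * (t (1 + b))⁻¹ * t (1 + b) := by group
        _ = n.1 * t (1 + b) := by rw [c4]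
    have c7 : t (1 + b) • Pz = Pz := by
      have hn' : n.1 • Pi = Pz := hn
      rw [← hn', ← mul_smul, c6, mul_smul, hta]
    exact hiz (hfix (1 + b) hb2 Pz c7).symm

end fin

end Cfsg.Agent.Lib.Helper3.Sz5
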