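import Mathlib
import Cfsg.Prelude.Def_LieExceptional
import Cfsg.Prelude.Def_Solvable
import Cfsg.Agent.S0035

set_option autoImplicit false

namespace Cfsg.Agent.Lib.Helper3.Zass

open MulAction
open scoped Pointwise

universe u v

variable {G : Type u} {Ω : Type v} [Group G] [MulAction G Ω]

/-- The Zassenhaus hypotheses in element form. -/
structure Zas (G : Type u) (Ω : Type v) [Group G] [MulAction G Ω] : Prop where
  faith : ∀ g : G, (∀ x : Ω, g • x = x) → g = 1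
  tt : ∀ {a b c d : Ω}, a ≠ b → c ≠ d → ∃ g : G, g • a = c ∧ g • b = d
  three : ∀ g : G, ∀ a b c : Ω, a ≠ b → b ≠ c → a ≠ c → g • a = a → g • b = b → g • c = c → g = 1
  noreg : ∀ N : Subgroup G, N.Normal → (∀ x y : Ω, ∃ n ∈ N, n • x = y) →
    ∃ a : Ω, ∃ n ∈ N, n ≠ 1 ∧ n • a = a

theorem zas_of (hZ : Cfsg.IsZassenhausGroup G Ω) : Zas G Ω := by
  obtain ⟨hf, h2, h3, -, h5⟩ := hZ
  refine ⟨?_, ?_, h3, ?_⟩
  · intro g hg
    exact hf.eq_of_smul_eq_smul (fun x => by rw [hg x, one_smul])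
  · intro a b c d hab hcd
    exact is_two_pretransitive_iff.mp h2 hab hcd
  · intro N hN htr
    have : IsPretransitive ↥N Ω := ⟨fun x y => by
      obtain ⟨n, hn, h⟩ := htr x y
      exact ⟨⟨n, hn⟩, h⟩⟩
    obtain ⟨a, ha⟩ := h5 N hN inferInstance
    obtain ⟨n, hn⟩ := (Subgroup.ne_bot_iff_exists_ne_one).mp ha
    refine ⟨a, n.1.1, n.1.2, ?_, n.2⟩
    intro h1
    exact hn (Subtype.ext (Subtype.ext h1))

theorem finite_of_zas [Finite Ω] (hZ : Zas G Ω) : Finite G := by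
  refine Finite.of_injective (MulAction.toPermHom G Ω) ?_
  rw [injective_iff_map_eq_one]
  intro g hg
  apply hZ.faith
  intro x
  have h := congrArg (fun f : Equiv.Perm Ω => f x) hg
  simpa using h

theorem trans_of_normal [Finite Ω] (hZ : Zas G Ω) (N : Subgroup G) [N.Normal] (hN : N ≠ ⊥) :
    ∀ x y : Ω, ∃ n ∈ N, n • x = y := by
  have h2 : IsMultiplyPretransitive G Ω 2 := is_two_pretransitive_iff.mpr (fun h h' => hZ.tt h h')
  have : IsPreprimitive G Ω := isPreprimitive_of_is_two_pretransitive h2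
  have hfix : fixedPoints N Ω ≠ Set.univ := by
    intro h
    apply hN
    rw [Subgroup.eq_bot_iff_forall]
    intro n hn
    apply hZ.faith
    intro x
    have hx : x ∈ fixedPoints N Ω := by rw [h]; trivial
    exact hx ⟨n, hn⟩
  have : IsPretransitive N Ω := IsQuasiPreprimitive.isPretransitive_of_normal hfix
  intro x y
  obtain ⟨n, hn⟩ := exists_smul_eq N x y
  exact ⟨n.1, n.2, hn⟩

theorem fix_two (hZ : Zas G Ω) {h : G} (hne : h ≠ 1) {a b x : Ω} (hab : a ≠ b) (ha : h • a = a)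
    (hb : h • b = b) (hx : h • x = x) : x = a ∨ x = b := by
  by_contra hcon
  push Not at hcon
  exact hne (hZ.three h a b x hab (Ne.symm hcon.2) (Ne.symm hcon.1) ha hb hx)

theorem mem_fixed_zpowers {H : Type*} [Group H] {X : Type*} [MulAction H X] (w : H) (x : X) :
    x ∈ fixedPoints ↥(Subgroup.zpowers w) X ↔ w • x = x := by
  constructor
  · intro hx
    exact hx ⟨w, Subgroup.mem_zpowers w⟩
  · intro hw z
    have h1 : (z : H) ∈ stabilizer H x :=
      (Subgroup.zpowers_le.mpr (show w ∈ stabilizer H x from hw)) z.2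
    exact h1

theorem caseB [Finite Ω] (hZ : Zas G Ω) (N : Subgroup G) [hNn : N.Normal] {a b : Ω} (hab : a ≠ b)
    {h : G} (hN : h ∈ N) (hne : h ≠ 1) (ha : h • a = a) (hb : h • b = b) :
    ∀ c, c ≠ a → ∃ k ∈ N, k • a = a ∧ k • c = b := by
  have := finite_of_zas hZ
  have ho : orderOf h ≠ 1 := by rw [Ne, orderOf_eq_one_iff]; exact hne
  obtain ⟨p, hp, hpd⟩ := Nat.exists_prime_and_dvd ho
  have := Fact.mk hp
  set u := h ^ (orderOf h / p) with hu
  have huo : orderOf u = p := orderOf_pow_orderOf_div (orderOf_pos h).ne' hpd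
  have huN : u ∈ N := N.pow_mem hN _
  have hua : u • a = a := (stabilizer G a).pow_mem (show h ∈ stabilizer G a from ha) _
  have hub : u • b = b := (stabilizer G b).pow_mem (show h ∈ stabilizer G b from hb) _
  have hune : u ≠ 1 := by
    intro h1
    rw [h1, orderOf_one] at huo
    exact hp.one_lt.ne huo
  intro c hca
  by_cases hcb : c = b
  · exact ⟨1, N.one_mem, one_smul _ _, by rw [one_smul, hcb]⟩
  obtain ⟨g, hga, hgb⟩ := hZ.tt hab (Ne.symm hca)
  set u' := g * u * g⁻¹ with hu'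
  have hu'N : u' ∈ N := hNn.conj_mem u huN g
  have hgia : g⁻¹ • a = a := inv_smul_eq_iff.mpr hga.symm
  have hgic : g⁻¹ • c = b := inv_smul_eq_iff.mpr hgb.symm
  have hu'a : u' • a = a := by rw [hu', mul_smul, mul_smul, hgia, hua, hga]
  have hu'c : u' • c = c := by rw [hu', mul_smul, mul_smul, hgic, hub, hgb]
  have hu'o : orderOf u' = p := by
    rw [← huo]
    exact (MulAut.conj g).orderOf_eq u
  have hu'ne : u' ≠ 1 := by
    intro h1
    rw [h1, orderOf_one] at hu'o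
    exact hp.one_lt.ne hu'o
  let K : Subgroup G := N ⊓ stabilizer G a
  have huK : u ∈ K := ⟨huN, hua⟩
  have hu'K : u' ∈ K := ⟨hu'N, hu'a⟩
  have haC : ∀ x : orbit ↥K c, (x : Ω) ≠ a := by
    rintro ⟨x, k, rfl⟩ hx
    apply hca
    have hk : (k : G) • a = a := k.2.2
    have h1 : (k : G) • c = (k : G) • a := hx.trans hk.symm
    exact smul_left_cancel _ h1
  have hpg : ∀ w : ↥K, orderOf (w : G) = p → IsPGroup p ↥(Subgroup.zpowers w) := by
    intro w hw
    refine IsPGroup.of_card (n := 1) ?_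
    rw [Nat.card_zpowers, ← Subgroup.orderOf_coe, hw, pow_one]
  have hnd : ¬ p ∣ Nat.card (orbit ↥K c) := by
    intro hd
    let c0 : orbit ↥K c := ⟨c, mem_orbit_self c⟩
    have hc0 : c0 ∈ fixedPoints ↥(Subgroup.zpowers (⟨u', hu'K⟩ : ↥K)) (orbit ↥K c) := by
      rw [mem_fixed_zpowers]
      exact Subtype.ext hu'c
    obtain ⟨x, hx, hxne⟩ := (hpg ⟨u', hu'K⟩ hu'o).exists_fixed_point_of_prime_dvd_card_of_fixed_point
      (orbit ↥K c) hd hc0
    rw [mem_fixed_zpowers] at hx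
    have hx' : u' • (x : Ω) = x := congrArg Subtype.val hx
    rcases fix_two hZ hu'ne (Ne.symm hca) hu'a hu'c hx' with h1 | h1
    · exact haC x h1
    · exact hxne (Subtype.ext h1.symm)
  obtain ⟨x, hx⟩ := (hpg ⟨u, huK⟩ huo).nonempty_fixed_point_of_prime_not_dvd_card (orbit ↥K c) hnd
  rw [mem_fixed_zpowers] at hx
  have hx' : u • (x : Ω) = x := congrArg Subtype.val hx
  rcases fix_two hZ hune hab hua hub hx' with h1 | h1
  · exact absurd h1 (haC x)
  · obtain ⟨k, hk⟩ := x.2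
    refine ⟨(k : G), k.2.1, k.2.2, ?_⟩
    rw [← h1, ← hk]
    rfl

theorem caseA_false [Finite Ω] (hZ : Zas G Ω) (N : Subgroup G) [hNn : N.Normal]
    (htr : ∀ x y : Ω, ∃ n ∈ N, n • x = y)
    (hA : ∀ n ∈ N, n ≠ 1 → ∀ x y : Ω, n • x = x → n • y = y → x = y) {a : Ω} {n0 : G}
    (hn0 : n0 ∈ N) (hne : n0 ≠ 1) (hfix : n0 • a = a) : False := by
  have := finite_of_zas hZ
  let H : Subgroup ↥N := stabilizer ↥N a
  have hmemH : ∀ x : ↥N, x ∈ H ↔ (x : G) • a = a := fun x => Iff.rfl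
  have hconj : ∀ (g x : ↥N), x ∈ MulAut.conj g • H ↔
      (x : G) • ((g : G) • a) = (g : G) • a := by
    intro g x
    rw [Subgroup.mem_pointwise_smul_iff_inv_smul_mem, hmemH]
    have h1 : (((MulAut.conj g)⁻¹ • x : ↥N) : G) = (g : G)⁻¹ * (x : G) * (g : G) := by
      simp [MulAut.smul_def]
    rw [h1, mul_smul, mul_smul, inv_smul_eq_iff]
  have hH : Cfsg.IsFrobeniusComplement H := by
    refine ⟨?_, ?_, ?_⟩
    · intro h
      have h1 : (⟨n0, hn0⟩ : ↥N) ∈ H := (hmemH _).mpr hfix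
      rw [h, Subgroup.mem_bot] at h1
      exact hne (congrArg Subtype.val h1)
    · intro h
      apply hne
      apply hZ.faith
      intro x
      obtain ⟨n, hn, hx⟩ := htr a x
      have h1 : (⟨n, hn⟩ : ↥N) ∈ H := by rw [h]; exact Subgroup.mem_top _
      have hna : n • a = a := (hmemH _).mp h1
      rw [← hx, ← mul_smul]
      have h2 : (⟨n0, hn0⟩ * ⟨n, hn⟩ : ↥N) ∈ H := by rw [h]; exact Subgroup.mem_top _
      have h3 : (n0 * n) • a = a := (hmemH _).mp h2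
      rw [h3, hna]
    · intro g hg
      rw [Subgroup.eq_bot_iff_forall]
      intro x hx
      obtain ⟨hx1, hx2⟩ := Subgroup.mem_inf.mp hx
      by_contra hx1'
      have hxa : (x : G) • a = a := (hmemH x).mp hx1
      have hxg := (hconj g x).mp hx2
      have h3 := hA x x.2 (fun h => hx1' (Subtype.ext h)) a ((g : G) • a) hxa hxg
      exact hg ((hmemH g).mpr h3.symm)
  obtain ⟨Kr, hKr, hKn, hKc⟩ := Cfsg.Agent.S0035.result H hH
  have hmemK : ∀ x : ↥N, x ∈ Kr ↔ x = 1 ∨ ∀ y : Ω, (x : G) • y ≠ y := by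
    intro x
    have h1 : x ∈ Kr ↔ x ∈ Cfsg.frobeniusKernel H := by rw [← hKr]; rfl
    rw [h1]
    show (x = 1 ∨ ∀ g : ↥N, x ∉ MulAut.conj g • H) ↔ _
    constructor
    · rintro (h | h)
      · exact Or.inl h
      · right
        intro y hy
        obtain ⟨n, hn, hx⟩ := htr a y
        refine h ⟨n, hn⟩ ((hconj ⟨n, hn⟩ x).mpr ?_)
        show (x : G) • (n • a) = n • a
        rw [hx]
        exact hy
    · rintro (h | h)
      · exact Or.inl h
      · right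
        intro g hg
        exact h _ ((hconj g x).mp hg)
  let M : Subgroup G := Kr.map N.subtype
  have hmemM : ∀ m : G, m ∈ M ↔ m ∈ N ∧ (m = 1 ∨ ∀ y : Ω, m • y ≠ y) := by
    intro m
    constructor
    · rintro ⟨k, hk, rfl⟩
      refine ⟨k.2, ?_⟩
      rcases (hmemK k).mp hk with h | h
      · left
        rw [h]
        rfl
      · right
        exact h
    · rintro ⟨hm, h⟩
      refine ⟨⟨m, hm⟩, (hmemK _).mpr ?_, rfl⟩
      rcases h with h | h
      · left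
        exact Subtype.ext h
      · right
        exact h
  have hMn : M.Normal := by
    refine ⟨fun m hm g => ?_⟩
    rw [hmemM] at hm ⊢
    refine ⟨hNn.conj_mem m hm.1 g, ?_⟩
    rcases hm.2 with h | h
    · left
      rw [h, mul_one, mul_inv_cancel]
    · right
      intro y hy
      apply h (g⁻¹ • y)
      rw [mul_smul, mul_smul] at hy
      exact (smul_eq_iff_eq_inv_smul g).mp hy
  have hMtr : ∀ x y : Ω, ∃ m ∈ M, m • x = y := by
    have hfrom : ∀ y : Ω, ∃ m ∈ M, m • a = y := by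
      intro y
      obtain ⟨n, hn, hx⟩ := htr a y
      obtain ⟨⟨k, h⟩, hkh⟩ := hKc.2 ⟨n, hn⟩
      refine ⟨((k : ↥N) : G), ⟨k.1, k.2, rfl⟩, ?_⟩
      have h1 : ((k : ↥N) : G) * ((h : ↥N) : G) = n := congrArg Subtype.val hkh
      have h2 : ((h : ↥N) : G) • a = a := (hmemH _).mp h.2
      rw [← hx, ← h1, mul_smul, h2]
    intro x y
    obtain ⟨m1, hm1, e1⟩ := hfrom x
    obtain ⟨m2, hm2, e2⟩ := hfrom y
    exact ⟨m2 * m1⁻¹, M.mul_mem hm2 (M.inv_mem hm1), by rw [mul_smul, ← e1, inv_smul_smul, e2]⟩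
  obtain ⟨x, m, hm, hm1, hmx⟩ := hZ.noreg M hMn hMtr
  rcases ((hmemM m).mp hm).2 with h | h
  · exact hm1 h
  · exact h x hmx

theorem core [Finite Ω] (hZ : Zas G Ω) (N : Subgroup G) [hNn : N.Normal] (hN : N ≠ ⊥) :
    ∃ a b : Ω, a ≠ b ∧ ∃ h ∈ N, h ≠ 1 ∧ h • a = a ∧ h • b = b := by
  have htr := trans_of_normal hZ N hN
  obtain ⟨a, n0, hn0, hne, hfix⟩ := hZ.noreg N hNn htr
  by_contra hcon
  push Not at hcon
  have hA : ∀ n ∈ N, n ≠ 1 → ∀ x y : Ω, n • x = x → n • y = y → x = y := by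
    intro n hn hn1 x y hx hy
    by_contra hxy
    exact hcon x y hxy n hn hn1 hx hy
  exact caseA_false hZ N htr hA hn0 hne hfix

theorem two_trans [Finite Ω] (hZ : Zas G Ω) (N : Subgroup G) [hNn : N.Normal] (hN : N ≠ ⊥) :
    ∀ {x y x' y' : Ω}, x ≠ y → x' ≠ y' → ∃ n ∈ N, n • x = x' ∧ n • y = y' := by
  obtain ⟨a, b, hab, h, hhN, hne, ha, hb⟩ := core hZ N hN
  have htr := trans_of_normal hZ N hN
  have hB := caseB hZ N hab hhN hne ha hb
  intro x y x' y' hxy hxy'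
  obtain ⟨n1, hn1, e1⟩ := htr x a
  obtain ⟨n2, hn2, e2⟩ := htr x' a
  have h1 : n1 • y ≠ a := by
    intro h
    rw [← e1] at h
    exact hxy (smul_left_cancel _ h).symm
  have h2 : n2 • y' ≠ a := by
    intro h
    rw [← e2] at h
    exact hxy' (smul_left_cancel _ h).symm
  obtain ⟨k1, hk1, ka1, kb1⟩ := hB _ h1
  obtain ⟨k2, hk2, ka2, kb2⟩ := hB _ h2
  refine ⟨n2⁻¹ * k2⁻¹ * k1 * n1,
    N.mul_mem (N.mul_mem (N.mul_mem (N.inv_mem hn2) (N.inv_mem hk2)) hk1) hn1, ?_, ?_⟩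
  · rw [mul_smul, mul_smul, mul_smul, e1, ka1, inv_smul_eq_iff.mpr ka2.symm, inv_smul_eq_iff, e2]
  · rw [mul_smul, mul_smul, mul_smul, kb1, inv_smul_eq_iff.mpr kb2.symm, inv_smul_smul]


/-! ### regular subgroups of `N` normalised by `N` -/

/-- a subgroup of `N`, normalised by `N`, regular on `Ω`. -/
structure RegN (N X : Subgroup G) (Ω : Type v) [MulAction G Ω] : Prop where
  le : X ≤ N
  conj : ∀ n ∈ N, ∀ x ∈ X, n * x * n⁻¹ ∈ X
  trans : ∀ y z : Ω, ∃ x ∈ X, x • y = z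
  free : ∀ x ∈ X, ∀ y : Ω, x • y = y → x = 1

theorem reg_conj {N X : Subgroup G} (hX : RegN N X Ω) {a b : Ω}
    (hB : ∀ c, c ≠ a → ∃ k ∈ N, k • a = a ∧ k • c = b) {x1 x2 : G} (h1 : x1 ∈ X) (h1' : x1 ≠ 1)
    (h2 : x2 ∈ X) (h2' : x2 ≠ 1) : ∃ k ∈ N, k * x1 * k⁻¹ = x2 := by
  have e1 : x1 • a ≠ a := fun h => h1' (hX.free x1 h1 a h)
  have e2 : x2 • a ≠ a := fun h => h2' (hX.free x2 h2 a h)
  obtain ⟨k1, hk1, ka1, kb1⟩ := hB _ e1
  obtain ⟨k2, hk2, ka2, kb2⟩ := hB _ e2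
  have hk : k2⁻¹ * k1 ∈ N := N.mul_mem (N.inv_mem hk2) hk1
  refine ⟨k2⁻¹ * k1, hk, ?_⟩
  have hka : (k2⁻¹ * k1) • a = a := by rw [mul_smul, ka1, inv_smul_eq_iff, ka2]
  have hkia : (k2⁻¹ * k1)⁻¹ • a = a := inv_smul_eq_iff.mpr hka.symm
  have hkx : (k2⁻¹ * k1) • (x1 • a) = x2 • a := by rw [mul_smul, kb1, inv_smul_eq_iff, kb2]
  have hy : x2⁻¹ * ((k2⁻¹ * k1) * x1 * (k2⁻¹ * k1)⁻¹) ∈ X :=
    X.mul_mem (X.inv_mem h2) (hX.conj _ hk _ h1)
  have hya : (x2⁻¹ * ((k2⁻¹ * k1) * x1 * (k2⁻¹ * k1)⁻¹)) • a = a := by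
    rw [mul_smul, mul_smul, mul_smul, hkia, hkx, inv_smul_smul]
  have h3 := hX.free _ hy a hya
  exact (inv_mul_eq_one.mp h3).symm

theorem reg_comm [Finite G] {N X : Subgroup G} (hX : RegN N X Ω) {a b : Ω}
    (hB : ∀ c, c ≠ a → ∃ k ∈ N, k • a = a ∧ k • c = b) {x y : G} (hx : x ∈ X) (hy : y ∈ X) :
    x * y = y * x := by
  by_cases hx1 : x = 1
  · rw [hx1, one_mul, mul_one]
  have hnt : Nontrivial ↥X := ⟨⟨⟨x, hx⟩, 1, fun h => hx1 (congrArg Subtype.val h)⟩⟩
  have hcard : Nat.card ↥X ≠ 1 := by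
    intro h
    rw [Nat.card_eq_one_iff_unique] at h
    exact not_subsingleton ↥X h.1
  obtain ⟨p, hp, hpd⟩ := Nat.exists_prime_and_dvd hcard
  have := Fact.mk hp
  obtain ⟨x0, hx0⟩ := exists_prime_orderOf_dvd_card' p hpd
  have hx0G : orderOf (x0 : G) = p := by rw [Subgroup.orderOf_coe, hx0]
  have hx0ne : (x0 : G) ≠ 1 := by
    intro h
    rw [h, orderOf_one] at hx0G
    exact hp.one_lt.ne hx0G
  have hpG : IsPGroup p ↥X := by
    intro g
    by_cases hg : (g : G) = 1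
    · exact ⟨0, Subtype.ext (by rw [pow_zero, pow_one]; exact hg)⟩
    · obtain ⟨k, hk, hkx⟩ := reg_conj hX hB x0.2 hx0ne g.2 hg
      refine ⟨1, Subtype.ext ?_⟩
      rw [pow_one, Subgroup.coe_pow, ← hkx, conj_pow, ← hx0G, pow_orderOf_eq_one, mul_one,
        mul_inv_cancel]
      rfl
  have hcen := hpG.center_nontrivial
  obtain ⟨z, hz⟩ := exists_ne (1 : Subgroup.center ↥X)
  have hzc : ∀ w ∈ X, w * ((z : ↥X) : G) = ((z : ↥X) : G) * w := by
    intro w hw
    have h1 := Subgroup.mem_center_iff.mp z.2 ⟨w, hw⟩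
    exact congrArg Subtype.val h1
  have hzne : ((z : ↥X) : G) ≠ 1 := by
    intro h
    exact hz (Subtype.ext (Subtype.ext h))
  obtain ⟨n, hn, hnx⟩ := reg_conj hX hB (z : ↥X).2 hzne hx hx1
  have hw : n⁻¹ * y * n ∈ X := by
    have h1 := hX.conj n⁻¹ (N.inv_mem hn) y hy
    rwa [inv_inv] at h1
  have h2 := hzc _ hw
  rw [← hnx]
  calc n * ((z : ↥X) : G) * n⁻¹ * y = n * (((z : ↥X) : G) * (n⁻¹ * y * n)) * n⁻¹ := by group
    _ = n * ((n⁻¹ * y * n) * ((z : ↥X) : G)) * n⁻¹ := by rw [h2]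
    _ = y * (n * ((z : ↥X) : G) * n⁻¹) := by group

theorem reg_le [Finite G] (hZ : Zas G Ω) {N X Y : Subgroup G} (hX : RegN N X Ω) (hY : RegN N Y Ω)
    {a b : Ω} (hB : ∀ c, c ≠ a → ∃ k ∈ N, k • a = a ∧ k • c = b) : Y ≤ X := by
  by_cases hI : ∃ i ∈ X, i ∈ Y ∧ i ≠ 1
  · obtain ⟨i, hiX, hiY, hi1⟩ := hI
    have hXY : X ≤ Y := by
      intro x hx
      by_cases hx1 : x = 1
      · rw [hx1]
        exact Y.one_mem
      · obtain ⟨n, hn, hnx⟩ := reg_conj hX hB hiX hi1 hx hx1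
        rw [← hnx]
        exact hY.conj n hn i hiY
    intro y hy
    obtain ⟨x, hx, hxa⟩ := hX.trans a (y • a)
    have h1 : x⁻¹ * y ∈ Y := Y.mul_mem (Y.inv_mem (hXY hx)) hy
    have h2 : (x⁻¹ * y) • a = a := by rw [mul_smul, inv_smul_eq_iff, hxa]
    have h3 := hY.free _ h1 a h2
    rw [inv_mul_eq_one] at h3
    rw [← h3]
    exact hx
  · push Not at hI
    intro y hy
    have hcomm : ∀ x ∈ X, x * y = y * x := by
      intro x hx
      have h1 : x * y * x⁻¹ * y⁻¹ ∈ X := by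
        have h2 := hX.conj y (hY.le hy) x⁻¹ (X.inv_mem hx)
        have h3 := X.mul_mem hx h2
        have h4 : x * (y * x⁻¹ * y⁻¹) = x * y * x⁻¹ * y⁻¹ := by group
        rwa [h4] at h3
      have h2 : x * y * x⁻¹ * y⁻¹ ∈ Y := Y.mul_mem (hY.conj x (hX.le hx) y hy) (Y.inv_mem hy)
      have h3 := hI _ h1 h2
      have h4 : x * y = (x * y * x⁻¹ * y⁻¹) * (y * x) := by group
      rw [h4, h3, one_mul]
    obtain ⟨x0, hx0, hx0a⟩ := hX.trans a (y • a)
    have hc : x0⁻¹ * y = 1 := by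
      apply hZ.faith
      intro z
      obtain ⟨x, hx, hxz⟩ := hX.trans a z
      have e1 : x0⁻¹ * y * x = x * (x0⁻¹ * y) := by
        have e2 := hcomm x hx
        have e3 := reg_comm hX hB (X.inv_mem hx0) hx
        calc x0⁻¹ * y * x = x0⁻¹ * (y * x) := by group
          _ = x0⁻¹ * (x * y) := by rw [e2]
          _ = (x0⁻¹ * x) * y := by group
          _ = (x * x0⁻¹) * y := by rw [e3]
          _ = x * (x0⁻¹ * y) := by group
      rw [← hxz, ← mul_smul, e1, mul_smul, mul_smul, inv_smul_eq_iff.mpr hx0a.symm]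
    rw [inv_mul_eq_one] at hc
    rw [← hc]
    exact hx0

theorem noreg_sub [Finite Ω] (hZ : Zas G Ω) (N : Subgroup G) [hNn : N.Normal] (hN : N ≠ ⊥)
    (X : Subgroup G) (hX : RegN N X Ω) : False := by
  have := finite_of_zas hZ
  obtain ⟨a, b, hab, h, hhN, hne, ha, hb⟩ := core hZ N hN
  have hB := caseB hZ N hab hhN hne ha hb
  have hXn : X.Normal := by
    refine ⟨fun x hx g => ?_⟩
    let Y : Subgroup G := X.map (MulAut.conj g).toMonoidHom
    have hmemY : ∀ w, w ∈ Y ↔ ∃ x ∈ X, g * x * g⁻¹ = w := fun w => Iff.rfl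
    have hY : RegN N Y Ω := by
      refine ⟨?_, ?_, ?_, ?_⟩
      · rintro _ ⟨x, hx, rfl⟩
        exact hNn.conj_mem x (hX.le hx) g
      · rintro n hn _ ⟨x, hx, rfl⟩
        have h1 : g⁻¹ * n * g ∈ N := by
          have h2 := hNn.conj_mem n hn g⁻¹
          rwa [inv_inv] at h2
        refine (hmemY _).mpr ⟨(g⁻¹ * n * g) * x * (g⁻¹ * n * g)⁻¹, hX.conj _ h1 x hx, ?_⟩
        show _ = n * (g * x * g⁻¹) * n⁻¹
        group
      · intro y z
        obtain ⟨x, hx, hxy⟩ := hX.trans (g⁻¹ • y) (g⁻¹ • z)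
        refine ⟨g * x * g⁻¹, (hmemY _).mpr ⟨x, hx, rfl⟩, ?_⟩
        rw [mul_smul, mul_smul, hxy, smul_inv_smul]
      · rintro _ ⟨x, hx, rfl⟩ y hy
        have h1 : x • (g⁻¹ • y) = g⁻¹ • y := by
          have h2 : (g * x * g⁻¹) • y = y := hy
          rw [mul_smul, mul_smul] at h2
          exact (smul_eq_iff_eq_inv_smul g).mp h2
        have h2 := hX.free x hx _ h1
        show g * x * g⁻¹ = 1
        rw [h2, mul_one, mul_inv_cancel]
    exact reg_le hZ hX hY hB ((hmemY _).mpr ⟨x, hx, rfl⟩)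
  obtain ⟨x, m, hm, hm1, hmx⟩ := hZ.noreg X hXn hX.trans
  exact hm1 (hX.free m hm x hmx)

/-- A non-trivial normal subgroup of a Zassenhaus group is a Zassenhaus group. -/
theorem zassenhaus_normal [Finite Ω] (hZ : Cfsg.IsZassenhausGroup G Ω) (N : Subgroup G)
    [hNn : N.Normal] (hN : N ≠ ⊥) : Cfsg.IsZassenhausGroup N Ω := by
  have hz := zas_of hZ
  obtain ⟨hf, h2, h3, h4, h5⟩ := hZ
  obtain ⟨a, b, hab, h, hhN, hne, ha, hb⟩ := core hz N hN
  refine ⟨⟨fun {n1 n2} hh => Subtype.ext (hf.eq_of_smul_eq_smul hh)⟩, ?_, ?_, ?_, ?_⟩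
  · rw [is_two_pretransitive_iff]
    intro x y x' y' hxy hxy'
    obtain ⟨n, hn, e1, e2⟩ := two_trans hz N hN hxy hxy'
    exact ⟨⟨n, hn⟩, e1, e2⟩
  · intro g x y z hxy hyz hxz hx hy hz'
    exact Subtype.ext (h3 g.1 x y z hxy hyz hxz hx hy hz')
  · exact ⟨⟨h, hhN⟩, fun h1 => hne (congrArg Subtype.val h1), a, b, hab, ha, hb⟩
  · intro M hM hMtr
    by_contra hcon
    push Not at hcon
    apply noreg_sub hz N hN (M.map N.subtype)
    refine ⟨?_, ?_, ?_, ?_⟩
    · rintro _ ⟨m, -, rfl⟩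
      exact m.2
    · rintro n hn _ ⟨m, hm, rfl⟩
      exact ⟨⟨n, hn⟩ * m * ⟨n, hn⟩⁻¹, hM.conj_mem m hm ⟨n, hn⟩, rfl⟩
    · intro y z
      obtain ⟨m, hm⟩ := hMtr.exists_smul_eq y z
      exact ⟨((m : ↥N) : G), ⟨m.1, m.2, rfl⟩, hm⟩
    · rintro _ ⟨m, hm, rfl⟩ y hy
      have h1 : (⟨m, hm⟩ : ↥M) ∈ stabilizer ↥M y := hy
      rw [hcon y, Subgroup.mem_bot] at h1
      have h2 : m = 1 := congrArg Subtype.val h1
      rw [h2]
      rfl

/-- A Zassenhaus group of odd degree is simple. -/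
theorem simple_of_odd [Fintype Ω] (hZ : Cfsg.IsZassenhausGroup G Ω)
    (hodd : Odd (Fintype.card Ω)) : IsSimpleGroup G := by
  have hz := zas_of hZ
  have := finite_of_zas hz
  obtain ⟨hf, h2, h3, ⟨g0, hg0, -⟩, h5⟩ := hZ
  have hnt : Nontrivial G := ⟨⟨g0, 1, hg0⟩⟩
  refine ⟨fun N hNn => ?_⟩
  by_cases hN : N = ⊥
  · exact Or.inl hN
  right
  obtain ⟨a, b, hab, -⟩ := core hz N hN
  have h2N := @two_trans _ _ _ _ _ hz N hNn hN
  obtain ⟨n, hn, hna, hnb⟩ := h2N hab (Ne.symm hab)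
  obtain ⟨k, m, hm, hkm⟩ := Nat.exists_eq_two_pow_mul_odd (orderOf_pos n).ne'
  have hsw : ∀ j : ℕ, (n ^ (2 * j + 1)) • a = b ∧ (n ^ (2 * j + 1)) • b = a := by
    intro j
    induction j with
    | zero => simp [hna, hnb]
    | succ j ih =>
      have e : n ^ (2 * (j + 1) + 1) = n * n * n ^ (2 * j + 1) := by
        rw [show 2 * (j + 1) + 1 = 1 + 1 + (2 * j + 1) by ring, pow_add, pow_add, pow_one]
      rw [e]
      refine ⟨?_, ?_⟩
      · rw [mul_smul, mul_smul, ih.1, hnb, hna]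
      · rw [mul_smul, mul_smul, ih.2, hna, hnb]
  obtain ⟨j, hj⟩ := hm
  set u := n ^ m with hu
  have hua : u • a = b := by rw [hu, hj]; exact (hsw j).1
  have hub : u • b = a := by rw [hu, hj]; exact (hsw j).2
  have hu2 : u ^ 2 ^ k = 1 := by rw [hu, ← pow_mul, mul_comm, ← hkm, pow_orderOf_eq_one]
  have hP : IsPGroup 2 ↥(Subgroup.zpowers u) := by
    obtain ⟨i, -, hi⟩ := (Nat.dvd_prime_pow Nat.prime_two).mp (orderOf_dvd_of_pow_eq_one hu2)
    exact IsPGroup.of_card (n := i) (by rw [Nat.card_zpowers, hi])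
  have : Fact (Nat.Prime 2) := ⟨Nat.prime_two⟩
  have hnd : ¬ 2 ∣ Nat.card Ω := by
    rw [Nat.card_eq_fintype_card]
    exact hodd.not_two_dvd_nat
  obtain ⟨c, hc⟩ := hP.nonempty_fixed_point_of_prime_not_dvd_card Ω hnd
  have huc : u • c = c := (mem_fixed_zpowers u c).mp hc
  have hca : c ≠ a := by
    rintro rfl
    exact hab (huc.symm.trans hua)
  have hcb : c ≠ b := by
    rintro rfl
    exact hab (hub.symm.trans huc)
  have husq : u * u = 1 := hz.three (u * u) a b c hab (Ne.symm hcb) (Ne.symm hca)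
    (by rw [mul_smul, hua, hub]) (by rw [mul_smul, hub, hua]) (by rw [mul_smul, huc, huc])
  have hune : u ≠ 1 := by
    intro h
    rw [h, one_smul] at hua
    exact hab hua
  have huN : u ∈ N := N.pow_mem hn _
  have huniq : ∀ d, u • d = d → d = c := by
    intro d hd
    by_contra hdc
    have hset : fixedPoints ↥(Subgroup.zpowers u) Ω = {c, d} := by
      ext x
      rw [mem_fixed_zpowers, Set.mem_insert_iff, Set.mem_singleton_iff]
      constructor
      · intro hx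
        exact fix_two hz hune (Ne.symm hdc) huc hd hx
      · rintro (rfl | rfl)
        · exact huc
        · exact hd
    have hmod := hP.card_modEq_card_fixedPoints Ω
    rw [hset, Nat.card_coe_set_eq, Set.ncard_pair (Ne.symm hdc)] at hmod
    exact hnd ((Nat.modEq_zero_iff_dvd).mp (hmod.trans (by decide)))
  let Hs : Subgroup G := stabilizer G a ⊓ stabilizer G b
  have hHs : Hs ≤ N := by
    have hfun : ∀ h : ↥Hs, (h : G) * u * (h : G)⁻¹ * u ∈ Hs ⊓ N := by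
      intro h
      have ha' : (h : G) • a = a := h.2.1
      have hb' : (h : G) • b = b := h.2.2
      have hia : (h : G)⁻¹ • a = a := inv_smul_eq_iff.mpr ha'.symm
      have hib : (h : G)⁻¹ • b = b := inv_smul_eq_iff.mpr hb'.symm
      refine ⟨⟨?_, ?_⟩, ?_⟩
      · show ((h : G) * u * (h : G)⁻¹ * u) • a = a
        rw [mul_smul, mul_smul, mul_smul, hua, hib, hub, ha']
      · show ((h : G) * u * (h : G)⁻¹ * u) • b = b
        rw [mul_smul, mul_smul, mul_smul, hub, hia, hua, hb']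
      · exact N.mul_mem (hNn.conj_mem u huN _) huN
    let f : ↥Hs → ↥(Hs ⊓ N) := fun h => ⟨_, hfun h⟩
    have hinj : Function.Injective f := by
      intro h h' hh
      have h1 : (h : G) * u * (h : G)⁻¹ * u = (h' : G) * u * (h' : G)⁻¹ * u :=
        congrArg Subtype.val hh
      have h2 : (h : G) * u * (h : G)⁻¹ = (h' : G) * u * (h' : G)⁻¹ := mul_right_cancel h1
      have h3 : ((h' : G)⁻¹ * (h : G)) * u = u * ((h' : G)⁻¹ * (h : G)) := by
        calc ((h' : G)⁻¹ * (h : G)) * u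
            = (h' : G)⁻¹ * ((h : G) * u * (h : G)⁻¹) * (h : G) := by group
          _ = (h' : G)⁻¹ * ((h' : G) * u * (h' : G)⁻¹) * (h : G) := by rw [h2]
          _ = u * ((h' : G)⁻¹ * (h : G)) := by group
      have hkc : ((h' : G)⁻¹ * (h : G)) • c = c := by
        apply huniq
        rw [← mul_smul, ← h3, mul_smul, huc]
      have hka : ((h' : G)⁻¹ * (h : G)) • a = a := by
        rw [mul_smul, h.2.1, inv_smul_eq_iff]
        exact h'.2.1.symm
      have hkb : ((h' : G)⁻¹ * (h : G)) • b = b := by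
        rw [mul_smul, h.2.2, inv_smul_eq_iff]
        exact h'.2.2.symm
      have hk1 := hz.three _ a b c hab (Ne.symm hcb) (Ne.symm hca) hka hkb hkc
      rw [inv_mul_eq_one] at hk1
      exact Subtype.ext hk1.symm
    have hcard : Nat.card ↥Hs ≤ Nat.card ↥(Hs ⊓ N) := Nat.card_le_card_of_injective f hinj
    have heq : Hs ⊓ N = Hs := Subgroup.eq_of_le_of_card_ge inf_le_left hcard
    rw [← heq]
    exact inf_le_right
  rw [eq_top_iff]
  intro g _
  have hne' : g • a ≠ g • b := fun h => hab (smul_left_cancel g h)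
  obtain ⟨n', hn', e1, e2⟩ := h2N hab hne'
  have h1 : n'⁻¹ * g ∈ Hs := by
    refine ⟨?_, ?_⟩
    · show (n'⁻¹ * g) • a = a
      rw [mul_smul, inv_smul_eq_iff, e1]
    · show (n'⁻¹ * g) • b = b
      rw [mul_smul, inv_smul_eq_iff, e2]
  have h4 := N.mul_mem hn' (hHs h1)
  rwa [mul_inv_cancel_left] at h4

end Cfsg.Agent.Lib.Helper3.Zass
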