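import Mathlib
import Cfsg.Prelude.Def_LieExceptional
import Cfsg.Agent.Lib.Helper3.Sz5

set_option autoImplicit false

namespace Cfsg.Agent.Lib.Helper3.Sz6

open Matrix MulAction Cfsg.Agent.Lib.Helper3.Sz1 Cfsg.Agent.Lib.Helper3.Sz2
open Cfsg.Agent.Lib.Helper3.Sz3 Cfsg.Agent.Lib.Helper3.Sz4 Cfsg.Agent.Lib.Helper3.Sz5
open scoped commutatorElement

variable {F : Type*} [Field F]

theorem pow_sm1 {s : ℕ} (hs : Hyp F s) (z : F) : (z ^ (s - 1)) ^ (s + 1) = z := by
  have hpos := hs.pos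
  by_cases hz : z = 0
  · subst hz
    rw [zero_pow (by omega), zero_pow (by omega)]
  · apply mul_right_cancel₀ hz
    have he : (s - 1) * (s + 1) + 1 = s * s := by
      obtain ⟨t, rfl⟩ : ∃ t, s = t + 1 := ⟨s - 1, by omega⟩
      simp only [Nat.add_sub_cancel]
      ring
    rw [← pow_mul, ← pow_succ, he, pow_mul, hs.sq]
    ring

theorem fix_s {s : ℕ} (hs : Hyp F s) {x : F} (h : x ^ s = x) : x = 0 ∨ x = 1 := by
  have h7 : x ^ 2 = x := by
    rw [← hs.sq, h, h]
  have h8 : x * (x - 1) = 0 := by linear_combination h7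
  rcases mul_eq_zero.mp h8 with h | h
  · exact Or.inl h
  · exact Or.inr (sub_eq_zero.mp h)

/-- the abstract structure of the Sylow 2-subgroup of a Suzuki group. -/
theorem sylow_abstract {s : ℕ} (hs : Hyp F s) (hex : ∃ b : F, b ≠ 0 ∧ b ≠ 1)
    {H : Type*} [Group H] (u : F → F → H)
    (hbij : Function.Bijective (fun p : F × F => u p.1 p.2))
    (hmul : ∀ a b c d, u c d * u a b = u (a + c) (b + d + c ^ s * a)) :
    Nat.card H = (Nat.card F) ^ 2 ∧ Monoid.exponent H = 4 ∧
      Subgroup.center H = commutator H ∧ Nat.card (Subgroup.center H) = Nat.card F := by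
  have h2 := hs.two
  have hpos := hs.pos
  have hinj : ∀ {a b a' b' : F}, u a b = u a' b' → a = a' ∧ b = b' := by
    intro a b a' b' h
    have h1 := hbij.1 (a₁ := (a, b)) (a₂ := (a', b')) h
    exact ⟨congrArg Prod.fst h1, congrArg Prod.snd h1⟩
  have hsurj : ∀ h : H, ∃ a b, u a b = h := by
    intro h
    obtain ⟨⟨a, b⟩, hab⟩ := hbij.2 h
    exact ⟨a, b, hab⟩
  have hz : (0 : F) ^ s = 0 := pow_s_zero hs
  have hone : u 0 0 = 1 := by
    have h1 := hmul 0 0 0 0
    rw [hz, mul_zero, add_zero, add_zero] at h1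
    exact mul_eq_left.mp h1
  have hsq : ∀ a b, u a b * u a b = u 0 (a ^ (s + 1)) := by
    intro a b
    rw [hmul]
    congr 1
    · linear_combination a * h2
    · rw [pow_succ]
      linear_combination b * h2
  have hsq0 : ∀ c, u 0 c * u 0 c = 1 := by
    intro c
    rw [hsq, zero_pow (by omega), hone]
  have hcomm : ∀ a b c d, ⁅u c d, u a b⁆ = u 0 (c ^ s * a + a ^ s * c) := by
    intro a b c d
    have h1 : u c d * u a b = u 0 (c ^ s * a + a ^ s * c) * (u a b * u c d) := by
      rw [hmul, hmul, hmul, hz]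
      congr 1
      · ring
      · linear_combination (-(a ^ s * c)) * h2
    rw [commutatorElement_def, h1]
    group
  have hZ1 : ∀ c, u 0 c ∈ Subgroup.center H := by
    intro c
    rw [Subgroup.mem_center_iff]
    intro g
    obtain ⟨a, b, rfl⟩ := hsurj g
    rw [hmul, hmul, hz]
    congr 1
    · ring
    · ring
  have hZ2 : ∀ a b, u a b ∈ Subgroup.center H → a = 0 := by
    intro a b hab
    rw [Subgroup.mem_center_iff] at hab
    have h1 : ∀ c : F, c ^ s * a = a ^ s * c := by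
      intro c
      have h3 := hab (u c 0)
      rw [hmul, hmul] at h3
      have h4 := (hinj h3).2
      linear_combination h4
    by_contra ha
    have h5 : a ^ s = a := by
      have h6 := h1 1
      rw [one_pow, one_mul, mul_one] at h6
      exact h6.symm
    obtain ⟨b0, hb0, hb1⟩ := hex
    have h6 : b0 ^ s = b0 := by
      have h7 := h1 b0
      rw [h5] at h7
      exact mul_right_cancel₀ ha (h7.trans (mul_comm a b0))
    rcases fix_s hs h6 with h | h
    · exact hb0 h
    · exact hb1 h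
  refine ⟨?_, ?_, ?_, ?_⟩
  · rw [← Nat.card_congr (Equiv.ofBijective _ hbij), Nat.card_prod, sq]
  · have hd : Monoid.exponent H ∣ 4 := by
      apply Monoid.exponent_dvd_of_forall_pow_eq_one
      intro g
      obtain ⟨a, b, rfl⟩ := hsurj g
      rw [show 4 = 2 * 2 from rfl, pow_mul, sq (u a b), hsq, sq, hsq0]
    have hn : ¬ Monoid.exponent H ∣ 2 := by
      intro h
      have h1 : u 1 0 ^ 2 = 1 := by
        obtain ⟨k, hk⟩ := h
        rw [hk, pow_mul, Monoid.pow_exponent_eq_one, one_pow]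
      rw [sq, hsq, one_pow, ← hone] at h1
      exact one_ne_zero (hinj h1).2
    obtain ⟨k, hk, hk'⟩ := (Nat.dvd_prime_pow Nat.prime_two (m := 2)).mp hd
    interval_cases k
    · exact absurd (by rw [hk']; norm_num) hn
    · exact absurd (by rw [hk']; norm_num) hn
    · exact hk'
  · apply le_antisymm
    · intro z hz'
      obtain ⟨a, b, rfl⟩ := hsurj z
      have ha := hZ2 a b hz'
      subst ha
      obtain ⟨u0, hu0, hu1⟩ := hex
      have hh : u0 + u0 ^ s ≠ 0 := by
        intro h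
        have h3 : u0 ^ s = u0 := by linear_combination h - u0 * h2
        rcases fix_s hs h3 with h | h
        · exact hu0 h
        · exact hu1 h
      have hzb : b / (u0 + u0 ^ s) * (u0 + u0 ^ s) = b := div_mul_cancel₀ b hh
      have key := pow_sm1 hs (b / (u0 + u0 ^ s))
      rw [pow_succ] at key
      generalize b / (u0 + u0 ^ s) = z at hzb key
      generalize z ^ (s - 1) = a at key
      have h3 : u 0 b = ⁅u (a * u0) 0, u a 0⁆ := by
        rw [hcomm]
        congr 1
        rw [mul_pow]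
        linear_combination (-(1 : F)) * hzb - (u0 + u0 ^ s) * key
      rw [h3, commutator_def]
      exact Subgroup.commutator_mem_commutator (Subgroup.mem_top _) (Subgroup.mem_top _)
    · rw [commutator_def, Subgroup.commutator_le]
      intro g1 _ g2 _
      obtain ⟨c, d, rfl⟩ := hsurj g1
      obtain ⟨a, b, rfl⟩ := hsurj g2
      rw [hcomm]
      exact hZ1 _
  · have hb : Function.Bijective (fun c : F => (⟨u 0 c, hZ1 c⟩ : Subgroup.center H)) := by
      constructor
      · intro c c' h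
        exact (hinj (congrArg Subtype.val h)).2
      · rintro ⟨z, hz'⟩
        obtain ⟨a, b, rfl⟩ := hsurj z
        have ha := hZ2 a b hz'
        subst ha
        exact ⟨b, rfl⟩
    rw [← Nat.card_congr (Equiv.ofBijective _ hb)]

section fin

variable [Fintype F] {m : ℕ}

/-- the translation as an element of the Suzuki group. -/
def u (hm : 1 ≤ m) (hF : Fintype.card F = 2 ^ (2 * m + 1)) (a b : F) : ↥(Cfsg.Sz F m) :=
  ⟨T (2 ^ (m + 1)) a b, T_mem hm hF a b⟩

theorem u_mul (hm : 1 ≤ m) (hF : Fintype.card F = 2 ^ (2 * m + 1)) (a b c d : F) :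
    u hm hF c d * u hm hF a b = u hm hF (a + c) (b + d + c ^ (2 ^ (m + 1)) * a) :=
  Subtype.ext (T_mul hm hF a b c d)

theorem u_zero (hm : 1 ≤ m) (hF : Fintype.card F = 2 ^ (2 * m + 1)) : u hm hF 0 0 = 1 :=
  Subtype.ext (T_zero hm hF)

theorem u_inj (hm : 1 ≤ m) (hF : Fintype.card F = 2 ^ (2 * m + 1)) {a b a' b' : F}
    (h : u hm hF a b = u hm hF a' b') : a = a' ∧ b = b' := by
  have hs := hyp_of_card hm hF
  have h1 : T (2 ^ (m + 1)) a b = T (2 ^ (m + 1)) a' b' := congrArg Subtype.val h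
  have h2 := congrArg (fun g => g • Cfsg.suzukiPointZero F) h1
  simp only [T_pZero hs] at h2
  exact pt_inj h2

/-- the unipotent subgroup. -/
def U (hm : 1 ≤ m) (hF : Fintype.card F = 2 ^ (2 * m + 1)) : Subgroup ↥(Cfsg.Sz F m) where
  carrier := {g | ∃ a b, g = u hm hF a b}
  mul_mem' := by
    rintro _ _ ⟨a, b, rfl⟩ ⟨c, d, rfl⟩
    exact ⟨_, _, u_mul hm hF c d a b⟩
  one_mem' := ⟨0, 0, (u_zero hm hF).symm⟩
  inv_mem' := by
    rintro _ ⟨a, b, rfl⟩
    have hs := hyp_of_card hm hF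
    refine ⟨a, b + a ^ (2 ^ (m + 1) + 1), ?_⟩
    apply inv_eq_of_mul_eq_one_right
    rw [u_mul, ← u_zero hm hF]
    congr 1
    · linear_combination a * hs.two
    · rw [pow_succ]
      linear_combination (b + a ^ 2 ^ (m + 1) * a) * hs.two

theorem fact2 (n r : ℕ) (hr : ¬ 2 ∣ r) : (2 ^ n * r).factorization 2 = n := by
  have hr0 : r ≠ 0 := fun h => hr (h ▸ dvd_zero 2)
  rw [Nat.factorization_mul (pow_ne_zero _ two_ne_zero) hr0, Finsupp.add_apply,
    Nat.factorization_pow, Finsupp.smul_apply, Nat.Prime.factorization_self Nat.prime_two,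
    Nat.factorization_eq_zero_of_not_dvd hr]
  simp

/-- `S0330`. -/
theorem sylow2 (hm : 1 ≤ m) (hF : Fintype.card F = 2 ^ (2 * m + 1))
    (P : Sylow 2 (Cfsg.Sz F m)) :
    Nat.card P = (2 ^ (2 * m + 1)) ^ 2 ∧ Monoid.exponent P = 4 ∧
      Subgroup.center P = commutator P ∧ Nat.card (Subgroup.center P) = 2 ^ (2 * m + 1) := by
  have hs := hyp_of_card hm hF
  have hfin : Finite (Matrix.SpecialLinearGroup (Fin 4) F) :=
    Finite.of_injective (fun g => g.1) Subtype.val_injective
  have hU := sylow_abstract hs (exists_ne_zero_one hm hF)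
    (fun a b => (⟨u hm hF a b, ⟨a, b, rfl⟩⟩ : ↥(U hm hF)))
    (by
      constructor
      · rintro ⟨a, b⟩ ⟨a', b'⟩ h
        have h1 := u_inj hm hF (congrArg Subtype.val h)
        exact Prod.ext h1.1 h1.2
      · rintro ⟨g, a, b, rfl⟩
        exact ⟨(a, b), rfl⟩)
    (fun a b c d => Subtype.ext (u_mul hm hF a b c d))
  have hcU : Nat.card (U hm hF) = 2 ^ (Nat.card (Cfsg.Sz F m)).factorization 2 := by
    rw [hU.1, Nat.card_eq_fintype_card, hF, card_Sz hm hF]
    have hq : 2 ^ (2 * m + 1) = 2 * 2 ^ (2 * m) := pow_succ' 2 (2 * m)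
    have ht : 1 ≤ 2 ^ (2 * m) := Nat.one_le_two_pow
    have hodd : ¬ 2 ∣ ((2 ^ (2 * m + 1)) ^ 2 + 1) * (2 ^ (2 * m + 1) - 1) := by
      rw [Nat.Prime.dvd_mul Nat.prime_two]
      rintro (h | h)
      · have h1 : 2 ∣ (2 ^ (2 * m + 1)) ^ 2 := dvd_pow (dvd_pow_self 2 (by omega)) two_ne_zero
        exact absurd ((Nat.dvd_add_right h1).mp h) (by norm_num)
      · rw [hq] at h
        generalize 2 ^ (2 * m) = t at ht h
        omega
    have he : (2 ^ (2 * m + 1)) ^ 2 * ((2 ^ (2 * m + 1)) ^ 2 + 1) * (2 ^ (2 * m + 1) - 1) =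
        2 ^ ((2 * m + 1) * 2) * (((2 ^ (2 * m + 1)) ^ 2 + 1) * (2 ^ (2 * m + 1) - 1)) := by
      rw [pow_mul, mul_assoc]
    rw [he, fact2 _ _ hodd, pow_mul]
  let Q : Sylow 2 (Cfsg.Sz F m) := Sylow.ofCard (U hm hF) hcU
  let e : ↥Q ≃* ↥P := Sylow.equiv Q P
  have hmemQ : ∀ a b, u hm hF a b ∈ (Q : Subgroup ↥(Cfsg.Sz F m)) := fun a b => ⟨a, b, rfl⟩
  let u' : F → F → ↥P := fun a b => e ⟨u hm hF a b, hmemQ a b⟩
  have hbij : Function.Bijective (fun p : F × F => u' p.1 p.2) := by
    constructor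
    · rintro ⟨a, b⟩ ⟨a', b'⟩ h
      have h0 := e.injective h
      have h1 := u_inj hm hF (congrArg Subtype.val h0)
      exact Prod.ext h1.1 h1.2
    · intro y
      obtain ⟨a, b, hab⟩ : ∃ a b, (e.symm y).1 = u hm hF a b := (e.symm y).2
      refine ⟨(a, b), ?_⟩
      show e ⟨u hm hF a b, hmemQ a b⟩ = y
      rw [← e.apply_symm_apply y]
      congr 1
      exact Subtype.ext hab.symm
  have hmul : ∀ a b c d, u' c d * u' a b = u' (a + c) (b + d + c ^ (2 ^ (m + 1)) * a) := by
    intro a b c d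
    show e _ * e _ = e _
    rw [← map_mul]
    congr 1
    exact Subtype.ext (u_mul hm hF a b c d)
  have h := sylow_abstract hs (exists_ne_zero_one hm hF) u' hbij hmul
  rw [Nat.card_eq_fintype_card (α := F), hF] at h
  exact h

end fin

end Cfsg.Agent.Lib.Helper3.Sz6
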