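import Mathlib
import Cfsg.Agent.Lib.Helper3.Sz5

set_option autoImplicit false

namespace Cfsg.Agent.Lib.Helper3.Sz8

open Polynomial Matrix Cfsg.Agent.Lib.Helper3.Sz5

universe u

variable {F : Type u} [Field F] [Fintype F]

/-- irreducible factors of `X^(q^2+1) - 1` of degree at most three are `X - 1`. -/
theorem small_factor {q : ℕ} (hq : Fintype.card F = q) (h2 : (2 : F) = 0)
    {π : F[X]} (hπ : Irreducible π) (hdvd : π ∣ X ^ (q ^ 2 + 1) - 1) (hdeg : π.natDegree ≤ 3) :
    π ∣ X - 1 := by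
  have : Fact (Irreducible π) := ⟨hπ⟩
  have hπ0 : π ≠ 0 := hπ.ne_zero
  have : Module.Finite F (AdjoinRoot π) := (AdjoinRoot.powerBasis hπ0).finite
  have : Finite (AdjoinRoot π) := Module.finite_of_finite F
  have : Fintype (AdjoinRoot π) := Fintype.ofFinite _
  have hcard : Fintype.card (AdjoinRoot π) = q ^ π.natDegree := by
    rw [Module.card_eq_pow_finrank (K := F), hq, (AdjoinRoot.powerBasis hπ0).finrank,
      AdjoinRoot.powerBasis_dim]
  have hxN : (AdjoinRoot.root π) ^ (q ^ 2 + 1) = 1 := by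
    have h1 : AdjoinRoot.mk π (X ^ (q ^ 2 + 1) - 1) = 0 := AdjoinRoot.mk_eq_zero.mpr hdvd
    rw [map_sub, map_pow, AdjoinRoot.mk_X, map_one, sub_eq_zero] at h1
    exact h1
  have hfrob : (AdjoinRoot.root π) ^ (q ^ π.natDegree) = AdjoinRoot.root π := by
    rw [← hcard]
    exact FiniteField.pow_card _
  have h2K : (2 : AdjoinRoot π) = 0 := by
    have h3 := congrArg (algebraMap F (AdjoinRoot π)) h2
    rwa [map_ofNat, map_zero] at h3
  have hd1 : 1 ≤ π.natDegree := hπ.natDegree_pos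
  have hroot : AdjoinRoot.root π = 1 := by
    generalize AdjoinRoot.root π = x at hxN hfrob
    have hsq : x ^ 2 = 1 → x = 1 := sq_eq_one_char2 h2K
    generalize π.natDegree = d at hdeg hd1 hfrob
    interval_cases d
    · rw [pow_one] at hfrob
      apply hsq
      calc x ^ 2 = (x ^ q) ^ q * x := by rw [hfrob, hfrob, sq]
        _ = x ^ (q ^ 2 + 1) := by rw [← pow_mul, ← pow_succ, sq]
        _ = 1 := hxN
    · apply hsq
      calc x ^ 2 = x ^ (q ^ 2) * x := by rw [hfrob, sq]
        _ = x ^ (q ^ 2 + 1) := (pow_succ _ _).symm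
        _ = 1 := hxN
    · have h3 : x ^ (q ^ 2) = x⁻¹ := by
        rw [pow_succ] at hxN
        exact eq_inv_of_mul_eq_one_left hxN
      have h4 : (x ^ q)⁻¹ = x := by
        calc (x ^ q)⁻¹ = (x⁻¹) ^ q := (inv_pow _ _).symm
          _ = (x ^ (q ^ 2)) ^ q := by rw [h3]
          _ = x ^ (q ^ 3) := by rw [← pow_mul, ← pow_succ]
          _ = x := hfrob
      have h5 : x ^ q = x⁻¹ := by
        have h6 := congrArg Inv.inv h4
        rwa [inv_inv] at h6
      have h6 : x ^ (q ^ 2) = x := by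
        calc x ^ (q ^ 2) = (x ^ q) ^ q := by rw [← pow_mul, sq]
          _ = (x⁻¹) ^ q := by rw [h5]
          _ = (x ^ q)⁻¹ := inv_pow _ _
          _ = x := h4
      apply hsq
      calc x ^ 2 = x ^ (q ^ 2) * x := by rw [h6, sq]
        _ = x ^ (q ^ 2 + 1) := (pow_succ _ _).symm
        _ = 1 := hxN
  have h7 : AdjoinRoot.mk π (X - 1) = 0 := by
    rw [map_sub, AdjoinRoot.mk_X, map_one, hroot, sub_self]
  exact AdjoinRoot.mk_eq_zero.mp h7

/-- a non-identity matrix of order dividing `q^2+1` has irreducible minimal polynomial of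
degree four. -/
theorem minpoly_irred {q : ℕ} (hq : Fintype.card F = q) (h2 : (2 : F) = 0) (hq2 : (q : F) = 0)
    (M : Matrix (Fin 4) (Fin 4) F) (hM : M ^ (q ^ 2 + 1) = 1) (hM1 : M ≠ 1) :
    Irreducible (minpoly F M) ∧ (minpoly F M).natDegree = 4 := by
  have hint : IsIntegral F M := Matrix.isIntegral M
  have hmonic : (minpoly F M).Monic := minpoly.monic hint
  have hμ0 : minpoly F M ≠ 0 := hmonic.ne_zero
  have hdvdN : minpoly F M ∣ X ^ (q ^ 2 + 1) - 1 := by
    apply minpoly.dvd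
    simp [hM]
  have hdeg : (minpoly F M).natDegree ≤ 4 := by
    have h1 : minpoly F M ∣ M.charpoly := Matrix.minpoly_dvd_charpoly M
    have h3 := Polynomial.natDegree_le_of_dvd h1 (Matrix.charpoly_monic M).ne_zero
    rwa [Matrix.charpoly_natDegree_eq_dim, Fintype.card_fin] at h3
  have hsep : Squarefree (X ^ (q ^ 2 + 1) - 1 : F[X]) := by
    have h1 : (X ^ (q ^ 2 + 1) - 1 : F[X]) = X ^ (q ^ 2 + 1) - C 1 := by simp
    rw [h1]
    apply Polynomial.Separable.squarefree
    apply Polynomial.separable_X_pow_sub_C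
    · push_cast
      rw [hq2]
      simp
    · exact one_ne_zero
  have hX : Irreducible (X - 1 : F[X]) := by
    have h1 := Polynomial.irreducible_X_sub_C (1 : F)
    simpa using h1
  have hsmall : ∀ π : F[X], Irreducible π → π ∣ minpoly F M → π.natDegree ≤ 3 →
      (X - 1 : F[X]) ∣ π := by
    intro π hπ hπμ hd
    have h1 := small_factor hq h2 hπ (hπμ.trans hdvdN) hd
    exact (hπ.associated_of_dvd hX h1).symm.dvd
  obtain ⟨π, hπ, hπμ⟩ := WfDvdMonoid.exists_irreducible_factor (minpoly.not_isUnit F M) hμ0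
  by_cases hd : π.natDegree ≤ 3
  · exfalso
    obtain ⟨ν, hν⟩ := (hsmall π hπ hπμ hd).trans hπμ
    have hν0 : ν ≠ 0 := by
      rintro rfl
      rw [mul_zero] at hν
      exact hμ0 hν
    have hX1 : (X - 1 : F[X]).natDegree = 1 := by
      have h1 := Polynomial.natDegree_X_sub_C (1 : F)
      simpa using h1
    have hdν : ν.natDegree + 1 = (minpoly F M).natDegree := by
      rw [hν, Polynomial.natDegree_mul hX.ne_zero hν0, hX1, add_comm]
    by_cases hu : IsUnit ν
    · apply hM1
      have h3 : aeval M (minpoly F M) = 0 := minpoly.aeval F M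
      rw [hν, map_mul] at h3
      have h4 : IsUnit (aeval M ν) := hu.map (aeval M)
      have h5 := h4.mul_left_eq_zero.mp h3
      simpa [sub_eq_zero] using h5
    · obtain ⟨π', hπ', hπ'ν⟩ := WfDvdMonoid.exists_irreducible_factor hu hν0
      have hd' : π'.natDegree ≤ 3 := by
        have h1 := Polynomial.natDegree_le_of_dvd hπ'ν hν0
        omega
      have h6 : (X - 1 : F[X]) ∣ ν :=
        (hsmall π' hπ' (hπ'ν.trans ⟨X - 1, by rw [hν, mul_comm]⟩) hd').trans hπ'ν
      have h7 : (X - 1 : F[X]) * (X - 1) ∣ X ^ (q ^ 2 + 1) - 1 := by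
        refine Dvd.dvd.trans ?_ hdvdN
        rw [hν]
        exact mul_dvd_mul_left _ h6
      exact hX.not_isUnit (hsep _ h7)
  · push Not at hd
    obtain ⟨c, hc⟩ := hπμ
    have hc0 : c ≠ 0 := by
      rintro rfl
      rw [mul_zero] at hc
      exact hμ0 hc
    have hdc : π.natDegree + c.natDegree = (minpoly F M).natDegree := by
      rw [hc, Polynomial.natDegree_mul hπ.ne_zero hc0]
    have hc1 : c.natDegree = 0 := by omega
    have hcu : IsUnit c := by
      rw [Polynomial.isUnit_iff]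
      obtain ⟨a, ha⟩ := Polynomial.natDegree_eq_zero.mp hc1
      refine ⟨a, ?_, ha⟩
      rw [isUnit_iff_ne_zero]
      rintro rfl
      rw [map_zero] at ha
      exact hc0 ha.symm
    refine ⟨?_, by omega⟩
    rw [hc]
    exact (irreducible_mul_isUnit hcu).mpr hπ

/-- if the minimal polynomial of `M` is irreducible of degree four, the matrices commuting
with `M` form (a subset of the image of) a field. -/
theorem centralizer_field (M : Matrix (Fin 4) (Fin 4) F) (hirr : Irreducible (minpoly F M))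
    (hdeg : (minpoly F M).natDegree = 4) :
    ∃ (K : Type u) (_ : Field K) (φ : K →+* Matrix (Fin 4) (Fin 4) F), Function.Injective φ ∧
      ∀ A, A * M = M * A → ∃ k, φ k = A := by
  have : Fact (Irreducible (minpoly F M)) := ⟨hirr⟩
  have hμ0 := hirr.ne_zero
  let φ : AdjoinRoot (minpoly F M) →ₐ[F] Matrix (Fin 4) (Fin 4) F :=
    Ideal.Quotient.liftₐ (Ideal.span {minpoly F M}) (aeval M) (by
      intro a ha
      obtain ⟨c, rfl⟩ := Ideal.mem_span_singleton.mp ha
      rw [map_mul, minpoly.aeval, zero_mul])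
  refine ⟨AdjoinRoot (minpoly F M), inferInstance, φ.toRingHom, φ.toRingHom.injective, ?_⟩
  intro A hA
  have : Module.Finite F (AdjoinRoot (minpoly F M)) := (AdjoinRoot.powerBasis hμ0).finite
  have hfr : Module.finrank F (AdjoinRoot (minpoly F M)) = 4 := by
    rw [(AdjoinRoot.powerBasis hμ0).finrank, AdjoinRoot.powerBasis_dim, hdeg]
  let v₀ : Fin 4 → F := Pi.single 0 1
  have hv₀ : v₀ ≠ 0 := by
    intro h
    have h1 := congrFun h 0
    simp [v₀] at h1
  let ψ : AdjoinRoot (minpoly F M) →ₗ[F] (Fin 4 → F) :=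
    { toFun := fun k => (φ k) *ᵥ v₀
      map_add' := by
        intro a b
        rw [map_add, Matrix.add_mulVec]
      map_smul' := by
        intro c a
        rw [map_smul, Matrix.smul_mulVec, RingHom.id_apply] }
  have hψinj : Function.Injective ψ := by
    rw [← LinearMap.ker_eq_bot, LinearMap.ker_eq_bot']
    intro k hk
    by_contra hk0
    apply hv₀
    have h1 : φ k⁻¹ * φ k = 1 := by rw [← map_mul, inv_mul_cancel₀ hk0, map_one]
    have h2 : (φ k⁻¹ * φ k) *ᵥ v₀ = 0 := by
      rw [← Matrix.mulVec_mulVec]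
      show φ k⁻¹ *ᵥ (ψ k) = 0
      rw [hk, Matrix.mulVec_zero]
    rw [h1, Matrix.one_mulVec] at h2
    exact h2
  have hψsurj : Function.Surjective ψ :=
    (LinearMap.injective_iff_surjective_of_finrank_eq_finrank
      (by rw [hfr, Module.finrank_fin_fun])).mp hψinj
  have hcomm : ∀ k, A * φ k = φ k * A := by
    intro k
    obtain ⟨p, rfl⟩ := AdjoinRoot.mk_surjective k
    have h1 : φ (AdjoinRoot.mk (minpoly F M) p) = aeval M p := rfl
    rw [h1]
    have h2 : aeval M p ∈ Subalgebra.centralizer F ({A} : Set (Matrix (Fin 4) (Fin 4) F)) := by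
      have h3 : Algebra.adjoin F {M} ≤
          Subalgebra.centralizer F ({A} : Set (Matrix (Fin 4) (Fin 4) F)) := by
        apply Algebra.adjoin_le
        rintro _ rfl
        rw [SetLike.mem_coe, Subalgebra.mem_centralizer_iff]
        rintro _ rfl
        exact hA
      exact h3 (Polynomial.aeval_mem_adjoin_singleton F M)
    rw [Subalgebra.mem_centralizer_iff] at h2
    exact h2 A rfl
  obtain ⟨k₀, hk₀⟩ := hψsurj (A *ᵥ v₀)
  refine ⟨k₀, ?_⟩
  apply Matrix.toLin'.injective
  apply LinearMap.ext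
  intro w
  obtain ⟨k, rfl⟩ := hψsurj w
  rw [Matrix.toLin'_apply, Matrix.toLin'_apply]
  show φ k₀ *ᵥ (φ k *ᵥ v₀) = A *ᵥ (φ k *ᵥ v₀)
  rw [Matrix.mulVec_mulVec, Matrix.mulVec_mulVec, hcomm k, ← Matrix.mulVec_mulVec _ (φ k) A,
    ← hk₀]
  show (φ k₀ * φ k) *ᵥ v₀ = φ k *ᵥ (φ k₀ *ᵥ v₀)
  rw [Matrix.mulVec_mulVec, ← map_mul, ← map_mul, mul_comm]

/-- matrices commuting with a non-identity matrix of order dividing `q^2+1` commute. -/
theorem comm_of_commute {q : ℕ} (hq : Fintype.card F = q) (h2 : (2 : F) = 0) (hq2 : (q : F) = 0)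
    (M : Matrix (Fin 4) (Fin 4) F) (hM : M ^ (q ^ 2 + 1) = 1) (hM1 : M ≠ 1)
    (A B : Matrix (Fin 4) (Fin 4) F) (hA : A * M = M * A) (hB : B * M = M * B) :
    A * B = B * A := by
  obtain ⟨hirr, hdeg⟩ := minpoly_irred hq h2 hq2 M hM hM1
  obtain ⟨K, _, φ, hφ, hK⟩ := centralizer_field M hirr hdeg
  obtain ⟨a, rfl⟩ := hK A hA
  obtain ⟨b, rfl⟩ := hK B hB
  rw [← map_mul, ← map_mul, mul_comm]

/-- a finite group of matrices commuting with a non-identity matrix of order dividing `q^2+1`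
is cyclic. -/
theorem cyclic_of_commute {q : ℕ} (hq : Fintype.card F = q) (h2 : (2 : F) = 0)
    (hq2 : (q : F) = 0) (M : Matrix (Fin 4) (Fin 4) F) (hM : M ^ (q ^ 2 + 1) = 1) (hM1 : M ≠ 1)
    {Γ : Type*} [Group Γ] [Finite Γ] (ι : Γ →* Matrix (Fin 4) (Fin 4) F)
    (hι : Function.Injective ι) (hc : ∀ γ, ι γ * M = M * ι γ) : IsCyclic Γ := by
  obtain ⟨hirr, hdeg⟩ := minpoly_irred hq h2 hq2 M hM hM1
  obtain ⟨K, _, φ, hφ, hK⟩ := centralizer_field M hirr hdeg
  choose f hf using fun γ => hK (ι γ) (hc γ)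
  let f' : Γ →* K :=
    { toFun := f
      map_one' := hφ (by rw [hf, map_one, map_one])
      map_mul' := fun a b => hφ (by rw [hf, map_mul, map_mul, hf, hf]) }
  apply isCyclic_of_injective_ringHom f'
  intro a b hab
  apply hι
  rw [← hf a, ← hf b]
  exact congrArg φ hab

end Cfsg.Agent.Lib.Helper3.Sz8
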