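import Mathlib
import Cfsg.Prelude.Def_LieExceptional
import Cfsg.Agent.Lib.Helper3.Sz6
import Cfsg.Agent.Lib.Helper3.Sz8

set_option autoImplicit false

namespace Cfsg.Agent.Lib.Helper3.Sz7

open Matrix MulAction Cfsg.Agent.Lib.Helper3.Sz1 Cfsg.Agent.Lib.Helper3.Sz2
open Cfsg.Agent.Lib.Helper3.Sz3 Cfsg.Agent.Lib.Helper3.Sz4 Cfsg.Agent.Lib.Helper3.Sz5
open Cfsg.Agent.Lib.Helper3.Sz6

variable {F : Type*} [Field F]

theorem pow_s2_eq_one {s : ℕ} (hs : Hyp F s) {k : F} (h : k ^ (s + 2) = 1) : k = 1 := by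
  have h6 : (k ^ (s + 1)) ^ 2 = 1 := by
    have h7 := congrArg (fun z => z ^ s) h
    simp only [one_pow] at h7
    rw [← h7]
    simp only [pow_add, mul_pow, hs.sq]
    ring
  have h7 : k ^ (s + 1) = 1 := sq_eq_one_char2 hs.two h6
  have h8 : k ^ (s + 2) = k ^ (s + 1) * k := pow_succ _ _
  rw [h7, one_mul] at h8
  rw [← h8, h]

/-- action of the diagonal element on affine points. -/
theorem D_pt {s : ℕ} (hs : Hyp F s) (k : Fˣ) (x y : F) :
    D s k • pt s x y = pt s ((k : F) ^ s * x) ((k : F) ^ (s + 2) * y) := by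
  refine smul_mk_eq _ _ _ (((k⁻¹ : Fˣ) : F) ^ (s + 1)) ?_
  show Dm s k *ᵥ vP s x y = _
  rw [Dm_mulVec]
  have hbc : (k : F) * ((k⁻¹ : Fˣ) : F) = 1 := by simp
  have hBC : (k : F) ^ s * ((k⁻¹ : Fˣ) : F) ^ s = 1 := by rw [← mul_pow, hbc, one_pow]
  generalize (k : F) = b at hbc hBC ⊢
  generalize ((k⁻¹ : Fˣ) : F) = c at hbc hBC ⊢
  funext i
  fin_cases i
  · show b ^ (s + 1) * fq s x y = c ^ (s + 1) * fq s (b ^ s * x) (b ^ (s + 2) * y)
    simp only [fq, pow_add, mul_pow, hs.sq, pow_one]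
    linear_combination (-(b ^ s * b * (x * y + x ^ s * x ^ 2 + y ^ s)) * (b * c)) * hBC +
      (-(b ^ s * b * (x * y + x ^ s * x ^ 2 + y ^ s))) * hbc
  · show b * y = c ^ (s + 1) * (b ^ (s + 2) * y)
    simp only [pow_add, pow_one]
    linear_combination (-(b * y) * (b * c)) * hBC + (-(b * y)) * hbc
  · show c * x = c ^ (s + 1) * (b ^ s * x)
    simp only [pow_add, pow_one]
    linear_combination (-(c * x)) * hBC
  · show c ^ (s + 1) * 1 = c ^ (s + 1) * 1
    rfl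

theorem W_D {s : ℕ} (hs : Hyp F s) (k : Fˣ) : W hs * D s k = D s k⁻¹ * W hs := by
  apply Subtype.ext
  show Jm * Dm s k = Dm s k⁻¹ * Jm
  ext i j
  rw [Dm, Dm, Matrix.mul_diagonal, Matrix.diagonal_mul]
  fin_cases i <;> fin_cases j <;> simp [Jm]

theorem W_sq {s : ℕ} (hs : Hyp F s) : W hs * W hs = 1 := Subtype.ext Jm_sq

section fin

variable [Fintype F] {m : ℕ}

theorem D_T (hm : 1 ≤ m) (hF : Fintype.card F = 2 ^ (2 * m + 1)) (k : Fˣ) (a b : F) :
    D (2 ^ (m + 1)) k * T (2 ^ (m + 1)) a b =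
      T (2 ^ (m + 1)) ((k : F) ^ (2 ^ (m + 1)) * a) ((k : F) ^ (2 ^ (m + 1) + 2) * b) *
        D (2 ^ (m + 1)) k := by
  have hs := hyp_of_card hm hF
  apply eq_of_smul_eq hm hF (mul_mem (D_mem hm hF k) (T_mem hm hF a b))
    (mul_mem (T_mem hm hF _ _) (D_mem hm hF k))
  intro p hp
  rcases ovoid_cases hp with rfl | ⟨x, y, rfl⟩
  · rw [mul_smul, mul_smul, T_pInf, D_pInf, T_pInf]
  · rw [mul_smul, mul_smul, T_pt hs, D_pt hs, D_pt hs, T_pt hs]
    generalize 2 ^ (m + 1) = s at hs ⊢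
    congr 1
    · ring
    · simp only [pow_add, mul_pow, hs.sq]
      ring

/-- every non-identity element is conjugate to a diagonal element, or to a translation, or has
no fixed point on the ovoid. -/
theorem trichotomy (hm : 1 ≤ m) (hF : Fintype.card F = 2 ^ (2 * m + 1))
    {g : Matrix.SpecialLinearGroup (Fin 4) F} (hg : g ∈ Cfsg.Sz F m) (hg1 : g ≠ 1) :
    (∃ x ∈ Cfsg.Sz F m, ∃ k : Fˣ, k ≠ 1 ∧ x * g * x⁻¹ = D (2 ^ (m + 1)) k) ∨
    (∃ x ∈ Cfsg.Sz F m, ∃ a b : F, ¬ (a = 0 ∧ b = 0) ∧ x * g * x⁻¹ = T (2 ^ (m + 1)) a b) ∨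
    (∀ p ∈ Cfsg.suzukiOvoid F m, g • p ≠ p) := by
  have hs := hyp_of_card hm hF
  by_cases h2 : ∃ p ∈ Cfsg.suzukiOvoid F m, ∃ p' ∈ Cfsg.suzukiOvoid F m,
      p ≠ p' ∧ g • p = p ∧ g • p' = p'
  · left
    obtain ⟨p, hp, p', hp', hne, e, e'⟩ := h2
    obtain ⟨x, hx, e0, e1⟩ := two_trans hm hF hp hp' hne
    have hg' : x * g * x⁻¹ ∈ Cfsg.Sz F m := mul_mem (mul_mem hx hg) (inv_mem hx)
    obtain ⟨k, hk⟩ := stab_two hm hF hg'
      (by rw [← e0, mul_smul, mul_smul, inv_smul_smul, e])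
      (by rw [← e1, mul_smul, mul_smul, inv_smul_smul, e'])
    refine ⟨x, hx, k, ?_, hk⟩
    rintro rfl
    rw [D_one] at hk
    exact hg1 (conj_eq_one_iff.mp hk)
  · by_cases h1 : ∃ p ∈ Cfsg.suzukiOvoid F m, g • p = p
    · right
      left
      obtain ⟨p, hp, e⟩ := h1
      obtain ⟨x, hx, hxp⟩ := move_to_inf hm hF hp
      have hg' : x * g * x⁻¹ ∈ Cfsg.Sz F m := mul_mem (mul_mem hx hg) (inv_mem hx)
      have f0 : (x * g * x⁻¹) • Cfsg.suzukiPointInfinity F = Cfsg.suzukiPointInfinity F := by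
        rw [← hxp, mul_smul, mul_smul, inv_smul_smul, e]
      obtain ⟨a, b, k, hk⟩ := stab_one hm hF hg' f0
      have hk1 : k = 1 := by
        by_contra hk1
        apply h2
        have hks : (1 : F) - (k : F) ^ (2 ^ (m + 1)) ≠ 0 := fun h =>
          hk1 (Units.ext (pow_s_eq_one hs (sub_eq_zero.mp h).symm))
        have hks2 : (1 : F) - (k : F) ^ (2 ^ (m + 1) + 2) ≠ 0 := fun h =>
          hk1 (Units.ext (pow_s2_eq_one hs (sub_eq_zero.mp h).symm))
        obtain ⟨x0, hx0⟩ : ∃ x0 : F, (k : F) ^ (2 ^ (m + 1)) * x0 + a = x0 :=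
          ⟨a / (1 - (k : F) ^ (2 ^ (m + 1))), by field_simp; ring⟩
        obtain ⟨y0, hy0⟩ : ∃ y0 : F, (k : F) ^ (2 ^ (m + 1) + 2) * y0 + b +
            a ^ (2 ^ (m + 1)) * ((k : F) ^ (2 ^ (m + 1)) * x0) = y0 :=
          ⟨(b + a ^ (2 ^ (m + 1)) * ((k : F) ^ (2 ^ (m + 1)) * x0)) /
            (1 - (k : F) ^ (2 ^ (m + 1) + 2)), by field_simp; ring⟩
        have hfix2 : (x * g * x⁻¹) • pt (2 ^ (m + 1)) x0 y0 = pt (2 ^ (m + 1)) x0 y0 := by
          rw [hk, mul_smul, D_pt hs, T_pt hs, hx0, hy0]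
        refine ⟨p, hp, x⁻¹ • pt (2 ^ (m + 1)) x0 y0,
          smul_mem_ovoid (inv_mem hx) (pt_mem m x0 y0), ?_, e, ?_⟩
        · intro h
          rw [h, smul_inv_smul] at hxp
          exact pt_ne_inf _ _ _ hxp
        · have h9 : g = x⁻¹ * (x * g * x⁻¹) * x := by group
          rw [h9, mul_smul, mul_smul, smul_inv_smul, hfix2]
      refine ⟨x, hx, a, b, ?_, ?_⟩
      · rintro ⟨rfl, rfl⟩
        rw [hk1, D_one, mul_one, T_zero hm hF] at hk
        exact hg1 (conj_eq_one_iff.mp hk)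
      · rw [hk, hk1, D_one, mul_one]
    · right
      right
      push Not at h1
      exact h1

/-- the centraliser of a non-identity diagonal element. -/
theorem cent_D (hm : 1 ≤ m) (hF : Fintype.card F = 2 ^ (2 * m + 1)) {k : Fˣ} (hk : k ≠ 1)
    {h : Matrix.SpecialLinearGroup (Fin 4) F} (hh : h ∈ Cfsg.Sz F m)
    (hc : h * D (2 ^ (m + 1)) k = D (2 ^ (m + 1)) k * h) : ∃ k' : Fˣ, h = D (2 ^ (m + 1)) k' := by
  have hs := hyp_of_card hm hF
  have hfixD : ∀ p ∈ Cfsg.suzukiOvoid F m, D (2 ^ (m + 1)) k • p = p →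
      p = Cfsg.suzukiPointInfinity F ∨ p = Cfsg.suzukiPointZero F := by
    intro p hp e
    rcases ovoid_cases hp with rfl | ⟨x, y, rfl⟩
    · exact Or.inl rfl
    · right
      by_contra hne
      have hxy : ¬ (x = 0 ∧ y = 0) := by
        rintro ⟨rfl, rfl⟩
        exact hne (pt_zero hs)
      exact hk (D_fix_pt hs k x y hxy e)
  have hperm : ∀ p : Projectivization F (Fin 4 → F), D (2 ^ (m + 1)) k • p = p → D (2 ^ (m + 1)) k • (h • p) = h • p := by
    intro p e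
    rw [← mul_smul, ← hc, mul_smul, e]
  have h1 := hfixD _ (smul_mem_ovoid hh (pInf_mem m)) (hperm _ (D_pInf _ k))
  have h2 := hfixD _ (smul_mem_ovoid hh (pZero_mem hm hF)) (hperm _ (D_pZero _ k))
  rcases h1 with h1 | h1
  · rcases h2 with h2 | h2
    · exact absurd (smul_left_cancel h (h2.trans h1.symm)) pZero_ne_inf
    · exact stab_two hm hF hh h1 h2
  · rcases h2 with h2 | h2
    · exfalso
      have hW : W hs * h ∈ Cfsg.Sz F m := mul_mem (W_mem hm hF) hh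
      obtain ⟨k', hk'⟩ := stab_two hm hF hW (by rw [mul_smul, h1, W_pZero hs])
        (by rw [mul_smul, h2, W_pInf hs])
      have h3 : h = W hs * D (2 ^ (m + 1)) k' := by
        rw [← hk', ← mul_assoc, W_sq hs, one_mul]
      have h4 : W hs * D (2 ^ (m + 1)) k⁻¹ = D (2 ^ (m + 1)) k * W hs := by
        rw [W_D hs, inv_inv]
      rw [h3, mul_assoc, ← mul_assoc (D (2 ^ (m + 1)) k), ← h4, mul_assoc] at hc
      have h5 := mul_left_cancel hc
      rw [← D_mul, ← D_mul] at h5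
      have h6 := D_inj h5
      have h9 : k = k⁻¹ := mul_left_cancel (h6.trans (mul_comm _ _))
      have h7 : k * k = 1 := by
        have h10 : k * k⁻¹ = 1 := mul_inv_cancel k
        rwa [← h9] at h10
      apply hk
      apply Units.ext
      apply sq_eq_one_char2 hs.two
      rw [sq, ← Units.val_mul, h7, Units.val_one]
    · exact absurd (smul_left_cancel h (h2.trans h1.symm)) pZero_ne_inf

/-- the centraliser of a non-identity translation. -/
theorem cent_T (hm : 1 ≤ m) (hF : Fintype.card F = 2 ^ (2 * m + 1)) {a b : F}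
    (hab : ¬ (a = 0 ∧ b = 0)) {h : Matrix.SpecialLinearGroup (Fin 4) F} (hh : h ∈ Cfsg.Sz F m)
    (hc : h * T (2 ^ (m + 1)) a b = T (2 ^ (m + 1)) a b * h) :
    ∃ c d : F, h = T (2 ^ (m + 1)) c d := by
  have hs := hyp_of_card hm hF
  have hfixT : ∀ p ∈ Cfsg.suzukiOvoid F m, T (2 ^ (m + 1)) a b • p = p →
      p = Cfsg.suzukiPointInfinity F := by
    intro p hp e
    rcases ovoid_cases hp with rfl | ⟨x, y, rfl⟩
    · rfl
    · exfalso
      rw [T_pt hs] at e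
      obtain ⟨e1, e2⟩ := pt_inj e
      have ha : a = 0 := by linear_combination e1
      rw [ha, pow_s_zero hs, zero_mul, add_zero] at e2
      exact hab ⟨ha, by linear_combination e2⟩
  have h1 : h • Cfsg.suzukiPointInfinity F = Cfsg.suzukiPointInfinity F := by
    apply hfixT _ (smul_mem_ovoid hh (pInf_mem m))
    rw [← mul_smul, ← hc, mul_smul, T_pInf]
  obtain ⟨c, d, k, rfl⟩ := stab_one hm hF hh h1
  have hk1 : k = 1 := by
    rw [mul_assoc, D_T hm hF, ← mul_assoc, ← mul_assoc, T_mul hm hF, T_mul hm hF] at hc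
    obtain ⟨e1, e2, -⟩ := TD_inj hc
    by_cases ha : a = 0
    · have hb : b ≠ 0 := fun hb => hab ⟨ha, hb⟩
      rw [ha, pow_s_zero hs] at e2
      have e3 : (k : F) ^ (2 ^ (m + 1) + 2) * b = 1 * b := by linear_combination e2
      exact Units.ext (pow_s2_eq_one hs (mul_right_cancel₀ hb e3))
    · have e3 : (k : F) ^ (2 ^ (m + 1)) * a = 1 * a := by linear_combination e1
      exact Units.ext (pow_s_eq_one hs (mul_right_cancel₀ ha e3))
  exact ⟨c, d, by rw [hk1, D_one, mul_one]⟩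

end fin

end Cfsg.Agent.Lib.Helper3.Sz7
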