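import Mathlib
import Cfsg.Prelude.Def_LieExceptional
import Cfsg.Agent.Lib.Helper3.Sz7

set_option autoImplicit false

namespace Cfsg.Agent.Lib.Helper3.Sz9

open Matrix MulAction Cfsg.Agent.Lib.Helper3.Sz1 Cfsg.Agent.Lib.Helper3.Sz2
open Cfsg.Agent.Lib.Helper3.Sz3 Cfsg.Agent.Lib.Helper3.Sz4 Cfsg.Agent.Lib.Helper3.Sz5
open Cfsg.Agent.Lib.Helper3.Sz6 Cfsg.Agent.Lib.Helper3.Sz7 Cfsg.Agent.Lib.Helper3.Sz8

/-- a group acting freely on a finite set has order dividing the size of the set. -/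
theorem card_dvd_of_free {Z X : Type*} [Group Z] [MulAction Z X] [Finite Z] [Finite X]
    (h : ∀ a : Z, a ≠ 1 → ∀ x : X, a • x ≠ x) : Nat.card Z ∣ Nat.card X := by
  classical
  have := Fintype.ofFinite Z
  have := Fintype.ofFinite X
  have hB := MulAction.sum_card_fixedBy_eq_card_orbits_mul_card_group Z X
  have h1 : ∑ a : Z, Fintype.card (MulAction.fixedBy X a) = Fintype.card X := by
    rw [Finset.sum_eq_single (1 : Z)]
    · apply Fintype.card_congr
      exact (Equiv.subtypeUnivEquiv (fun x => by simp))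
    · intro a _ ha
      rw [Fintype.card_eq_zero_iff]
      exact ⟨fun x => h a ha x.1 x.2⟩
    · intro h
      exact absurd (Finset.mem_univ _) h
  rw [Nat.card_eq_fintype_card, Nat.card_eq_fintype_card, ← h1, hB]
  exact dvd_mul_left _ _

theorem nilp_of_comm {H : Type*} [Group H] (h : ∀ a b : H, a * b = b * a) :
    Group.IsNilpotent H := by
  let inst : CommGroup H := { (inferInstance : Group H) with mul_comm := h }
  exact @CommGroup.isNilpotent H inst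

theorem pow_four_eq {G : Type*} [Group G] (t : G) : t ^ 4 = t * t * (t * t) := by
  rw [show 4 = 2 + 2 from rfl, pow_add, sq]

variable {F : Type*} [Field F] [Fintype F] {m : ℕ}

theorem T_pow4 (hm : 1 ≤ m) (hF : Fintype.card F = 2 ^ (2 * m + 1)) (a b : F) :
    T (2 ^ (m + 1)) a b ^ 4 = 1 := by
  have hs := hyp_of_card hm hF
  have h2 : T (2 ^ (m + 1)) a b * T (2 ^ (m + 1)) a b =
      T (2 ^ (m + 1)) 0 (a ^ (2 ^ (m + 1)) * a) := by
    rw [T_mul hm hF]
    congr 1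
    · linear_combination a * hs.two
    · linear_combination b * hs.two
  have h3 : ∀ e : F, T (2 ^ (m + 1)) 0 e * T (2 ^ (m + 1)) 0 e = 1 := by
    intro e
    rw [T_mul hm hF, ← T_zero hm hF, pow_s_zero hs]
    congr 1
    · ring
    · linear_combination e * hs.two
  rw [pow_four_eq, h2, h3]

/-- non-identity powers of a fixed-point-free element are fixed-point-free. -/
theorem fpf_pow (hm : 1 ≤ m) (hF : Fintype.card F = 2 ^ (2 * m + 1))
    {g : Matrix.SpecialLinearGroup (Fin 4) F} (hg : g ∈ Cfsg.Sz F m)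
    (hfpf : ∀ p ∈ Cfsg.suzukiOvoid F m, g • p ≠ p) (j : ℕ) (hj : g ^ j ≠ 1) :
    ∀ p ∈ Cfsg.suzukiOvoid F m, g ^ j • p ≠ p := by
  have h9 : ∀ x : Matrix.SpecialLinearGroup (Fin 4) F, g = x⁻¹ * (x * g * x⁻¹) * x := by
    intro x
    group
  rcases trichotomy hm hF (pow_mem hg j) hj with ⟨x, hx, k, hk1, hk⟩ | ⟨x, hx, a, b, hab, hk⟩ | h
  · exfalso
    have hg' : x * g * x⁻¹ ∈ Cfsg.Sz F m := mul_mem (mul_mem hx hg) (inv_mem hx)
    have hc : (x * g * x⁻¹) * D (2 ^ (m + 1)) k = D (2 ^ (m + 1)) k * (x * g * x⁻¹) := by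
      rw [← hk]
      group
    obtain ⟨k', hk'⟩ := cent_D hm hF hk1 hg' hc
    apply hfpf (x⁻¹ • Cfsg.suzukiPointInfinity F) (smul_mem_ovoid (inv_mem hx) (pInf_mem m))
    rw [h9 x, mul_smul, mul_smul, smul_inv_smul, hk', D_pInf]
  · exfalso
    have hg' : x * g * x⁻¹ ∈ Cfsg.Sz F m := mul_mem (mul_mem hx hg) (inv_mem hx)
    have hc : (x * g * x⁻¹) * T (2 ^ (m + 1)) a b = T (2 ^ (m + 1)) a b * (x * g * x⁻¹) := by
      rw [← hk]
      group
    obtain ⟨c, d, hk'⟩ := cent_T hm hF hab hg' hc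
    apply hfpf (x⁻¹ • Cfsg.suzukiPointInfinity F) (smul_mem_ovoid (inv_mem hx) (pInf_mem m))
    rw [h9 x, mul_smul, mul_smul, smul_inv_smul, hk', T_pInf]
  · exact h

theorem finite_SL : Finite (Matrix.SpecialLinearGroup (Fin 4) F) :=
  Finite.of_injective (fun g => g.1) Subtype.val_injective

/-- a fixed-point-free element has order dividing `q^2+1`. -/
theorem fpf_order (hm : 1 ≤ m) (hF : Fintype.card F = 2 ^ (2 * m + 1))
    {g : Matrix.SpecialLinearGroup (Fin 4) F} (hg : g ∈ Cfsg.Sz F m)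
    (hfpf : ∀ p ∈ Cfsg.suzukiOvoid F m, g • p ≠ p) :
    g ^ ((2 ^ (2 * m + 1)) ^ 2 + 1) = 1 := by
  have hfin : Finite (Matrix.SpecialLinearGroup (Fin 4) F) := finite_SL
  have hfree : ∀ a : ↥(Subgroup.zpowers (⟨g, hg⟩ : ↥(Cfsg.Sz F m))), a ≠ 1 →
      ∀ x : ↥(Cfsg.suzukiOvoid F m), a • x ≠ x := by
    rintro ⟨a, ha⟩ ha1 x hx
    obtain ⟨j, rfl⟩ := (Submonoid.mem_powers_iff _ _).mp (mem_powers_iff_mem_zpowers.mpr ha)
    have h1 : g ^ j ≠ 1 := fun h => ha1 (Subtype.ext (Subtype.ext h))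
    exact fpf_pow hm hF hg hfpf j h1 x.1 x.2 (congrArg Subtype.val hx)
  have hdvd := card_dvd_of_free hfree
  rw [Nat.card_zpowers, Nat.card_coe_set_eq, card_ovoid hF] at hdvd
  have h2 : (⟨g, hg⟩ : ↥(Cfsg.Sz F m)) ^ ((2 ^ (2 * m + 1)) ^ 2 + 1) = 1 :=
    orderOf_dvd_iff_pow_eq_one.mp hdvd
  exact congrArg Subtype.val h2

theorem cast_q (hm : 1 ≤ m) (hF : Fintype.card F = 2 ^ (2 * m + 1)) :
    ((2 ^ (2 * m + 1) : ℕ) : F) = 0 := by
  have hs := hyp_of_card hm hF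
  push_cast
  rw [hs.two]
  simp

theorem fpf_mat (hm : 1 ≤ m) (hF : Fintype.card F = 2 ^ (2 * m + 1))
    {g : Matrix.SpecialLinearGroup (Fin 4) F} (hg : g ∈ Cfsg.Sz F m)
    (hfpf : ∀ p ∈ Cfsg.suzukiOvoid F m, g • p ≠ p) :
    (g.1 : Matrix (Fin 4) (Fin 4) F) ^ ((2 ^ (2 * m + 1)) ^ 2 + 1) = 1 := by
  have h1 := congrArg Subtype.val (fpf_order hm hF hg hfpf)
  simpa using h1

/-- elements commuting with a fixed-point-free element commute. -/
theorem fpf_comm (hm : 1 ≤ m) (hF : Fintype.card F = 2 ^ (2 * m + 1))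
    {g : Matrix.SpecialLinearGroup (Fin 4) F} (hg : g ∈ Cfsg.Sz F m) (hg1 : g ≠ 1)
    (hfpf : ∀ p ∈ Cfsg.suzukiOvoid F m, g • p ≠ p)
    {h h' : Matrix.SpecialLinearGroup (Fin 4) F} (e : h * g = g * h) (e' : h' * g = g * h') :
    h * h' = h' * h := by
  have hs := hyp_of_card hm hF
  apply Subtype.ext
  exact comm_of_commute (q := 2 ^ (2 * m + 1)) hF hs.two (cast_q hm hF) g.1
    (fpf_mat hm hF hg hfpf) (fun h1 => hg1 (Subtype.ext h1)) h.1 h'.1
    (congrArg Subtype.val e) (congrArg Subtype.val e')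

/-- `S0332`. -/
theorem cn (hm : 1 ≤ m) (hF : Fintype.card F = 2 ^ (2 * m + 1)) :
    Cfsg.IsCNGroup (Cfsg.Sz F m) := by
  have hs := hyp_of_card hm hF
  have hfin : Finite (Matrix.SpecialLinearGroup (Fin 4) F) := finite_SL
  intro g hg1
  have hg1' : g.1 ≠ 1 := fun h => hg1 (Subtype.ext h)
  have hcent : ∀ c : ↥(Subgroup.centralizer ({g} : Set ↥(Cfsg.Sz F m))),
      c.1.1 * g.1 = g.1 * c.1.1 := by
    intro c
    have h1 := (Subgroup.mem_centralizer_iff.mp c.2) g rfl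
    exact (congrArg Subtype.val h1).symm
  have hconj : ∀ (x : Matrix.SpecialLinearGroup (Fin 4) F)
      (c : ↥(Subgroup.centralizer ({g} : Set ↥(Cfsg.Sz F m)))),
      x * c.1.1 * x⁻¹ * (x * g.1 * x⁻¹) = x * g.1 * x⁻¹ * (x * c.1.1 * x⁻¹) := by
    intro x c
    calc x * c.1.1 * x⁻¹ * (x * g.1 * x⁻¹) = x * (c.1.1 * g.1) * x⁻¹ := by group
      _ = x * (g.1 * c.1.1) * x⁻¹ := by rw [hcent c]
      _ = x * g.1 * x⁻¹ * (x * c.1.1 * x⁻¹) := by group
  rcases trichotomy hm hF g.2 hg1' with ⟨x, hx, k, hk1, hk⟩ | ⟨x, hx, a, b, hab, hk⟩ | hfpf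
  · have h1 : ∀ c : ↥(Subgroup.centralizer ({g} : Set ↥(Cfsg.Sz F m))),
        ∃ k' : Fˣ, x * c.1.1 * x⁻¹ = D (2 ^ (m + 1)) k' := by
      intro c
      apply cent_D hm hF hk1 (mul_mem (mul_mem hx c.1.2) (inv_mem hx))
      rw [← hk]
      exact hconj x c
    apply nilp_of_comm
    intro c c'
    obtain ⟨k1, e1⟩ := h1 c
    obtain ⟨k2, e2⟩ := h1 c'
    apply Subtype.ext
    apply Subtype.ext
    show c.1.1 * c'.1.1 = c'.1.1 * c.1.1
    have f1 : c.1.1 = x⁻¹ * D (2 ^ (m + 1)) k1 * x := by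
      rw [← e1]
      group
    have f2 : c'.1.1 = x⁻¹ * D (2 ^ (m + 1)) k2 * x := by
      rw [← e2]
      group
    rw [f1, f2]
    calc x⁻¹ * D (2 ^ (m + 1)) k1 * x * (x⁻¹ * D (2 ^ (m + 1)) k2 * x)
        = x⁻¹ * (D (2 ^ (m + 1)) k1 * D (2 ^ (m + 1)) k2) * x := by group
      _ = x⁻¹ * (D (2 ^ (m + 1)) k2 * D (2 ^ (m + 1)) k1) * x := by
        rw [← D_mul, ← D_mul, mul_comm]
      _ = x⁻¹ * D (2 ^ (m + 1)) k2 * x * (x⁻¹ * D (2 ^ (m + 1)) k1 * x) := by group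
  · have h4 : ∀ c : ↥(Subgroup.centralizer ({g} : Set ↥(Cfsg.Sz F m))), c ^ 4 = 1 := by
      intro c
      obtain ⟨c0, d0, e⟩ := cent_T hm hF hab (mul_mem (mul_mem hx c.1.2) (inv_mem hx))
        (by rw [← hk]; exact hconj x c)
      have h5 : (x * c.1.1 * x⁻¹) ^ 4 = 1 := by rw [e, T_pow4 hm hF]
      rw [conj_pow, conj_eq_one_iff] at h5
      apply Subtype.ext
      apply Subtype.ext
      exact h5
    have hp : IsPGroup 2 ↥(Subgroup.centralizer ({g} : Set ↥(Cfsg.Sz F m))) :=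
      fun c => ⟨2, h4 c⟩
    exact hp.isNilpotent
  · apply nilp_of_comm
    intro c c'
    apply Subtype.ext
    apply Subtype.ext
    exact fpf_comm hm hF g.2 hg1' hfpf (hcent c) (hcent c')

/-- `S0331`. -/
theorem sylow_cyclic (hm : 1 ≤ m) (hF : Fintype.card F = 2 ^ (2 * m + 1)) {p : ℕ}
    [hpf : Fact p.Prime] (hp : p ≠ 2) (P : Sylow p (Cfsg.Sz F m)) : IsCyclic P := by
  have hs := hyp_of_card hm hF
  have hfin : Finite (Matrix.SpecialLinearGroup (Fin 4) F) := finite_SL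
  by_cases htriv : (P : Subgroup ↥(Cfsg.Sz F m)) = ⊥
  · have hsub : Subsingleton ↥(P : Subgroup ↥(Cfsg.Sz F m)) := by
      rw [htriv]
      infer_instance
    exact isCyclic_of_subsingleton
  · have hPp : IsPGroup p ↥(P : Subgroup ↥(Cfsg.Sz F m)) := P.isPGroup'
    have hnt : Nontrivial ↥(P : Subgroup ↥(Cfsg.Sz F m)) :=
      (Subgroup.nontrivial_iff_ne_bot _).mpr htriv
    obtain ⟨z, hz, hz1⟩ : ∃ z : ↥(P : Subgroup ↥(Cfsg.Sz F m)),
        z ∈ Subgroup.center ↥(P : Subgroup ↥(Cfsg.Sz F m)) ∧ z ≠ 1 := by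
      have hcn := hPp.center_nontrivial
      obtain ⟨z, hz⟩ := exists_ne (1 : Subgroup.center ↥(P : Subgroup ↥(Cfsg.Sz F m)))
      exact ⟨z.1, z.2, fun h => hz (Subtype.ext h)⟩
    have hzc : ∀ y : ↥(P : Subgroup ↥(Cfsg.Sz F m)), y.1.1 * z.1.1 = z.1.1 * y.1.1 := by
      intro y
      have h1 := (Subgroup.mem_center_iff.mp hz) y
      exact congrArg (fun w : ↥(P : Subgroup ↥(Cfsg.Sz F m)) => w.1.1) h1
    have hz1' : z.1.1 ≠ 1 := fun h => hz1 (Subtype.ext (Subtype.ext h))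
    obtain ⟨n, hn⟩ := hPp z
    have hconj : ∀ (x : Matrix.SpecialLinearGroup (Fin 4) F)
        (y : ↥(P : Subgroup ↥(Cfsg.Sz F m))),
        x * y.1.1 * x⁻¹ * (x * z.1.1 * x⁻¹) = x * z.1.1 * x⁻¹ * (x * y.1.1 * x⁻¹) := by
      intro x y
      calc x * y.1.1 * x⁻¹ * (x * z.1.1 * x⁻¹) = x * (y.1.1 * z.1.1) * x⁻¹ := by group
        _ = x * (z.1.1 * y.1.1) * x⁻¹ := by rw [hzc y]
        _ = x * z.1.1 * x⁻¹ * (x * y.1.1 * x⁻¹) := by group
    rcases trichotomy hm hF z.1.2 hz1' with ⟨x, hx, k, hk1, hk⟩ | ⟨x, hx, a, b, hab, hk⟩ | hfpf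
    · have h1 : ∀ y : ↥(P : Subgroup ↥(Cfsg.Sz F m)),
          ∃ k' : Fˣ, x * y.1.1 * x⁻¹ = D (2 ^ (m + 1)) k' := by
        intro y
        apply cent_D hm hF hk1 (mul_mem (mul_mem hx y.1.2) (inv_mem hx))
        rw [← hk]
        exact hconj x y
      choose f hf using h1
      let f' : ↥(P : Subgroup ↥(Cfsg.Sz F m)) →* F :=
        { toFun := fun y => (f y : F)
          map_one' := by
            have h2 := hf 1
            have h3 : x * (1 : ↥(P : Subgroup ↥(Cfsg.Sz F m))).1.1 * x⁻¹ = 1 := by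
              show x * 1 * x⁻¹ = 1
              group
            rw [h3, ← D_one (2 ^ (m + 1))] at h2
            rw [← D_inj h2]
            rfl
          map_mul' := by
            intro y y'
            have h2 := hf (y * y')
            have h3 : x * (y * y').1.1 * x⁻¹ = (x * y.1.1 * x⁻¹) * (x * y'.1.1 * x⁻¹) := by
              show x * (y.1.1 * y'.1.1) * x⁻¹ = _
              group
            rw [h3, hf y, hf y', ← D_mul] at h2
            rw [← Units.val_mul, D_inj h2] }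
      apply isCyclic_of_injective_ringHom f'
      intro y y' hyy
      have h2 : f y = f y' := Units.ext hyy
      have h3 : x * y.1.1 * x⁻¹ = x * y'.1.1 * x⁻¹ := by rw [hf y, hf y', h2]
      apply Subtype.ext
      apply Subtype.ext
      exact mul_left_cancel (mul_right_cancel h3)
    · exfalso
      have h5 : (x * z.1.1 * x⁻¹) ^ 4 = 1 := by rw [hk, T_pow4 hm hF]
      rw [conj_pow, conj_eq_one_iff] at h5
      have hzp : z.1.1 ^ (p ^ n) = 1 := congrArg (fun w : ↥(P : Subgroup ↥(Cfsg.Sz F m)) => w.1.1) hn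
      have hcop : Nat.Coprime 4 (p ^ n) := by
        apply Nat.Coprime.pow_right
        show Nat.Coprime (2 ^ 2) p
        exact Nat.Coprime.pow_left 2 ((Nat.coprime_primes Nat.prime_two hpf.out).mpr (Ne.symm hp))
      have h6 := pow_gcd_eq_one.mpr ⟨h5, hzp⟩
      rw [hcop, pow_one] at h6
      exact hz1' h6
    · let ι : ↥(P : Subgroup ↥(Cfsg.Sz F m)) →* Matrix (Fin 4) (Fin 4) F :=
        { toFun := fun y => y.1.1.1
          map_one' := rfl
          map_mul' := fun _ _ => rfl }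
      exact cyclic_of_commute (q := 2 ^ (2 * m + 1)) hF hs.two (cast_q hm hF) z.1.1.1
        (fpf_mat hm hF z.1.2 hfpf) (fun h1 => hz1' (Subtype.ext h1)) ι
        (fun y y' h => Subtype.ext (Subtype.ext (Subtype.ext h)))
        (fun y => congrArg Subtype.val (hzc y))

end Cfsg.Agent.Lib.Helper3.Sz9
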