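import Mathlib
import Cfsg.Prelude.Def_LieExceptional
import Cfsg.Agent.Lib.Helper3.Sz9
import Cfsg.Agent.Lib.Helper3.Zass

set_option autoImplicit false

namespace Cfsg.Agent.Lib.Helper3.Sz10

open Matrix Cfsg.Agent.Lib.Helper3.Sz1 Cfsg.Agent.Lib.Helper3.Sz2 Cfsg.Agent.Lib.Helper3.Sz3
  Cfsg.Agent.Lib.Helper3.Sz4 Cfsg.Agent.Lib.Helper3.Sz5 Cfsg.Agent.Lib.Helper3.Sz6
  Cfsg.Agent.Lib.Helper3.Sz7 Cfsg.Agent.Lib.Helper3.Sz9

variable {F : Type*} [Field F]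

/-- the algebraic core of "elements of order 4 are not real". -/
theorem alg {s : ℕ} (hs : Hyp F s) (a c : F) (E1 : c ^ s * a + a ^ s * a + a ^ s * c = 0) :
    a = 0 := by
  have hs0 : s ≠ 0 := by have := hs.pos; omega
  have E2 : c ^ 2 * a ^ s + a ^ 2 * a ^ s + a ^ 2 * c ^ s = 0 := by
    have h := congrArg (fun z => z ^ s) E1
    simp only [hs.add, mul_pow, hs.sq] at h
    rw [zero_pow hs0] at h
    exact h
  have E3 : a ^ s * c * (a + c) = 0 := by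
    linear_combination a * E1 + E2 - (c ^ s * a ^ 2 + a ^ s * a ^ 2) * hs.two
  rcases mul_eq_zero.mp E3 with h | h
  · rcases mul_eq_zero.mp h with h | h
    · exact pow_s_eq_zero hs h
    · subst h
      rw [zero_pow hs0, zero_mul, mul_zero, add_zero, zero_add] at E1
      rcases mul_eq_zero.mp E1 with h | h
      · exact pow_s_eq_zero hs h
      · exact h
  · have hc : c = a := by linear_combination h - a * hs.two
    subst hc
    have h3 : c ^ s * c = 0 := by linear_combination E1 - c ^ s * c * hs.two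
    rcases mul_eq_zero.mp h3 with h | h
    · exact pow_s_eq_zero hs h
    · exact h

variable [Fintype F] {m : ℕ}

/-- a non-trivial translation fixes only the point at infinity. -/
theorem T_fix (hm : 1 ≤ m) (hF : Fintype.card F = 2 ^ (2 * m + 1)) {a b : F}
    (hab : ¬ (a = 0 ∧ b = 0)) {p : Projectivization F (Fin 4 → F)}
    (hp : p ∈ Cfsg.suzukiOvoid F m) (h : T (2 ^ (m + 1)) a b • p = p) :
    p = Cfsg.suzukiPointInfinity F := by
  have hs := hyp_of_card hm hF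
  rcases ovoid_cases hp with rfl | ⟨x, y, rfl⟩
  · rfl
  · exfalso
    rw [T_pt hs] at h
    obtain ⟨h1, h2⟩ := pt_inj h
    have ha : a = 0 := by linear_combination h1
    subst ha
    apply hab
    refine ⟨rfl, ?_⟩
    rw [zero_pow (by have := hs.pos; omega), zero_mul, add_zero] at h2
    linear_combination h2

/-- if `x c x = c` for a non-trivial translation `x = T a b` then `a = 0`. -/
theorem real_aux (hm : 1 ≤ m) (hF : Fintype.card F = 2 ^ (2 * m + 1)) {a b : F}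
    (hab : ¬ (a = 0 ∧ b = 0)) {c : Matrix.SpecialLinearGroup (Fin 4) F} (hc : c ∈ Cfsg.Sz F m)
    (h : T (2 ^ (m + 1)) a b * c * T (2 ^ (m + 1)) a b = c) : a = 0 := by
  have hs := hyp_of_card hm hF
  have hfix : c • Cfsg.suzukiPointInfinity F = Cfsg.suzukiPointInfinity F := by
    apply T_fix hm hF hab (smul_mem_ovoid hc (pInf_mem m))
    have h1 := congrArg (fun g => g • Cfsg.suzukiPointInfinity F) h
    simp only [mul_smul, T_pInf] at h1
    exact h1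
  obtain ⟨c₁, c₂, k, rfl⟩ := stab_one hm hF hc hfix
  have h2 : T (2 ^ (m + 1)) a b * (T (2 ^ (m + 1)) c₁ c₂ * D (2 ^ (m + 1)) k) *
      T (2 ^ (m + 1)) a b =
      T (2 ^ (m + 1)) ((k : F) ^ (2 ^ (m + 1)) * a + c₁ + a)
        ((k : F) ^ (2 ^ (m + 1) + 2) * b + c₂ + c₁ ^ (2 ^ (m + 1)) * ((k : F) ^ (2 ^ (m + 1)) * a)
          + b + a ^ (2 ^ (m + 1)) * ((k : F) ^ (2 ^ (m + 1)) * a + c₁)) * D (2 ^ (m + 1)) k := by
    rw [mul_assoc, mul_assoc, D_T hm hF, ← mul_assoc (T (2 ^ (m + 1)) c₁ c₂), T_mul hm hF,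
      ← mul_assoc, T_mul hm hF]
  rw [h2] at h
  obtain ⟨e1, e2, -⟩ := TD_inj h
  generalize 2 ^ (m + 1) = s at hs e1 e2
  by_cases ha : a = 0
  · exact ha
  have hk : (k : F) ^ s = 1 := by
    have h3 : a * ((k : F) ^ s - 1) = 0 := by linear_combination e1 - a * hs.two
    rcases mul_eq_zero.mp h3 with h4 | h4
    · exact absurd h4 ha
    · exact sub_eq_zero.mp h4
  have hk1 : (k : F) = 1 := pow_s_eq_one hs hk
  rw [pow_add, hk, hk1] at e2
  apply alg hs a c₁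
  linear_combination e2 - b * hs.two

/-- simplicity (`S0325`). -/
theorem simple (hm : 1 ≤ m) (hF : Fintype.card F = 2 ^ (2 * m + 1)) :
    IsSimpleGroup (Cfsg.Sz F m) := by
  have hZ := Cfsg.Agent.Lib.Helper3.Sz5.zassenhaus hm hF
  let _ : Fintype ↥(Cfsg.suzukiOvoid F m) := Fintype.ofFinite _
  apply Cfsg.Agent.Lib.Helper3.Zass.simple_of_odd hZ
  rw [← Nat.card_eq_fintype_card, Nat.card_coe_set_eq, Cfsg.Agent.Lib.Helper3.Sz3.card_ovoid hF]
  exact ⟨2 ^ (2 * m + 1) * 2 ^ (2 * m), by ring⟩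

theorem card_U (hm : 1 ≤ m) (hF : Fintype.card F = 2 ^ (2 * m + 1)) :
    Nat.card (U hm hF) = (2 ^ (2 * m + 1)) ^ 2 := by
  have hb : Function.Bijective (fun p : F × F => (⟨u hm hF p.1 p.2, ⟨p.1, p.2, rfl⟩⟩ : ↥(U hm hF))) := by
    constructor
    · rintro ⟨a, b⟩ ⟨a', b'⟩ h
      have h1 := u_inj hm hF (congrArg Subtype.val h)
      exact Prod.ext h1.1 h1.2
    · rintro ⟨g, a, b, rfl⟩
      exact ⟨(a, b), rfl⟩
  rw [← Nat.card_congr (Equiv.ofBijective _ hb), Nat.card_prod, Nat.card_eq_fintype_card, hF, sq]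

/-- every Sylow 2-subgroup is a conjugate of `U`. -/
theorem sylow_conj (hm : 1 ≤ m) (hF : Fintype.card F = 2 ^ (2 * m + 1))
    (P : Sylow 2 ↥(Cfsg.Sz F m)) :
    ∃ γ : ↥(Cfsg.Sz F m), ∀ x, x ∈ (P : Subgroup ↥(Cfsg.Sz F m)) ↔ γ⁻¹ * x * γ ∈ U hm hF := by
  have hfin : Finite (Matrix.SpecialLinearGroup (Fin 4) F) := finite_SL
  have : Fact (Nat.Prime 2) := ⟨Nat.prime_two⟩
  have hcU : Nat.card (U hm hF) = 2 ^ (Nat.card ↥(Cfsg.Sz F m)).factorization 2 := by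
    rw [card_U hm hF, ← (sylow2 hm hF P).1, Sylow.card_eq_multiplicity]
  obtain ⟨γ, hγ⟩ := MulAction.exists_smul_eq ↥(Cfsg.Sz F m) (Sylow.ofCard (U hm hF) hcU) P
  refine ⟨γ, fun x => ?_⟩
  rw [← hγ, Sylow.coe_subgroup_smul, Subgroup.mem_pointwise_smul_iff_inv_smul_mem]
  rfl

/-- `S2241`: a non-identity 2-element of the Suzuki group is real iff it is an involution. -/
theorem real_iff (hm : 1 ≤ m) (hF : Fintype.card F = 2 ^ (2 * m + 1))
    (P : Sylow 2 ↥(Cfsg.Sz F m)) (g : ↥(Cfsg.Sz F m))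
    (hg : g ∈ (P : Subgroup ↥(Cfsg.Sz F m))) (h1 : g ≠ 1) :
    IsConj g g⁻¹ ↔ orderOf g = 2 := by
  have hs := hyp_of_card hm hF
  have : Fact (Nat.Prime 2) := ⟨Nat.prime_two⟩
  constructor
  · intro hconj
    obtain ⟨c, hc⟩ := isConj_iff.mp hconj
    obtain ⟨γ, hγ⟩ := sylow_conj hm hF P
    obtain ⟨a, b, hab⟩ := (hγ g).mp hg
    have hg' : g = γ * u hm hF a b * γ⁻¹ := by
      rw [← hab]
      group
    have hne : ¬ (a = 0 ∧ b = 0) := by
      rintro ⟨rfl, rfl⟩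
      rw [u_zero] at hg'
      apply h1
      rw [hg']
      group
    have h2 : u hm hF a b * (γ⁻¹ * c * γ) * u hm hF a b = γ⁻¹ * c * γ := by
      have h3 : g * c * g = c := by
        have h4 : c * g = g⁻¹ * c := by rw [← hc]; group
        rw [mul_assoc, h4, mul_inv_cancel_left]
      rw [hg'] at h3
      calc u hm hF a b * (γ⁻¹ * c * γ) * u hm hF a b
          = γ⁻¹ * (γ * u hm hF a b * γ⁻¹ * c * (γ * u hm hF a b * γ⁻¹)) * γ := by group
        _ = γ⁻¹ * c * γ := by rw [h3]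
    have h3 : T (2 ^ (m + 1)) a b * (γ⁻¹ * c * γ).1 * T (2 ^ (m + 1)) a b = (γ⁻¹ * c * γ).1 :=
      congrArg Subtype.val h2
    have ha : a = 0 := real_aux hm hF hne (γ⁻¹ * c * γ).2 h3
    subst ha
    have h4 : u hm hF 0 b * u hm hF 0 b = 1 := by
      rw [u_mul, ← u_zero hm hF]
      congr 1
      · rw [add_zero]
      · rw [mul_zero, add_zero]
        linear_combination b * hs.two
    apply orderOf_eq_prime _ h1
    rw [hg', sq]
    have h5 : γ * u hm hF 0 b * γ⁻¹ * (γ * u hm hF 0 b * γ⁻¹) =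
        γ * (u hm hF 0 b * u hm hF 0 b) * γ⁻¹ := by group
    rw [h5, h4]
    group
  · intro ho
    have h2 : g ^ 2 = 1 := by
      rw [← ho]
      exact pow_orderOf_eq_one g
    have h3 : g⁻¹ = g := inv_eq_of_mul_eq_one_left (by rw [← sq]; exact h2)
    rw [h3]

/-- elements fixing the point at infinity normalise `U`. -/
theorem norm_of_fix (hm : 1 ≤ m) (hF : Fintype.card F = 2 ^ (2 * m + 1))
    (n : ↥(Cfsg.Sz F m))
    (hn : n.1 • Cfsg.suzukiPointInfinity F = Cfsg.suzukiPointInfinity F) :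
    ∀ x ∈ U hm hF, n * x * n⁻¹ ∈ U hm hF := by
  have hs := hyp_of_card hm hF
  obtain ⟨c₁, c₂, k, hk⟩ := stab_one hm hF n.2 hn
  rintro _ ⟨a, b, rfl⟩
  refine ⟨(k : F) ^ (2 ^ (m + 1)) * a,
    (k : F) ^ (2 ^ (m + 1) + 2) * b + c₁ ^ (2 ^ (m + 1)) * ((k : F) ^ (2 ^ (m + 1)) * a) +
      ((k : F) ^ (2 ^ (m + 1)) * a) ^ (2 ^ (m + 1)) * c₁, ?_⟩
  rw [mul_inv_eq_iff_eq_mul]
  apply Subtype.ext
  show n.1 * T (2 ^ (m + 1)) a b = T (2 ^ (m + 1)) _ _ * n.1
  rw [hk, mul_assoc (T (2 ^ (m + 1)) c₁ c₂), D_T hm hF, ← mul_assoc (T (2 ^ (m + 1)) c₁ c₂),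
    T_mul hm hF, ← mul_assoc _ (T (2 ^ (m + 1)) c₁ c₂), T_mul hm hF]
  congr 2
  · ring
  · linear_combination (-(((k : F) ^ (2 ^ (m + 1)) * a) ^ (2 ^ (m + 1)) * c₁)) * hs.two

/-- a subgroup containing `U` and an element moving the point at infinity is everything. -/
theorem top_of_U_le (hm : 1 ≤ m) (hF : Fintype.card F = 2 ^ (2 * m + 1))
    (M : Subgroup ↥(Cfsg.Sz F m)) (hU : U hm hF ≤ M) (n₀ : ↥(Cfsg.Sz F m)) (hn₀ : n₀ ∈ M)
    (hmove : n₀.1 • Cfsg.suzukiPointInfinity F ≠ Cfsg.suzukiPointInfinity F) : M = ⊤ := by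
  have hs := hyp_of_card hm hF
  have hsimple := simple hm hF
  obtain ⟨x₁, y₁, h1⟩ : ∃ x₁ y₁, n₀.1 • Cfsg.suzukiPointInfinity F = pt (2 ^ (m + 1)) x₁ y₁ :=
    (ovoid_cases (smul_mem_ovoid n₀.2 (pInf_mem m))).resolve_left hmove
  have htrans : ∀ p ∈ Cfsg.suzukiOvoid F m, ∃ h ∈ M, h.1 • Cfsg.suzukiPointInfinity F = p := by
    intro p hp
    rcases ovoid_cases hp with rfl | ⟨x, y, rfl⟩
    · exact ⟨1, M.one_mem, one_smul _ _⟩
    · refine ⟨u hm hF (x - x₁) (y - y₁ - (x - x₁) ^ (2 ^ (m + 1)) * x₁) * n₀,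
        M.mul_mem (hU ⟨_, _, rfl⟩) hn₀, ?_⟩
      show (T (2 ^ (m + 1)) _ _ * n₀.1) • Cfsg.suzukiPointInfinity F = _
      rw [mul_smul, h1, T_pt hs]
      congr 1
      · ring
      · ring
  have hconj : ∀ g : ↥(Cfsg.Sz F m), ∀ x ∈ U hm hF, g * x * g⁻¹ ∈ M := by
    intro g x hx
    obtain ⟨h, hhM, hh⟩ := htrans _ (smul_mem_ovoid g.2 (pInf_mem m))
    have hb : (h⁻¹ * g).1 • Cfsg.suzukiPointInfinity F = Cfsg.suzukiPointInfinity F := by
      show (h.1⁻¹ * g.1) • Cfsg.suzukiPointInfinity F = _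
      rw [mul_smul, inv_smul_eq_iff, hh]
    have h2 := hU (norm_of_fix hm hF (h⁻¹ * g) hb x hx)
    have h3 : g * x * g⁻¹ = h * (h⁻¹ * g * x * (h⁻¹ * g)⁻¹) * h⁻¹ := by group
    rw [h3]
    exact M.mul_mem (M.mul_mem hhM h2) (M.inv_mem hhM)
  have hle : Subgroup.normalClosure ((U hm hF : Subgroup ↥(Cfsg.Sz F m)) : Set ↥(Cfsg.Sz F m)) ≤ M := by
    rw [Subgroup.normalClosure, Subgroup.closure_le]
    intro y hy
    obtain ⟨x, hx, hxy⟩ := Group.mem_conjugatesOfSet_iff.mp hy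
    obtain ⟨c, rfl⟩ := isConj_iff.mp hxy
    exact hconj c x hx
  have hnc : Subgroup.normalClosure ((U hm hF : Subgroup ↥(Cfsg.Sz F m)) : Set ↥(Cfsg.Sz F m)) = ⊤ := by
    have hN : (Subgroup.normalClosure
        ((U hm hF : Subgroup ↥(Cfsg.Sz F m)) : Set ↥(Cfsg.Sz F m))).Normal :=
      Subgroup.normalClosure_normal
    refine (hN.eq_bot_or_eq_top).resolve_left ?_
    intro hbot
    have h2 : u hm hF 1 0 ∈ Subgroup.normalClosure
        ((U hm hF : Subgroup ↥(Cfsg.Sz F m)) : Set ↥(Cfsg.Sz F m)) :=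
      Subgroup.subset_normalClosure ⟨1, 0, rfl⟩
    rw [hbot, Subgroup.mem_bot, ← u_zero hm hF] at h2
    exact one_ne_zero (u_inj hm hF h2).1
  exact top_le_iff.mp (hnc ▸ hle)

/-- `S2247`. -/
theorem borel_max (hm : 1 ≤ m) (hF : Fintype.card F = 2 ^ (2 * m + 1))
    (P : Sylow 2 ↥(Cfsg.Sz F m)) :
    IsCoatom (Subgroup.normalizer ((P : Subgroup ↥(Cfsg.Sz F m)) : Set ↥(Cfsg.Sz F m))) ∧
    ∀ M : Subgroup ↥(Cfsg.Sz F m), IsCoatom M → (P : Subgroup ↥(Cfsg.Sz F m)) ≤ M →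
      M = Subgroup.normalizer ((P : Subgroup ↥(Cfsg.Sz F m)) : Set ↥(Cfsg.Sz F m)) := by
  have hs := hyp_of_card hm hF
  have hsimple := simple hm hF
  have hfin : Finite (Matrix.SpecialLinearGroup (Fin 4) F) := finite_SL
  obtain ⟨γ, hγ⟩ := sylow_conj hm hF P
  have claimA : ∀ M : Subgroup ↥(Cfsg.Sz F m), (P : Subgroup ↥(Cfsg.Sz F m)) ≤ M →
      M ≤ Subgroup.normalizer ((P : Subgroup ↥(Cfsg.Sz F m)) : Set ↥(Cfsg.Sz F m)) ∨ M = ⊤ := by
    intro M hPM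
    by_cases hle : M ≤ Subgroup.normalizer ((P : Subgroup ↥(Cfsg.Sz F m)) : Set ↥(Cfsg.Sz F m))
    · exact Or.inl hle
    right
    obtain ⟨m₀, hm₀M, hm₀N⟩ := SetLike.not_le_iff_exists.mp hle
    have hmove : (γ⁻¹ * m₀ * γ).1 • Cfsg.suzukiPointInfinity F ≠ Cfsg.suzukiPointInfinity F := by
      intro hfix
      apply hm₀N
      have hfix' : (γ⁻¹ * m₀ * γ)⁻¹.1 • Cfsg.suzukiPointInfinity F =
          Cfsg.suzukiPointInfinity F := by
        show (γ⁻¹ * m₀ * γ).1⁻¹ • Cfsg.suzukiPointInfinity F = _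
        rw [inv_smul_eq_iff, hfix]
      rw [Subgroup.mem_normalizer_iff]
      intro x
      rw [hγ, hγ]
      constructor
      · intro hx
        have h2 := norm_of_fix hm hF _ hfix _ hx
        have h3 : γ⁻¹ * (m₀ * x * m₀⁻¹) * γ =
            γ⁻¹ * m₀ * γ * (γ⁻¹ * x * γ) * (γ⁻¹ * m₀ * γ)⁻¹ := by group
        rw [h3]
        exact h2
      · intro hx
        have h2 := norm_of_fix hm hF _ hfix' _ hx
        have h3 : γ⁻¹ * x * γ =
            (γ⁻¹ * m₀ * γ)⁻¹ * (γ⁻¹ * (m₀ * x * m₀⁻¹) * γ) * (γ⁻¹ * m₀ * γ)⁻¹⁻¹ := by group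
        rw [h3]
        exact h2
    have htop := top_of_U_le hm hF (M.comap (MulAut.conj γ).toMonoidHom)
      (by
        intro x hx
        rw [Subgroup.mem_comap]
        apply hPM
        rw [hγ]
        show γ⁻¹ * (γ * x * γ⁻¹) * γ ∈ U hm hF
        have h3 : γ⁻¹ * (γ * x * γ⁻¹) * γ = x := by group
        rw [h3]
        exact hx)
      (γ⁻¹ * m₀ * γ)
      (by
        rw [Subgroup.mem_comap]
        show γ * (γ⁻¹ * m₀ * γ) * γ⁻¹ ∈ M
        have h3 : γ * (γ⁻¹ * m₀ * γ) * γ⁻¹ = m₀ := by group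
        rw [h3]
        exact hm₀M)
      hmove
    rw [eq_top_iff]
    intro x _
    have h2 : γ⁻¹ * x * γ ∈ M.comap (MulAut.conj γ).toMonoidHom := by
      rw [htop]
      exact Subgroup.mem_top _
    rw [Subgroup.mem_comap] at h2
    have h3 : (MulAut.conj γ).toMonoidHom (γ⁻¹ * x * γ) = x := by
      show γ * (γ⁻¹ * x * γ) * γ⁻¹ = x
      group
    rw [h3] at h2
    exact h2
  have claimB : Subgroup.normalizer ((P : Subgroup ↥(Cfsg.Sz F m)) : Set ↥(Cfsg.Sz F m)) ≠ ⊤ := by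
    intro htop
    have hN : (P : Subgroup ↥(Cfsg.Sz F m)).Normal := Subgroup.normalizer_eq_top_iff.mp htop
    have hc := (sylow2 hm hF P).1
    have hq : 2 ≤ 2 ^ (2 * m + 1) := by
      calc 2 = 2 ^ 1 := by norm_num
        _ ≤ 2 ^ (2 * m + 1) := Nat.pow_le_pow_right (by norm_num) (by omega)
    rcases hN.eq_bot_or_eq_top with h | h
    · rw [h, Subgroup.card_bot] at hc
      nlinarith
    · rw [h, Subgroup.card_top, card_Sz hm hF] at hc
      have h6 : (2 ^ (2 * m + 1)) ^ 2 * (((2 ^ (2 * m + 1)) ^ 2 + 1) * (2 ^ (2 * m + 1) - 1)) =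
          (2 ^ (2 * m + 1)) ^ 2 * 1 := by rw [← mul_assoc, hc, mul_one]
      have h7 := Nat.eq_of_mul_eq_mul_left (by positivity) h6
      have h8 := Nat.eq_one_of_mul_eq_one_right h7
      have h9 : 0 < (2 ^ (2 * m + 1)) ^ 2 := by positivity
      omega
  refine ⟨⟨claimB, fun b hb => (claimA b (le_trans Subgroup.le_normalizer hb.le)).resolve_left
    (not_le_of_gt hb)⟩, fun M hM hPM => ?_⟩
  have h1 : M ≤ Subgroup.normalizer ((P : Subgroup ↥(Cfsg.Sz F m)) : Set ↥(Cfsg.Sz F m)) :=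
    (claimA M hPM).resolve_right hM.1
  by_contra hne
  exact claimB (hM.2 _ (lt_of_le_of_ne h1 hne))

end Cfsg.Agent.Lib.Helper3.Sz10
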