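import Mathlib
import Cfsg.Prelude.Def_LieExceptional
import Cfsg.Prelude.Def_Transfer
import Cfsg.Agent.Lib.Helper3.Sz10

set_option autoImplicit false

namespace Cfsg.Agent.Lib.Helper3.Sz11

open Matrix Cfsg.Agent.Lib.Helper3.Sz1 Cfsg.Agent.Lib.Helper3.Sz2 Cfsg.Agent.Lib.Helper3.Sz3
  Cfsg.Agent.Lib.Helper3.Sz4 Cfsg.Agent.Lib.Helper3.Sz5 Cfsg.Agent.Lib.Helper3.Sz6
  Cfsg.Agent.Lib.Helper3.Sz7 Cfsg.Agent.Lib.Helper3.Sz9 Cfsg.Agent.Lib.Helper3.Sz10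

variable {F : Type*} [Field F] [Fintype F]

/-- the solutions of `b^(d+1) = b` in a finite field, for `d ∣ |Fˣ|`. -/
theorem card_fix' (d : ℕ) (hd : d ∣ Nat.card Fˣ) :
    Nat.card {b : F // b ^ (d + 1) = b} = d + 1 := by
  have hker : Nat.card (powMonoidHom d : Fˣ →* Fˣ).ker = d := by
    rw [IsCyclic.card_powMonoidHom_ker, Nat.gcd_eq_right hd]
  have hb : Function.Bijective
      (fun o : Option ↥(powMonoidHom d : Fˣ →* Fˣ).ker =>
        (match o with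
          | none => ⟨0, zero_pow (by omega)⟩
          | some x => ⟨((x : Fˣ) : F), by
              have h2 : (x : Fˣ) ^ d = 1 := x.2
              have h3 : ((x : Fˣ) : F) ^ d = 1 := by
                rw [← Units.val_pow_eq_pow_val, h2, Units.val_one]
              rw [pow_succ, h3, one_mul]⟩ : {b : F // b ^ (d + 1) = b})) := by
    constructor
    · rintro (_ | x) (_ | y) h
      · rfl
      · exact absurd (congrArg Subtype.val h).symm (Units.ne_zero _)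
      · exact absurd (congrArg Subtype.val h) (Units.ne_zero _)
      · have h2 : ((x : Fˣ) : F) = ((y : Fˣ) : F) := congrArg Subtype.val h
        exact congrArg some (Subtype.ext (Units.ext h2))
    · rintro ⟨b, hb⟩
      by_cases h0 : b = 0
      · exact ⟨none, Subtype.ext h0.symm⟩
      · refine ⟨some ⟨Units.mk0 b h0, ?_⟩, rfl⟩
        rw [MonoidHom.mem_ker, powMonoidHom_apply]
        apply Units.ext
        rw [Units.val_pow_eq_pow_val, Units.val_mk0, Units.val_one]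
        rw [pow_succ] at hb
        exact mul_right_cancel₀ h0 (hb.trans (one_mul b).symm)
  rw [← Nat.card_congr (Equiv.ofBijective _ hb), Finite.card_option, hker]

/-- the fixed field of `x ↦ x^(2^n)` has `2^n` elements when `n ∣ f`. -/
theorem card_fix {f n : ℕ} (hF : Fintype.card F = 2 ^ f) (hn : n ∣ f) :
    Nat.card {b : F // b ^ (2 ^ n) = b} = 2 ^ n := by
  have h1 : 1 ≤ 2 ^ n := Nat.one_le_two_pow
  obtain ⟨d, hd⟩ : ∃ d, 2 ^ n = d + 1 := ⟨2 ^ n - 1, by omega⟩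
  have hdvd : d ∣ Nat.card Fˣ := by
    have h2 : d = 2 ^ n - 1 := by omega
    rw [Nat.card_units, Nat.card_eq_fintype_card, hF, h2, ← Nat.gcd_eq_right_iff_dvd,
      Nat.pow_sub_one_gcd_pow_sub_one, Nat.gcd_eq_right hn]
  rw [hd]
  exact card_fix' d hdvd

variable {m : ℕ}

/-- conjugation of a central involution of `U` by a Borel element. -/
theorem conj_formula (hm : 1 ≤ m) (hF : Fintype.card F = 2 ^ (2 * m + 1)) (c₁ c₂ : F) (k : Fˣ)
    (b : F) :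
    T (2 ^ (m + 1)) c₁ c₂ * D (2 ^ (m + 1)) k * T (2 ^ (m + 1)) 0 b =
      T (2 ^ (m + 1)) 0 ((k : F) ^ (2 ^ (m + 1) + 2) * b) *
        (T (2 ^ (m + 1)) c₁ c₂ * D (2 ^ (m + 1)) k) := by
  have hs := hyp_of_card hm hF
  have hs0 : (2 : ℕ) ^ (m + 1) ≠ 0 := by positivity
  rw [mul_assoc (T (2 ^ (m + 1)) c₁ c₂), D_T hm hF, ← mul_assoc (T (2 ^ (m + 1)) c₁ c₂),
    T_mul hm hF, ← mul_assoc _ (T (2 ^ (m + 1)) c₁ c₂), T_mul hm hF]
  congr 2
  · ring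
  · rw [zero_pow hs0]
    ring

theorem u0_mul (hm : 1 ≤ m) (hF : Fintype.card F = 2 ^ (2 * m + 1)) (b b' : F) :
    u hm hF 0 b * u hm hF 0 b' = u hm hF 0 (b' + b) := by
  rw [u_mul]
  congr 1
  · rw [add_zero]
  · rw [mul_zero, add_zero]

theorem u0_sq (hm : 1 ≤ m) (hF : Fintype.card F = 2 ^ (2 * m + 1)) (b : F) :
    u hm hF 0 b * u hm hF 0 b = 1 := by
  have hs := hyp_of_card hm hF
  rw [u0_mul, ← u_zero hm hF]
  congr 1
  linear_combination b * hs.two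

/-- the subfield subgroup of the centre of `U`. -/
def EK (hm : 1 ≤ m) (hF : Fintype.card F = 2 ^ (2 * m + 1)) (n : ℕ) :
    Subgroup ↥(Cfsg.Sz F m) where
  carrier := {g | ∃ b : F, b ^ (2 ^ n) = b ∧ g = u hm hF 0 b}
  mul_mem' := by
    rintro _ _ ⟨b, hb, rfl⟩ ⟨b', hb', rfl⟩
    have hs := hyp_of_card hm hF
    have : CharP F 2 := CharTwo.of_one_ne_zero_of_two_eq_zero one_ne_zero hs.two
    have : Fact (Nat.Prime 2) := ⟨Nat.prime_two⟩
    exact ⟨b' + b, by rw [add_pow_char_pow, hb, hb'], u0_mul hm hF b b'⟩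
  one_mem' := ⟨0, zero_pow (by positivity), (u_zero hm hF).symm⟩
  inv_mem' := by
    rintro _ ⟨b, hb, rfl⟩
    exact ⟨b, hb, inv_eq_of_mul_eq_one_right (u0_sq hm hF b)⟩

/-- an element conjugating a central involution of `U` into `U` fixes the point at infinity. -/
theorem fix_of_conj (hm : 1 ≤ m) (hF : Fintype.card F = 2 ^ (2 * m + 1)) (x : ↥(Cfsg.Sz F m))
    (b b' : F) (hb : b ≠ 0) (h : x * u hm hF 0 b' * x⁻¹ = u hm hF 0 b) :
    x.1 • Cfsg.suzukiPointInfinity F = Cfsg.suzukiPointInfinity F := by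
  apply T_fix hm hF (a := 0) (b := b) (fun hh => hb hh.2) (smul_mem_ovoid x.2 (pInf_mem m))
  have h1 : x.1 * T (2 ^ (m + 1)) 0 b' * x.1⁻¹ = T (2 ^ (m + 1)) 0 b := congrArg Subtype.val h
  rw [← h1, mul_smul, mul_smul, inv_smul_smul, T_pInf]

/-- an element fixing the point at infinity acts on the centre of `U` by a scalar. -/
theorem conj_u0 (hm : 1 ≤ m) (hF : Fintype.card F = 2 ^ (2 * m + 1)) (x : ↥(Cfsg.Sz F m))
    (hx : x.1 • Cfsg.suzukiPointInfinity F = Cfsg.suzukiPointInfinity F) :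
    ∃ κ : Fˣ, ∀ b : F, x * u hm hF 0 b * x⁻¹ = u hm hF 0 ((κ : F) * b) := by
  obtain ⟨c₁, c₂, k, hk⟩ := stab_one hm hF x.2 hx
  refine ⟨k ^ (2 ^ (m + 1) + 2), fun b => ?_⟩
  rw [mul_inv_eq_iff_eq_mul, Units.val_pow_eq_pow_val]
  apply Subtype.ext
  show x.1 * T (2 ^ (m + 1)) 0 b = T (2 ^ (m + 1)) 0 _ * x.1
  rw [hk]
  exact conj_formula hm hF c₁ c₂ k b

/-- `S2240`, existence. -/
theorem ti_of_dvd (hm : 1 ≤ m) (hF : Fintype.card F = 2 ^ (2 * m + 1)) (n : ℕ)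
    (hdvd : n ∣ 2 * m + 1) :
    ∃ E : Subgroup ↥(Cfsg.Sz F m), Cfsg.IsElementaryAbelian 2 E ∧ Nat.card ↥E = 2 ^ n ∧
      ∀ x : ↥(Cfsg.Sz F m), E ⊓ E.map (MulAut.conj x).toMonoidHom ≠ ⊥ →
        x ∈ Subgroup.normalizer (E : Set ↥(Cfsg.Sz F m)) := by
  refine ⟨EK hm hF n, ⟨⟨⟨fun x y => ?_⟩⟩, ?_⟩, ?_, ?_⟩
  · obtain ⟨x, b, hb, rfl⟩ := x
    obtain ⟨y, b', hb', rfl⟩ := y
    apply Subtype.ext
    show u hm hF 0 b * u hm hF 0 b' = u hm hF 0 b' * u hm hF 0 b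
    rw [u0_mul, u0_mul, add_comm]
  · rintro _ ⟨b, hb, rfl⟩
    rw [sq]
    exact u0_sq hm hF b
  · have hb : Function.Bijective (fun b : {b : F // b ^ (2 ^ n) = b} =>
        (⟨u hm hF 0 b.1, ⟨b.1, b.2, rfl⟩⟩ : ↥(EK hm hF n))) := by
      constructor
      · rintro ⟨b, hb⟩ ⟨b', hb'⟩ h
        exact Subtype.ext (u_inj hm hF (congrArg Subtype.val h)).2
      · rintro ⟨_, b, hb, rfl⟩
        exact ⟨⟨b, hb⟩, rfl⟩
    rw [← Nat.card_congr (Equiv.ofBijective _ hb)]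
    exact card_fix hF hdvd
  · intro x hx
    obtain ⟨⟨g, hg1, hg2⟩, hne⟩ := Subgroup.ne_bot_iff_exists_ne_one.mp hx
    obtain ⟨b, hb, rfl⟩ := hg1
    obtain ⟨y, ⟨b', hb', rfl⟩, hy⟩ := Subgroup.mem_map.mp hg2
    have hy' : x * u hm hF 0 b' * x⁻¹ = u hm hF 0 b := hy
    have hb0 : b ≠ 0 := by
      rintro rfl
      apply hne
      exact Subtype.ext (u_zero hm hF)
    obtain ⟨κ, hκ⟩ := conj_u0 hm hF x (fix_of_conj hm hF x b b' hb0 hy')
    have h1 : (κ : F) * b' = b := by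
      rw [hκ] at hy'
      exact (u_inj hm hF hy').2
    have hb'0 : b' ≠ 0 := by
      rintro rfl
      rw [mul_zero] at h1
      exact hb0 h1.symm
    have hκn : (κ : F) ^ (2 ^ n) = (κ : F) := by
      have h2 : (κ : F) = b / b' := by
        rw [← h1, mul_div_assoc, div_self hb'0, mul_one]
      rw [h2, div_pow, hb, hb']
    rw [Subgroup.mem_normalizer_iff]
    intro h
    constructor
    · rintro ⟨c, hc, rfl⟩
      exact ⟨(κ : F) * c, by rw [mul_pow, hκn, hc], hκ c⟩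
    · rintro ⟨c, hc, hh⟩
      refine ⟨((κ⁻¹ : Fˣ) : F) * c, ?_, ?_⟩
      · rw [mul_pow, hc, Units.val_inv_eq_inv_val, inv_pow, hκn]
      · have h2 := hκ (((κ⁻¹ : Fˣ) : F) * c)
        rw [← mul_assoc, Units.mul_inv, one_mul, ← hh] at h2
        exact (mul_left_cancel (mul_right_cancel h2)).symm

/-- `S2240`, necessity. -/
theorem dvd_of_ti (hm : 1 ≤ m) (hF : Fintype.card F = 2 ^ (2 * m + 1)) (n : ℕ) (hn : 2 ≤ n)
    (E : Subgroup ↥(Cfsg.Sz F m)) (hEA : Cfsg.IsElementaryAbelian 2 E)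
    (hcard : Nat.card ↥E = 2 ^ n)
    (hTI : ∀ x : ↥(Cfsg.Sz F m), E ⊓ E.map (MulAut.conj x).toMonoidHom ≠ ⊥ →
      x ∈ Subgroup.normalizer (E : Set ↥(Cfsg.Sz F m))) : n ∣ 2 * m + 1 := by
  classical
  have hs := hyp_of_card hm hF
  have hfin : Finite (Matrix.SpecialLinearGroup (Fin 4) F) := finite_SL
  have : Fact (Nat.Prime 2) := ⟨Nat.prime_two⟩
  obtain ⟨P, hEP⟩ := (IsPGroup.of_card hcard).exists_le_sylow
  obtain ⟨γ, hγ⟩ := sylow_conj hm hF P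
  have hform : ∀ e ∈ E, ∃ b : F, e = γ * u hm hF 0 b * γ⁻¹ := by
    intro e he
    obtain ⟨a, b, hab⟩ := (hγ e).mp (hEP he)
    have he2 : e ^ 2 = 1 := hEA.2 e he
    have h1 : u hm hF a b * u hm hF a b = 1 := by
      rw [← hab]
      calc γ⁻¹ * e * γ * (γ⁻¹ * e * γ) = γ⁻¹ * (e * e) * γ := by group
        _ = 1 := by rw [← sq, he2]; group
    rw [u_mul, ← u_zero hm hF] at h1
    obtain ⟨-, h2⟩ := u_inj hm hF h1
    have h3 : a ^ (2 ^ (m + 1)) * a = 0 := by linear_combination h2 - b * hs.two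
    have ha : a = 0 := by
      rcases mul_eq_zero.mp h3 with h | h
      · exact pow_s_eq_zero hs h
      · exact h
    subst ha
    exact ⟨b, by rw [← hab]; group⟩
  obtain ⟨V, hV⟩ : ∃ V : Finset F, ∀ b, b ∈ V ↔ γ * u hm hF 0 b * γ⁻¹ ∈ E :=
    ⟨Finset.univ.filter (fun b => γ * u hm hF 0 b * γ⁻¹ ∈ E), fun b => by simp⟩
  have hVcard : V.card = 2 ^ n := by
    have hb : Function.Bijective (fun b : {b // b ∈ V} =>
        (⟨γ * u hm hF 0 b.1 * γ⁻¹, (hV b.1).mp b.2⟩ : ↥E)) := by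
      constructor
      · rintro ⟨b, hb⟩ ⟨b', hb'⟩ h
        have h1 : γ * u hm hF 0 b * γ⁻¹ = γ * u hm hF 0 b' * γ⁻¹ := congrArg Subtype.val h
        have h2 : u hm hF 0 b = u hm hF 0 b' := mul_left_cancel (mul_right_cancel h1)
        exact Subtype.ext (u_inj hm hF h2).2
      · rintro ⟨e, he⟩
        obtain ⟨b, rfl⟩ := hform e he
        exact ⟨⟨b, (hV b).mpr he⟩, rfl⟩
    rw [← hcard, ← Nat.card_congr (Equiv.ofBijective _ hb), Nat.card_eq_fintype_card,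
      Fintype.card_coe]
  have h0V : (0 : F) ∈ V := by
    rw [hV, u_zero]
    have h1 : γ * 1 * γ⁻¹ = 1 := by group
    rw [h1]
    exact E.one_mem
  have hstar : ∀ k : Fˣ, ∀ v ∈ V, v ≠ 0 → (k : F) ^ (2 ^ (m + 1) + 2) * v ∈ V →
      ∀ w ∈ V, (k : F) ^ (2 ^ (m + 1) + 2) * w ∈ V := by
    intro k v hv hv0 hkv w hw
    obtain ⟨d, hd⟩ : ∃ d : ↥(Cfsg.Sz F m), d.1 = D (2 ^ (m + 1)) k :=
      ⟨⟨_, D_mem hm hF k⟩, rfl⟩
    have hdu : ∀ b : F, d * u hm hF 0 b * d⁻¹ =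
        u hm hF 0 ((k : F) ^ (2 ^ (m + 1) + 2) * b) := by
      intro b
      rw [mul_inv_eq_iff_eq_mul]
      apply Subtype.ext
      show d.1 * T (2 ^ (m + 1)) 0 b = T (2 ^ (m + 1)) 0 _ * d.1
      rw [hd, D_T hm hF, mul_zero]
    have hconj : ∀ b : F, (γ * d * γ⁻¹) * (γ * u hm hF 0 b * γ⁻¹) * (γ * d * γ⁻¹)⁻¹ =
        γ * u hm hF 0 ((k : F) ^ (2 ^ (m + 1) + 2) * b) * γ⁻¹ := by
      intro b
      rw [← hdu b]
      group
    have hx : γ * d * γ⁻¹ ∈ Subgroup.normalizer (E : Set ↥(Cfsg.Sz F m)) := by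
      apply hTI
      rw [Subgroup.ne_bot_iff_exists_ne_one]
      refine ⟨⟨γ * u hm hF 0 ((k : F) ^ (2 ^ (m + 1) + 2) * v) * γ⁻¹,
        Subgroup.mem_inf.mpr ⟨(hV _).mp hkv,
          Subgroup.mem_map.mpr ⟨γ * u hm hF 0 v * γ⁻¹, (hV v).mp hv, hconj v⟩⟩⟩, ?_⟩
      · intro h1
        have h2 : γ * u hm hF 0 ((k : F) ^ (2 ^ (m + 1) + 2) * v) * γ⁻¹ = 1 :=
          congrArg Subtype.val h1
        have h3 : u hm hF 0 ((k : F) ^ (2 ^ (m + 1) + 2) * v) = 1 := by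
          calc u hm hF 0 ((k : F) ^ (2 ^ (m + 1) + 2) * v)
              = γ⁻¹ * (γ * u hm hF 0 ((k : F) ^ (2 ^ (m + 1) + 2) * v) * γ⁻¹) * γ := by group
            _ = 1 := by rw [h2]; group
        rw [← u_zero hm hF] at h3
        have h4 := (u_inj hm hF h3).2
        rcases mul_eq_zero.mp h4 with h5 | h5
        · exact pow_ne_zero _ (Units.ne_zero k) h5
        · exact hv0 h5
    rw [Subgroup.mem_normalizer_iff] at hx
    have h1 := (hx (γ * u hm hF 0 w * γ⁻¹)).mp ((hV w).mp hw)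
    rw [hconj w] at h1
    exact (hV _).mpr h1
  have hsurj : ∀ κ : Fˣ, ∃ k : Fˣ, (k : F) ^ (2 ^ (m + 1) + 2) = (κ : F) := by
    have hinj : Function.Injective (fun k : Fˣ => k ^ (2 ^ (m + 1) + 2)) := by
      intro k k' h
      have h0 : k ^ (2 ^ (m + 1) + 2) = k' ^ (2 ^ (m + 1) + 2) := h
      have h1 : (k * k'⁻¹) ^ (2 ^ (m + 1) + 2) = 1 := by
        rw [mul_pow, inv_pow]
        exact mul_inv_eq_one.mpr h0
      have h2 : ((k * k'⁻¹ : Fˣ) : F) ^ (2 ^ (m + 1) + 2) = 1 := by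
        rw [← Units.val_pow_eq_pow_val, h1, Units.val_one]
      have h3 := pow_s2_eq_one hs h2
      have h4 : k * k'⁻¹ = 1 := Units.ext h3
      exact mul_inv_eq_one.mp h4
    intro κ
    obtain ⟨k, hk⟩ := (Finite.injective_iff_surjective.mp hinj) κ
    have hk' : k ^ (2 ^ (m + 1) + 2) = κ := hk
    exact ⟨k, by rw [← Units.val_pow_eq_pow_val, hk']⟩
  have hstar' : ∀ κ : Fˣ, ∀ v ∈ V, v ≠ 0 → (κ : F) * v ∈ V → ∀ w ∈ V, (κ : F) * w ∈ V := by
    intro κ v hv hv0 hκv w hw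
    obtain ⟨k, hk⟩ := hsurj κ
    rw [← hk] at hκv ⊢
    exact hstar k v hv hv0 hκv w hw
  have h1V : 1 < V.card := by
    rw [hVcard]
    calc 1 < 2 ^ 2 := by norm_num
      _ ≤ 2 ^ n := Nat.pow_le_pow_right (by norm_num) hn
  obtain ⟨v₀, hv₀, hv₀0⟩ := Finset.exists_mem_ne h1V 0
  have hpowmem : ∀ κ : Fˣ, (κ : F) * v₀ ∈ V → ∀ j : ℕ, ((κ ^ j : Fˣ) : F) * v₀ ∈ V := by
    intro κ hκ j
    induction j with
    | zero => rw [pow_zero, Units.val_one, one_mul]; exact hv₀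
    | succ j ih =>
      rw [pow_succ, Units.val_mul, mul_assoc]
      exact hstar' (κ ^ j) v₀ hv₀ hv₀0 ih _ hκ
  obtain ⟨H, hH⟩ : ∃ H : Subgroup Fˣ, ∀ κ : Fˣ, κ ∈ H ↔ (κ : F) * v₀ ∈ V :=
    ⟨{ carrier := {κ | (κ : F) * v₀ ∈ V}
       mul_mem' := by
         intro κ μ hκ hμ
         show ((κ * μ : Fˣ) : F) * v₀ ∈ V
         rw [Units.val_mul, mul_assoc]
         exact hstar' κ v₀ hv₀ hv₀0 hκ _ hμ
       one_mem' := by
         show ((1 : Fˣ) : F) * v₀ ∈ V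
         rw [Units.val_one, one_mul]
         exact hv₀
       inv_mem' := by
         intro κ hκ
         have h1 : κ⁻¹ = κ ^ (orderOf κ - 1) := by
           apply inv_eq_of_mul_eq_one_right
           rw [← pow_succ', Nat.sub_add_cancel (orderOf_pos κ), pow_orderOf_eq_one]
         show ((κ⁻¹ : Fˣ) : F) * v₀ ∈ V
         rw [h1]
         exact hpowmem κ hκ _ }, fun κ => Iff.rfl⟩
  have hbH : Function.Bijective (fun κ : ↥H =>
      (⟨((κ : Fˣ) : F) * v₀, Finset.mem_erase.mpr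
        ⟨mul_ne_zero (Units.ne_zero _) hv₀0, (hH κ.1).mp κ.2⟩⟩ : {w // w ∈ V.erase 0})) := by
    constructor
    · rintro ⟨κ, hκ⟩ ⟨μ, hμ⟩ h
      have h1 : (κ : F) * v₀ = (μ : F) * v₀ := congrArg Subtype.val h
      exact Subtype.ext (Units.ext (mul_right_cancel₀ hv₀0 h1))
    · rintro ⟨w, hw⟩
      obtain ⟨hw0, hwV⟩ := Finset.mem_erase.mp hw
      refine ⟨⟨Units.mk0 (w / v₀) (div_ne_zero hw0 hv₀0), ?_⟩, ?_⟩
      · rw [hH, Units.val_mk0, div_mul_cancel₀ w hv₀0]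
        exact hwV
      · apply Subtype.ext
        show ((Units.mk0 (w / v₀) (div_ne_zero hw0 hv₀0) : Fˣ) : F) * v₀ = w
        rw [Units.val_mk0, div_mul_cancel₀ w hv₀0]
  have hHcard : Nat.card H = 2 ^ n - 1 := by
    rw [Nat.card_congr (Equiv.ofBijective _ hbH), Nat.card_eq_fintype_card, Fintype.card_coe,
      Finset.card_erase_of_mem h0V, hVcard]
  have hdvd : 2 ^ n - 1 ∣ 2 ^ (2 * m + 1) - 1 := by
    have h1 := Subgroup.card_subgroup_dvd_card H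
    rwa [hHcard, Nat.card_units, Nat.card_eq_fintype_card, hF] at h1
  have hg := Nat.pow_sub_one_gcd_pow_sub_one 2 (2 * m + 1) n
  rw [Nat.gcd_eq_right hdvd] at hg
  have h2 : 2 ^ n = 2 ^ (Nat.gcd (2 * m + 1) n) := by
    have e1 := Nat.one_le_two_pow (n := n)
    have e2 := Nat.one_le_two_pow (n := Nat.gcd (2 * m + 1) n)
    omega
  have h3 : n = Nat.gcd (2 * m + 1) n := Nat.pow_right_injective (le_refl 2) h2
  rw [h3]
  exact Nat.gcd_dvd_left _ _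

/-- `S2240`. -/
theorem ti_iff (hm : 1 ≤ m) (hF : Fintype.card F = 2 ^ (2 * m + 1)) (n : ℕ) (hn : 2 ≤ n) :
    (∃ E : Subgroup ↥(Cfsg.Sz F m), Cfsg.IsElementaryAbelian 2 E ∧ Nat.card ↥E = 2 ^ n ∧
      ∀ x : ↥(Cfsg.Sz F m), E ⊓ E.map (MulAut.conj x).toMonoidHom ≠ ⊥ →
        x ∈ Subgroup.normalizer (E : Set ↥(Cfsg.Sz F m))) ↔ n ∣ 2 * m + 1 := by
  constructor
  · rintro ⟨E, hEA, hcard, hTI⟩
    exact dvd_of_ti hm hF n hn E hEA hcard hTI
  · exact ti_of_dvd hm hF n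

end Cfsg.Agent.Lib.Helper3.Sz11
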