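import Mathlib
import Cfsg.Prelude.Def_LieExceptional
import Cfsg.Agent.Lib.Helper3.Sz11
import Cfsg.Agent.Lib.Helper14.SzTori8
import Cfsg.Agent.Lib.Helper14.SzLink

set_option autoImplicit false
set_option linter.unusedSectionVars false

namespace Cfsg.Agent.Lib.Helper3.SzR

open Matrix Cfsg.Agent.Lib.Helper3.Sz1 Cfsg.Agent.Lib.Helper3.Sz2 Cfsg.Agent.Lib.Helper3.Sz3
  Cfsg.Agent.Lib.Helper3.Sz4 Cfsg.Agent.Lib.Helper3.Sz5 Cfsg.Agent.Lib.Helper3.Sz6
  Cfsg.Agent.Lib.Helper3.Sz7 Cfsg.Agent.Lib.Helper3.Sz9 Cfsg.Agent.Lib.Helper3.Sz10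
  Cfsg.Agent.Lib.Helper3.Sz11

/-- the property requested for `S2863`: for every subgroup `E` of exponent dividing 2 and
order `q`: (R1) `E^x ∩ N(E) ≠ 1` forces `x ∈ N(E)`; (R2) every non-identity element of odd
order is normalised but not centralised by a conjugate of a non-identity element of `E`. -/
def RProp (G : Type*) [Group G] (q : ℕ) : Prop :=
  ∀ E : Subgroup G, (∀ t, t ∈ E → t * t = 1) → Nat.card E = q →
    (∀ x t, t ∈ E → t ≠ 1 → x * t * x⁻¹ ∈ Subgroup.normalizer (E : Set G) →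
      x ∈ Subgroup.normalizer (E : Set G)) ∧
    (∀ h, h ≠ 1 → Odd (orderOf h) → ∃ x t, t ∈ E ∧ t ≠ 1 ∧
      (x * t * x⁻¹) * h * (x * t * x⁻¹)⁻¹ ∈ Subgroup.zpowers h ∧
      (x * t * x⁻¹) * h * (x * t * x⁻¹)⁻¹ ≠ h)

theorem RProp.of_equiv {G G' : Type*} [Group G] [Group G'] (e : G ≃* G') {q : ℕ}
    (hR : RProp G q) : RProp G' q := by
  intro E' hE2' hEc'
  let E : Subgroup G := E'.comap e.toMonoidHom
  have hmem : ∀ t : G, t ∈ E ↔ e t ∈ E' := fun t => Iff.rfl
  have hE2 : ∀ t, t ∈ E → t * t = 1 := by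
    intro t ht
    apply e.injective
    rw [map_mul, map_one]
    exact hE2' _ ((hmem t).mp ht)
  have hEc : Nat.card E = q := by
    rw [← hEc']
    apply Nat.card_congr
    exact
      { toFun := fun t => ⟨e t.1, (hmem t.1).mp t.2⟩
        invFun := fun t' => ⟨e.symm t'.1, (hmem _).mpr (by rw [e.apply_symm_apply]; exact t'.2)⟩
        left_inv := fun t => Subtype.ext (e.symm_apply_apply _)
        right_inv := fun t' => Subtype.ext (e.apply_symm_apply _) }
  have hnorm : ∀ x : G, x ∈ Subgroup.normalizer (E : Set G) ↔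
      e x ∈ Subgroup.normalizer (E' : Set G') := by
    intro x
    rw [Subgroup.mem_normalizer_iff, Subgroup.mem_normalizer_iff]
    constructor
    · intro h g'
      have h1 := h (e.symm g')
      rw [hmem, hmem, map_mul, map_mul, map_inv, e.apply_symm_apply] at h1
      exact h1
    · intro h g
      have h1 := h (e g)
      rw [hmem, hmem, map_mul, map_mul, map_inv]
      exact h1
  obtain ⟨h1, h2⟩ := hR E hE2 hEc
  constructor
  · intro x' t' ht' ht1' hx'
    have hx := h1 (e.symm x') (e.symm t') ((hmem _).mpr (by rw [e.apply_symm_apply]; exact ht'))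
      (by
        intro h
        apply ht1'
        have := congrArg e h
        rw [e.apply_symm_apply, map_one] at this
        exact this)
      ((hnorm _).mpr (by
        rw [map_mul, map_mul, map_inv, e.apply_symm_apply, e.apply_symm_apply]
        exact hx'))
    have := (hnorm _).mp hx
    rw [e.apply_symm_apply] at this
    exact this
  · intro h' hh1' hodd'
    have hh1 : e.symm h' ≠ 1 := by
      intro h
      apply hh1'
      have := congrArg e h
      rw [e.apply_symm_apply, map_one] at this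
      exact this
    have hodd : Odd (orderOf (e.symm h')) := by
      rw [MulEquiv.orderOf_eq]
      exact hodd'
    obtain ⟨x, t, ht, ht1, h3, h4⟩ := h2 (e.symm h') hh1 hodd
    refine ⟨e x, e t, (hmem t).mp ht, ?_, ?_, ?_⟩
    · intro h
      apply ht1
      apply e.injective
      rw [h, map_one]
    · obtain ⟨n, hn⟩ := Subgroup.mem_zpowers_iff.mp h3
      rw [Subgroup.mem_zpowers_iff]
      refine ⟨n, ?_⟩
      have h5 := congrArg e hn
      rw [map_zpow, e.apply_symm_apply, map_mul, map_mul, map_inv, map_mul, map_mul, map_inv,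
        e.apply_symm_apply] at h5
      exact h5
    · intro h
      apply h4
      apply e.injective
      rw [map_mul, map_mul, map_inv, map_mul, map_mul, map_inv, e.apply_symm_apply]
      exact h

variable {F : Type*} [Field F] [Fintype F] {m : ℕ}

theorem u_sq' (hm : 1 ≤ m) (hF : Fintype.card F = 2 ^ (2 * m + 1)) (a b : F) :
    u hm hF a b * u hm hF a b = u hm hF 0 (a ^ (2 ^ (m + 1)) * a) := by
  have hs := hyp_of_card hm hF
  rw [u_mul]
  congr 1
  · linear_combination a * hs.two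
  · linear_combination b * hs.two

/-- an involution (or `1`) of `U` is central. -/
theorem a_zero_of_sq (hm : 1 ≤ m) (hF : Fintype.card F = 2 ^ (2 * m + 1)) {a b : F}
    (h : u hm hF a b * u hm hF a b = 1) : a = 0 := by
  have hs := hyp_of_card hm hF
  rw [u_sq', ← u_zero hm hF] at h
  have h2 := (u_inj hm hF h).2
  rcases mul_eq_zero.mp h2 with h | h
  · exact pow_s_eq_zero hs h
  · exact h

theorem odd_order_sq_ne {G : Type*} [Group G] {h : G} (h1 : h ≠ 1) (hodd : Odd (orderOf h)) :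
    h * h ≠ 1 := by
  intro h2
  have hd : orderOf h ∣ 2 := orderOf_dvd_of_pow_eq_one (by rw [pow_two]; exact h2)
  have hle := Nat.le_of_dvd (by norm_num) hd
  obtain ⟨r, hr⟩ := hodd
  have : orderOf h = 1 := by omega
  exact h1 (orderOf_eq_one_iff.mp this)

/-- the requested property, in the ovoid model. -/
theorem sz_R_ovoid (hm : 1 ≤ m) (hF : Fintype.card F = 2 ^ (2 * m + 1)) :
    RProp ↥(Cfsg.Sz F m) (2 ^ (2 * m + 1)) := by
  classical
  intro E hE2 hEc
  have hs := hyp_of_card hm hF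
  have hfin : Finite (Matrix.SpecialLinearGroup (Fin 4) F) := finite_SL
  have hp2 : Fact (Nat.Prime 2) := ⟨Nat.prime_two⟩
  have hpg : IsPGroup 2 E := IsPGroup.of_card hEc
  obtain ⟨P, hP⟩ := hpg.exists_le_sylow
  obtain ⟨γ, hγ⟩ := sylow_conj hm hF P
  -- every element of `E` is `γ u(0,b) γ⁻¹`
  have hE1 : ∀ t ∈ E, ∃ b : F, t = γ * u hm hF 0 b * γ⁻¹ := by
    intro t ht
    obtain ⟨a, b, hab⟩ := (hγ t).mp (hP ht)
    have h1 : u hm hF a b * u hm hF a b = 1 := by
      rw [← hab]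
      calc γ⁻¹ * t * γ * (γ⁻¹ * t * γ) = γ⁻¹ * (t * t) * γ := by group
        _ = 1 := by rw [hE2 t ht]; group
    have ha := a_zero_of_sq hm hF h1
    refine ⟨b, ?_⟩
    rw [← ha, ← hab]
    group
  choose! β hβ using hE1
  have hinj : Function.Injective (fun t : E => β t.1) := by
    intro t t' h
    apply Subtype.ext
    have h' : β t.1 = β t'.1 := h
    rw [hβ t.1 t.2, hβ t'.1 t'.2, h']
  have hbij : Function.Bijective (fun t : E => β t.1) := by
    apply hinj.bijective_of_nat_card_le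
    rw [hEc, Nat.card_eq_fintype_card, hF]
  have hE3 : ∀ b : F, γ * u hm hF 0 b * γ⁻¹ ∈ E := by
    intro b
    obtain ⟨t, ht⟩ := hbij.2 b
    have ht' : β t.1 = b := ht
    have h1 := hβ t.1 t.2
    rw [ht'] at h1
    rw [← h1]
    exact t.2
  -- a non-identity element of `E` fixes only `γ∞`
  have hfixE : ∀ t ∈ E, t ≠ 1 → ∀ p ∈ Cfsg.suzukiOvoid F m, t.1 • p = p →
      p = γ.1 • Cfsg.suzukiPointInfinity F := by
    intro t ht ht1 p hp hfix
    have ht' := hβ t ht
    have hb : ¬ ((0 : F) = 0 ∧ β t = 0) := by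
      rintro ⟨_, hb⟩
      apply ht1
      rw [ht', hb, u_zero]
      group
    have hfix' : (γ.1 * T (2 ^ (m + 1)) 0 (β t) * γ.1⁻¹) • p = p := by
      have e : t.1 = γ.1 * T (2 ^ (m + 1)) 0 (β t) * γ.1⁻¹ := by
        conv_lhs => rw [ht']
        rfl
      rw [← e]
      exact hfix
    rw [mul_smul, mul_smul] at hfix'
    have h1 : T (2 ^ (m + 1)) 0 (β t) • (γ.1⁻¹ • p) = γ.1⁻¹ • p :=
      (smul_eq_iff_eq_inv_smul _).mp hfix'
    have h2 := T_fix hm hF hb (smul_mem_ovoid (inv_mem γ.2) hp) h1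
    exact inv_smul_eq_iff.mp h2
  -- elements fixing `γ∞` normalise `E`
  have hnorm1 : ∀ y : ↥(Cfsg.Sz F m),
      y.1 • (γ.1 • Cfsg.suzukiPointInfinity F) = γ.1 • Cfsg.suzukiPointInfinity F →
      ∀ g ∈ E, y * g * y⁻¹ ∈ E := by
    intro y hy g hg
    have hg' := hβ g hg
    have hn : (γ⁻¹ * y * γ).1 • Cfsg.suzukiPointInfinity F = Cfsg.suzukiPointInfinity F := by
      show (γ.1⁻¹ * y.1 * γ.1) • _ = _
      rw [mul_smul, mul_smul, hy, inv_smul_smul]
    obtain ⟨a', b', h1⟩ := norm_of_fix hm hF (γ⁻¹ * y * γ) hn (u hm hF 0 (β g)) ⟨0, β g, rfl⟩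
    have h2 : u hm hF a' b' * u hm hF a' b' = 1 := by
      rw [← h1]
      calc (γ⁻¹ * y * γ) * u hm hF 0 (β g) * (γ⁻¹ * y * γ)⁻¹ *
            ((γ⁻¹ * y * γ) * u hm hF 0 (β g) * (γ⁻¹ * y * γ)⁻¹)
          = (γ⁻¹ * y * γ) * (u hm hF 0 (β g) * u hm hF 0 (β g)) * (γ⁻¹ * y * γ)⁻¹ := by group
        _ = 1 := by rw [u0_sq]; group
    have ha' := a_zero_of_sq hm hF h2
    have h3 : y * g * y⁻¹ = γ * u hm hF 0 b' * γ⁻¹ := by
      rw [← ha', ← h1]
      conv_lhs => rw [hg']
      group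
    rw [h3]
    exact hE3 b'
  have hnorm : ∀ y : ↥(Cfsg.Sz F m),
      y.1 • (γ.1 • Cfsg.suzukiPointInfinity F) = γ.1 • Cfsg.suzukiPointInfinity F →
      y ∈ Subgroup.normalizer (E : Set ↥(Cfsg.Sz F m)) := by
    intro y hy
    rw [Subgroup.mem_normalizer_iff]
    intro g
    constructor
    · exact hnorm1 y hy g
    · intro hg
      have hy' : (y⁻¹).1 • (γ.1 • Cfsg.suzukiPointInfinity F) =
          γ.1 • Cfsg.suzukiPointInfinity F := by
        show y.1⁻¹ • _ = _
        rw [inv_smul_eq_iff, hy]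
      have h1 := hnorm1 y⁻¹ hy' _ hg
      have e : y⁻¹ * (y * g * y⁻¹) * y⁻¹⁻¹ = g := by group
      rw [e] at h1
      exact h1
  -- elements of `N(E)` fix `γ∞`
  obtain ⟨b1, hb10, _⟩ := exists_ne_zero_one (F := F) hm hF
  obtain ⟨t0, ht0⟩ : ∃ t0, t0 = γ * u hm hF 0 b1 * γ⁻¹ := ⟨_, rfl⟩
  have ht0E : t0 ∈ E := by
    rw [ht0]
    exact hE3 b1
  have ht01 : t0 ≠ 1 := by
    intro h
    have h1 : u hm hF 0 b1 = 1 := by
      have e : u hm hF 0 b1 = γ⁻¹ * t0 * γ := by rw [ht0]; group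
      rw [e, h]
      group
    rw [← u_zero hm hF] at h1
    exact hb10 (u_inj hm hF h1).2
  have hfixt0 : t0.1 • (γ.1 • Cfsg.suzukiPointInfinity F) = γ.1 • Cfsg.suzukiPointInfinity F := by
    rw [ht0]
    show (γ.1 * T (2 ^ (m + 1)) 0 b1 * γ.1⁻¹) • _ = _
    rw [mul_smul, mul_smul, inv_smul_smul, T_pInf]
  have hfixN : ∀ y ∈ Subgroup.normalizer (E : Set ↥(Cfsg.Sz F m)),
      y.1 • (γ.1 • Cfsg.suzukiPointInfinity F) = γ.1 • Cfsg.suzukiPointInfinity F := by
    intro y hy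
    have h1 : y * t0 * y⁻¹ ∈ E := (Subgroup.mem_normalizer_iff.mp hy t0).mp ht0E
    have h2 : y * t0 * y⁻¹ ≠ 1 := by
      intro h
      apply ht01
      have e : t0 = y⁻¹ * (y * t0 * y⁻¹) * y := by group
      rw [e, h]
      group
    have h3 : (y * t0 * y⁻¹).1 • (y.1 • (γ.1 • Cfsg.suzukiPointInfinity F)) =
        y.1 • (γ.1 • Cfsg.suzukiPointInfinity F) := by
      show (y.1 * t0.1 * y.1⁻¹) • _ = _
      rw [mul_smul, mul_smul, inv_smul_smul, hfixt0]
    exact hfixE _ h1 h2 _ (smul_mem_ovoid y.2 (smul_mem_ovoid γ.2 (pInf_mem m))) h3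
  constructor
  · intro x t ht ht1 hx
    apply hnorm
    have h1 := hfixN _ hx
    have h3 : (x.1 * t.1 * x.1⁻¹) • (γ.1 • Cfsg.suzukiPointInfinity F) =
        γ.1 • Cfsg.suzukiPointInfinity F := h1
    rw [mul_smul, mul_smul] at h3
    have h2 : t.1 • (x.1⁻¹ • (γ.1 • Cfsg.suzukiPointInfinity F)) =
        x.1⁻¹ • (γ.1 • Cfsg.suzukiPointInfinity F) := (smul_eq_iff_eq_inv_smul _).mp h3
    have h4 := hfixE t ht ht1 _
      (smul_mem_ovoid (inv_mem x.2) (smul_mem_ovoid γ.2 (pInf_mem m))) h2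
    exact (inv_smul_eq_iff.mp h4).symm
  · intro h hh1 hodd
    -- every involution is a conjugate of an element of `E`
    have hinv : ∀ s : ↥(Cfsg.Sz F m), s ≠ 1 → s * s = 1 →
        ∃ x t, t ∈ E ∧ t ≠ 1 ∧ s = x * t * x⁻¹ := by
      intro s hs1 hs2
      have hpg' : IsPGroup 2 (Subgroup.zpowers s) := by
        apply IsPGroup.of_card (n := 1)
        rw [Nat.card_zpowers, pow_one]
        exact orderOf_eq_prime (by rw [pow_two]; exact hs2) hs1
      obtain ⟨P', hP'⟩ := hpg'.exists_le_sylow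
      obtain ⟨γ', hγ'⟩ := sylow_conj hm hF P'
      obtain ⟨a, b, hab⟩ := (hγ' s).mp (hP' (Subgroup.mem_zpowers s))
      have h1 : u hm hF a b * u hm hF a b = 1 := by
        rw [← hab]
        calc γ'⁻¹ * s * γ' * (γ'⁻¹ * s * γ') = γ'⁻¹ * (s * s) * γ' := by group
          _ = 1 := by rw [hs2]; group
      have ha := a_zero_of_sq hm hF h1
      subst ha
      have hs_eq : s = γ' * u hm hF 0 b * γ'⁻¹ := by
        rw [← hab]
        group
      refine ⟨γ' * γ⁻¹, γ * u hm hF 0 b * γ⁻¹, hE3 b, ?_, ?_⟩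
      · intro h
        apply hs1
        have h2 : u hm hF 0 b = 1 := by
          have e : u hm hF 0 b = γ⁻¹ * (γ * u hm hF 0 b * γ⁻¹) * γ := by group
          rw [e, h]
          group
        rw [hs_eq, h2]
        group
      · rw [hs_eq]
        group
    have hh2 : h * h ≠ 1 := odd_order_sq_ne hh1 hodd
    suffices hsuff : ∃ s : ↥(Cfsg.Sz F m), s ≠ 1 ∧ s * s = 1 ∧
        s * h * s⁻¹ ∈ Subgroup.zpowers h ∧ s * h * s⁻¹ ≠ h by
      obtain ⟨s, hs1, hs2, hs3, hs4⟩ := hsuff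
      obtain ⟨x, t, ht, ht1, rfl⟩ := hinv s hs1 hs2
      exact ⟨x, t, ht, ht1, hs3, hs4⟩
    have hh1' : h.1 ≠ 1 := fun e => hh1 (Subtype.ext e)
    rcases trichotomy hm hF h.2 hh1' with ⟨x, hx, k, hk1, hk⟩ | ⟨x, hx, a, b, hab, hk⟩ | hfpf
    · -- conjugate to a diagonal element: inverted by a conjugate of `W`
      obtain ⟨xs, hxs⟩ : ∃ xs : ↥(Cfsg.Sz F m), xs = ⟨x, hx⟩ := ⟨_, rfl⟩
      obtain ⟨w, hw⟩ : ∃ w : ↥(Cfsg.Sz F m), w = ⟨W hs, W_mem hm hF⟩ := ⟨_, rfl⟩
      have hw2 : w * w = 1 := by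
        rw [hw]
        exact Subtype.ext (W_sq hs)
      have hk' : xs * h * xs⁻¹ = DHom hm hF k := by
        rw [hxs]
        exact Subtype.ext hk
      have hconj : w * DHom hm hF k * w⁻¹ = (DHom hm hF k)⁻¹ := by
        rw [mul_inv_eq_iff_eq_mul, ← map_inv, hw]
        exact Subtype.ext (W_D hs k)
      have e : xs⁻¹ * w * xs * h * (xs⁻¹ * w * xs)⁻¹ = h⁻¹ := by
        calc xs⁻¹ * w * xs * h * (xs⁻¹ * w * xs)⁻¹
            = xs⁻¹ * (w * (xs * h * xs⁻¹) * w⁻¹) * xs := by group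
          _ = xs⁻¹ * (xs * h * xs⁻¹)⁻¹ * xs := by rw [hk', hconj]
          _ = h⁻¹ := by group
      refine ⟨xs⁻¹ * w * xs, ?_, ?_, ?_, ?_⟩
      · intro e1
        have hw1 : w = 1 := by
          have e2 : w = xs * (xs⁻¹ * w * xs) * xs⁻¹ := by group
          rw [e2, e1]
          group
        have hW1 : W hs = 1 := by
          have := congrArg Subtype.val hw1
          rw [hw] at this
          exact this
        have h3 := W_pInf (F := F) hs
        rw [hW1, one_smul] at h3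
        exact pZero_ne_inf h3.symm
      · calc xs⁻¹ * w * xs * (xs⁻¹ * w * xs) = xs⁻¹ * (w * w) * xs := by group
          _ = 1 := by rw [hw2]; group
      · rw [e]
        exact inv_mem (Subgroup.mem_zpowers h)
      · rw [e]
        intro e2
        apply hh2
        rw [inv_eq_iff_mul_eq_one] at e2
        exact e2
    · -- a 2-element: impossible
      exfalso
      have h4 : h ^ 4 = 1 := by
        apply Subtype.ext
        show h.1 ^ 4 = 1
        have e : h.1 = x⁻¹ * T (2 ^ (m + 1)) a b * x⁻¹⁻¹ := by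
          rw [← hk]
          group
        rw [e, conj_pow, T_pow4 hm hF]
        group
      have hd : orderOf h ∣ 4 := orderOf_dvd_of_pow_eq_one h4
      have hle := Nat.le_of_dvd (by norm_num) hd
      obtain ⟨r, hr⟩ := hodd
      have h1 : orderOf h = 1 := by
        generalize orderOf h = n at *
        interval_cases n <;> omega
      exact hh1 (orderOf_eq_one_iff.mp h1)
    · -- fixed-point-free: an involution of `N(C(h))`
      have hF' : Cfsg.Agent.Lib.Helper14.SzTori.Fpf h := hfpf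
      obtain ⟨hmain, _, _⟩ := Cfsg.Agent.Lib.Helper14.SzTori.main hm hF
      obtain ⟨_, hcN⟩ := hmain h hF'
      have hdvd := Cfsg.Agent.Lib.Helper14.SzTori.cA_dvd hm hF hF'
      have hcyc := Cfsg.Agent.Lib.Helper14.SzTori.cent_cyclic hm hF hF'
      have hoddA : ¬ 2 ∣ Nat.card ↥(Subgroup.centralizer ({h} : Set ↥(Cfsg.Sz F m))) := by
        intro h2
        have h3 : 2 ∣ (2 ^ (2 * m + 1)) ^ 2 + 1 := dvd_trans h2 hdvd
        have h4 : 2 ∣ (2 ^ (2 * m + 1)) ^ 2 := dvd_pow (dvd_pow_self 2 (by omega)) (by norm_num)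
        omega
      have h2N : 2 ∣ Nat.card ↥(Subgroup.normalizer
          ((Subgroup.centralizer ({h} : Set ↥(Cfsg.Sz F m)) : Subgroup ↥(Cfsg.Sz F m)) :
            Set ↥(Cfsg.Sz F m))) := by
        have h5 : Cfsg.Agent.Lib.Helper14.SzTori.cN h =
            4 * Cfsg.Agent.Lib.Helper14.SzTori.cA h := hcN
        unfold Cfsg.Agent.Lib.Helper14.SzTori.cN at h5
        rw [h5]
        exact ⟨2 * Cfsg.Agent.Lib.Helper14.SzTori.cA h, by ring⟩
      obtain ⟨s', hs'⟩ := exists_prime_orderOf_dvd_card' 2 h2N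
      obtain ⟨s, hsN⟩ := s'
      have hso : orderOf s = 2 := by
        rw [← hs']
        exact (Subgroup.orderOf_mk s hsN).symm
      have hs1 : s ≠ 1 := by
        intro e
        rw [e, orderOf_one] at hso
        norm_num at hso
      have hs2 : s * s = 1 := by
        rw [← pow_two, ← hso]
        exact pow_orderOf_eq_one s
      have hsA : s ∉ Subgroup.centralizer ({h} : Set ↥(Cfsg.Sz F m)) := by
        intro hmem
        have h6 := Subgroup.orderOf_dvd_natCard _ hmem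
        rw [hso] at h6
        exact hoddA h6
      refine ⟨s, hs1, hs2, ?_, ?_⟩
      · obtain ⟨c, hc⟩ := hcyc.exists_generator
        have hhA : h ∈ Subgroup.centralizer ({h} : Set ↥(Cfsg.Sz F m)) :=
          Cfsg.Agent.Lib.Helper14.SzTori.self_mem_cent h
        obtain ⟨i, hi⟩ := Subgroup.mem_zpowers_iff.mp (hc ⟨h, hhA⟩)
        have hcs : s * c.1 * s⁻¹ ∈ Subgroup.centralizer ({h} : Set ↥(Cfsg.Sz F m)) :=
          (Subgroup.mem_normalizer_iff.mp hsN c.1).mp c.2
        obtain ⟨j, hj⟩ := Subgroup.mem_zpowers_iff.mp (hc ⟨s * c.1 * s⁻¹, hcs⟩)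
        have hi' : c.1 ^ i = h := by
          have h7 := congrArg Subtype.val hi
          rw [Subgroup.coe_zpow] at h7
          exact h7
        have hj' : c.1 ^ j = s * c.1 * s⁻¹ := by
          have h7 := congrArg Subtype.val hj
          rw [Subgroup.coe_zpow] at h7
          exact h7
        rw [Subgroup.mem_zpowers_iff]
        refine ⟨j, ?_⟩
        rw [← hi', ← _root_.zpow_mul, mul_comm, _root_.zpow_mul, hj', conj_zpow]
      · intro e
        apply hsA
        rw [Cfsg.Agent.Lib.Helper14.SzTori.mem_cent_iff]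
        exact mul_inv_eq_iff_eq_mul.mp e

/-- the requested property for the Lie-type model of the Suzuki group. -/
theorem sz_R (hm : 1 ≤ m) (hF : Fintype.card F = 2 ^ (2 * m + 1))
    (E : Subgroup (Cfsg.Lie.Sz F (2 ^ (m + 1)))) (hE2 : ∀ t, t ∈ E → t * t = 1)
    (hEc : Nat.card E = 2 ^ (2 * m + 1)) :
    (∀ x t, t ∈ E → t ≠ 1 → x * t * x⁻¹ ∈ Subgroup.normalizer (E : Set _) →
      x ∈ Subgroup.normalizer (E : Set _)) ∧
    (∀ h, h ≠ 1 → Odd (orderOf h) → ∃ x t, t ∈ E ∧ t ≠ 1 ∧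
      (x * t * x⁻¹) * h * (x * t * x⁻¹)⁻¹ ∈ Subgroup.zpowers h ∧
      (x * t * x⁻¹) * h * (x * t * x⁻¹)⁻¹ ≠ h) :=
  (sz_R_ovoid hm hF).of_equiv (Cfsg.Agent.Lib.Helper14.SzLink.szEquiv hm hF) E hE2 hEc

end Cfsg.Agent.Lib.Helper3.SzR
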