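import Mathlib
import Cfsg.Prelude.Def_Sporadic_a

set_option autoImplicit false

namespace Cfsg.Agent.Lib.Helper3.Golay

open Cfsg

def idx : GolayPt → ℕ
  | none => 23
  | some x => ZMod.val x

theorem idx_lt (p : GolayPt) : idx p < 24 := by
  revert p; decide

theorem idx_injective : Function.Injective idx := by
  intro p q; revert p q; decide

theorem idx_surj : ∀ i < 24, ∃ p : GolayPt, idx p = i := by
  decide

def dec (n : ℕ) : GolayPt → ZMod 2 := fun p => if n.testBit (idx p) then 1 else 0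

theorem dec_zero : dec 0 = 0 := by
  funext p; simp [dec]

theorem dec_xor (a b : ℕ) : dec (a ^^^ b) = dec a + dec b := by
  funext p
  simp only [dec, Pi.add_apply, Nat.testBit_xor]
  cases a.testBit (idx p) <;> cases b.testBit (idx p) <;> decide

theorem dec_and (a b : ℕ) : dec (a &&& b) = dec a * dec b := by
  funext p
  simp only [dec, Pi.mul_apply, Nat.testBit_and]
  cases a.testBit (idx p) <;> cases b.testBit (idx p) <;> decide

theorem dec_ne_zero_iff (n : ℕ) (p : GolayPt) : dec n p ≠ 0 ↔ n.testBit (idx p) = true := by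
  simp only [dec]
  cases n.testBit (idx p) <;> decide

theorem dec_eq_one_iff (n : ℕ) (p : GolayPt) : dec n p = 1 ↔ n.testBit (idx p) = true := by
  simp only [dec]
  cases n.testBit (idx p) <;> decide

theorem dec_inj {a b : ℕ} (ha : a < 2 ^ 24) (hb : b < 2 ^ 24) (h : dec a = dec b) : a = b := by
  apply Nat.eq_of_testBit_eq
  intro i
  by_cases hi : i < 24
  · obtain ⟨p, rfl⟩ := idx_surj i hi
    have := congrFun h p
    simp only [dec] at this
    revert this
    cases a.testBit (idx p) <;> cases b.testBit (idx p) <;> decide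
  · have h24 : 2 ^ 24 ≤ 2 ^ i := Nat.pow_le_pow_right (by norm_num) (by omega)
    rw [Nat.testBit_lt_two_pow (lt_of_lt_of_le ha h24),
      Nat.testBit_lt_two_pow (lt_of_lt_of_le hb h24)]

theorem support_dec (n : ℕ) :
    support₂ (dec n) = Finset.univ.filter (fun p => n.testBit (idx p) = true) := by
  ext p
  simp only [support₂, Finset.mem_filter, Finset.mem_univ, true_and, dec_ne_zero_iff]

def pc (n : ℕ) : ℕ :=
  (Nat.add (Nat.mod n 2)
    (Nat.add (Nat.mod (Nat.div n 2) 2)
    (Nat.add (Nat.mod (Nat.div n 4) 2)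
    (Nat.add (Nat.mod (Nat.div n 8) 2)
    (Nat.add (Nat.mod (Nat.div n 16) 2)
    (Nat.add (Nat.mod (Nat.div n 32) 2)
    (Nat.add (Nat.mod (Nat.div n 64) 2)
    (Nat.add (Nat.mod (Nat.div n 128) 2)
    (Nat.add (Nat.mod (Nat.div n 256) 2)
    (Nat.add (Nat.mod (Nat.div n 512) 2)
    (Nat.add (Nat.mod (Nat.div n 1024) 2)
    (Nat.add (Nat.mod (Nat.div n 2048) 2)
    (Nat.add (Nat.mod (Nat.div n 4096) 2)
    (Nat.add (Nat.mod (Nat.div n 8192) 2)
    (Nat.add (Nat.mod (Nat.div n 16384) 2)
    (Nat.add (Nat.mod (Nat.div n 32768) 2)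
    (Nat.add (Nat.mod (Nat.div n 65536) 2)
    (Nat.add (Nat.mod (Nat.div n 131072) 2)
    (Nat.add (Nat.mod (Nat.div n 262144) 2)
    (Nat.add (Nat.mod (Nat.div n 524288) 2)
    (Nat.add (Nat.mod (Nat.div n 1048576) 2)
    (Nat.add (Nat.mod (Nat.div n 2097152) 2)
    (Nat.add (Nat.mod (Nat.div n 4194304) 2)
    (Nat.mod (Nat.div n 8388608) 2))))))))))))))))))))))))

theorem pc_def (n : ℕ) : pc n =
    n % 2 +
    (n / 2 % 2 +
    (n / 4 % 2 +
    (n / 8 % 2 +
    (n / 16 % 2 +
    (n / 32 % 2 +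
    (n / 64 % 2 +
    (n / 128 % 2 +
    (n / 256 % 2 +
    (n / 512 % 2 +
    (n / 1024 % 2 +
    (n / 2048 % 2 +
    (n / 4096 % 2 +
    (n / 8192 % 2 +
    (n / 16384 % 2 +
    (n / 32768 % 2 +
    (n / 65536 % 2 +
    (n / 131072 % 2 +
    (n / 262144 % 2 +
    (n / 524288 % 2 +
    (n / 1048576 % 2 +
    (n / 2097152 % 2 +
    (n / 4194304 % 2 +
    (n / 8388608 % 2))))))))))))))))))))))) := rfl

theorem pc_eq_sum (n : ℕ) : pc n = ∑ i ∈ Finset.range 24, n / 2 ^ i % 2 := by
  rw [pc_def]
  simp only [Finset.sum_range_succ, Finset.sum_range_zero]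
  norm_num
  ring

theorem image_idx : (Finset.univ : Finset GolayPt).image idx = Finset.range 24 := by
  decide

theorem card_filter_testBit (n : ℕ) :
    (Finset.univ.filter (fun p : GolayPt => n.testBit (idx p) = true)).card = pc n := by
  have h1 : (Finset.univ.filter (fun p : GolayPt => n.testBit (idx p) = true)).card =
      ((Finset.range 24).filter (fun i => n.testBit i = true)).card := by
    rw [← image_idx, Finset.filter_image, Finset.card_image_of_injective _ idx_injective]
  rw [h1, pc_eq_sum, Finset.card_filter]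
  apply Finset.sum_congr rfl
  intro i _
  rw [← Nat.toNat_testBit]
  cases n.testBit i <;> rfl

theorem card_support_dec (n : ℕ) : (support₂ (dec n)).card = pc n := by
  rw [support_dec, card_filter_testBit]

theorem hammingNorm_eq_card_support (w : GolayPt → ZMod 2) :
    hammingNorm w = (support₂ w).card := by
  unfold hammingNorm support₂
  congr 1

theorem hammingNorm_dec (n : ℕ) : hammingNorm (dec n) = pc n := by
  rw [hammingNorm_eq_card_support, card_support_dec]

theorem sum_dec (n : ℕ) : ∑ p, dec n p = ((pc n : ℕ) : ZMod 2) := by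
  rw [← card_filter_testBit]
  simp only [dec]
  rw [Finset.sum_boole]

def gens : List ℕ := [340831, 681662, 1363324, 2726648, 5453296, 2517985, 5035970, 1683333, 3366666, 6733332, 5078057, 1767507, 3535014, 7070028, 5751449, 3114291, 6228582, 4068557, 8137114, 7885621, 7382635, 6376663, 4364719]

theorem qrWord_eq_aux :
    ∀ t : ZMod 23, ∀ p : GolayPt, qrWord t p = dec (gens.getD (ZMod.val t) 0) p := by
  decide +kernel

theorem qrWord_eq (t : ZMod 23) : qrWord t = dec (gens.getD (ZMod.val t) 0) :=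
  funext (qrWord_eq_aux t)

theorem dec_ones_aux : ∀ p : GolayPt, dec 16777215 p = 1 := by
  decide +kernel

theorem dec_ones : dec 16777215 = 1 :=
  funext dec_ones_aux

def basis : List ℕ := [340831, 681662, 1363324, 2726648, 5453296, 2517985, 5035970, 1683333, 3366666, 6733332, 5078057, 16777215]

def comb : List ℕ → ℕ → ℕ
  | [], _ => 0
  | g :: L, k => (k % 2 * g) ^^^ comb L (k / 2)

def cw (k : ℕ) : ℕ :=
  (Nat.xor (Nat.mul (Nat.mod k 2) 340831)
    (Nat.xor (Nat.mul (Nat.mod (Nat.div k 2) 2) 681662)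
    (Nat.xor (Nat.mul (Nat.mod (Nat.div k 4) 2) 1363324)
    (Nat.xor (Nat.mul (Nat.mod (Nat.div k 8) 2) 2726648)
    (Nat.xor (Nat.mul (Nat.mod (Nat.div k 16) 2) 5453296)
    (Nat.xor (Nat.mul (Nat.mod (Nat.div k 32) 2) 2517985)
    (Nat.xor (Nat.mul (Nat.mod (Nat.div k 64) 2) 5035970)
    (Nat.xor (Nat.mul (Nat.mod (Nat.div k 128) 2) 1683333)
    (Nat.xor (Nat.mul (Nat.mod (Nat.div k 256) 2) 3366666)
    (Nat.xor (Nat.mul (Nat.mod (Nat.div k 512) 2) 6733332)
    (Nat.xor (Nat.mul (Nat.mod (Nat.div k 1024) 2) 5078057)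
    (Nat.mul (Nat.mod (Nat.div k 2048) 2) 16777215))))))))))))

theorem cw_def (k : ℕ) : cw k =
    k % 2 * 340831 ^^^
    (k / 2 % 2 * 681662 ^^^
    (k / 4 % 2 * 1363324 ^^^
    (k / 8 % 2 * 2726648 ^^^
    (k / 16 % 2 * 5453296 ^^^
    (k / 32 % 2 * 2517985 ^^^
    (k / 64 % 2 * 5035970 ^^^
    (k / 128 % 2 * 1683333 ^^^
    (k / 256 % 2 * 3366666 ^^^
    (k / 512 % 2 * 6733332 ^^^
    (k / 1024 % 2 * 5078057 ^^^
    (k / 2048 % 2 * 16777215))))))))))) := rfl

theorem cw_eq_comb (k : ℕ) : cw k = comb basis k := by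
  rw [cw_def]
  simp only [comb, basis, Nat.div_div_eq_div_mul, Nat.xor_zero]

theorem bit_xor_mul (k k' g : ℕ) : (k ^^^ k') % 2 * g = (k % 2 * g) ^^^ (k' % 2 * g) := by
  rw [Nat.xor_mod_two_eq, Nat.add_mod]
  rcases Nat.mod_two_eq_zero_or_one k with h | h <;>
  rcases Nat.mod_two_eq_zero_or_one k' with h' | h' <;>
  simp [h, h']

theorem comb_xor (L : List ℕ) (k k' : ℕ) : comb L (k ^^^ k') = comb L k ^^^ comb L k' := by
  induction L generalizing k k' with
  | nil => simp [comb]
  | cons g L ih =>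
    simp only [comb]
    rw [bit_xor_mul, Nat.xor_div_two, ih]
    ac_rfl

theorem cw_xor (k k' : ℕ) : cw (k ^^^ k') = cw k ^^^ cw k' := by
  rw [cw_eq_comb, cw_eq_comb, cw_eq_comb, comb_xor]

theorem comb_lt (L : List ℕ) (hL : ∀ g ∈ L, g < 2 ^ 24) (k : ℕ) : comb L k < 2 ^ 24 := by
  induction L generalizing k with
  | nil => simp [comb]
  | cons g L ih =>
    simp only [comb]
    apply Nat.xor_lt_two_pow
    · have hg := hL g (by simp)
      rcases Nat.mod_two_eq_zero_or_one k with h | h
      · simp [h]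
      · rw [h, one_mul]
        exact hg
    · exact ih (fun g' hg' => hL g' (by simp [hg'])) _

theorem basis_lt : ∀ g ∈ basis, g < 2 ^ 24 := by
  decide

theorem cw_lt (k : ℕ) : cw k < 2 ^ 24 := by
  rw [cw_eq_comb]
  exact comb_lt basis basis_lt k

def wtOK (n : ℕ) : Bool := Nat.beq n 0 || Nat.beq n 8 || Nat.beq n 12 || Nat.beq n 16 || Nat.beq n 24

theorem wtOK_iff (n : ℕ) : wtOK n = true ↔ n = 0 ∨ n = 8 ∨ n = 12 ∨ n = 16 ∨ n = 24 := by
  simp [wtOK, or_assoc]

theorem check_weights : (List.range 4096).all (fun k => wtOK (pc (cw k))) = true := by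
  decide +kernel

theorem check_inj : (List.range 4096).all (fun k => Nat.beq k 0 || !(Nat.beq (cw k) 0)) = true := by
  decide +kernel

def kts : List ℕ := [1, 2, 4, 8, 16, 32, 64, 128, 256, 512, 1024, 739, 1478, 367, 734, 1468, 411, 822, 1644, 1595, 1685, 1993, 1393]

theorem check_gens :
    (List.range 23).all (fun t => Nat.beq (cw (kts.getD t 0)) (gens.getD t 0) &&
      Nat.blt (kts.getD t 0) 4096) = true := by
  decide +kernel

theorem count_weight_eight :
    ((Finset.range 4096).filter (fun k => pc (cw k) = 8)).card = 759 := by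
  decide +kernel

theorem count_weight_twelve :
    ((Finset.range 4096).filter (fun k => pc (cw k) = 12)).card = 2576 := by
  decide +kernel

theorem ones_eq : cw 2048 = 16777215 := by
  decide +kernel

theorem cw_zero : cw 0 = 0 := by
  decide +kernel

theorem gens_mem_model (t : ZMod 23) :
    ∃ k < 4096, dec (gens.getD (ZMod.val t) 0) = dec (cw k) := by
  have h := check_gens
  rw [List.all_eq_true] at h
  have ht : ZMod.val t < 23 := ZMod.val_lt t
  have h2 := h (ZMod.val t) (List.mem_range.mpr ht)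
  simp only [Bool.and_eq_true, Nat.blt_eq] at h2
  exact ⟨kts.getD (ZMod.val t) 0, h2.2, by rw [Nat.eq_of_beq_eq_true h2.1]⟩

theorem qrWord_mem (t : ZMod 23) : qrWord t ∈ golayCode :=
  Submodule.subset_span (Or.inl ⟨t, rfl⟩)

theorem one_mem : (1 : GolayPt → ZMod 2) ∈ golayCode :=
  Submodule.subset_span (Or.inr rfl)

theorem basis_cases :
    ∀ g ∈ basis, g = 16777215 ∨ ∃ t : ZMod 23, g = gens.getD (ZMod.val t) 0 := by
  decide +kernel

theorem basis_mem : ∀ g ∈ basis, dec g ∈ golayCode := by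
  intro g hg
  rcases basis_cases g hg with rfl | ⟨t, rfl⟩
  · rw [dec_ones]
    exact one_mem
  · rw [← qrWord_eq]
    exact qrWord_mem t

theorem comb_mem (L : List ℕ) (hL : ∀ g ∈ L, dec g ∈ golayCode) (k : ℕ) :
    dec (comb L k) ∈ golayCode := by
  induction L generalizing k with
  | nil =>
    simp only [comb]
    rw [dec_zero]
    exact Submodule.zero_mem _
  | cons g L ih =>
    simp only [comb]
    rw [dec_xor]
    apply Submodule.add_mem
    · rcases Nat.mod_two_eq_zero_or_one k with h | h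
      · rw [h, zero_mul, dec_zero]
        exact Submodule.zero_mem _
      · rw [h, one_mul]
        exact hL g (by simp)
    · exact ih (fun g' hg' => hL g' (by simp [hg'])) _

theorem dec_cw_mem (k : ℕ) : dec (cw k) ∈ golayCode := by
  rw [cw_eq_comb]
  exact comb_mem basis basis_mem k

theorem mem_golayCode_iff (w : GolayPt → ZMod 2) :
    w ∈ golayCode ↔ ∃ k < 4096, w = dec (cw k) := by
  constructor
  · intro hw
    unfold golayCode at hw
    induction hw using Submodule.span_induction with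
    | mem x hx =>
      rcases hx with ⟨t, rfl⟩ | hx
      · obtain ⟨k, hk, h⟩ := gens_mem_model t
        exact ⟨k, hk, by rw [qrWord_eq, h]⟩
      · rw [Set.mem_singleton_iff] at hx
        subst hx
        exact ⟨2048, by norm_num, by rw [ones_eq, dec_ones]⟩
    | zero => exact ⟨0, by norm_num, by rw [cw_zero, dec_zero]⟩
    | add x y _ _ hx hy =>
      obtain ⟨k, hk, rfl⟩ := hx
      obtain ⟨k', hk', rfl⟩ := hy
      exact ⟨k ^^^ k', Nat.xor_lt_two_pow (n := 12) hk hk', by rw [cw_xor, dec_xor]⟩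
    | smul c x _ hx =>
      obtain ⟨k, hk, rfl⟩ := hx
      have hc : c = 0 ∨ c = 1 := by
        revert c; decide
      rcases hc with rfl | rfl
      · exact ⟨0, by norm_num, by rw [cw_zero, dec_zero, zero_smul]⟩
      · exact ⟨k, hk, by rw [one_smul]⟩
  · rintro ⟨k, hk, rfl⟩
    exact dec_cw_mem k

theorem weight_cases {w : GolayPt → ZMod 2} (hw : w ∈ golayCode) :
    hammingNorm w = 0 ∨ hammingNorm w = 8 ∨ hammingNorm w = 12 ∨ hammingNorm w = 16 ∨
      hammingNorm w = 24 := by
  obtain ⟨k, hk, rfl⟩ := (mem_golayCode_iff w).mp hw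
  rw [hammingNorm_dec, ← wtOK_iff]
  have h := check_weights
  rw [List.all_eq_true] at h
  exact h k (List.mem_range.mpr hk)

def allGens : List ℕ := [340831, 681662, 1363324, 2726648, 5453296, 2517985, 5035970, 1683333, 3366666, 6733332, 5078057, 1767507, 3535014, 7070028, 5751449, 3114291, 6228582, 4068557, 8137114, 7885621, 7382635, 6376663, 4364719, 16777215]

theorem check_orth :
    (List.range 24).all (fun i => (List.range 24).all (fun j =>
      pc (allGens.getD i 0 &&& allGens.getD j 0) % 2 == 0)) = true := by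
  decide +kernel

theorem allGens_eq_gens : ∀ i < 23, allGens.getD i 0 = gens.getD i 0 := by
  decide +kernel

theorem gen_cases (x : GolayPt → ZMod 2) (hx : x ∈ Set.range qrWord ∪ {1}) :
    ∃ i < 24, x = dec (allGens.getD i 0) := by
  rcases hx with ⟨t, rfl⟩ | hx
  · have ht : ZMod.val t < 23 := ZMod.val_lt t
    exact ⟨ZMod.val t, by omega, by rw [allGens_eq_gens _ ht, qrWord_eq]⟩
  · rw [Set.mem_singleton_iff] at hx
    subst hx
    exact ⟨23, by norm_num, by rw [show allGens.getD 23 0 = 16777215 from rfl, dec_ones]⟩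

theorem dot_dec (a b : ℕ) : ∑ i, dec a i * dec b i = ((pc (a &&& b) : ℕ) : ZMod 2) := by
  rw [← sum_dec, dec_and]
  rfl

theorem dot_eq_zero {v w : GolayPt → ZMod 2} (hv : v ∈ golayCode) (hw : w ∈ golayCode) :
    ∑ i, v i * w i = 0 := by
  unfold golayCode at hv hw
  induction hv, hw using Submodule.span_induction₂ with
  | mem_mem x y hx hy =>
    obtain ⟨i, hi, rfl⟩ := gen_cases x hx
    obtain ⟨j, hj, rfl⟩ := gen_cases y hy
    rw [dot_dec]
    have h := check_orth
    rw [List.all_eq_true] at h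
    have h2 := h i (List.mem_range.mpr hi)
    rw [List.all_eq_true] at h2
    have h3 := h2 j (List.mem_range.mpr hj)
    have h4 : pc (allGens.getD i 0 &&& allGens.getD j 0) % 2 = 0 := beq_iff_eq.mp h3
    rw [ZMod.natCast_eq_zero_iff]
    exact Nat.dvd_of_mod_eq_zero h4
  | zero_left y hy => simp
  | zero_right x hx => simp
  | add_left x y z _ _ _ h1 h2 =>
    simp only [Pi.add_apply, add_mul, Finset.sum_add_distrib, h1, h2, add_zero]
  | add_right x y z _ _ _ h1 h2 =>
    simp only [Pi.add_apply, mul_add, Finset.sum_add_distrib, h1, h2, add_zero]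
  | smul_left r x y _ _ h =>
    simp only [Pi.smul_apply, smul_eq_mul, mul_assoc, ← Finset.mul_sum, h, mul_zero]
  | smul_right r x y _ _ h =>
    simp only [Pi.smul_apply, smul_eq_mul, mul_left_comm _ r, ← Finset.mul_sum, h, mul_zero]

theorem cw_injOn : ∀ k < 4096, ∀ k' < 4096, cw k = cw k' → k = k' := by
  intro k hk k' hk' h
  have h1 : cw (k ^^^ k') = 0 := by rw [cw_xor, h, Nat.xor_self]
  have h2 : k ^^^ k' < 4096 := Nat.xor_lt_two_pow (n := 12) hk hk'
  have h3 := check_inj
  rw [List.all_eq_true] at h3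
  have h4 := h3 _ (List.mem_range.mpr h2)
  rw [h1] at h4
  simp only [Bool.or_eq_true] at h4
  rcases h4 with h4 | h4
  · exact Nat.xor_eq_zero_iff.mp (Nat.eq_of_beq_eq_true h4)
  · exact absurd h4 (by decide)

theorem support_injective :
    Function.Injective (support₂ : (GolayPt → ZMod 2) → Finset GolayPt) := by
  intro v w h
  funext p
  have h1 : p ∈ support₂ v ↔ p ∈ support₂ w := by rw [h]
  simp only [support₂, Finset.mem_filter, Finset.mem_univ, true_and] at h1
  have hv : ∀ x : ZMod 2, x = 0 ∨ x = 1 := by decide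
  rcases hv (v p) with h2 | h2 <;> rcases hv (w p) with h3 | h3 <;> simp_all

def supp (k : ℕ) : Finset GolayPt := support₂ (dec (cw k))

theorem supp_injOn : ∀ k < 4096, ∀ k' < 4096, supp k = supp k' → k = k' :=
  fun k hk k' hk' h =>
    cw_injOn k hk k' hk' (dec_inj (cw_lt k) (cw_lt k') (support_injective h))

theorem card_supp (k : ℕ) : (supp k).card = pc (cw k) :=
  card_support_dec _

theorem mem_supports_iff (b : Finset GolayPt) :
    b ∈ supports (golayCode : Set (GolayPt → ZMod 2)) ↔ ∃ k < 4096, b = supp k := by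
  unfold supports
  constructor
  · rintro ⟨w, hw, rfl⟩
    obtain ⟨k, hk, rfl⟩ := (mem_golayCode_iff w).mp hw
    exact ⟨k, hk, rfl⟩
  · rintro ⟨k, hk, rfl⟩
    exact ⟨dec (cw k), dec_cw_mem k, rfl⟩

theorem wordsOfWeight_eq (n : ℕ) :
    wordsOfWeight (golayCode : Set (GolayPt → ZMod 2)) n =
      supp '' {k | k < 4096 ∧ pc (cw k) = n} := by
  ext b
  simp only [wordsOfWeight, Set.mem_ofPred_eq, mem_supports_iff, Set.mem_image]
  constructor
  · rintro ⟨⟨k, hk, rfl⟩, hcard⟩
    exact ⟨k, ⟨hk, by rw [← card_supp]; exact hcard⟩, rfl⟩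
  · rintro ⟨k, ⟨hk, hpc⟩, rfl⟩
    exact ⟨⟨k, hk, rfl⟩, by rw [card_supp]; exact hpc⟩

theorem ncard_wordsOfWeight (n : ℕ) :
    (wordsOfWeight (golayCode : Set (GolayPt → ZMod 2)) n).ncard =
      ((Finset.range 4096).filter (fun k => pc (cw k) = n)).card := by
  rw [wordsOfWeight_eq, Set.ncard_image_of_injOn]
  · rw [← Set.ncard_coe_finset]
    congr 1
    ext k
    simp
  · intro k hk k' hk' h
    exact supp_injOn k hk.1 k' hk'.1 h

theorem ncard_octads : octads.ncard = 759 := by
  rw [octads, ncard_wordsOfWeight, count_weight_eight]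

theorem ncard_dodecads : dodecads.ncard = 2576 := by
  rw [dodecads, ncard_wordsOfWeight, count_weight_twelve]

theorem natCard_golayCode : Nat.card golayCode = 4096 := by
  have h1 : ((golayCode : Submodule (ZMod 2) (GolayPt → ZMod 2)) : Set (GolayPt → ZMod 2)) =
      (fun k => dec (cw k)) '' {k | k < 4096} := by
    ext w
    simp only [SetLike.mem_coe, mem_golayCode_iff, Set.mem_image, Set.mem_ofPred_eq]
    constructor
    · rintro ⟨k, hk, rfl⟩
      exact ⟨k, hk, rfl⟩
    · rintro ⟨k, hk, rfl⟩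
      exact ⟨k, hk, rfl⟩
  have h2 : Nat.card golayCode =
      ((golayCode : Submodule (ZMod 2) (GolayPt → ZMod 2)) : Set (GolayPt → ZMod 2)).ncard :=
    (Nat.card_coe_set_eq _)
  rw [h2, h1, Set.ncard_image_of_injOn]
  · have h3 : {k : ℕ | k < 4096} = ↑(Finset.range 4096) := by
      ext k
      simp
    rw [h3, Set.ncard_coe_finset, Finset.card_range]
  · intro k hk k' hk' h
    exact cw_injOn k hk k' hk' (dec_inj (cw_lt k) (cw_lt k') h)

theorem finrank_golayCode : Module.finrank (ZMod 2) golayCode = 12 := by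
  have h1 := natCard_golayCode
  haveI : Fintype golayCode := Fintype.ofFinite _
  have h2 : Nat.card golayCode = 2 ^ Module.finrank (ZMod 2) golayCode := by
    rw [Nat.card_eq_fintype_card, Module.card_eq_pow_finrank (K := ZMod 2), ZMod.card]
  rw [h1] at h2
  exact (Nat.pow_right_injective (le_refl 2) (h2.symm.trans (by norm_num : (4096 : ℕ) = 2 ^ 12)))

end Cfsg.Agent.Lib.Helper3.Golay
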