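import Mathlib
import Cfsg.Prelude.Def_Sporadic_a

set_option autoImplicit false

namespace Cfsg.Agent.Lib.Helper3.Steiner

open Finset

set_option linter.unusedSectionVars false

variable {α : Type*} [Fintype α] [DecidableEq α]

noncomputable def blocks (B : Set (Finset α)) : Finset (Finset α) := (Set.toFinite B).toFinset

theorem mem_blocks {B : Set (Finset α)} {b : Finset α} : b ∈ blocks B ↔ b ∈ B := by
  simp [blocks]

theorem card_blocks (B : Set (Finset α)) : (blocks B).card = B.ncard := by
  rw [blocks, Set.ncard_eq_toFinset_card B (Set.toFinite B)]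

theorem card_filter_superset (T c : Finset α) (hTc : T ⊆ c) (t : ℕ) (hT : T.card ≤ t) :
    ((powersetCard t c).filter (fun U => T ⊆ U)).card = Nat.choose (c.card - T.card) (t - T.card) := by
  rw [← card_sdiff_of_subset hTc, ← card_powersetCard]
  apply card_bij' (fun U _ => U \ T) (fun W _ => W ∪ T)
  · intro U hU
    rw [mem_filter, mem_powersetCard] at hU
    rw [mem_powersetCard]
    refine ⟨sdiff_subset_sdiff hU.1.1 (subset_refl T), ?_⟩
    rw [card_sdiff_of_subset hU.2, hU.1.2]
  · intro W hW
    rw [mem_powersetCard] at hW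
    rw [mem_filter, mem_powersetCard]
    have hdisj : Disjoint W T := by
      rw [disjoint_left]
      intro a haW haT
      exact (mem_sdiff.mp (hW.1 haW)).2 haT
    refine ⟨⟨union_subset (hW.1.trans sdiff_subset) hTc, ?_⟩, subset_union_right⟩
    rw [card_union_of_disjoint hdisj, hW.2]
    omega
  · intro U hU
    rw [mem_filter] at hU
    exact sdiff_union_of_subset hU.2
  · intro W hW
    rw [mem_powersetCard] at hW
    have hdisj : Disjoint W T := by
      rw [disjoint_left]
      intro a haW haT
      exact (mem_sdiff.mp (hW.1 haW)).2 haT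
    exact union_sdiff_cancel_right hdisj

theorem card_through {t k : ℕ} {B : Set (Finset α)} (hB : Cfsg.IsSteinerSystem t k B)
    (T : Finset α) (hT : T.card ≤ t) :
    ((blocks B).filter (fun c => T ⊆ c)).card * Nat.choose (k - T.card) (t - T.card) =
      Nat.choose (Fintype.card α - T.card) (t - T.card) := by
  obtain ⟨hcard, huniq⟩ := hB
  have h1 := card_filter_superset T univ (subset_univ T) t hT
  rw [card_univ] at h1
  rw [← h1]
  have key : (powersetCard t (univ : Finset α)).filter (fun U => T ⊆ U) =
      ((blocks B).filter (fun c => T ⊆ c)).biUnion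
        (fun c => (powersetCard t c).filter (fun U => T ⊆ U)) := by
    ext U
    simp only [mem_filter, mem_powersetCard, subset_univ, true_and, mem_biUnion, mem_blocks]
    constructor
    · rintro ⟨hU, hTU⟩
      obtain ⟨c, ⟨hc, hUc⟩, _⟩ := huniq U hU
      exact ⟨c, ⟨hc, hTU.trans hUc⟩, ⟨hUc, hU⟩, hTU⟩
    · rintro ⟨c, _, ⟨_, hU⟩, hTU⟩
      exact ⟨hU, hTU⟩
  rw [key, card_biUnion]
  · have hsum : ∀ c ∈ (blocks B).filter (fun c => T ⊆ c),
        ((powersetCard t c).filter (fun U => T ⊆ U)).card =
          Nat.choose (k - T.card) (t - T.card) := by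
      intro c hc
      rw [mem_filter, mem_blocks] at hc
      rw [card_filter_superset T c hc.2 t hT, hcard c hc.1]
    rw [sum_congr rfl hsum, sum_const, smul_eq_mul]
  · intro c hc c' hc' hcc'
    rw [Function.onFun, disjoint_left]
    intro U hU hU'
    rw [mem_filter, mem_powersetCard] at hU hU'
    rw [mem_coe, mem_filter, mem_blocks] at hc hc'
    obtain ⟨c0, _, hu⟩ := huniq U hU.1.2
    exact hcc' ((hu c ⟨hc.1, hU.1.1⟩).trans (hu c' ⟨hc'.1, hU'.1.1⟩).symm)

theorem inter_card_lt {t k : ℕ} {B : Set (Finset α)} (hB : Cfsg.IsSteinerSystem t k B)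
    {b c : Finset α} (hb : b ∈ B) (hc : c ∈ B) (hbc : b ≠ c) : (b ∩ c).card < t := by
  by_contra hlt
  rw [not_lt] at hlt
  obtain ⟨s, hs, hscard⟩ := exists_subset_card_eq hlt
  obtain ⟨c0, _, hu⟩ := hB.2 s hscard
  exact hbc ((hu b ⟨hb, hs.trans inter_subset_left⟩).trans
    (hu c ⟨hc, hs.trans inter_subset_right⟩).symm)

theorem sum_choose_inter {t k : ℕ} {B : Set (Finset α)} (hB : Cfsg.IsSteinerSystem t k B)
    {b : Finset α} (hb : b ∈ B) (i : ℕ) (hi : i ≤ t) (lam : ℕ)
    (hlam : lam * Nat.choose (k - i) (t - i) = Nat.choose (Fintype.card α - i) (t - i))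
    (hpos : 0 < Nat.choose (k - i) (t - i)) :
    ∑ c ∈ (blocks B).erase b, Nat.choose (b ∩ c).card i = Nat.choose k i * (lam - 1) := by
  have hthrough : ∀ T ∈ powersetCard i b, ((blocks B).filter (fun c => T ⊆ c)).card = lam := by
    intro T hT
    rw [mem_powersetCard] at hT
    have h := card_through hB T (by rw [hT.2]; exact hi)
    rw [hT.2, ← hlam] at h
    exact Nat.eq_of_mul_eq_mul_right hpos h
  have h1 : ∀ c ∈ (blocks B).erase b, Nat.choose (b ∩ c).card i =
      ((powersetCard i b).filter (fun T => T ⊆ c)).card := by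
    intro c _
    rw [← card_powersetCard]
    congr 1
    ext T
    simp only [mem_powersetCard, mem_filter, subset_inter_iff]
    tauto
  rw [sum_congr rfl h1]
  have h2 : ∑ c ∈ (blocks B).erase b, ((powersetCard i b).filter (fun T => T ⊆ c)).card =
      ∑ T ∈ powersetCard i b, (((blocks B).erase b).filter (fun c => T ⊆ c)).card := by
    simp only [card_filter]
    exact sum_comm
  rw [h2]
  have h3 : ∀ T ∈ powersetCard i b, (((blocks B).erase b).filter (fun c => T ⊆ c)).card = lam - 1 := by
    intro T hT
    rw [filter_erase, card_erase_of_mem, hthrough T hT]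
    rw [mem_filter, mem_blocks]
    exact ⟨hb, (mem_powersetCard.mp hT).1⟩
  rw [sum_congr rfl h3, sum_const, card_powersetCard, hB.1 b hb, smul_eq_mul]

theorem card_blocks_mul {t k : ℕ} {B : Set (Finset α)} (hB : Cfsg.IsSteinerSystem t k B) :
    (blocks B).card * Nat.choose k t = Nat.choose (Fintype.card α) t := by
  have h := card_through hB ∅ (by simp)
  simpa using h

end Cfsg.Agent.Lib.Helper3.Steiner
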