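import Mathlib
import Cfsg.Prelude.Def_Sporadic_a
import Cfsg.Agent.Lib.Helper3.Golay
import Cfsg.Agent.Lib.Helper3.Steiner

set_option autoImplicit false

namespace Cfsg.Agent.Lib.Helper3.Golay2

open Cfsg Cfsg.Agent.Lib.Helper3.Golay

theorem zmod2_cases (x : ZMod 2) : x = 0 ∨ x = 1 := by
  revert x; decide

theorem support_add (v w : GolayPt → ZMod 2) :
    support₂ (v + w) = symmDiff (support₂ v) (support₂ w) := by
  ext p
  simp only [support₂, Finset.mem_filter, Finset.mem_univ, true_and, Finset.mem_symmDiff,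
    Pi.add_apply]
  rcases zmod2_cases (v p) with h | h <;> rcases zmod2_cases (w p) with h' | h' <;>
    rw [h, h'] <;> decide

theorem support_zero : support₂ (0 : GolayPt → ZMod 2) = ∅ := by
  ext p
  simp [support₂]

theorem support_one : support₂ (1 : GolayPt → ZMod 2) = Finset.univ := by
  ext p
  simp [support₂]

theorem mem_supports {b : Finset GolayPt} :
    b ∈ supports (golayCode : Set (GolayPt → ZMod 2)) ↔ ∃ w ∈ golayCode, support₂ w = b :=
  Iff.rfl

theorem empty_mem_supports : (∅ : Finset GolayPt) ∈ supports (golayCode : Set (GolayPt → ZMod 2)) :=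
  ⟨0, Submodule.zero_mem _, support_zero⟩

theorem univ_mem_supports :
    (Finset.univ : Finset GolayPt) ∈ supports (golayCode : Set (GolayPt → ZMod 2)) :=
  ⟨1, one_mem, support_one⟩

theorem symmDiff_mem_supports {b c : Finset GolayPt}
    (hb : b ∈ supports (golayCode : Set (GolayPt → ZMod 2)))
    (hc : c ∈ supports (golayCode : Set (GolayPt → ZMod 2))) :
    symmDiff b c ∈ supports (golayCode : Set (GolayPt → ZMod 2)) := by
  obtain ⟨v, hv, rfl⟩ := hb
  obtain ⟨w, hw, rfl⟩ := hc
  exact ⟨v + w, Submodule.add_mem _ hv hw, support_add v w⟩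

theorem compl_mem_supports {b : Finset GolayPt}
    (hb : b ∈ supports (golayCode : Set (GolayPt → ZMod 2))) :
    bᶜ ∈ supports (golayCode : Set (GolayPt → ZMod 2)) := by
  have h := symmDiff_mem_supports hb univ_mem_supports
  have h2 : symmDiff b Finset.univ = bᶜ := by
    ext p
    simp [Finset.mem_symmDiff]
  rwa [h2] at h

theorem card_cases {b : Finset GolayPt}
    (hb : b ∈ supports (golayCode : Set (GolayPt → ZMod 2))) :
    b.card = 0 ∨ b.card = 8 ∨ b.card = 12 ∨ b.card = 16 ∨ b.card = 24 := by
  obtain ⟨w, hw, rfl⟩ := hb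
  rw [← hammingNorm_eq_card_support]
  exact weight_cases hw

theorem card_symmDiff_add {α : Type*} [DecidableEq α] (X Y : Finset α) :
    (symmDiff X Y).card + 2 * (X ∩ Y).card = X.card + Y.card := by
  have h1 : symmDiff X Y = (X \ Y) ∪ (Y \ X) := rfl
  have hdisj : Disjoint (X \ Y) (Y \ X) := by
    rw [Finset.disjoint_left]
    intro a ha hb
    rw [Finset.mem_sdiff] at ha hb
    exact ha.2 hb.1
  rw [h1, Finset.card_union_of_disjoint hdisj]
  have h2 := Finset.card_sdiff_add_card_inter X Y
  have h3 := Finset.card_sdiff_add_card_inter Y X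
  rw [Finset.inter_comm Y X] at h3
  omega

theorem even_card_inter {b c : Finset GolayPt}
    (hb : b ∈ supports (golayCode : Set (GolayPt → ZMod 2)))
    (hc : c ∈ supports (golayCode : Set (GolayPt → ZMod 2))) : Even (b ∩ c).card := by
  have h1 := card_cases hb
  have h2 := card_cases hc
  have h3 := card_cases (symmDiff_mem_supports hb hc)
  have h4 := card_symmDiff_add b c
  rw [Nat.even_iff]
  omega

theorem mem_octads {o : Finset GolayPt} :
    o ∈ octads ↔ o ∈ supports (golayCode : Set (GolayPt → ZMod 2)) ∧ o.card = 8 :=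
  Iff.rfl

theorem mem_dodecads {d : Finset GolayPt} :
    d ∈ dodecads ↔ d ∈ supports (golayCode : Set (GolayPt → ZMod 2)) ∧ d.card = 12 :=
  Iff.rfl

theorem eq_of_mem_supports_of_card_inter {b c : Finset GolayPt}
    (hb : b ∈ supports (golayCode : Set (GolayPt → ZMod 2)))
    (hc : c ∈ supports (golayCode : Set (GolayPt → ZMod 2)))
    (h : b.card + c.card < 8 + 2 * (b ∩ c).card) : b = c := by
  have h3 := card_cases (symmDiff_mem_supports hb hc)
  have h4 := card_symmDiff_add b c
  have h5 : (symmDiff b c).card = 0 := by omega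
  rw [Finset.card_eq_zero] at h5
  exact symmDiff_eq_bot.mp h5

theorem octads_inter_le {o o' : Finset GolayPt} (ho : o ∈ octads) (ho' : o' ∈ octads)
    (hne : o ≠ o') : (o ∩ o').card ≤ 4 := by
  by_contra hlt
  apply hne
  apply eq_of_mem_supports_of_card_inter ho.1 ho'.1
  rw [ho.2, ho'.2]
  omega

theorem octads_inter_cases {o o' : Finset GolayPt} (ho : o ∈ octads) (ho' : o' ∈ octads)
    (hne : o ≠ o') : (o ∩ o').card = 0 ∨ (o ∩ o').card = 2 ∨ (o ∩ o').card = 4 := by
  have h1 := octads_inter_le ho ho' hne
  have h2 := even_card_inter ho.1 ho'.1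
  rw [Nat.even_iff] at h2
  omega

theorem card_golayPt : Fintype.card GolayPt = 24 := by
  decide

open Cfsg.Agent.Lib.Helper3.Steiner in
theorem exists_octad (s : Finset GolayPt) (hs : s.card = 5) : ∃ o ∈ octads, s ⊆ o := by
  have hU : (blocks octads).biUnion (fun o => Finset.powersetCard 5 o) =
      Finset.powersetCard 5 Finset.univ := by
    apply Finset.eq_of_subset_of_card_le
    · intro t ht
      rw [Finset.mem_biUnion] at ht
      obtain ⟨o, _, ht⟩ := ht
      rw [Finset.mem_powersetCard] at ht ⊢
      exact ⟨Finset.subset_univ _, ht.2⟩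
    · rw [Finset.card_biUnion]
      · have hsum : ∀ o ∈ blocks octads, (Finset.powersetCard 5 o).card = 56 := by
          intro o ho
          rw [Finset.card_powersetCard, (mem_blocks.mp ho).2]
          decide
        rw [Finset.sum_congr rfl hsum, Finset.sum_const, card_blocks, ncard_octads,
          Finset.card_powersetCard, Finset.card_univ, card_golayPt]
        decide
      · intro o ho o' ho' hne
        rw [Function.onFun, Finset.disjoint_left]
        intro t ht ht'
        rw [Finset.mem_powersetCard] at ht ht'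
        have h1 := octads_inter_le (mem_blocks.mp ho) (mem_blocks.mp ho') hne
        have h2 : t.card ≤ (o ∩ o').card := Finset.card_le_card (Finset.subset_inter ht.1 ht'.1)
        omega
  have hmem : s ∈ Finset.powersetCard 5 (Finset.univ : Finset GolayPt) := by
    rw [Finset.mem_powersetCard]
    exact ⟨Finset.subset_univ _, hs⟩
  rw [← hU, Finset.mem_biUnion] at hmem
  obtain ⟨o, ho, hso⟩ := hmem
  exact ⟨o, mem_blocks.mp ho, (Finset.mem_powersetCard.mp hso).1⟩

theorem octads_steiner : IsSteinerSystem 5 8 octads := by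
  refine ⟨fun b hb => hb.2, fun s hs => ?_⟩
  obtain ⟨o, ho, hso⟩ := exists_octad s hs
  refine ⟨o, ⟨ho, hso⟩, ?_⟩
  rintro o' ⟨ho', hso'⟩
  by_contra hne
  have h1 := octads_inter_le ho' ho hne
  have h2 : s.card ≤ (o' ∩ o).card := Finset.card_le_card (Finset.subset_inter hso' hso)
  omega

end Cfsg.Agent.Lib.Helper3.Golay2
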