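import Mathlib
import Cfsg.Prelude.Def_Sporadic_a
import Cfsg.Agent.Lib.Helper3.Steiner

set_option autoImplicit false

namespace Cfsg.Agent.Lib.Helper3.Steiner2

open Finset Cfsg.Agent.Lib.Helper3.Steiner

set_option linter.unusedSectionVars false

variable {α : Type*} [Fintype α] [DecidableEq α]

theorem sum_choose_inter_set {t k : ℕ} {B : Set (Finset α)} (hB : Cfsg.IsSteinerSystem t k B)
    (d : Finset α) (i : ℕ) (hi : i ≤ t) (lam : ℕ)
    (hlam : lam * Nat.choose (k - i) (t - i) = Nat.choose (Fintype.card α - i) (t - i))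
    (hpos : 0 < Nat.choose (k - i) (t - i)) :
    ∑ c ∈ blocks B, Nat.choose (d ∩ c).card i = Nat.choose d.card i * lam := by
  have hthrough : ∀ T ∈ powersetCard i d, ((blocks B).filter (fun c => T ⊆ c)).card = lam := by
    intro T hT
    rw [mem_powersetCard] at hT
    have h := card_through hB T (by rw [hT.2]; exact hi)
    rw [hT.2, ← hlam] at h
    exact Nat.eq_of_mul_eq_mul_right hpos h
  have h1 : ∀ c ∈ blocks B, Nat.choose (d ∩ c).card i =
      ((powersetCard i d).filter (fun T => T ⊆ c)).card := by
    intro c _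
    rw [← card_powersetCard]
    congr 1
    ext T
    simp only [mem_powersetCard, mem_filter, subset_inter_iff]
    tauto
  rw [sum_congr rfl h1]
  have h2 : ∑ c ∈ blocks B, ((powersetCard i d).filter (fun T => T ⊆ c)).card =
      ∑ T ∈ powersetCard i d, ((blocks B).filter (fun c => T ⊆ c)).card := by
    simp only [card_filter]
    exact sum_comm
  rw [h2, sum_congr rfl hthrough, sum_const, card_powersetCard, smul_eq_mul]

end Cfsg.Agent.Lib.Helper3.Steiner2
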