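import Mathlib
import Cfsg.Prelude.Def_Sporadic_a
import Cfsg.Agent.Lib.Helper3.Golay
import Cfsg.Agent.Lib.Helper3.Golay2
import Cfsg.Agent.Lib.Helper3.Steiner
import Cfsg.Agent.Lib.Helper3.Steiner2

set_option autoImplicit false

namespace Cfsg.Agent.Lib.Helper3.Golay3

open Cfsg Cfsg.Agent.Lib.Helper3.Golay Cfsg.Agent.Lib.Helper3.Golay2
open Cfsg.Agent.Lib.Helper3.Steiner Cfsg.Agent.Lib.Helper3.Steiner2

theorem dodecad_octad_inter_cases {d o : Finset GolayPt} (hd : d ∈ dodecads) (ho : o ∈ octads) :
    (o ∩ d).card = 2 ∨ (o ∩ d).card = 4 ∨ (o ∩ d).card = 6 := by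
  have h3 := card_cases (symmDiff_mem_supports ho.1 hd.1)
  have h4 := card_symmDiff_add o d
  have h5 : (o ∩ d).card ≤ 8 := by
    rw [← ho.2]
    exact Finset.card_le_card Finset.inter_subset_left
  rw [ho.2, hd.2] at h4
  omega

theorem card_blocks_octads : (blocks octads).card = 759 := by
  rw [card_blocks, ncard_octads]

theorem sum_octads_choose_zero (d : Finset GolayPt) :
    ∑ o ∈ blocks octads, Nat.choose (d ∩ o).card 0 = 759 := by
  simp [card_blocks_octads]

theorem sum_octads_choose_one (d : Finset GolayPt) :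
    ∑ o ∈ blocks octads, Nat.choose (d ∩ o).card 1 = d.card * 253 := by
  have h := sum_choose_inter_set octads_steiner d 1 (by norm_num) 253
    (by rw [card_golayPt]; decide) (by decide)
  rw [h, Nat.choose_one_right]

theorem sum_octads_choose_two (d : Finset GolayPt) :
    ∑ o ∈ blocks octads, Nat.choose (d ∩ o).card 2 = Nat.choose d.card 2 * 77 :=
  sum_choose_inter_set octads_steiner d 2 (by norm_num) 77
    (by rw [card_golayPt]; decide) (by decide)

theorem sum_octads_choose_three (d : Finset GolayPt) :
    ∑ o ∈ blocks octads, Nat.choose (d ∩ o).card 3 = Nat.choose d.card 3 * 21 :=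
  sum_choose_inter_set octads_steiner d 3 (by norm_num) 21
    (by rw [card_golayPt]; decide) (by decide)

theorem sum_octads_choose_four (d : Finset GolayPt) :
    ∑ o ∈ blocks octads, Nat.choose (d ∩ o).card 4 = Nat.choose d.card 4 * 5 :=
  sum_choose_inter_set octads_steiner d 4 (by norm_num) 5
    (by rw [card_golayPt]; decide) (by decide)

theorem sum_octads_choose_five (d : Finset GolayPt) :
    ∑ o ∈ blocks octads, Nat.choose (d ∩ o).card 5 = Nat.choose d.card 5 * 1 :=
  sum_choose_inter_set octads_steiner d 5 (by norm_num) 1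
    (by rw [card_golayPt]; decide) (by decide)

theorem ncard_octads_filter (P : Finset GolayPt → Prop) [DecidablePred P] :
    {o : Finset GolayPt | o ∈ octads ∧ P o}.ncard = ((blocks octads).filter P).card := by
  rw [← Set.ncard_coe_finset]
  congr 1
  ext o
  simp [mem_blocks]

theorem dodecad_counts {d : Finset GolayPt} (hd : d ∈ dodecads) :
    ((blocks octads).filter (fun o => (o ∩ d).card = 6)).card = 132 ∧
    ((blocks octads).filter (fun o => (o ∩ d).card = 2)).card = 132 ∧
    ((blocks octads).filter (fun o => (o ∩ d).card = 4)).card = 495 := by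
  have h0 := card_blocks_octads
  have h1 := sum_octads_choose_one d
  have h2 := sum_octads_choose_two d
  rw [hd.2] at h1 h2
  have e : Nat.choose 12 2 = 66 := by decide
  rw [e] at h2
  have hpt6 : ∀ o ∈ blocks octads, 8 * (if (o ∩ d).card = 6 then 1 else 0) +
      5 * Nat.choose (d ∩ o).card 1 = 8 + 2 * Nat.choose (d ∩ o).card 2 := by
    intro o ho
    rw [Finset.inter_comm d o]
    rcases dodecad_octad_inter_cases hd (mem_blocks.mp ho) with h | h | h <;> rw [h] <;> decide
  have hpt2 : ∀ o ∈ blocks octads, 8 * (if (o ∩ d).card = 2 then 1 else 0) +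
      9 * Nat.choose (d ∩ o).card 1 = 24 + 2 * Nat.choose (d ∩ o).card 2 := by
    intro o ho
    rw [Finset.inter_comm d o]
    rcases dodecad_octad_inter_cases hd (mem_blocks.mp ho) with h | h | h <;> rw [h] <;> decide
  have hpt4 : ∀ o ∈ blocks octads, 4 * (if (o ∩ d).card = 4 then 1 else 0) + 12 +
      2 * Nat.choose (d ∩ o).card 2 = 7 * Nat.choose (d ∩ o).card 1 := by
    intro o ho
    rw [Finset.inter_comm d o]
    rcases dodecad_octad_inter_cases hd (mem_blocks.mp ho) with h | h | h <;> rw [h] <;> decide
  have hs6 := Finset.sum_congr (rfl : blocks octads = blocks octads) hpt6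
  have hs2 := Finset.sum_congr (rfl : blocks octads = blocks octads) hpt2
  have hs4 := Finset.sum_congr (rfl : blocks octads = blocks octads) hpt4
  simp only [Finset.sum_add_distrib, ← Finset.mul_sum, ← Finset.card_filter, Finset.sum_const,
    smul_eq_mul, h0, h1, h2] at hs6 hs2 hs4
  refine ⟨by omega, by omega, by omega⟩

end Cfsg.Agent.Lib.Helper3.Golay3
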