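import Mathlib
import Cfsg.Prelude.Def_Sporadic_a
import Cfsg.Agent.Lib.Helper3.Golay
import Cfsg.Agent.Lib.Helper3.Golay2

set_option autoImplicit false

namespace Cfsg.Agent.Lib.Helper3.GolayM24

open Cfsg Cfsg.Agent.Lib.Helper3.Golay Cfsg.Agent.Lib.Helper3.Golay2
open scoped Pointwise

theorem smul_support (σ : Equiv.Perm GolayPt) (w : GolayPt → ZMod 2) :
    σ • support₂ w = support₂ (w ∘ σ.symm) := by
  ext p
  rw [← Finset.inv_smul_mem_iff]
  simp only [support₂, Finset.mem_filter, Finset.mem_univ, true_and, Function.comp_apply,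
    Equiv.Perm.smul_def]
  rfl

theorem comp_mem_of_gens (σ : Equiv.Perm GolayPt)
    (h : ∀ t, qrWord t ∘ σ.symm ∈ golayCode) :
    ∀ w ∈ golayCode, w ∘ σ.symm ∈ golayCode := by
  intro w hw
  unfold golayCode at hw
  induction hw using Submodule.span_induction with
  | mem x hx =>
    rcases hx with ⟨t, rfl⟩ | hx
    · exact h t
    · rw [Set.mem_singleton_iff] at hx
      subst hx
      exact one_mem
  | zero => exact Submodule.zero_mem _
  | add x y _ _ hx hy => exact Submodule.add_mem _ hx hy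
  | smul c x _ hx => exact Submodule.smul_mem _ c hx

theorem mem_M24_iff (σ : Equiv.Perm GolayPt) :
    σ ∈ M24 ↔ σ • supports (golayCode : Set (GolayPt → ZMod 2)) =
      supports (golayCode : Set (GolayPt → ZMod 2)) :=
  Iff.rfl

theorem mem_M24_of_comp (σ : Equiv.Perm GolayPt)
    (h : ∀ w ∈ golayCode, w ∘ σ.symm ∈ golayCode) : σ ∈ M24 := by
  rw [mem_M24_iff]
  apply Set.eq_of_subset_of_ncard_le
  · rintro _ ⟨b, ⟨w, hw, rfl⟩, rfl⟩
    exact ⟨w ∘ σ.symm, h w hw, (smul_support σ w).symm⟩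
  · rw [← Set.image_smul, Set.ncard_image_of_injective _ (MulAction.injective σ)]
  · exact Set.toFinite _

theorem mem_M24_of_gens (σ : Equiv.Perm GolayPt)
    (h : ∀ t, qrWord t ∘ σ.symm ∈ golayCode) : σ ∈ M24 :=
  mem_M24_of_comp σ (comp_mem_of_gens σ h)

theorem mem_M24_of_check (σ : Equiv.Perm GolayPt) (ks : List ℕ)
    (h : ∀ t : ZMod 23, ∀ p : GolayPt,
      qrWord t p = dec (cw (ks.getD (ZMod.val t) 0)) (σ p)) : σ ∈ M24 := by
  apply mem_M24_of_gens
  intro t
  have h1 : qrWord t ∘ σ.symm = dec (cw (ks.getD (ZMod.val t) 0)) := by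
    funext p
    simp only [Function.comp_apply]
    rw [h t (σ.symm p), Equiv.apply_symm_apply]
  rw [h1]
  exact dec_cw_mem _

theorem comp_mem_of_mem_M24 {σ : Equiv.Perm GolayPt} (hσ : σ ∈ M24) :
    ∀ w ∈ golayCode, w ∘ σ.symm ∈ golayCode := by
  intro w hw
  rw [mem_M24_iff] at hσ
  have h1 : σ • support₂ w ∈ σ • supports (golayCode : Set (GolayPt → ZMod 2)) :=
    Set.smul_mem_smul_set ⟨w, hw, rfl⟩
  rw [hσ, smul_support] at h1
  obtain ⟨w', hw', h2⟩ := h1
  rw [← support_injective h2]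
  exact hw'

theorem comp_mem_of_mem_M24' {σ : Equiv.Perm GolayPt} (hσ : σ ∈ M24) :
    ∀ w ∈ golayCode, w ∘ σ ∈ golayCode := by
  intro w hw
  have h := comp_mem_of_mem_M24 (M24.inv_mem hσ) w hw
  exact h

theorem smul_mem_supports {σ : Equiv.Perm GolayPt} (hσ : σ ∈ M24) {b : Finset GolayPt}
    (hb : b ∈ supports (golayCode : Set (GolayPt → ZMod 2))) :
    σ • b ∈ supports (golayCode : Set (GolayPt → ZMod 2)) := by
  rw [mem_M24_iff] at hσ
  rw [← hσ]
  exact Set.smul_mem_smul_set hb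

def ksProj : List ℕ := [2049, 1392, 738, 1469, 823, 2561, 1594, 2414, 1684, 33, 2458, 2053, 1992, 129, 3693, 2057, 1025, 2065, 735, 2113, 2305, 3527, 2051]

def ksCube : List ℕ := [1, 555, 573, 557, 166, 220, 678, 1317, 1965, 829, 1949, 1608, 1957, 2029, 1571, 1407, 553, 1276, 1738, 1245, 799, 1698, 749]

theorem projInv_check : ∀ t : ZMod 23, ∀ p : GolayPt,
    qrWord t p = dec (cw (ksProj.getD (ZMod.val t) 0)) (projInv p) := by
  decide +kernel

theorem cubeTwist_check : ∀ t : ZMod 23, ∀ p : GolayPt,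
    qrWord t p = dec (cw (ksCube.getD (ZMod.val t) 0)) (cubeTwist p) := by
  decide +kernel

theorem projInv_mem : projInv ∈ M24 := mem_M24_of_check projInv ksProj projInv_check

theorem cubeTwist_mem : cubeTwist ∈ M24 := mem_M24_of_check cubeTwist ksCube cubeTwist_check

theorem shift_check : ∀ t : ZMod 23, ∀ p : GolayPt,
    qrWord t p = qrWord (t + 1) (Equiv.optionCongr (Equiv.addRight (1 : ZMod 23)) p) := by
  decide +kernel

theorem shift_mem : Equiv.optionCongr (Equiv.addRight (1 : ZMod 23)) ∈ M24 := by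
  apply mem_M24_of_gens
  intro t
  have h1 : qrWord t ∘ (Equiv.optionCongr (Equiv.addRight (1 : ZMod 23))).symm = qrWord (t + 1) := by
    funext p
    simp only [Function.comp_apply]
    rw [shift_check t _, Equiv.apply_symm_apply]
  rw [h1]
  exact qrWord_mem _

end Cfsg.Agent.Lib.Helper3.GolayM24
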