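import Mathlib
import Cfsg.Agent.S2507
import Cfsg.Agent.S4065

set_option autoImplicit false
set_option linter.unusedSectionVars false
set_option linter.unusedVariables false
set_option linter.unusedSimpArgs false

namespace Cfsg.Agent.Lib.Helper3.L2

open Matrix

/-- `SL₂`. -/
abbrev G2 (F : Type*) [Field F] := Matrix.SpecialLinearGroup (Fin 2) F

variable {F : Type*} [Field F]

/-! ### entries -/

theorem mul00 (g h : G2 F) : (g * h).1 0 0 = g.1 0 0 * h.1 0 0 + g.1 0 1 * h.1 1 0 := by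
  show (g.1 * h.1) 0 0 = _
  rw [Matrix.mul_apply, Fin.sum_univ_two]

theorem mul01 (g h : G2 F) : (g * h).1 0 1 = g.1 0 0 * h.1 0 1 + g.1 0 1 * h.1 1 1 := by
  show (g.1 * h.1) 0 1 = _
  rw [Matrix.mul_apply, Fin.sum_univ_two]

theorem mul10 (g h : G2 F) : (g * h).1 1 0 = g.1 1 0 * h.1 0 0 + g.1 1 1 * h.1 1 0 := by
  show (g.1 * h.1) 1 0 = _
  rw [Matrix.mul_apply, Fin.sum_univ_two]

theorem mul11 (g h : G2 F) : (g * h).1 1 1 = g.1 1 0 * h.1 0 1 + g.1 1 1 * h.1 1 1 := by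
  show (g.1 * h.1) 1 1 = _
  rw [Matrix.mul_apply, Fin.sum_univ_two]

theorem inv00 (g : G2 F) : (g⁻¹).1 0 0 = g.1 1 1 := by
  show (Matrix.adjugate g.1) 0 0 = _
  rw [Matrix.adjugate_fin_two]
  rfl

theorem inv01 (g : G2 F) : (g⁻¹).1 0 1 = - g.1 0 1 := by
  show (Matrix.adjugate g.1) 0 1 = _
  rw [Matrix.adjugate_fin_two]
  rfl

theorem inv10 (g : G2 F) : (g⁻¹).1 1 0 = - g.1 1 0 := by
  show (Matrix.adjugate g.1) 1 0 = _
  rw [Matrix.adjugate_fin_two]
  rfl

theorem inv11 (g : G2 F) : (g⁻¹).1 1 1 = g.1 0 0 := by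
  show (Matrix.adjugate g.1) 1 1 = _
  rw [Matrix.adjugate_fin_two]
  rfl

theorem one00 : (1 : G2 F).1 0 0 = 1 := by
  show (1 : Matrix (Fin 2) (Fin 2) F) 0 0 = 1
  simp

theorem one01 : (1 : G2 F).1 0 1 = 0 := by
  show (1 : Matrix (Fin 2) (Fin 2) F) 0 1 = 0
  simp

theorem one10 : (1 : G2 F).1 1 0 = 0 := by
  show (1 : Matrix (Fin 2) (Fin 2) F) 1 0 = 0
  simp

theorem one11 : (1 : G2 F).1 1 1 = 1 := by
  show (1 : Matrix (Fin 2) (Fin 2) F) 1 1 = 1
  simp

theorem det2 (g : G2 F) : g.1 0 0 * g.1 1 1 - g.1 0 1 * g.1 1 0 = 1 := by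
  have h := g.2
  rw [Matrix.det_fin_two] at h
  exact h

theorem ext2 {g h : G2 F} (h00 : g.1 0 0 = h.1 0 0) (h01 : g.1 0 1 = h.1 0 1)
    (h10 : g.1 1 0 = h.1 1 0) (h11 : g.1 1 1 = h.1 1 1) : g = h := by
  apply Subtype.ext
  ext i j
  fin_cases i <;> fin_cases j
  · exact h00
  · exact h01
  · exact h10
  · exact h11

/-- the matrix with given entries. -/
def mk2 (a b c d : F) (h : a * d - b * c = 1) : G2 F :=
  ⟨!![a, b; c, d], by rw [Matrix.det_fin_two_of]; exact h⟩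

theorem mk2_00 (a b c d : F) (h : a * d - b * c = 1) : (mk2 a b c d h).1 0 0 = a := rfl
theorem mk2_01 (a b c d : F) (h : a * d - b * c = 1) : (mk2 a b c d h).1 0 1 = b := rfl
theorem mk2_10 (a b c d : F) (h : a * d - b * c = 1) : (mk2 a b c d h).1 1 0 = c := rfl
theorem mk2_11 (a b c d : F) (h : a * d - b * c = 1) : (mk2 a b c d h).1 1 1 = d := rfl

/-- upper unitriangular. -/
def u (b : F) : G2 F := mk2 1 b 0 1 (by ring)

/-- lower unitriangular. -/
def l (c : F) : G2 F := mk2 1 0 c 1 (by ring)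

/-- diagonal. -/
def dd (t : Fˣ) : G2 F := mk2 (t : F) 0 0 (t : F)⁻¹ (by
  rw [mul_inv_cancel₀ t.ne_zero]; ring)

theorem u00 (b : F) : (u b).1 0 0 = 1 := rfl
theorem u01 (b : F) : (u b).1 0 1 = b := rfl
theorem u10 (b : F) : (u b).1 1 0 = 0 := rfl
theorem u11 (b : F) : (u b).1 1 1 = 1 := rfl
theorem l00 (b : F) : (l b).1 0 0 = 1 := rfl
theorem l01 (b : F) : (l b).1 0 1 = 0 := rfl
theorem l10 (b : F) : (l b).1 1 0 = b := rfl
theorem l11 (b : F) : (l b).1 1 1 = 1 := rfl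
theorem dd00 (t : Fˣ) : (dd t).1 0 0 = (t : F) := rfl
theorem dd01 (t : Fˣ) : (dd t).1 0 1 = 0 := rfl
theorem dd10 (t : Fˣ) : (dd t).1 1 0 = 0 := rfl
theorem dd11 (t : Fˣ) : (dd t).1 1 1 = (t : F)⁻¹ := rfl

theorem u_mul (b b' : F) : u b * u b' = u (b + b') := by
  apply ext2
  · rw [mul00, u00, u00, u01, u10, u00]; ring
  · rw [mul01, u00, u01, u01, u11, u01]; ring
  · rw [mul10, u10, u00, u11, u10, u10]; ring
  · rw [mul11, u10, u01, u11, u11, u11]; ring

theorem u_zero : u (0 : F) = 1 := by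
  apply ext2
  · rw [u00, one00]
  · rw [u01, one01]
  · rw [u10, one10]
  · rw [u11, one11]

theorem u_inj {b b' : F} (h : u b = u b') : b = b' := by
  have h1 := congrArg (fun g : G2 F => g.1 0 1) h
  exact h1

theorem u_inv (b : F) : (u b)⁻¹ = u (-b) := by
  apply inv_eq_of_mul_eq_one_right
  rw [u_mul, add_neg_cancel, u_zero]

theorem dd_mul (s t : Fˣ) : dd s * dd t = dd (s * t) := by
  apply ext2
  · rw [mul00, dd00, dd00, dd01, dd10, dd00, Units.val_mul]; ring
  · rw [mul01, dd00, dd01, dd01, dd11, dd01]; ring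
  · rw [mul10, dd10, dd00, dd11, dd10, dd10]; ring
  · rw [mul11, dd10, dd01, dd11, dd11, dd11, Units.val_mul, mul_inv]; ring

theorem dd_one : dd (1 : Fˣ) = 1 := by
  apply ext2
  · rw [dd00, one00, Units.val_one]
  · rw [dd01, one01]
  · rw [dd10, one10]
  · rw [dd11, one11, Units.val_one, inv_one]

theorem dd_inj {s t : Fˣ} (h : dd s = dd t) : s = t := by
  have h1 := congrArg (fun g : G2 F => g.1 0 0) h
  exact Units.ext h1

theorem dd_inv (t : Fˣ) : (dd t)⁻¹ = dd t⁻¹ := by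
  apply inv_eq_of_mul_eq_one_right
  rw [dd_mul, mul_inv_cancel, dd_one]

/-- conjugating `u b` by a diagonal element. -/
theorem dd_conj_u (t : Fˣ) (b : F) : dd t * u b * (dd t)⁻¹ = u ((t : F) ^ 2 * b) := by
  have ht := t.ne_zero
  apply ext2
  · simp only [mul00, mul01, mul10, mul11, inv00, inv01, inv10, inv11, dd00, dd01, dd10, dd11,
      u00, u01, u10, u11]
    field_simp
    ring
  · simp only [mul00, mul01, mul10, mul11, inv00, inv01, inv10, inv11, dd00, dd01, dd10, dd11,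
      u00, u01, u10, u11]
    ring
  · simp only [mul00, mul01, mul10, mul11, inv00, inv01, inv10, inv11, dd00, dd01, dd10, dd11,
      u00, u01, u10, u11]
    ring
  · simp only [mul00, mul01, mul10, mul11, inv00, inv01, inv10, inv11, dd00, dd01, dd10, dd11,
      u00, u01, u10, u11]
    field_simp
    ring

/-- the entries of a conjugate of `u b`. -/
theorem conj_u_10 (h : G2 F) (b : F) : (h * u b * h⁻¹).1 1 0 = - (b * h.1 1 0 ^ 2) := by
  rw [mul10, mul10, mul11, inv00, inv10, u00, u10, u01, u11]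
  ring

theorem conj_u_00 (h : G2 F) (b : F) : (h * u b * h⁻¹).1 0 0 = 1 - b * h.1 0 0 * h.1 1 0 := by
  rw [mul00, mul00, mul01, inv00, inv10, u00, u10, u01, u11]
  linear_combination det2 h

theorem conj_l_10 (h : G2 F) (c : F) : (h * l c * h⁻¹).1 1 0 = c * h.1 1 1 ^ 2 := by
  rw [mul10, mul10, mul11, inv00, inv10, l00, l10, l01, l11]
  ring

/-- elements fixing `∞`. -/
theorem fixinf_form (g : G2 F) (h : g.1 1 0 = 0) : ∃ (t : Fˣ) (b : F), g = u b * dd t := by
  have hd := det2 g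
  rw [h, mul_zero, sub_zero] at hd
  have h0 : g.1 0 0 ≠ 0 := by
    intro h0
    rw [h0, zero_mul] at hd
    exact zero_ne_one hd
  refine ⟨Units.mk0 _ h0, g.1 0 1 * g.1 0 0, ?_⟩
  apply ext2
  · rw [mul00, u00, u01, dd00, dd10, Units.val_mk0]; ring
  · rw [mul01, u00, u01, dd01, dd11, Units.val_mk0]
    field_simp
    ring
  · rw [mul10, u10, u11, dd00, dd10, h]; ring
  · rw [mul11, u10, u11, dd01, dd11, Units.val_mk0]
    field_simp
    linear_combination hd

theorem udd_10 (b : F) (t : Fˣ) : (u b * dd t).1 1 0 = 0 := by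
  rw [mul10, u10, u11, dd10]; ring

theorem udd_00 (b : F) (t : Fˣ) : (u b * dd t).1 0 0 = (t : F) := by
  rw [mul00, u00, u01, dd00, dd10]; ring

/-- elements fixing `∞` and `0`. -/
theorem fix0inf_form (g : G2 F) (h : g.1 1 0 = 0) (h' : g.1 0 1 = 0) : ∃ t : Fˣ, g = dd t := by
  obtain ⟨t, b, e⟩ := fixinf_form g h
  refine ⟨t, ?_⟩
  have h1 : (u b * dd t).1 0 1 = 0 := by rw [← e]; exact h'
  rw [mul01, u00, u01, dd01, dd11] at h1
  have hb : b = 0 := by
    have ht := t.ne_zero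
    field_simp at h1
    linear_combination h1
  rw [e, hb, u_zero, one_mul]

/-- conjugating a diagonal element by `u a`. -/
theorem u_dd_u (a : F) (t : Fˣ) : u a * dd t * (u a)⁻¹ = u (a - (t : F) ^ 2 * a) * dd t := by
  have h1 : dd t * (u a)⁻¹ = u (-((t : F) ^ 2 * a)) * dd t := by
    have h2 := dd_conj_u t (-a)
    rw [u_inv]
    calc dd t * u (-a) = dd t * u (-a) * (dd t)⁻¹ * dd t := by group
      _ = u (-((t : F) ^ 2 * a)) * dd t := by rw [h2]; congr 2; ring
  rw [mul_assoc, h1, ← mul_assoc, u_mul]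
  congr 2
  ring

/-! ### "maps `∞` to `a`" -/

/-- `g` maps the point `∞` to the affine point `a`. -/
def Maps (g : G2 F) (a : F) : Prop := g.1 1 0 ≠ 0 ∧ g.1 0 0 = a * g.1 1 0

theorem maps_u_mul {g : G2 F} {a : F} (h : Maps g a) (b : F) : Maps (u b * g) (a + b) := by
  constructor
  · rw [mul10, u10, u11, zero_mul, zero_add, one_mul]
    exact h.1
  · rw [mul00, mul10, u00, u01, u10, u11, h.2]
    ring

theorem maps_mul_fix {g : G2 F} {a : F} (h : Maps g a) {k : G2 F} (hk : k.1 1 0 = 0) :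
    Maps (g * k) a := by
  have hd := det2 k
  rw [hk, mul_zero, sub_zero] at hd
  have h0 : k.1 0 0 ≠ 0 := by
    intro h0
    rw [h0, zero_mul] at hd
    exact zero_ne_one hd
  constructor
  · rw [mul10, hk, mul_zero, add_zero]
    exact mul_ne_zero h.1 h0
  · rw [mul00, mul10, hk, mul_zero, add_zero, mul_zero, add_zero, h.2]
    ring

theorem maps_unique {g : G2 F} {a a' : F} (h : Maps g a) (h' : Maps g a') : a = a' := by
  have h1 : a * g.1 1 0 = a' * g.1 1 0 := by rw [← h.2, ← h'.2]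
  exact mul_right_cancel₀ h.1 h1

theorem maps_of_ne {g : G2 F} (h : g.1 1 0 ≠ 0) : Maps g (g.1 0 0 / g.1 1 0) := by
  refine ⟨h, ?_⟩
  field_simp

theorem maps_fix_mul {g : G2 F} {a : F} (h : Maps g a) (b : F) (t : Fˣ) :
    Maps (u b * dd t * g) ((t : F) ^ 2 * a + b) := by
  have ht := t.ne_zero
  constructor
  · rw [mul10, udd_10, zero_mul, zero_add, mul11, u10, u11, dd01, dd11, zero_mul, zero_add,
      one_mul]
    exact mul_ne_zero (inv_ne_zero ht) h.1
  · rw [mul00, mul10, udd_10, udd_00, zero_mul, zero_add, mul01, mul11, u00, u01, u10, u11,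
      dd01, dd11, h.2]
    field_simp
    ring

end Cfsg.Agent.Lib.Helper3.L2
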