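import Mathlib
import Cfsg.Agent.Lib.Helper3.L2a

set_option autoImplicit false
set_option linter.unusedSectionVars false
set_option linter.unusedVariables false
set_option linter.unusedSimpArgs false

namespace Cfsg.Agent.Lib.Helper3.L2

open Matrix

variable {F : Type*} [Field F] [CharP F 2]

theorem neg2 (a : F) : -a = a := CharTwo.neg_eq a
theorem sub2 (a b : F) : a - b = a + b := CharTwo.sub_eq_add a b
theorem add2 (a : F) : a + a = 0 := CharTwo.add_self_eq_zero a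
theorem two0 : (2 : F) = 0 := CharTwo.two_eq_zero
theorem eq_of_add2 {a b : F} (h : a + b = 0) : a = b := CharTwo.add_eq_zero.mp h

theorem sq_inj2 {a b : F} (h : a ^ 2 = b ^ 2) : a = b := by
  apply eq_of_add2
  have h1 : (a + b) ^ 2 = 0 := by
    linear_combination h + (a * b + b ^ 2) * (two0 : (2 : F) = 0)
  exact (pow_eq_zero_iff (by norm_num : (2 : ℕ) ≠ 0)).mp h1

theorem det2' (g : G2 F) : g.1 0 0 * g.1 1 1 + g.1 0 1 * g.1 1 0 = 1 := by
  rw [← sub2]; exact det2 g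

theorem u_sq (b : F) : u b * u b = 1 := by rw [u_mul, add2, u_zero]
theorem u_inv2 (b : F) : (u b)⁻¹ = u b := by rw [u_inv, neg2]

theorem u_ne_one {b : F} (hb : b ≠ 0) : u b ≠ 1 := by
  intro h
  have h1 := congrArg (fun g : G2 F => g.1 0 1) h
  simp only [u01, one01] at h1
  exact hb h1

/-- the swap `∞ ↔ 0`. -/
def ww (β : Fˣ) : G2 F := mk2 0 (β : F) (β : F)⁻¹ 0 (by
  rw [mul_inv_cancel₀ β.ne_zero, zero_mul, zero_sub]; exact neg2 1)

theorem ww00 (β : Fˣ) : (ww β).1 0 0 = 0 := rfl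
theorem ww01 (β : Fˣ) : (ww β).1 0 1 = (β : F) := rfl
theorem ww10 (β : Fˣ) : (ww β).1 1 0 = (β : F)⁻¹ := rfl
theorem ww11 (β : Fˣ) : (ww β).1 1 1 = 0 := rfl

theorem ww_mul (β₀ β : Fˣ) : ww β₀ * ww β = dd (β₀ * β⁻¹) := by
  have h0 := β₀.ne_zero
  have h1 := β.ne_zero
  apply ext2
  · simp only [mul00, ww00, ww01, ww10, ww11, dd00, Units.val_mul, Units.val_inv_eq_inv_val]; ring
  · simp only [mul01, ww00, ww01, ww10, ww11, dd01]; ring
  · simp only [mul10, ww00, ww01, ww10, ww11, dd10]; ring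
  · simp only [mul11, ww00, ww01, ww10, ww11, dd11, Units.val_mul, Units.val_inv_eq_inv_val]
    field_simp
    ring

theorem ww_sq (β : Fˣ) : ww β * ww β = 1 := by
  rw [ww_mul, mul_inv_cancel, dd_one]

theorem ww_inv (β : Fˣ) : (ww β)⁻¹ = ww β := inv_eq_of_mul_eq_one_right (ww_sq β)

theorem ww_inj {β β' : Fˣ} (h : ww β = ww β') : β = β' := by
  have h1 := congrArg (fun g : G2 F => g.1 0 1) h
  exact Units.ext h1

theorem dd_ww (t β : Fˣ) : dd t * ww β = ww (t * β) := by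
  have h0 := t.ne_zero
  have h1 := β.ne_zero
  apply ext2
  · simp only [mul00, ww00, ww01, ww10, ww11, dd00, dd01, dd10, dd11]; ring
  · simp only [mul01, ww00, ww01, ww10, ww11, dd00, dd01, dd10, dd11, Units.val_mul]; ring
  · simp only [mul10, ww00, ww01, ww10, ww11, dd00, dd01, dd10, dd11, Units.val_mul]
    field_simp
    ring
  · simp only [mul11, ww00, ww01, ww10, ww11, dd00, dd01, dd10, dd11]; ring

theorem ww_conj_u (β : Fˣ) (b : F) : ww β * u b * (ww β)⁻¹ = l (b / (β : F) ^ 2) := by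
  have h1 := β.ne_zero
  rw [ww_inv]
  apply ext2
  · simp only [mul00, mul01, mul10, mul11, ww00, ww01, ww10, ww11, u00, u01, u10, u11, l00]
    field_simp
    ring
  · simp only [mul00, mul01, mul10, mul11, ww00, ww01, ww10, ww11, u00, u01, u10, u11, l01]; ring
  · simp only [mul00, mul01, mul10, mul11, ww00, ww01, ww10, ww11, u00, u01, u10, u11, l10]
    field_simp
    ring
  · simp only [mul00, mul01, mul10, mul11, ww00, ww01, ww10, ww11, u00, u01, u10, u11, l11]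
    field_simp
    ring

theorem maps_ww (β : Fˣ) : Maps (ww β) (0 : F) := by
  refine ⟨?_, ?_⟩
  · rw [ww10]; exact inv_ne_zero β.ne_zero
  · rw [ww00, zero_mul]

theorem maps_l {c : F} (hc : c ≠ 0) : Maps (l c) c⁻¹ := by
  refine ⟨?_, ?_⟩
  · rw [l10]; exact hc
  · rw [l00, l10, inv_mul_cancel₀ hc]

theorem ww1_u (a : F) (g : G2 F) : (ww 1 * u a * g).1 1 0 = g.1 0 0 + a * g.1 1 0 := by
  simp only [mul10, mul11, ww10, ww11, u00, u01, u10, u11, Units.val_one, inv_one]; ring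

theorem sq_one_iff (g : G2 F) : g * g = 1 ↔ g.1 0 0 = g.1 1 1 := by
  constructor
  · intro h
    have h1 : g = g⁻¹ := eq_inv_of_mul_eq_one_left h
    have h2 := congrArg (fun x : G2 F => x.1 0 0) h1
    simp only [inv00] at h2
    exact h2
  · intro h
    have h1 : g = g⁻¹ := by
      apply ext2
      · rw [inv00]; exact h
      · rw [inv01, neg2]
      · rw [inv10, neg2]
      · rw [inv11]; exact h.symm
    calc g * g = g * g⁻¹ := by rw [← h1]
      _ = 1 := mul_inv_cancel g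

theorem invol_fix (g : G2 F) (h : g * g = 1) (h10 : g.1 1 0 = 0) : g = u (g.1 0 1) := by
  have h1 := (sq_one_iff g).mp h
  have hd := det2' g
  rw [h10, mul_zero, add_zero, ← h1] at hd
  have h2 : g.1 0 0 = 1 := by
    apply sq_inj2
    rw [one_pow, pow_two]; exact hd
  apply ext2
  · rw [u00, h2]
  · rw [u01]
  · rw [u10, h10]
  · rw [u11, ← h1, h2]

theorem swap_form (g : G2 F) (h : g * g = 1) (h00 : g.1 0 0 = 0) : ∃ β : Fˣ, g = ww β := by
  have h1 := (sq_one_iff g).mp h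
  have hd := det2' g
  rw [h00, zero_mul, zero_add] at hd
  have hne : g.1 0 1 ≠ 0 := by
    intro h0
    rw [h0, zero_mul] at hd
    exact zero_ne_one hd
  refine ⟨Units.mk0 _ hne, ?_⟩
  apply ext2
  · rw [ww00, h00]
  · rw [ww01, Units.val_mk0]
  · rw [ww10, Units.val_mk0]
    field_simp
    linear_combination hd
  · rw [ww11, ← h1, h00]

theorem cent_u (g : G2 F) (b : F) (hb : b ≠ 0) (h : g * u b = u b * g) :
    g.1 1 0 = 0 ∧ g.1 0 0 = g.1 1 1 := by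
  have e00 := congrArg (fun x : G2 F => x.1 0 0) h
  have e01 := congrArg (fun x : G2 F => x.1 0 1) h
  simp only [mul00, mul01, u00, u01, u10, u11] at e00 e01
  have h10 : g.1 1 0 = 0 := by
    have : b * g.1 1 0 = 0 := by linear_combination -e00
    rcases mul_eq_zero.mp this with h | h
    · exact absurd h hb
    · exact h
  refine ⟨h10, ?_⟩
  have : b * (g.1 0 0 - g.1 1 1) = 0 := by linear_combination e01
  rcases mul_eq_zero.mp this with h | h
  · exact absurd h hb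
  · exact sub_eq_zero.mp h

theorem cent_u' (g : G2 F) (b : F) (hb : b ≠ 0) (h : g * u b = u b * g) : g = u (g.1 0 1) := by
  obtain ⟨h1, h2⟩ := cent_u g b hb h
  exact invol_fix g ((sq_one_iff g).mpr h2) h1

theorem comm_same_trace (x y : G2 F) (hx : x * x ≠ 1) (hc : x * y = y * x)
    (ht : y.1 0 0 + y.1 1 1 = x.1 0 0 + x.1 1 1) : y = x ∨ y = x⁻¹ := by
  have h2 : (2 : F) = 0 := two0
  have hτ : x.1 0 0 + x.1 1 1 ≠ 0 := by
    intro h
    exact hx ((sq_one_iff x).mpr (eq_of_add2 h))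
  have e01 := congrArg (fun g : G2 F => g.1 0 1) hc
  have e10 := congrArg (fun g : G2 F => g.1 1 0) hc
  simp only [mul01, mul10] at e01 e10
  have h01 : y.1 0 1 = x.1 0 1 := by
    have : (y.1 0 1 - x.1 0 1) * (x.1 0 0 + x.1 1 1) = 0 := by
      linear_combination e01 + x.1 0 1 * ht + (y.1 0 1 * x.1 1 1 - x.1 0 1 * y.1 1 1) * h2
    rcases mul_eq_zero.mp this with h | h
    · exact sub_eq_zero.mp h
    · exact absurd h hτ
  have h10 : y.1 1 0 = x.1 1 0 := by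
    have : (y.1 1 0 - x.1 1 0) * (x.1 0 0 + x.1 1 1) = 0 := by
      linear_combination -e10 + x.1 1 0 * ht + (y.1 1 0 * x.1 1 1 - x.1 1 0 * y.1 1 1) * h2
    rcases mul_eq_zero.mp this with h | h
    · exact sub_eq_zero.mp h
    · exact absurd h hτ
  have hdx := det2' x
  have hdy := det2' y
  rw [h01, h10] at hdy
  have hq : (y.1 0 0 - x.1 0 0) * (y.1 0 0 - x.1 1 1) = 0 := by
    linear_combination y.1 0 0 * ht + hdx - hdy
  rcases mul_eq_zero.mp hq with h | h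
  · left
    have h00 : y.1 0 0 = x.1 0 0 := sub_eq_zero.mp h
    have h11 : y.1 1 1 = x.1 1 1 := by linear_combination ht - h
    exact ext2 h00 h01 h10 h11
  · right
    have h00 : y.1 0 0 = x.1 1 1 := sub_eq_zero.mp h
    have h11 : y.1 1 1 = x.1 0 0 := by linear_combination ht - h
    apply ext2
    · rw [inv00]; exact h00
    · rw [inv01, neg2]; exact h01
    · rw [inv10, neg2]; exact h10
    · rw [inv11]; exact h11

theorem tr_sq (g : G2 F) : (g * g).1 0 0 + (g * g).1 1 1 = (g.1 0 0 + g.1 1 1) ^ 2 := by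
  rw [mul00, mul11]
  linear_combination (g.1 0 1 * g.1 1 0 - g.1 0 0 * g.1 1 1) * (two0 : (2 : F) = 0)

theorem tr_pow2 (g : G2 F) (k : ℕ) :
    (g ^ 2 ^ k).1 0 0 + (g ^ 2 ^ k).1 1 1 = (g.1 0 0 + g.1 1 1) ^ 2 ^ k := by
  induction k with
  | zero => simp
  | succ k ih =>
    have h1 : g ^ 2 ^ (k + 1) = g ^ 2 ^ k * g ^ 2 ^ k := by
      rw [pow_succ, pow_mul, pow_two]
    rw [h1, tr_sq, ih, ← pow_mul, ← pow_succ]

theorem sq_of_two_pow (g : G2 F) (k : ℕ) (h : g ^ 2 ^ k = 1) : g * g = 1 := by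
  have h1 := tr_pow2 g k
  rw [h, one00, one11, add2] at h1
  have h2 : g.1 0 0 + g.1 1 1 = 0 := (pow_eq_zero_iff (pow_ne_zero k two_ne_zero)).mp h1.symm
  exact (sq_one_iff g).mpr (eq_of_add2 h2)

/-! ### conjugation of subgroups, the three conclusions -/

/-- the conjugate `δ⁻¹ H δ`. -/
def cj (δ : G2 F) (H : Subgroup (G2 F)) : Subgroup (G2 F) := H.comap (MulAut.conj δ).toMonoidHom

theorem mem_cj {δ x : G2 F} {H : Subgroup (G2 F)} : x ∈ cj δ H ↔ δ * x * δ⁻¹ ∈ H := by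
  rw [cj, Subgroup.mem_comap]; rfl

theorem conj_mem_cj {δ h : G2 F} {H : Subgroup (G2 F)} (hh : h ∈ H) : δ⁻¹ * h * δ ∈ cj δ H := by
  rw [mem_cj]
  have : δ * (δ⁻¹ * h * δ) * δ⁻¹ = h := by group
  rw [this]; exact hh

/-- the subfield subgroup. -/
def SLsub (K : Subfield F) : Subgroup (G2 F) where
  carrier := {g | ∀ i j, g.1 i j ∈ K}
  mul_mem' := by
    intro a b ha hb i j
    show (a.1 * b.1) i j ∈ K
    rw [Matrix.mul_apply]
    exact sum_mem (fun k _ => mul_mem (ha i k) (hb k j))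
  one_mem' := by
    intro i j
    show (1 : Matrix (Fin 2) (Fin 2) F) i j ∈ K
    rw [Matrix.one_apply]
    split_ifs
    · exact one_mem K
    · exact zero_mem K
  inv_mem' := by
    intro a ha i j
    fin_cases i <;> fin_cases j
    · show (a⁻¹).1 0 0 ∈ K
      rw [inv00]; exact ha 1 1
    · show (a⁻¹).1 0 1 ∈ K
      rw [inv01]; exact neg_mem (ha 0 1)
    · show (a⁻¹).1 1 0 ∈ K
      rw [inv10]; exact neg_mem (ha 1 0)
    · show (a⁻¹).1 1 1 ∈ K
      rw [inv11]; exact ha 0 0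

theorem mem_SLsub {K : Subfield F} {g : G2 F} :
    g ∈ SLsub K ↔ g.1 0 0 ∈ K ∧ g.1 0 1 ∈ K ∧ g.1 1 0 ∈ K ∧ g.1 1 1 ∈ K := by
  constructor
  · intro h; exact ⟨h 0 0, h 0 1, h 1 0, h 1 1⟩
  · rintro ⟨h00, h01, h10, h11⟩ i j
    fin_cases i <;> fin_cases j
    · exact h00
    · exact h01
    · exact h10
    · exact h11

/-- conclusion (a): a common fixed point. -/
def FixPt (H : Subgroup (G2 F)) : Prop := ∃ γ : G2 F, ∀ h ∈ H, (γ * h * γ⁻¹).1 1 0 = 0

/-- conclusion (b): dihedral type. -/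
def DihType (H : Subgroup (G2 F)) : Prop :=
  ∃ x : G2 F, x ≠ 1 ∧ x * x ≠ 1 ∧ ∀ h ∈ H, h * x * h⁻¹ = x ∨ h * x * h⁻¹ = x⁻¹

/-- conclusion (c): a subfield subgroup. -/
def SubType (H : Subgroup (G2 F)) : Prop :=
  ∃ (γ : G2 F) (K : Subfield F), (∃ b ∈ K, b ≠ 0 ∧ b ≠ 1) ∧ ∀ h, h ∈ H ↔ γ * h * γ⁻¹ ∈ SLsub K

/-- the conclusion of Dickson's theorem. -/
def Conc (H : Subgroup (G2 F)) : Prop := FixPt H ∨ DihType H ∨ SubType H

theorem conc_conj (δ : G2 F) (H : Subgroup (G2 F)) (h : Conc (cj δ H)) : Conc H := by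
  rcases h with ⟨γ, hγ⟩ | ⟨x, hx1, hx2, hx⟩ | ⟨γ, K, hK, hγ⟩
  · left
    refine ⟨γ * δ⁻¹, fun h hh => ?_⟩
    have h2 := hγ _ (conj_mem_cj (δ := δ) hh)
    have h3 : γ * δ⁻¹ * h * (γ * δ⁻¹)⁻¹ = γ * (δ⁻¹ * h * δ) * γ⁻¹ := by group
    rw [h3]; exact h2
  · right; left
    refine ⟨δ * x * δ⁻¹, ?_, ?_, fun h hh => ?_⟩
    · intro h1
      apply hx1
      have : x = δ⁻¹ * (δ * x * δ⁻¹) * δ := by group
      rw [this, h1]; group
    · intro h1
      apply hx2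
      have : x * x = δ⁻¹ * ((δ * x * δ⁻¹) * (δ * x * δ⁻¹)) * δ := by group
      rw [this, h1]; group
    · have e : h * (δ * x * δ⁻¹) * h⁻¹ = δ * ((δ⁻¹ * h * δ) * x * (δ⁻¹ * h * δ)⁻¹) * δ⁻¹ := by
        group
      rcases hx _ (conj_mem_cj (δ := δ) hh) with h2 | h2
      · left
        rw [e, h2]
      · right
        rw [e, h2]; group
  · right; right
    refine ⟨γ * δ⁻¹, K, hK, fun h => ?_⟩
    have h3 : γ * δ⁻¹ * h * (γ * δ⁻¹)⁻¹ = γ * (δ⁻¹ * h * δ) * γ⁻¹ := by group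
    rw [h3, ← hγ, mem_cj]
    have : δ * (δ⁻¹ * h * δ) * δ⁻¹ = h := by group
    rw [this]

theorem conc_of_abelian [Finite F] (H Y : Subgroup (G2 F))
    (hab : ∀ a ∈ Y, ∀ b ∈ Y, a * b = b * a) (hY : ∃ y ∈ Y, y ≠ 1)
    (hN : ∀ h ∈ H, ∀ y ∈ Y, h * y * h⁻¹ ∈ Y) : FixPt H ∨ DihType H := by
  by_cases hinv : ∃ y ∈ Y, y ≠ 1 ∧ y * y = 1
  · obtain ⟨y, hy, hy1, hy2⟩ := hinv
    left
    have hc : IsConj (u (1 : F)) y := by
      rw [Cfsg.Agent.S2507.conj_iff _ _ (u_ne_one one_ne_zero)]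
      refine ⟨hy1, ?_⟩
      rw [(sq_one_iff y).mp hy2, u00, u11, add2, add2]
    obtain ⟨δ, hδ⟩ := isConj_iff.mp hc
    refine ⟨δ⁻¹, fun h hh => ?_⟩
    have h1 : h * y * h⁻¹ * y = y * (h * y * h⁻¹) := hab _ (hN h hh y hy) _ hy
    have hu : u (1 : F) = δ⁻¹ * y * δ := by rw [← hδ]; group
    have e1 : (δ⁻¹ * h * δ) * u 1 * (δ⁻¹ * h * δ)⁻¹ = δ⁻¹ * (h * y * h⁻¹) * δ := by
      rw [hu]; group
    have h2 : ((δ⁻¹ * h * δ) * u 1 * (δ⁻¹ * h * δ)⁻¹) * u 1
        = u 1 * ((δ⁻¹ * h * δ) * u 1 * (δ⁻¹ * h * δ)⁻¹) := by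
      rw [e1, hu]
      calc δ⁻¹ * (h * y * h⁻¹) * δ * (δ⁻¹ * y * δ) = δ⁻¹ * (h * y * h⁻¹ * y) * δ := by group
        _ = δ⁻¹ * (y * (h * y * h⁻¹)) * δ := by rw [h1]
        _ = δ⁻¹ * y * δ * (δ⁻¹ * (h * y * h⁻¹) * δ) := by group
    have h3 := (cent_u _ 1 one_ne_zero h2).1
    rw [conj_u_10, one_mul, neg2] at h3
    rw [inv_inv]
    exact (pow_eq_zero_iff (by norm_num : (2 : ℕ) ≠ 0)).mp h3
  · obtain ⟨y, hy, hy1⟩ := hY
    right
    have hy2 : y * y ≠ 1 := fun h => hinv ⟨y, hy, hy1, h⟩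
    refine ⟨y, hy1, hy2, fun h hh => ?_⟩
    have h1 : y * (h * y * h⁻¹) = h * y * h⁻¹ * y := hab _ hy _ (hN h hh y hy)
    have hc : IsConj y (h * y * h⁻¹) := isConj_iff.mpr ⟨h, rfl⟩
    have h2 := ((Cfsg.Agent.S2507.conj_iff y _ hy1).mp hc).2
    exact comm_same_trace y _ hy2 h1 h2

end Cfsg.Agent.Lib.Helper3.L2
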