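import Mathlib
import Cfsg.Agent.Lib.Helper3.L2b

set_option autoImplicit false
set_option linter.unusedSectionVars false
set_option linter.unusedVariables false
set_option linter.unusedSimpArgs false

namespace Cfsg.Agent.Lib.Helper3.L2

open Matrix

theorem arithL {N i qQ d o : ℕ} (h1 : N * i ≤ qQ * d + o) (h2 : o + qQ ≤ N) (h3 : d ≤ i)
    (h4 : 2 ≤ d) (h5 : 1 ≤ qQ) : N = qQ ∧ i = d := by
  have hi : i = d := by
    by_contra hne
    have h6 : d + 1 ≤ i := by omega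
    have h7 : N * (d + 1) ≤ N * i := Nat.mul_le_mul_left _ h6
    have h8 : qQ * d ≤ N * d := Nat.mul_le_mul_right _ (by omega)
    nlinarith
  subst hi
  refine ⟨?_, rfl⟩
  by_contra hne
  obtain ⟨e, he⟩ : ∃ e, N = qQ + e := ⟨N - qQ, by omega⟩
  subst he
  have h6 : e * i ≤ e := by nlinarith
  have h7 : e * 2 ≤ e * i := Nat.mul_le_mul_left _ h4
  omega

variable {F : Type*} [Field F] [CharP F 2]

theorem u_mem_SLsub {K : Subfield F} {b : F} (hb : b ∈ K) : u b ∈ SLsub K := by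
  rw [mem_SLsub, u00, u01, u10, u11]
  exact ⟨one_mem K, hb, zero_mem K, one_mem K⟩

theorem dd_mem_SLsub {K : Subfield F} {t : Fˣ} (ht : (t : F) ∈ K) : dd t ∈ SLsub K := by
  rw [mem_SLsub, dd00, dd01, dd10, dd11]
  exact ⟨ht, zero_mem K, zero_mem K, inv_mem ht⟩

theorem ww1_mem_SLsub {K : Subfield F} : ww (1 : Fˣ) ∈ SLsub K := by
  rw [mem_SLsub, ww00, ww01, ww10, ww11, Units.val_one, inv_one]
  exact ⟨zero_mem K, one_mem K, one_mem K, zero_mem K⟩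

theorem fp_eq {h : G2 F} {a : F} (b : F) (hm : Maps h a) :
    (h * u b * h⁻¹).1 0 0 = 1 + a * (h * u b * h⁻¹).1 1 0 := by
  rw [conj_u_00, conj_u_10, hm.2]; ring

theorem invol_conj (s : G2 F) (hs2 : s * s = 1) (hs10 : s.1 1 0 ≠ 0) :
    ∃ β : Fˣ, s = u (s.1 0 0 / s.1 1 0) * ww β * (u (s.1 0 0 / s.1 1 0))⁻¹ := by
  obtain ⟨a, ha⟩ : ∃ a, a = s.1 0 0 / s.1 1 0 := ⟨_, rfl⟩
  rw [← ha]
  have h2 : ((u a)⁻¹ * s * u a) * ((u a)⁻¹ * s * u a) = 1 := by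
    have : ((u a)⁻¹ * s * u a) * ((u a)⁻¹ * s * u a) = (u a)⁻¹ * (s * s) * u a := by group
    rw [this, hs2]; group
  have h3 : ((u a)⁻¹ * s * u a).1 0 0 = 0 := by
    rw [u_inv2]
    simp only [mul00, mul01, mul10, mul11, u00, u01, u10, u11]
    have e : a * s.1 1 0 = s.1 0 0 := by rw [ha]; field_simp
    linear_combination e + s.1 0 0 * (two0 : (2 : F) = 0)
  obtain ⟨β, hβ⟩ := swap_form _ h2 h3
  refine ⟨β, ?_⟩
  rw [← hβ]; group

section gen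

variable [Finite F] (H : Subgroup (G2 F))

/-- the translations in `H`. -/
def BB : Set F := {b | u b ∈ H}
/-- the diagonal elements of `H`. -/
def MM : Set Fˣ := {t | dd t ∈ H}
/-- the affine part of the orbit of `∞`. -/
def Om : Set F := {a | ∃ h ∈ H, Maps h a}
/-- the involutions of `H` moving `∞`. -/
def Mv : Set (G2 F) := {s | s ∈ H ∧ s * s = 1 ∧ s.1 1 0 ≠ 0}

theorem BB_zero : (0 : F) ∈ BB H := by
  show u 0 ∈ H
  rw [u_zero]; exact one_mem H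

theorem BB_add {b b' : F} (hb : b ∈ BB H) (hb' : b' ∈ BB H) : b + b' ∈ BB H := by
  show u (b + b') ∈ H
  rw [← u_mul]; exact mul_mem hb hb'

theorem MM_one : (1 : Fˣ) ∈ MM H := by
  show dd 1 ∈ H
  rw [dd_one]; exact one_mem H

theorem MM_mul {s t : Fˣ} (hs : s ∈ MM H) (ht : t ∈ MM H) : s * t ∈ MM H := by
  show dd (s * t) ∈ H
  rw [← dd_mul]; exact mul_mem hs ht

theorem MM_inv {t : Fˣ} (ht : t ∈ MM H) : t⁻¹ ∈ MM H := by
  show dd t⁻¹ ∈ H
  rw [← dd_inv]; exact inv_mem ht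

theorem MM_BB {t : Fˣ} {b : F} (ht : t ∈ MM H) (hb : b ∈ BB H) : (t : F) ^ 2 * b ∈ BB H := by
  show u _ ∈ H
  rw [← dd_conj_u]; exact mul_mem (mul_mem ht hb) (inv_mem ht)

theorem Om_add {a b : F} (ha : a ∈ Om H) (hb : b ∈ BB H) : a + b ∈ Om H := by
  obtain ⟨h, hh, hm⟩ := ha
  exact ⟨u b * h, mul_mem hb hh, maps_u_mul hm b⟩

theorem count1 : (Om H).ncard * ((BB H).ncard - 1) ≤ (Mv H).ncard := by
  classical
  have hch : ∀ a : F, a ∈ Om H → ∃ h ∈ H, Maps h a := fun a ha => ha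
  obtain ⟨hf, hf1⟩ : ∃ hf : F → G2 F, ∀ a ∈ Om H, hf a ∈ H ∧ Maps (hf a) a := by
    refine ⟨fun a => if ha : a ∈ Om H then (hch a ha).choose else 1, ?_⟩
    intro a ha
    simp only [dif_pos ha]
    exact (hch a ha).choose_spec
  have h1 : ((Om H) ×ˢ (BB H \ {0})).ncard ≤ (Mv H).ncard := by
    apply Set.ncard_le_ncard_of_injOn (fun p : F × F => hf p.1 * u p.2 * (hf p.1)⁻¹)
    · rintro ⟨a, b⟩ ⟨ha, hb, hb0⟩
      obtain ⟨h1, h2⟩ := hf1 a ha
      refine ⟨mul_mem (mul_mem h1 hb) (inv_mem h1), ?_, ?_⟩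
      · show hf a * u b * (hf a)⁻¹ * (hf a * u b * (hf a)⁻¹) = 1
        have : hf a * u b * (hf a)⁻¹ * (hf a * u b * (hf a)⁻¹)
            = hf a * (u b * u b) * (hf a)⁻¹ := by group
        rw [this, u_sq]; group
      · show (hf a * u b * (hf a)⁻¹).1 1 0 ≠ 0
        rw [conj_u_10, neg2]
        exact mul_ne_zero hb0 (pow_ne_zero 2 h2.1)
    · rintro ⟨a, b⟩ ⟨ha, hb, hb0⟩ ⟨a', b'⟩ ⟨ha', hb', hb0'⟩ heq
      have heq' : hf a * u b * (hf a)⁻¹ = hf a' * u b' * (hf a')⁻¹ := heq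
      obtain ⟨h1, h2⟩ := hf1 a ha
      obtain ⟨h1', h2'⟩ := hf1 a' ha'
      have e1 := fp_eq b h2
      have e2 := fp_eq b' h2'
      rw [heq'] at e1
      have hne : (hf a' * u b' * (hf a')⁻¹).1 1 0 ≠ 0 := by
        rw [conj_u_10, neg2]; exact mul_ne_zero hb0' (pow_ne_zero 2 h2'.1)
      have haa : a = a' := by
        have : (a - a') * (hf a' * u b' * (hf a')⁻¹).1 1 0 = 0 := by linear_combination e2 - e1
        rcases mul_eq_zero.mp this with h | h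
        · exact sub_eq_zero.mp h
        · exact absurd h hne
      subst haa
      have hub : u b = u b' := mul_left_cancel (mul_right_cancel heq')
      rw [u_inj hub]
  rw [Set.ncard_prod, Set.ncard_sdiff_singleton_of_mem (BB_zero H)] at h1
  exact h1

theorem BB_div {k : Fˣ} (hk : k ∈ MM H) (hk1 : k ≠ 1) {c : F}
    (hc : (1 + (k : F) ^ 2) * c ∈ BB H) : c ∈ BB H := by
  have hne : (1 + (k : F) ^ 2) ≠ 0 := by
    intro h
    apply hk1
    have h1 : (1 : F) ^ 2 = (k : F) ^ 2 := by rw [one_pow]; exact eq_of_add2 h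
    exact Units.ext (by rw [Units.val_one]; exact (sq_inj2 h1).symm)
  have himg : (fun b => (1 + (k : F) ^ 2) * b) '' (BB H) = BB H := by
    apply Set.eq_of_subset_of_ncard_le
    · rintro _ ⟨b, hb, rfl⟩
      show (1 + (k : F) ^ 2) * b ∈ BB H
      rw [add_mul, one_mul]
      exact BB_add H hb (MM_BB H hk hb)
    · rw [Set.ncard_image_of_injective _ (mul_right_injective₀ hne)]
    · exact Set.toFinite _
  rw [← himg] at hc
  obtain ⟨b, hb, hbc⟩ := hc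
  have : b = c := mul_left_cancel₀ hne hbc
  rw [← this]; exact hb

theorem one_le_BB : 1 ≤ (BB H).ncard :=
  (Set.ncard_pos (Set.toFinite _)).mpr ⟨0, BB_zero H⟩

end gen

/-- the final configuration. -/
structure Cfg (H : Subgroup (G2 F)) (β₀ κ : Fˣ) : Prop where
  hu1 : u 1 ∈ H
  hw : ww β₀ ∈ H
  hk : dd κ ∈ H
  hk1 : κ ≠ 1

namespace Cfg

variable [Finite F] {H : Subgroup (G2 F)} {β₀ κ : Fˣ} (C : Cfg H β₀ κ)

include C

theorem BB_sub_Om : BB H ⊆ Om H := by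
  intro b hb
  have h := maps_u_mul (maps_ww β₀) b
  rw [zero_add] at h
  exact ⟨u b * ww β₀, mul_mem hb C.hw, h⟩

theorem two_pt {a : F} {t : Fˣ} (ht : t ≠ 1) (hx : u a * dd t * (u a)⁻¹ ∈ H) :
    a ∈ BB H ∧ t ∈ MM H := by
  rw [u_dd_u] at hx
  obtain ⟨c, hc⟩ : ∃ c, c = a - (t : F) ^ 2 * a := ⟨_, rfl⟩
  rw [← hc] at hx
  have h1 : u c * dd t * dd κ * (u c * dd t)⁻¹ * (dd κ)⁻¹ ∈ H :=
    mul_mem (mul_mem (mul_mem hx C.hk) (inv_mem hx)) (inv_mem C.hk)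
  have h2 : u c * dd t * dd κ * (u c * dd t)⁻¹ * (dd κ)⁻¹ = u (c - (κ : F) ^ 2 * c) := by
    have e1 : u c * dd t * dd κ * (u c * dd t)⁻¹ = u c * (dd t * dd κ * (dd t)⁻¹) * (u c)⁻¹ := by
      group
    have e2 : dd t * dd κ * (dd t)⁻¹ = dd κ := by
      rw [dd_mul, dd_inv, dd_mul, mul_comm t κ, mul_assoc, mul_inv_cancel, mul_one]
    rw [e1, e2, u_dd_u, mul_assoc, mul_inv_cancel, mul_one]
  rw [h2] at h1
  have h3 : c ∈ BB H := by
    apply BB_div H C.hk C.hk1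
    show u _ ∈ H
    have : (1 + (κ : F) ^ 2) * c = c - (κ : F) ^ 2 * c := by rw [sub2]; ring
    rw [this]; exact h1
  have h4 : t ∈ MM H := by
    show dd t ∈ H
    have : dd t = (u c)⁻¹ * (u c * dd t) := by group
    rw [this]; exact mul_mem (inv_mem h3) hx
  refine ⟨?_, h4⟩
  apply BB_div H h4 ht
  have : (1 + (t : F) ^ 2) * a = c := by rw [hc, sub2]; ring
  rw [this]; exact h3

theorem count2 :
    (Mv H).ncard ≤ (BB H).ncard * (MM H).ncard + ((Om H).ncard - (BB H).ncard) := by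
  have hsub : Mv H ⊆
      ((fun p : F × Fˣ => u p.1 * ww (β₀ * p.2⁻¹) * (u p.1)⁻¹) '' ((BB H) ×ˢ (MM H)))
      ∪ {s | s ∈ Mv H ∧ s.1 0 0 / s.1 1 0 ∉ BB H} := by
    intro s hs
    by_cases hB : s.1 0 0 / s.1 1 0 ∈ BB H
    · left
      obtain ⟨hsH, hs2, hs10⟩ := hs
      obtain ⟨β, hβ⟩ := invol_conj s hs2 hs10
      obtain ⟨a, ha⟩ : ∃ a, a = s.1 0 0 / s.1 1 0 := ⟨_, rfl⟩
      rw [← ha] at hβ hB
      have h1 : ww β ∈ H := by
        have : ww β = (u a)⁻¹ * s * u a := by rw [hβ]; group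
        rw [this]; exact mul_mem (mul_mem (inv_mem hB) hsH) hB
      have h4 : β₀ * β⁻¹ ∈ MM H := by
        show dd (β₀ * β⁻¹) ∈ H
        rw [← ww_mul]
        exact mul_mem C.hw h1
      refine ⟨(a, β₀ * β⁻¹), ⟨hB, h4⟩, ?_⟩
      show u a * ww (β₀ * (β₀ * β⁻¹)⁻¹) * (u a)⁻¹ = s
      have e : β₀ * (β₀ * β⁻¹)⁻¹ = β := by
        rw [_root_.mul_inv_rev, inv_inv, mul_comm β, mul_inv_cancel_left]
      rw [e, ← hβ]
    · right
      exact ⟨hs, hB⟩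
  have hfin := Set.ncard_le_ncard hsub (Set.toFinite _)
  have h1 : ((fun p : F × Fˣ => u p.1 * ww (β₀ * p.2⁻¹) * (u p.1)⁻¹) ''
      ((BB H) ×ˢ (MM H))).ncard ≤ (BB H).ncard * (MM H).ncard := by
    rw [← Set.ncard_prod]
    exact Set.ncard_image_le (Set.toFinite _)
  have h2 : {s | s ∈ Mv H ∧ s.1 0 0 / s.1 1 0 ∉ BB H}.ncard ≤ (Om H).ncard - (BB H).ncard := by
    rw [← Set.ncard_sdiff' (BB_sub_Om C) (Set.toFinite _)]
    apply Set.ncard_le_ncard_of_injOn (fun s : G2 F => s.1 0 0 / s.1 1 0)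
    · rintro s ⟨⟨hsH, hs2, hs10⟩, hB⟩
      exact ⟨⟨s, hsH, maps_of_ne hs10⟩, hB⟩
    · rintro s ⟨⟨hsH, hs2, hs10⟩, hB⟩ s' ⟨⟨hsH', hs2', hs10'⟩, hB'⟩ heq
      have heq' : s.1 0 0 / s.1 1 0 = s'.1 0 0 / s'.1 1 0 := heq
      obtain ⟨β, hβ⟩ := invol_conj s hs2 hs10
      obtain ⟨β', hβ'⟩ := invol_conj s' hs2' hs10'
      rw [← heq'] at hβ'
      obtain ⟨a, ha⟩ : ∃ a, a = s.1 0 0 / s.1 1 0 := ⟨_, rfl⟩
      rw [← ha] at hβ hβ' hB
      by_cases hbb : β * β'⁻¹ = 1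
      · have : β = β' := mul_inv_eq_one.mp hbb
        rw [hβ, hβ', this]
      · exfalso
        apply hB
        apply (two_pt C hbb _).1
        rw [← ww_mul]
        have : u a * (ww β * ww β') * (u a)⁻¹
            = (u a * ww β * (u a)⁻¹) * (u a * ww β' * (u a)⁻¹) := by group
        rw [this, ← hβ, ← hβ']
        exact mul_mem hsH hsH'
  calc (Mv H).ncard ≤ _ := hfin
    _ ≤ _ + _ := Set.ncard_union_le _ _
    _ ≤ _ := Nat.add_le_add h1 h2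

theorem MM_le : (MM H).ncard ≤ (BB H).ncard - 1 := by
  rw [← Set.ncard_sdiff_singleton_of_mem (BB_zero H)]
  apply Set.ncard_le_ncard_of_injOn (fun t : Fˣ => (t : F) ^ 2)
  · intro t ht
    refine ⟨?_, ?_⟩
    · have := MM_BB H ht C.hu1
      rw [mul_one] at this; exact this
    · intro h
      exact pow_ne_zero 2 t.ne_zero h
  · intro t ht t' ht' heq
    exact Units.ext (sq_inj2 heq)

theorem two_le_MM : 2 ≤ (MM H).ncard := by
  have h : ({1, κ} : Set Fˣ) ⊆ MM H := by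
    intro x hx
    rcases hx with rfl | rfl
    · exact MM_one H
    · exact C.hk
  calc 2 = ({1, κ} : Set Fˣ).ncard := (Set.ncard_pair (Ne.symm C.hk1)).symm
    _ ≤ _ := Set.ncard_le_ncard h (Set.toFinite _)

theorem Om_eq : Om H = BB H ∧ (BB H).ncard - 1 = (MM H).ncard := by
  have h1 := count1 H
  have h2 := count2 C
  have h3 := Set.ncard_le_ncard (BB_sub_Om C) (Set.toFinite _)
  have h := arithL (N := (Om H).ncard) (i := (BB H).ncard - 1) (qQ := (BB H).ncard)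
    (d := (MM H).ncard) (o := (Om H).ncard - (BB H).ncard) (le_trans h1 h2) (by omega)
    (MM_le C) (two_le_MM C) (one_le_BB H)
  refine ⟨?_, h.2⟩
  exact (Set.eq_of_subset_of_ncard_le (BB_sub_Om C) (le_of_eq h.1) (Set.toFinite _)).symm

theorem sq_MM : (fun t : Fˣ => (t : F) ^ 2) '' (MM H) = BB H \ {0} := by
  apply Set.eq_of_subset_of_ncard_le
  · rintro _ ⟨t, ht, rfl⟩
    refine ⟨?_, ?_⟩
    · have := MM_BB H ht C.hu1
      rw [mul_one] at this; exact this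
    · intro h
      exact pow_ne_zero 2 t.ne_zero h
  · rw [Set.ncard_sdiff_singleton_of_mem (BB_zero H), (Om_eq C).2]
    exact le_of_eq (Set.InjOn.ncard_image (fun t _ t' _ heq => Units.ext (sq_inj2 heq))).symm
  · exact Set.toFinite _

theorem BB_mul {b b' : F} (hb : b ∈ BB H) (hb' : b' ∈ BB H) : b * b' ∈ BB H := by
  by_cases h0 : b = 0
  · rw [h0, zero_mul]; exact BB_zero H
  · have h1 : b ∈ BB H \ {0} := ⟨hb, h0⟩
    rw [← sq_MM C] at h1
    obtain ⟨t, ht, rfl⟩ := h1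
    exact MM_BB H ht hb'

theorem BB_inv {b : F} (hb : b ∈ BB H) : b⁻¹ ∈ BB H := by
  by_cases h0 : b = 0
  · rw [h0, _root_.inv_zero]; exact BB_zero H
  · have h1 : b ∈ BB H \ {0} := ⟨hb, h0⟩
    rw [← sq_MM C] at h1
    obtain ⟨t, ht, rfl⟩ := h1
    have h2 := MM_BB H (MM_inv H ht) C.hu1
    rw [mul_one, Units.val_inv_eq_inv_val, inv_pow] at h2
    exact h2

/-- the subfield. -/
def KK : Subfield F where
  carrier := BB H
  mul_mem' := fun ha hb => BB_mul C ha hb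
  one_mem' := C.hu1
  add_mem' := fun ha hb => BB_add H ha hb
  zero_mem' := BB_zero H
  neg_mem' := fun {x} hx => by rw [neg2]; exact hx
  inv_mem' := fun x hx => BB_inv C hx

theorem mem_KK {x : F} : x ∈ C.KK ↔ x ∈ BB H := Iff.rfl

theorem BB_sqrt {c : F} (hc : c ^ 2 ∈ BB H) : c ∈ BB H := by
  have himg : (fun b : F => b ^ 2) '' (BB H) = BB H := by
    apply Set.eq_of_subset_of_ncard_le
    · rintro _ ⟨b, hb, rfl⟩
      show b ^ 2 ∈ BB H
      rw [pow_two]; exact BB_mul C hb hb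
    · exact le_of_eq (Set.InjOn.ncard_image (fun a _ b _ h => sq_inj2 h)).symm
    · exact Set.toFinite _
  rw [← himg] at hc
  obtain ⟨b, hb, hbc⟩ := hc
  have : b = c := sq_inj2 hbc
  rw [← this]; exact hb

theorem MM_iff {t : Fˣ} : t ∈ MM H ↔ (t : F) ∈ BB H := by
  constructor
  · intro ht
    apply BB_sqrt C
    have := MM_BB H ht C.hu1
    rw [mul_one] at this; exact this
  · intro ht
    have h1 : (t : F) ^ 2 ∈ BB H \ {0} :=
      ⟨by rw [pow_two]; exact BB_mul C ht ht, pow_ne_zero 2 t.ne_zero⟩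
    rw [← sq_MM C] at h1
    obtain ⟨m, hm, hmt⟩ := h1
    have : m = t := Units.ext (sq_inj2 hmt)
    rw [← this]; exact hm

theorem w1_mem : ww (1 : Fˣ) ∈ H := by
  have h1 : l (1 / (β₀ : F) ^ 2) ∈ H := by
    rw [← ww_conj_u]
    exact mul_mem (mul_mem C.hw C.hu1) (inv_mem C.hw)
  have hne : (1 / (β₀ : F) ^ 2) ≠ 0 := one_div_ne_zero (pow_ne_zero 2 β₀.ne_zero)
  have h2 : (1 / (β₀ : F) ^ 2)⁻¹ ∈ Om H := ⟨_, h1, maps_l hne⟩
  rw [(Om_eq C).1, one_div, inv_inv] at h2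
  have h3 : β₀ ∈ MM H := (MM_iff C).mpr (BB_sqrt C h2)
  have h4 : ww (1 : Fˣ) = dd β₀⁻¹ * ww β₀ := by rw [dd_ww, inv_mul_cancel]
  rw [h4]
  exact mul_mem (MM_inv H h3) C.hw

theorem fix_mem {h : G2 F} (hh : h ∈ H) (h10 : h.1 1 0 = 0) : h ∈ SLsub C.KK := by
  obtain ⟨t, c, e⟩ := fixinf_form h h10
  have h1 : Maps (u c * dd t * ww 1) ((t : F) ^ 2 * 0 + c) := maps_fix_mul (maps_ww 1) c t
  rw [mul_zero, zero_add] at h1
  have hc : c ∈ BB H := by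
    rw [← (Om_eq C).1]
    exact ⟨_, mul_mem (by rw [← e]; exact hh) (w1_mem C), h1⟩
  have ht : t ∈ MM H := by
    show dd t ∈ H
    have : dd t = (u c)⁻¹ * h := by rw [e]; group
    rw [this]; exact mul_mem (inv_mem hc) hh
  rw [e]
  exact mul_mem (u_mem_SLsub ((mem_KK C).mpr hc)) (dd_mem_SLsub ((mem_KK C).mpr ((MM_iff C).mp ht)))

theorem mem_sub {h : G2 F} (hh : h ∈ H) : h ∈ SLsub C.KK := by
  by_cases h10 : h.1 1 0 = 0
  · exact fix_mem C hh h10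
  · have hm := maps_of_ne h10
    obtain ⟨a, ha⟩ : ∃ a, a = h.1 0 0 / h.1 1 0 := ⟨_, rfl⟩
    rw [← ha] at hm
    have haB : a ∈ BB H := by rw [← (Om_eq C).1]; exact ⟨h, hh, hm⟩
    have h1 : ww 1 * u a * h ∈ H := mul_mem (mul_mem (w1_mem C) haB) hh
    have h2 : (ww 1 * u a * h).1 1 0 = 0 := by
      rw [ww1_u, ← hm.2]; exact add2 _
    have h3 := fix_mem C h1 h2
    have h4 : h = (u a)⁻¹ * (ww 1)⁻¹ * (ww 1 * u a * h) := by group
    rw [h4]
    exact mul_mem (mul_mem (inv_mem (u_mem_SLsub ((mem_KK C).mpr haB)))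
      (inv_mem ww1_mem_SLsub)) h3

theorem sub_mem_fix {g : G2 F} (hg : g ∈ SLsub C.KK) (h10 : g.1 1 0 = 0) : g ∈ H := by
  obtain ⟨t, b, e⟩ := fixinf_form g h10
  rw [mem_SLsub] at hg
  have h00 : (t : F) ∈ BB H := by
    have := hg.1
    rw [e, udd_00] at this; exact this
  have ht : t ∈ MM H := (MM_iff C).mpr h00
  have hb : b ∈ BB H := by
    have h01 := hg.2.1
    rw [e, mul01, u00, u01, dd01, dd11] at h01
    have : b = (1 * 0 + b * (t : F)⁻¹) * (t : F) := by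
      rw [one_mul, zero_add, mul_assoc, inv_mul_cancel₀ t.ne_zero, mul_one]
    rw [this]; exact BB_mul C h01 h00
  rw [e]; exact mul_mem hb ht

theorem sub_mem {g : G2 F} (hg : g ∈ SLsub C.KK) : g ∈ H := by
  by_cases h10 : g.1 1 0 = 0
  · exact sub_mem_fix C hg h10
  · have hg' := mem_SLsub.mp hg
    obtain ⟨a, ha⟩ : ∃ a, a = g.1 0 0 / g.1 1 0 := ⟨_, rfl⟩
    have haB : a ∈ BB H := by
      rw [ha, div_eq_mul_inv]
      exact BB_mul C hg'.1 (BB_inv C hg'.2.2.1)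
    have h1 : ww 1 * u a * g ∈ SLsub C.KK :=
      mul_mem (mul_mem ww1_mem_SLsub (u_mem_SLsub ((mem_KK C).mpr haB))) hg
    have h2 : (ww 1 * u a * g).1 1 0 = 0 := by
      rw [ww1_u, ha]
      have : g.1 0 0 / g.1 1 0 * g.1 1 0 = g.1 0 0 := by field_simp
      rw [this]; exact add2 _
    have h3 := sub_mem_fix C h1 h2
    have h4 : g = (u a)⁻¹ * (ww 1)⁻¹ * (ww 1 * u a * g) := by group
    rw [h4]
    exact mul_mem (mul_mem (inv_mem haB) (inv_mem (w1_mem C))) h3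

theorem main : ∃ K : Subfield F, (∃ b ∈ K, b ≠ 0 ∧ b ≠ 1) ∧ ∀ h, h ∈ H ↔ h ∈ SLsub K := by
  refine ⟨C.KK, ⟨(κ : F) ^ 2, ?_, pow_ne_zero 2 κ.ne_zero, ?_⟩, fun h => ⟨mem_sub C, sub_mem C⟩⟩
  · have := MM_BB H C.hk C.hu1
    rw [mul_one] at this; exact this
  · intro h
    apply C.hk1
    have h1 : (κ : F) ^ 2 = (1 : F) ^ 2 := by rw [h, one_pow]
    exact Units.ext (by rw [Units.val_one]; exact sq_inj2 h1)

end Cfg

theorem reduce [Finite F] (H : Subgroup (G2 F)) (hu1 : u 1 ∈ H) {b₁ : F} (hb1 : u b₁ ∈ H)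
    (h0 : b₁ ≠ 0) (h1 : b₁ ≠ 1) (hne : ∃ h ∈ H, h.1 1 0 ≠ 0) :
    ∃ (γ : F) (β₀ κ : Fˣ), Cfg (cj (u γ) H) β₀ κ := by
  have hB3 : 3 ≤ (BB H).ncard := by
    have hs : ({0, 1, b₁} : Set F) ⊆ BB H := by
      intro x hx
      rcases hx with rfl | rfl | rfl
      · exact BB_zero H
      · exact hu1
      · exact hb1
    have h3 : ({0, 1, b₁} : Set F).ncard = 3 :=
      Set.ncard_eq_three.mpr ⟨0, 1, b₁, zero_ne_one, Ne.symm h0, Ne.symm h1, rfl⟩
    rw [← h3]; exact Set.ncard_le_ncard hs (Set.toFinite _)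
  have hOm : 1 ≤ (Om H).ncard := by
    obtain ⟨h, hh, h10⟩ := hne
    exact (Set.ncard_pos (Set.toFinite _)).mpr ⟨_, h, hh, maps_of_ne h10⟩
  have hc := count1 H
  have hlt : (Om H).ncard < (Mv H).ncard := by
    have : (Om H).ncard * 2 ≤ (Om H).ncard * ((BB H).ncard - 1) :=
      Nat.mul_le_mul_left _ (by omega)
    omega
  obtain ⟨s, hs, s', hs', hne', heq⟩ := Set.exists_ne_map_eq_of_ncard_lt_of_maps_to hlt
    (f := fun s : G2 F => s.1 0 0 / s.1 1 0) (fun s hs => ⟨s, hs.1, maps_of_ne hs.2.2⟩)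
    (Set.toFinite _)
  obtain ⟨β, hβ⟩ := invol_conj s hs.2.1 hs.2.2
  obtain ⟨β', hβ'⟩ := invol_conj s' hs'.2.1 hs'.2.2
  have heq' : s.1 0 0 / s.1 1 0 = s'.1 0 0 / s'.1 1 0 := heq
  rw [← heq'] at hβ'
  obtain ⟨γ, hγ⟩ : ∃ γ, γ = s.1 0 0 / s.1 1 0 := ⟨_, rfl⟩
  rw [← hγ] at hβ hβ'
  refine ⟨γ, β, β * β'⁻¹, ?_, ?_, ?_, ?_⟩
  · rw [mem_cj]
    have : u γ * u 1 * (u γ)⁻¹ = u 1 := by
      rw [u_inv, u_mul, u_mul]; congr 1; ring
    rw [this]; exact hu1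
  · rw [mem_cj, ← hβ]; exact hs.1
  · rw [mem_cj, ← ww_mul]
    have : u γ * (ww β * ww β') * (u γ)⁻¹
        = (u γ * ww β * (u γ)⁻¹) * (u γ * ww β' * (u γ)⁻¹) := by group
    rw [this, ← hβ, ← hβ']; exact mul_mem hs.1 hs'.1
  · intro h
    apply hne'
    have : β = β' := mul_inv_eq_one.mp h
    rw [hβ, hβ', this]

end Cfsg.Agent.Lib.Helper3.L2
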