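import Mathlib
import Cfsg.Agent.Lib.Helper3.L2c
import Cfsg.Agent.S2503

set_option autoImplicit false
set_option linter.unusedSectionVars false
set_option linter.unusedVariables false
set_option linter.unusedSimpArgs false
set_option linter.style.haveILetI false

namespace Cfsg.Agent.Lib.Helper3.L2

open Matrix

theorem cyc_comm {G : Type*} [Group G] [IsCyclic G] (a b : G) : a * b = b * a := by
  obtain ⟨g, hg⟩ := IsCyclic.exists_generator (α := G)
  obtain ⟨m, rfl⟩ := Subgroup.mem_zpowers_iff.mp (hg a)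
  obtain ⟨n, rfl⟩ := Subgroup.mem_zpowers_iff.mp (hg b)
  rw [← _root_.zpow_add, ← _root_.zpow_add, add_comm]

theorem comm_of_sq {G : Type*} [Group G] {a b : G} (ha : a * a = 1) (hb : b * b = 1)
    (hab : (a * b) * (a * b) = 1) : a * b = b * a := by
  have ha' : a⁻¹ = a := inv_eq_of_mul_eq_one_right ha
  have hb' : b⁻¹ = b := inv_eq_of_mul_eq_one_right hb
  have hab' : (a * b)⁻¹ = a * b := inv_eq_of_mul_eq_one_right hab
  calc a * b = (a * b)⁻¹ := hab'.symm
    _ = b⁻¹ * a⁻¹ := _root_.mul_inv_rev a b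
    _ = b * a := by rw [ha', hb']

variable {F : Type*} [Field F] [CharP F 2]

theorem cent_dd (g : G2 F) (ρ : Fˣ) (hρ : ρ ≠ 1) (h : g * dd ρ = dd ρ * g) :
    g.1 0 1 = 0 ∧ g.1 1 0 = 0 := by
  have hne : (ρ : F) - (ρ : F)⁻¹ ≠ 0 := by
    intro h0
    apply hρ
    have h1 : (ρ : F) ^ 2 = (1 : F) ^ 2 := by
      have := ρ.ne_zero
      field_simp at h0
      linear_combination h0
    exact Units.ext (by rw [Units.val_one]; exact sq_inj2 h1)
  have e01 := congrArg (fun x : G2 F => x.1 0 1) h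
  have e10 := congrArg (fun x : G2 F => x.1 1 0) h
  simp only [mul01, mul10, dd00, dd01, dd10, dd11] at e01 e10
  constructor
  · have : g.1 0 1 * ((ρ : F) - (ρ : F)⁻¹) = 0 := by linear_combination -e01
    rcases mul_eq_zero.mp this with h | h
    · exact h
    · exact absurd h hne
  · have : g.1 1 0 * ((ρ : F) - (ρ : F)⁻¹) = 0 := by linear_combination e10
    rcases mul_eq_zero.mp this with h | h
    · exact h
    · exact absurd h hne

/-- a finite group of matrices commuting with a semisimple element is cyclic. -/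
theorem cyclic_of_comm [Fintype F] {P : Type*} [Group P] [Finite P] (φ : P →* G2 F)
    (hφ : Function.Injective φ) (x : G2 F) (hx1 : x ≠ 1) (hx2 : x * x ≠ 1)
    (hc : ∀ p, φ p * x = x * φ p) : IsCyclic P := by
  have hτ : x.1 0 0 + x.1 1 1 ≠ 0 := fun h => hx2 ((sq_one_iff x).mpr (eq_of_add2 h))
  by_cases hsplit : ∃ r : F, r * (x.1 0 0 + x.1 1 1 - r) = 1
  · obtain ⟨r, hr⟩ := hsplit
    have hr0 : r ≠ 0 := by
      intro h; rw [h, zero_mul] at hr; exact zero_ne_one hr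
    have htr : (dd (Units.mk0 r hr0)).1 0 0 + (dd (Units.mk0 r hr0)).1 1 1
        = x.1 0 0 + x.1 1 1 := by
      rw [dd00, dd11, Units.val_mk0]
      field_simp
      linear_combination -hr
    have hρ1 : Units.mk0 r hr0 ≠ 1 := by
      intro h
      rw [h, dd00, dd11, Units.val_one, inv_one, add2] at htr
      exact hτ htr.symm
    have hdd1 : dd (Units.mk0 r hr0) ≠ 1 := fun h => hρ1 (dd_inj (h.trans dd_one.symm))
    obtain ⟨δ, hδ⟩ := isConj_iff.mp ((Cfsg.Agent.S2507.conj_iff x _ hx1).mpr ⟨hdd1, htr⟩)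
    have hdiag : ∀ p, (δ * φ p * δ⁻¹).1 0 1 = 0 ∧ (δ * φ p * δ⁻¹).1 1 0 = 0 := by
      intro p
      apply cent_dd _ _ hρ1
      rw [← hδ]
      calc δ * φ p * δ⁻¹ * (δ * x * δ⁻¹) = δ * (φ p * x) * δ⁻¹ := by group
        _ = δ * (x * φ p) * δ⁻¹ := by rw [hc]
        _ = δ * x * δ⁻¹ * (δ * φ p * δ⁻¹) := by group
    let ψ : P →* F :=
      { toFun := fun p => (δ * φ p * δ⁻¹).1 0 0
        map_one' := by rw [map_one, mul_one, mul_inv_cancel, one00]
        map_mul' := by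
          intro p q
          have : δ * φ (p * q) * δ⁻¹ = (δ * φ p * δ⁻¹) * (δ * φ q * δ⁻¹) := by
            rw [map_mul]; group
          rw [this, mul00, (hdiag p).1, zero_mul, add_zero] }
    apply isCyclic_of_injective_ringHom ψ
    intro p q hpq
    apply hφ
    have h1 : δ * φ p * δ⁻¹ = δ * φ q * δ⁻¹ := by
      have h00 : (δ * φ p * δ⁻¹).1 0 0 = (δ * φ q * δ⁻¹).1 0 0 := hpq
      have hdp := det2 (δ * φ p * δ⁻¹)
      have hdq := det2 (δ * φ q * δ⁻¹)
      rw [(hdiag p).1, zero_mul, sub_zero] at hdp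
      rw [(hdiag q).1, zero_mul, sub_zero, ← h00] at hdq
      have hne : (δ * φ p * δ⁻¹).1 0 0 ≠ 0 := by
        intro h; rw [h, zero_mul] at hdp; exact zero_ne_one hdp
      apply ext2 h00
      · rw [(hdiag p).1, (hdiag q).1]
      · rw [(hdiag p).2, (hdiag q).2]
      · exact mul_left_cancel₀ hne (hdp.trans hdq.symm)
    exact mul_left_cancel (mul_right_cancel h1)
  · push Not at hsplit
    obtain ⟨τ, hτe⟩ : ∃ τ, τ = x.1 0 0 + x.1 1 1 := ⟨_, rfl⟩
    rw [← hτe] at hsplit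
    have hg1 : Cfsg.Agent.S2503.g0 τ ≠ 1 := by
      intro h
      have h1 := congrArg (fun g : G2 F => g.1 1 0) h
      simp [Cfsg.Agent.S2503.g0_coe, Cfsg.Agent.Lib.Helper14.GL2Conj.comp] at h1
    have htr : (Cfsg.Agent.S2503.g0 τ).1 0 0 + (Cfsg.Agent.S2503.g0 τ).1 1 1
        = x.1 0 0 + x.1 1 1 := by
      rw [← hτe]
      simp [Cfsg.Agent.S2503.g0_coe, Cfsg.Agent.Lib.Helper14.GL2Conj.comp]
    obtain ⟨δ, hδ⟩ := isConj_iff.mp ((Cfsg.Agent.S2507.conj_iff x _ hx1).mpr ⟨hg1, htr⟩)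
    have hmem : ∀ p, (MulAut.conj δ).toMonoidHom.comp φ p ∈ Cfsg.Agent.S2503.torus τ := by
      intro p
      show δ * φ p * δ⁻¹ ∈ Subgroup.centralizer {Cfsg.Agent.S2503.g0 τ}
      rw [Subgroup.mem_centralizer_iff]
      intro h hh
      rw [Set.mem_singleton_iff] at hh
      rw [hh, ← hδ]
      calc δ * x * δ⁻¹ * (δ * φ p * δ⁻¹) = δ * (x * φ p) * δ⁻¹ := by group
        _ = δ * (φ p * x) * δ⁻¹ := by rw [hc]
        _ = δ * φ p * δ⁻¹ * (δ * x * δ⁻¹) := by group
    haveI := Cfsg.Agent.S2503.torus_cyclic τ hsplit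
    apply isCyclic_of_injective (((MulAut.conj δ).toMonoidHom.comp φ).codRestrict _ hmem)
    intro p q hpq
    apply hφ
    have h1 : δ * φ p * δ⁻¹ = δ * φ q * δ⁻¹ := congrArg Subtype.val hpq
    exact mul_left_cancel (mul_right_cancel h1)

theorem zgroup_of_no_klein [Fintype F] (H : Subgroup (G2 F))
    (hK : ∀ t₁ ∈ H, ∀ t₂ ∈ H, t₁ ≠ 1 → t₂ ≠ 1 → t₁ * t₁ = 1 → t₂ * t₂ = 1 →
      t₁ * t₂ = t₂ * t₁ → t₁ = t₂) : IsZGroup H := by
  constructor
  intro p hp P
  haveI : Fact p.Prime := ⟨hp⟩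
  have hPG : IsPGroup p P := P.isPGroup'
  by_cases h2 : p = 2
  · subst h2
    have hinv : ∀ g : P, g.1.1 * g.1.1 = 1 := by
      intro g
      obtain ⟨k, hk⟩ := hPG g
      apply sq_of_two_pow _ k
      have h1 := congrArg (fun y : P => y.1.1) hk
      simpa using h1
    by_cases htriv : ∀ g : P, g = 1
    · haveI : Subsingleton P := ⟨fun a b => by rw [htriv a, htriv b]⟩
      exact isCyclic_of_subsingleton
    · push Not at htriv
      obtain ⟨t, ht⟩ := htriv
      rw [isCyclic_iff_exists_zpowers_eq_top]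
      refine ⟨t, ?_⟩
      rw [eq_top_iff]
      intro g _
      by_cases hg : g = 1
      · rw [hg]; exact one_mem _
      · have : g = t := by
          apply Subtype.ext; apply Subtype.ext
          apply hK _ g.1.2 _ t.1.2 ?_ ?_ (hinv g) (hinv t) ?_
          · intro h; apply hg; apply Subtype.ext; apply Subtype.ext; exact h
          · intro h; apply ht; apply Subtype.ext; apply Subtype.ext; exact h
          · exact comm_of_sq (hinv g) (hinv t) (hinv (g * t))
        rw [this]; exact Subgroup.mem_zpowers t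
  · have hodd : ∀ g : P, g.1.1 * g.1.1 = 1 → g = 1 := by
      intro g hg
      obtain ⟨k, hk⟩ := hPG g
      have h1 : orderOf g ∣ p ^ k := orderOf_dvd_of_pow_eq_one hk
      have h2' : orderOf g ∣ 2 := by
        apply orderOf_dvd_of_pow_eq_one
        apply Subtype.ext; apply Subtype.ext
        rw [pow_two]; exact hg
      have h3 : Nat.Coprime (p ^ k) 2 :=
        Nat.Coprime.pow_left _ ((Nat.coprime_primes hp Nat.prime_two).mpr h2)
      have h4 : orderOf g ∣ 1 := by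
        have := Nat.dvd_gcd h1 h2'
        rw [Nat.Coprime.gcd_eq_one h3] at this
        exact this
      exact orderOf_eq_one_iff.mp (Nat.dvd_one.mp h4)
    by_cases htriv : Subsingleton P
    · exact isCyclic_of_subsingleton
    · haveI : Nontrivial P := not_subsingleton_iff_nontrivial.mp htriv
      haveI : Nontrivial (Subgroup.center P) := hPG.center_nontrivial
      obtain ⟨z, hz⟩ := exists_ne (1 : Subgroup.center P)
      apply cyclic_of_comm ((H.subtype).comp (P : Subgroup H).subtype) ?_ z.1.1.1 ?_ ?_ ?_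
      · intro a b hab; exact Subtype.ext (Subtype.ext hab)
      · intro h; apply hz; apply Subtype.ext; apply Subtype.ext; apply Subtype.ext; exact h
      · intro h; apply hz; apply Subtype.ext; exact hodd z.1 h
      · intro g
        have h0 := z.2
        rw [Subgroup.mem_center_iff] at h0
        have h1 := h0 g
        exact congrArg (fun y : P => y.1.1) h1

theorem klein_case [Finite F] (H : Subgroup (G2 F)) (t₁ t₂ : G2 F) (h1 : t₁ ∈ H) (h2 : t₂ ∈ H)
    (hn1 : t₁ ≠ 1) (hn2 : t₂ ≠ 1) (hne : t₁ ≠ t₂) (hs1 : t₁ * t₁ = 1) (hs2 : t₂ * t₂ = 1)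
    (hc : t₁ * t₂ = t₂ * t₁) : Conc H := by
  have hcj : IsConj (u (1 : F)) t₁ := by
    rw [Cfsg.Agent.S2507.conj_iff _ _ (u_ne_one one_ne_zero)]
    refine ⟨hn1, ?_⟩
    rw [(sq_one_iff t₁).mp hs1, u00, u11, add2, add2]
  obtain ⟨δ, hδ⟩ := isConj_iff.mp hcj
  apply conc_conj δ
  have hu1 : u 1 ∈ cj δ H := by rw [mem_cj, hδ]; exact h1
  have ht2 : δ⁻¹ * t₂ * δ ∈ cj δ H := conj_mem_cj h2
  have hcomm : (δ⁻¹ * t₂ * δ) * u 1 = u 1 * (δ⁻¹ * t₂ * δ) := by
    have hu : u (1 : F) = δ⁻¹ * t₁ * δ := by rw [← hδ]; group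
    rw [hu]
    calc δ⁻¹ * t₂ * δ * (δ⁻¹ * t₁ * δ) = δ⁻¹ * (t₂ * t₁) * δ := by group
      _ = δ⁻¹ * (t₁ * t₂) * δ := by rw [hc]
      _ = δ⁻¹ * t₁ * δ * (δ⁻¹ * t₂ * δ) := by group
  have hform := cent_u' _ 1 one_ne_zero hcomm
  obtain ⟨b₁, hb⟩ : ∃ b₁, b₁ = (δ⁻¹ * t₂ * δ).1 0 1 := ⟨_, rfl⟩
  rw [← hb] at hform
  have hb0 : b₁ ≠ 0 := by
    intro h0
    rw [h0, u_zero] at hform
    apply hn2
    have : t₂ = δ * (δ⁻¹ * t₂ * δ) * δ⁻¹ := by group
    rw [this, hform]; group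
  have hb1 : b₁ ≠ 1 := by
    intro h0
    rw [h0] at hform
    apply hne
    have : t₂ = δ * (δ⁻¹ * t₂ * δ) * δ⁻¹ := by group
    rw [this, hform, hδ]
  rw [hform] at ht2
  by_cases hfix : ∀ h ∈ cj δ H, h.1 1 0 = 0
  · left
    refine ⟨1, fun h hh => ?_⟩
    rw [one_mul, inv_one, mul_one]; exact hfix h hh
  · push Not at hfix
    obtain ⟨γ, β₀, κ, C⟩ := reduce (cj δ H) hu1 ht2 hb0 hb1 hfix
    apply conc_conj (u γ)
    right; right
    obtain ⟨K, hK, hKH⟩ := C.main
    refine ⟨1, K, hK, fun h => ?_⟩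
    rw [one_mul, inv_one, mul_one]; exact hKH h

/-- **Dickson's theorem** for `SL₂(2ⁿ)`. -/
theorem dickson [Fintype F] (H : Subgroup (G2 F)) : Conc H := by
  by_cases hK : ∃ t₁ ∈ H, ∃ t₂ ∈ H, t₁ ≠ 1 ∧ t₂ ≠ 1 ∧ t₁ ≠ t₂ ∧ t₁ * t₁ = 1 ∧ t₂ * t₂ = 1 ∧
      t₁ * t₂ = t₂ * t₁
  · obtain ⟨t₁, h1, t₂, h2, hn1, hn2, hne, hs1, hs2, hc⟩ := hK
    exact klein_case H t₁ t₂ h1 h2 hn1 hn2 hne hs1 hs2 hc
  · haveI : IsZGroup H := by
      apply zgroup_of_no_klein
      intro t₁ h1 t₂ h2 hn1 hn2 hs1 hs2 hc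
      by_contra hne
      exact hK ⟨t₁, h1, t₂, h2, hn1, hn2, hne, hs1, hs2, hc⟩
    have hcyc : IsCyclic (commutator H) := IsZGroup.isCyclic_commutator H
    by_cases hbot : commutator H = ⊥
    · by_cases hH : ∃ y ∈ H, y ≠ 1
      · have hab : ∀ a ∈ H, ∀ b ∈ H, a * b = b * a := by
          intro a ha b hb
          have hle : (⊤ : Subgroup H) ≤ Subgroup.centralizer ((⊤ : Subgroup H) : Set H) :=
            Subgroup.commutator_eq_bot_iff_le_centralizer.mp hbot
          have h1 := Subgroup.mem_centralizer_iff.mp (hle (Subgroup.mem_top (⟨a, ha⟩ : H)))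
            ⟨b, hb⟩ (Subgroup.mem_top _)
          exact (congrArg Subtype.val h1).symm
        have h3 := conc_of_abelian H H hab hH
          (fun h hh y hy => mul_mem (mul_mem hh hy) (inv_mem hh))
        rcases h3 with h | h
        · exact Or.inl h
        · exact Or.inr (Or.inl h)
      · left
        refine ⟨1, fun h hh => ?_⟩
        push Not at hH
        rw [hH h hh, mul_one, mul_inv_cancel, one10]
    · have hab : ∀ a ∈ (commutator H).map H.subtype, ∀ b ∈ (commutator H).map H.subtype,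
          a * b = b * a := by
        rintro _ ⟨a, ha, rfl⟩ _ ⟨b, hb, rfl⟩
        have hcomm : (⟨a, ha⟩ : commutator H) * ⟨b, hb⟩ = ⟨b, hb⟩ * ⟨a, ha⟩ := cyc_comm _ _
        exact congrArg (fun y : commutator H => (y.1.1 : G2 F)) hcomm
      have hY : ∃ y ∈ (commutator H).map H.subtype, y ≠ 1 := by
        obtain ⟨a, ha⟩ := (Subgroup.ne_bot_iff_exists_ne_one).mp hbot
        refine ⟨a.1.1, ⟨a.1, a.2, rfl⟩, ?_⟩
        intro h
        apply ha
        apply Subtype.ext; apply Subtype.ext; exact h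
      have hN : ∀ h ∈ H, ∀ y ∈ (commutator H).map H.subtype,
          h * y * h⁻¹ ∈ (commutator H).map H.subtype := by
        have hnorm : (commutator H).Normal := inferInstance
        rintro h hh _ ⟨a, ha, rfl⟩
        exact ⟨(⟨h, hh⟩ : H) * a * (⟨h, hh⟩ : H)⁻¹, hnorm.conj_mem a ha (⟨h, hh⟩ : H), rfl⟩
      rcases conc_of_abelian H _ hab hY hN with h | h
      · exact Or.inl h
      · exact Or.inr (Or.inl h)

end Cfsg.Agent.Lib.Helper3.L2
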