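import Mathlib
import Cfsg.Agent.Lib.Helper3.L2d

set_option autoImplicit false
set_option linter.unusedSectionVars false
set_option linter.unusedVariables false
set_option linter.unusedSimpArgs false
set_option linter.style.haveILetI false

namespace Cfsg.Agent.Lib.Helper3.L2

open Matrix

variable {F : Type*} [Field F] [CharP F 2]

theorem l_mem_SLsub {K : Subfield F} {b : F} (hb : b ∈ K) : l b ∈ SLsub K := by
  rw [mem_SLsub, l00, l01, l10, l11]
  exact ⟨one_mem K, zero_mem K, hb, one_mem K⟩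

theorem not_fixpt (H : Subgroup (G2 F)) (hu : u 1 ∈ H) (hl : l 1 ∈ H) : ¬ FixPt H := by
  rintro ⟨γ, hγ⟩
  have h1 := hγ _ hu
  have h2 := hγ _ hl
  rw [conj_u_10, one_mul, neg2] at h1
  rw [conj_l_10, one_mul] at h2
  have e1 : γ.1 1 0 = 0 := (pow_eq_zero_iff (by norm_num : (2 : ℕ) ≠ 0)).mp h1
  have e2 : γ.1 1 1 = 0 := (pow_eq_zero_iff (by norm_num : (2 : ℕ) ≠ 0)).mp h2
  have hd := det2 γ
  rw [e1, e2, mul_zero, mul_zero, sub_zero] at hd
  exact zero_ne_one hd

theorem not_dih (H : Subgroup (G2 F)) (hu : u 1 ∈ H) {b₁ : F} (hb : u b₁ ∈ H) (hb0 : b₁ ≠ 0)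
    (hb1 : b₁ ≠ 1) : ¬ DihType H := by
  rintro ⟨x, hx1, hx2, hx⟩
  have key : ∀ b : F, b ≠ 0 → u b * x * (u b)⁻¹ ≠ x := by
    intro b hb0 h
    have hc : x * u b = u b * x := by
      have : u b * x = (u b * x * (u b)⁻¹) * u b := by group
      rw [this, h]
    have h3 := cent_u x b hb0 hc
    exact hx2 ((sq_one_iff x).mpr h3.2)
  have h1 : u 1 * x * (u 1)⁻¹ = x⁻¹ := (hx _ hu).resolve_left (key 1 one_ne_zero)
  have h2 : u b₁ * x * (u b₁)⁻¹ = x⁻¹ := (hx _ hb).resolve_left (key b₁ hb0)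
  have hne : (1 + b₁) ≠ 0 := fun h => hb1 (eq_of_add2 h).symm
  apply key (1 + b₁) hne
  rw [← u_mul]
  calc u 1 * u b₁ * x * (u 1 * u b₁)⁻¹ = u 1 * (u b₁ * x * (u b₁)⁻¹) * (u 1)⁻¹ := by group
    _ = u 1 * x⁻¹ * (u 1)⁻¹ := by rw [h2]
    _ = (u 1 * x * (u 1)⁻¹)⁻¹ := by group
    _ = x := by rw [h1, inv_inv]

omit [CharP F 2] in
theorem tr_conj (γ g : G2 F) :
    (γ * g * γ⁻¹).1 0 0 + (γ * g * γ⁻¹).1 1 1 = g.1 0 0 + g.1 1 1 := by
  simp only [mul00, mul01, mul10, mul11, inv00, inv01, inv10, inv11]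
  linear_combination (g.1 0 0 + g.1 1 1) * det2 γ

theorem sub_le_of_subtype {K₀ K' : Subfield F} (H : Subgroup (G2 F)) (hle : SLsub K₀ ≤ H)
    (γ : G2 F) (hγ : ∀ h, h ∈ H ↔ γ * h * γ⁻¹ ∈ SLsub K') : K₀ ≤ K' := by
  intro a ha
  have hg : mk2 a 1 1 0 (by rw [mul_zero, mul_one, zero_sub]; exact neg2 1) ∈ SLsub K₀ := by
    rw [mem_SLsub, mk2_00, mk2_01, mk2_10, mk2_11]
    exact ⟨ha, one_mem _, one_mem _, zero_mem _⟩
  have h1 := (hγ _).mp (hle hg)
  rw [mem_SLsub] at h1
  have h2 := add_mem h1.1 h1.2.2.2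
  rw [tr_conj, mk2_00, mk2_11, add_zero] at h2
  exact h2

omit [CharP F 2] in
theorem subfield_dichotomy [Fintype F] {K₀ K' : Subfield F} (hle : K₀ ≤ K') (q r : ℕ)
    (hq : 2 ≤ q) (hK₀ : Nat.card K₀ = q) (hF : Nat.card F = q ^ r) (hr : r.Prime) :
    K' = K₀ ∨ K' = ⊤ := by
  classical
  letI : Algebra K₀ K' := (Subfield.inclusion hle).toAlgebra
  haveI : Fintype K₀ := Fintype.ofFinite _
  haveI : Fintype K' := Fintype.ofFinite _
  have h1 : Fintype.card K' = Fintype.card K₀ ^ Module.finrank K₀ K' := Module.card_eq_pow_finrank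
  have h2 : Fintype.card F = Fintype.card K' ^ Module.finrank K' F := Module.card_eq_pow_finrank
  rw [Nat.card_eq_fintype_card] at hK₀ hF
  rw [hK₀] at h1
  have h3 : r = Module.finrank K₀ K' * Module.finrank K' F := by
    apply Nat.pow_right_injective hq
    show q ^ r = q ^ (_ * _)
    rw [pow_mul, ← h1, ← h2, hF]
  rcases (Nat.dvd_prime hr).mp ⟨_, h3⟩ with hj | hj
  · left
    rw [hj, pow_one] at h1
    apply le_antisymm _ hle
    have hs : (K₀ : Set F) = (K' : Set F) := by
      apply Set.eq_of_subset_of_ncard_le (SetLike.coe_subset_coe.mpr hle) ?_ (Set.toFinite _)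
      rw [← Nat.card_coe_set_eq, ← Nat.card_coe_set_eq]
      show Nat.card K' ≤ Nat.card K₀
      rw [Nat.card_eq_fintype_card, Nat.card_eq_fintype_card, h1, hK₀]
    intro x hx
    have : x ∈ (K' : Set F) := hx
    rw [← hs] at this; exact this
  · right
    have hm : Module.finrank K' F = 1 := by
      rw [hj] at h3
      have := hr.pos
      nlinarith
    rw [hm, pow_one] at h2
    rw [eq_top_iff]
    intro x _
    have hs : (K' : Set F) = Set.univ := by
      apply Set.eq_of_subset_of_ncard_le (Set.subset_univ _) ?_ (Set.toFinite _)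
      rw [Set.ncard_univ, ← Nat.card_coe_set_eq]
      show Nat.card F ≤ Nat.card K'
      rw [Nat.card_eq_fintype_card, Nat.card_eq_fintype_card, h2]
    have : x ∈ (K' : Set F) := by rw [hs]; exact Set.mem_univ x
    exact this

theorem coatom_sub [Fintype F] (K₀ : Subfield F) (q r : ℕ) (hq : 4 ≤ q) (hK₀ : Nat.card K₀ = q)
    (hF : Nat.card F = q ^ r) (hr : r.Prime) : IsCoatom (SLsub K₀) := by
  constructor
  · intro htop
    have hall : ∀ x : F, x ∈ K₀ := by
      intro x
      have : u x ∈ SLsub K₀ := by rw [htop]; exact Subgroup.mem_top _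
      rw [mem_SLsub, u01] at this
      exact this.2.1
    have hc : Nat.card K₀ = Nat.card F := Nat.card_congr (Equiv.subtypeUnivEquiv hall)
    rw [hK₀, hF] at hc
    have : 1 = r := Nat.pow_right_injective (by omega : 2 ≤ q) (by show q ^ 1 = q ^ r; rw [pow_one]; exact hc)
    exact hr.one_lt.ne this
  · intro H hlt
    have hle : SLsub K₀ ≤ H := hlt.le
    have hu1 : u 1 ∈ H := hle (u_mem_SLsub (one_mem _))
    have hl1 : l 1 ∈ H := hle (l_mem_SLsub (one_mem _))
    obtain ⟨b₁, hb, hb0, hb1⟩ : ∃ b₁ ∈ K₀, b₁ ≠ 0 ∧ b₁ ≠ 1 := by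
      by_contra hcon
      push Not at hcon
      have hsub : (K₀ : Set F) ⊆ {0, 1} := by
        intro x hx
        by_cases h0 : x = 0
        · left; exact h0
        · right; exact hcon x hx h0
      have h1 := Set.ncard_le_ncard hsub (Set.toFinite _)
      have h2 : ({0, 1} : Set F).ncard = 2 := Set.ncard_pair zero_ne_one
      rw [← Nat.card_coe_set_eq] at h1
      have : Nat.card K₀ ≤ 2 := by rw [← h2]; exact h1
      omega
    rcases dickson H with h | h | ⟨γ, K', hK', hγ⟩
    · exact absurd h (not_fixpt H hu1 hl1)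
    · exact absurd h (not_dih H hu1 (hle (u_mem_SLsub hb)) hb0 hb1)
    · have hKK := sub_le_of_subtype H hle γ hγ
      rcases subfield_dichotomy hKK q r (by omega) hK₀ hF hr with h | h
      · exfalso
        subst h
        apply hlt.not_ge
        have himg : (fun s : G2 F => γ * s * γ⁻¹) '' (SLsub K' : Set (G2 F))
            = (SLsub K' : Set (G2 F)) := by
          apply Set.eq_of_subset_of_ncard_le
          · rintro _ ⟨s, hs, rfl⟩
            exact (hγ s).mp (hle hs)
          · rw [Set.ncard_image_of_injective _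
              (fun a b hab => mul_left_cancel (mul_right_cancel hab))]
          · exact Set.toFinite _
        intro h hh
        have h1 : γ * h * γ⁻¹ ∈ (SLsub K' : Set (G2 F)) := (hγ h).mp hh
        rw [← himg] at h1
        obtain ⟨s, hs, hsh⟩ := h1
        have : s = h := mul_left_cancel (mul_right_cancel hsh)
        rw [← this]; exact hs
      · rw [eq_top_iff]
        intro x _
        rw [hγ, h, mem_SLsub]
        exact ⟨Subfield.mem_top _, Subfield.mem_top _, Subfield.mem_top _, Subfield.mem_top _⟩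

/-! ### `SL₂` of a subfield -/

section emb

variable {K : Type*} [Field K] (ι : K →+* F)

theorem map_mem (g : G2 K) : Matrix.SpecialLinearGroup.map ι g ∈ SLsub ι.fieldRange := by
  rw [mem_SLsub]
  exact ⟨⟨_, rfl⟩, ⟨_, rfl⟩, ⟨_, rfl⟩, ⟨_, rfl⟩⟩

/-- `SL₂(K) → SL₂(ι K)`. -/
noncomputable def slHom : G2 K →* SLsub ι.fieldRange :=
  (Matrix.SpecialLinearGroup.map ι).codRestrict _ (map_mem ι)

theorem slHom_bij : Function.Bijective (slHom ι) := by
  constructor
  · intro g g' h
    have h1 : Matrix.SpecialLinearGroup.map ι g = Matrix.SpecialLinearGroup.map ι g' :=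
      congrArg Subtype.val h
    apply ext2
    · have := congrArg (fun x : G2 F => x.1 0 0) h1
      exact ι.injective this
    · have := congrArg (fun x : G2 F => x.1 0 1) h1
      exact ι.injective this
    · have := congrArg (fun x : G2 F => x.1 1 0) h1
      exact ι.injective this
    · have := congrArg (fun x : G2 F => x.1 1 1) h1
      exact ι.injective this
  · rintro ⟨g, hg⟩
    obtain ⟨⟨a, ha⟩, ⟨b, hb⟩, ⟨c, hc⟩, ⟨d, hd⟩⟩ := mem_SLsub.mp hg
    have hdet : a * d - b * c = 1 := by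
      apply ι.injective
      rw [map_sub, map_mul, map_mul, map_one, ha, hb, hc, hd]
      exact det2 g
    refine ⟨mk2 a b c d hdet, ?_⟩
    apply Subtype.ext
    show Matrix.SpecialLinearGroup.map ι (mk2 a b c d hdet) = g
    apply ext2
    · exact ha
    · exact hb
    · exact hc
    · exact hd

/-- `SL₂(K) ≃ SL₂(ι K)`. -/
noncomputable def slEquiv : G2 K ≃* SLsub ι.fieldRange :=
  MulEquiv.ofBijective (slHom ι) (slHom_bij ι)

end emb

end Cfsg.Agent.Lib.Helper3.L2
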