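import Mathlib
import Cfsg.Agent.Lib.Helper3.L2e
import Cfsg.Agent.Lib.Helper18.DihedralEquiv

set_option autoImplicit false
set_option linter.unusedSectionVars false
set_option linter.unusedVariables false
set_option linter.unusedSimpArgs false
set_option linter.style.haveILetI false

namespace Cfsg.Agent.Lib.Helper3.L2

open Matrix

variable {F : Type*} [Field F] [CharP F 2]

/-! ### conjugation equivalence -/

/-- `δ⁻¹ S δ ≃ S`. -/
def cjEquiv (γ : G2 F) (S : Subgroup (G2 F)) : cj γ S ≃* S where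
  toFun x := ⟨γ * x.1 * γ⁻¹, mem_cj.mp x.2⟩
  invFun y := ⟨γ⁻¹ * y.1 * γ, conj_mem_cj y.2⟩
  left_inv x := by
    apply Subtype.ext
    show γ⁻¹ * (γ * x.1 * γ⁻¹) * γ = x.1
    group
  right_inv y := by
    apply Subtype.ext
    show γ * (γ⁻¹ * y.1 * γ) * γ⁻¹ = y.1
    group
  map_mul' x y := by
    apply Subtype.ext
    show γ * (x.1 * y.1) * γ⁻¹ = (γ * x.1 * γ⁻¹) * (γ * y.1 * γ⁻¹)
    group

theorem card_cj (γ : G2 F) (S : Subgroup (G2 F)) : Nat.card (cj γ S) = Nat.card S :=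
  Nat.card_congr (cjEquiv γ S).toEquiv

/-! ### the Borel subgroup -/

/-- the stabilizer of `∞`. -/
def Bor : Subgroup (G2 F) where
  carrier := {g | g.1 1 0 = 0}
  one_mem' := one10
  mul_mem' := by
    intro a b ha hb
    show (a * b).1 1 0 = 0
    have ha' : a.1 1 0 = 0 := ha
    have hb' : b.1 1 0 = 0 := hb
    rw [mul10, ha', hb']; ring
  inv_mem' := by
    intro a ha
    show (a⁻¹).1 1 0 = 0
    have ha' : a.1 1 0 = 0 := ha
    rw [inv10, ha', neg_zero]

theorem card_Bor [Fintype F] : Nat.card (Bor (F := F)) = Fintype.card F * (Fintype.card F - 1) := by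
  have hbij : Function.Bijective
      (fun p : F × Fˣ => (⟨u p.1 * dd p.2, udd_10 _ _⟩ : Bor (F := F))) := by
    constructor
    · rintro ⟨b, t⟩ ⟨b', t'⟩ h
      have h1 : u b * dd t = u b' * dd t' := congrArg Subtype.val h
      have h2 := congrArg (fun g : G2 F => g.1 0 0) h1
      simp only [udd_00] at h2
      have ht : t = t' := Units.ext h2
      subst ht
      have hb : b = b' := u_inj (mul_right_cancel h1)
      rw [hb]
    · rintro ⟨g, hg⟩
      obtain ⟨t, b, e⟩ := fixinf_form g hg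
      exact ⟨(b, t), Subtype.ext e.symm⟩
  rw [← Nat.card_congr (Equiv.ofBijective _ hbij), Nat.card_prod, Nat.card_units,
    Nat.card_eq_fintype_card]

/-! ### the order of `SL₂` and of centralizers -/

omit [CharP F 2] in
theorem card_G2 [Fintype F] :
    Nat.card (G2 F) = Fintype.card F * (Fintype.card F - 1) * (Fintype.card F + 1) := by
  have h2 := Cfsg.Agent.S0242.result (F := F) rfl 2 (by norm_num)
  rw [Fin.prod_univ_two] at h2
  simp only [Fin.val_zero, Fin.val_one, pow_zero, pow_one] at h2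
  have hq : 2 ≤ Fintype.card F := Fintype.one_lt_card
  obtain ⟨m, hm⟩ : ∃ m, Fintype.card F = m + 2 := ⟨Fintype.card F - 2, by omega⟩
  rw [hm] at h2 ⊢
  have e1 : m + 2 - 1 = m + 1 := rfl
  have e2 : (m + 2) ^ 2 - 1 = (m + 1) * (m + 3) := by
    apply Nat.sub_eq_of_eq_add; ring
  have e3 : (m + 2) ^ 2 - (m + 2) = (m + 2) * (m + 1) := by
    apply Nat.sub_eq_of_eq_add; ring
  rw [e1, e2, e3] at h2
  rw [e1]
  have h3 : (m + 1) * Nat.card (G2 F) = (m + 1) * ((m + 2) * (m + 1) * (m + 2 + 1)) := by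
    rw [h2]; ring
  exact Nat.eq_of_mul_eq_mul_left (by positivity) h3

theorem card_cent [Fintype F] (x : G2 F) (hx2 : x * x ≠ 1) :
    Nat.card (Subgroup.centralizer ({x} : Set (G2 F))) = Fintype.card F - 1 ∨
    Nat.card (Subgroup.centralizer ({x} : Set (G2 F))) = Fintype.card F + 1 := by
  have hτ : x.1 0 0 + x.1 1 1 ≠ 0 := fun h => hx2 ((sq_one_iff x).mpr (eq_of_add2 h))
  have hidx := Cfsg.Agent.S2507.class_ncard_ne_zero x _ rfl hτ
  have h1 := Subgroup.card_mul_index (Subgroup.centralizer ({x} : Set (G2 F)))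
  rw [card_G2] at h1
  have hq : 2 ≤ Fintype.card F := Fintype.one_lt_card
  obtain ⟨m, hm⟩ : ∃ m, Fintype.card F = m + 2 := ⟨Fintype.card F - 2, by omega⟩
  rw [hm] at h1 hidx ⊢
  have e1 : m + 2 - 1 = m + 1 := rfl
  rw [e1] at h1 hidx ⊢
  by_cases hsplit : ∃ r : F, r * (x.1 0 0 + x.1 1 1 - r) = 1
  · obtain ⟨r, hr⟩ := hsplit
    rw [Cfsg.Agent.S2507.roots_two _ hτ r hr] at hidx
    rw [hidx] at h1
    left
    have h3 : (2 * (m + 2) + (m + 2) * (m + 1)) *
        Nat.card (Subgroup.centralizer ({x} : Set (G2 F)))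
        = (2 * (m + 2) + (m + 2) * (m + 1)) * (m + 1) := by
      rw [mul_comm, h1]; ring
    exact Nat.eq_of_mul_eq_mul_left (by positivity) h3
  · push Not at hsplit
    rw [Cfsg.Agent.S2507.roots_none _ hsplit, zero_mul, zero_add] at hidx
    rw [hidx] at h1
    right
    have h3 : ((m + 2) * (m + 1)) * Nat.card (Subgroup.centralizer ({x} : Set (G2 F)))
        = ((m + 2) * (m + 1)) * (m + 2 + 1) := by
      rw [mul_comm, h1]
    exact Nat.eq_of_mul_eq_mul_left (by positivity) h3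

/-! ### the normalizer of a torus -/

/-- elements normalizing `{x, x⁻¹}`. -/
def Nx (x : G2 F) : Subgroup (G2 F) where
  carrier := {h | h * x * h⁻¹ = x ∨ h * x * h⁻¹ = x⁻¹}
  one_mem' := Or.inl (by group)
  mul_mem' := by
    intro a b ha hb
    have e : a * b * x * (a * b)⁻¹ = a * (b * x * b⁻¹) * a⁻¹ := by group
    show a * b * x * (a * b)⁻¹ = x ∨ a * b * x * (a * b)⁻¹ = x⁻¹
    rw [e]
    have e2 : a * x⁻¹ * a⁻¹ = (a * x * a⁻¹)⁻¹ := by group
    rcases hb with hb | hb <;> rcases ha with ha | ha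
    · left; rw [hb, ha]
    · right; rw [hb, ha]
    · right; rw [hb, e2, ha]
    · left; rw [hb, e2, ha, inv_inv]
  inv_mem' := by
    intro a ha
    show a⁻¹ * x * a⁻¹⁻¹ = x ∨ a⁻¹ * x * a⁻¹⁻¹ = x⁻¹
    rcases ha with ha | ha
    · left
      calc a⁻¹ * x * a⁻¹⁻¹ = a⁻¹ * (a * x * a⁻¹) * a := by rw [ha, inv_inv]
        _ = x := by group
    · right
      have h1 : a * x⁻¹ * a⁻¹ = x := by
        have : a * x⁻¹ * a⁻¹ = (a * x * a⁻¹)⁻¹ := by group
        rw [this, ha, inv_inv]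
      calc a⁻¹ * x * a⁻¹⁻¹ = a⁻¹ * (a * x⁻¹ * a⁻¹) * a := by rw [h1, inv_inv]
        _ = x⁻¹ := by group

theorem mem_Nx {x h : G2 F} : h ∈ Nx x ↔ h * x * h⁻¹ = x ∨ h * x * h⁻¹ = x⁻¹ := Iff.rfl

theorem l_sq (c : F) : l c * l c = 1 := (sq_one_iff (l c)).mpr (by rw [l00, l11])

theorem inverter_of {t x : G2 F} (ht : t * t = 1) (h : (t * x).1 0 0 = (t * x).1 1 1) :
    t * x * t⁻¹ = x⁻¹ := by
  have h1 : (t * x) * (t * x) = 1 := (sq_one_iff _).mpr h
  have ht' : t⁻¹ = t := inv_eq_of_mul_eq_one_right ht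
  rw [ht']
  apply eq_inv_of_mul_eq_one_left
  rw [← h1]; group

theorem exists_inverter (x : G2 F) : ∃ t : G2 F, t * t = 1 ∧ t * x * t⁻¹ = x⁻¹ := by
  by_cases h10 : x.1 1 0 = 0
  · by_cases h01 : x.1 0 1 = 0
    · refine ⟨ww 1, ww_sq 1, inverter_of (ww_sq 1) ?_⟩
      rw [mul00, mul11, ww00, ww01, ww10, ww11, h10, h01]; ring
    · refine ⟨l ((x.1 0 0 + x.1 1 1) / x.1 0 1), l_sq _, inverter_of (l_sq _) ?_⟩
      rw [mul00, mul11, l00, l01, l10, l11]
      have e : (x.1 0 0 + x.1 1 1) / x.1 0 1 * x.1 0 1 = x.1 0 0 + x.1 1 1 := by field_simp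
      rw [e]
      linear_combination (-x.1 1 1) * (two0 : (2 : F) = 0)
  · refine ⟨u ((x.1 0 0 + x.1 1 1) / x.1 1 0), u_sq _, inverter_of (u_sq _) ?_⟩
    rw [mul00, mul11, u00, u01, u10, u11]
    have e : (x.1 0 0 + x.1 1 1) / x.1 1 0 * x.1 1 0 = x.1 0 0 + x.1 1 1 := by field_simp
    rw [e]
    linear_combination (x.1 0 0) * (two0 : (2 : F) = 0)

theorem Nx_dihedral [Fintype F] (x : G2 F) (hx1 : x ≠ 1) (hx2 : x * x ≠ 1)
    (h4 : 4 ≤ Fintype.card F) :
    Nonempty (Nx x ≃* DihedralGroup (Fintype.card F - 1)) ∨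
    Nonempty (Nx x ≃* DihedralGroup (Fintype.card F + 1)) := by
  obtain ⟨C, hC⟩ : ∃ C : Subgroup (G2 F), C = Subgroup.centralizer ({x} : Set (G2 F)) :=
    ⟨_, rfl⟩
  have hCmem : ∀ g, g ∈ C ↔ g * x = x * g := by
    intro g
    rw [hC, Subgroup.mem_centralizer_iff]
    constructor
    · intro h; exact (h x rfl).symm
    · intro h y hy
      rw [Set.mem_singleton_iff] at hy
      rw [hy]; exact h.symm
  have hcyc : IsCyclic C :=
    cyclic_of_comm C.subtype Subtype.val_injective x hx1 hx2 (fun p => (hCmem p.1).mp p.2)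
  obtain ⟨g, hg⟩ := IsCyclic.exists_generator (α := C)
  have hord : orderOf g = Nat.card C := orderOf_eq_card_of_forall_mem_zpowers hg
  have hcard := card_cent x hx2
  rw [← hC] at hcard
  obtain ⟨m, hm⟩ : ∃ m, m = Nat.card C := ⟨_, rfl⟩
  rw [← hm] at hcard hord
  have hm3 : 3 ≤ m := by omega
  have ha_ord : orderOf g.1 = m := by rw [Subgroup.orderOf_coe, hord]
  have hax : g.1 * x = x * g.1 := (hCmem g.1).mp g.2
  have ha2 : g.1 * g.1 ≠ 1 := by
    intro h
    have h1 : orderOf g.1 ∣ 2 := orderOf_dvd_of_pow_eq_one (by rw [pow_two]; exact h)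
    have h2 := Nat.le_of_dvd (by norm_num) h1
    omega
  obtain ⟨k, hk⟩ : ∃ k : ℤ, g.1 ^ k = x := by
    have hxC : x ∈ C := (hCmem x).mpr rfl
    obtain ⟨k, hk⟩ := Subgroup.mem_zpowers_iff.mp (hg ⟨x, hxC⟩)
    refine ⟨k, ?_⟩
    have := congrArg Subtype.val hk
    simpa using this
  obtain ⟨t₀, ht2, htx⟩ := exists_inverter x
  have ht' : t₀⁻¹ = t₀ := inv_eq_of_mul_eq_one_right ht2
  have htx' : t₀ * x * t₀ = x⁻¹ := by rw [ht'] at htx; exact htx
  have hnc : ¬ (t₀ * x = x * t₀) := by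
    intro h
    have hxx : x⁻¹ = x := by
      rw [← htx', h, mul_assoc, ht2, mul_one]
    apply hx2
    calc x * x = x⁻¹ * x := by rw [hxx]
      _ = 1 := inv_mul_cancel x
  have hax' : g.1 * x⁻¹ = x⁻¹ * g.1 := by
    calc g.1 * x⁻¹ = x⁻¹ * (x * g.1) * x⁻¹ := by group
      _ = x⁻¹ * (g.1 * x) * x⁻¹ := by rw [hax]
      _ = x⁻¹ * g.1 := by group
  have e1 : t₀ * x⁻¹ * t₀ = x := by
    have : t₀ * x⁻¹ * t₀ = (t₀⁻¹ * x * t₀⁻¹)⁻¹ := by group
    rw [this, ht', htx', inv_inv]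
  have hcx : (t₀ * g.1 * t₀) * x = x * (t₀ * g.1 * t₀) := by
    calc t₀ * g.1 * t₀ * x = t₀ * g.1 * (t₀ * x * t₀) * t₀⁻¹ := by group
      _ = t₀ * (g.1 * x⁻¹) * t₀ := by rw [htx', ht']; group
      _ = t₀ * (x⁻¹ * g.1) * t₀ := by rw [hax']
      _ = (t₀ * x⁻¹ * t₀) * (t₀⁻¹ * g.1 * t₀) := by group
      _ = x * (t₀ * g.1 * t₀) := by rw [e1, ht']
  have hta : t₀ * g.1 * t₀ = g.1⁻¹ := by
    have hc1 := cyc_comm g (⟨t₀ * g.1 * t₀, (hCmem _).mpr hcx⟩ : C)
    have hc2 : g.1 * (t₀ * g.1 * t₀) = (t₀ * g.1 * t₀) * g.1 := congrArg Subtype.val hc1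
    have htr : (t₀ * g.1 * t₀).1 0 0 + (t₀ * g.1 * t₀).1 1 1 = g.1.1 0 0 + g.1.1 1 1 := by
      have e : t₀ * g.1 * t₀ = t₀ * g.1 * t₀⁻¹ := by rw [ht']
      rw [e]; exact tr_conj _ _
    rcases comm_same_trace g.1 _ ha2 hc2 htr with h | h
    · exfalso
      apply hnc
      have hc0 : Commute t₀ g.1 := by
        show t₀ * g.1 = g.1 * t₀
        calc t₀ * g.1 = (t₀ * g.1 * t₀) * t₀⁻¹ := by group
          _ = g.1 * t₀ := by rw [h, ht']
      have := (hc0.zpow_right k).eq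
      rw [hk] at this
      exact this
    · exact h
  have hset : (Nx x : Set (G2 F)) = (C : Set (G2 F)) ∪ (fun c => t₀ * c) '' (C : Set (G2 F)) := by
    ext h
    constructor
    · intro hh
      rcases hh with hh | hh
      · left
        apply (hCmem h).mpr
        calc h * x = (h * x * h⁻¹) * h := by group
          _ = x * h := by rw [hh]
      · right
        refine ⟨t₀ * h, (hCmem _).mpr ?_, by
          show t₀ * (t₀ * h) = h
          rw [← mul_assoc, ht2, one_mul]⟩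
        calc t₀ * h * x = t₀ * (h * x * h⁻¹) * h := by group
          _ = (t₀ * x⁻¹ * t₀) * (t₀⁻¹ * h) := by rw [hh]; group
          _ = x * (t₀ * h) := by rw [e1, ht']
    · rintro (hh | ⟨c, hc, rfl⟩)
      · left
        have := (hCmem h).mp hh
        show h * x * h⁻¹ = x
        rw [this]; group
      · right
        have := (hCmem c).mp hc
        show t₀ * c * x * (t₀ * c)⁻¹ = x⁻¹
        calc t₀ * c * x * (t₀ * c)⁻¹ = t₀ * (c * x) * c⁻¹ * t₀⁻¹ := by group
          _ = t₀ * x * t₀⁻¹ := by rw [this]; group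
          _ = x⁻¹ := htx
  have hdisj : Disjoint (C : Set (G2 F)) ((fun c => t₀ * c) '' (C : Set (G2 F))) := by
    rw [Set.disjoint_left]
    rintro _ hc' ⟨c, hc, rfl⟩
    apply hnc
    have : t₀ ∈ C := by
      have e : t₀ = (t₀ * c) * c⁻¹ := by group
      rw [e]; exact mul_mem hc' (inv_mem hc)
    exact (hCmem t₀).mp this
  have hcardN : Nat.card (Nx x) = 2 * m := by
    show Nat.card ((Nx x : Set (G2 F))) = 2 * m
    rw [Nat.card_coe_set_eq, hset, Set.ncard_union_eq hdisj (Set.toFinite _) (Set.toFinite _),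
      Set.ncard_image_of_injective _ (mul_right_injective t₀), ← Nat.card_coe_set_eq]
    show Nat.card C + Nat.card C = 2 * m
    rw [← hm]; ring
  have hAmem : g.1 ∈ Nx x := Or.inl (by rw [hax]; group)
  have hTmem : t₀ ∈ Nx x := Or.inr htx
  have hres : Nonempty (Nx x ≃* DihedralGroup m) := by
    apply Cfsg.Agent.Lib.Helper18.DihedralEquiv.dihedral_equiv m (by omega) ⟨g.1, hAmem⟩ ⟨t₀, hTmem⟩
    · rw [Subgroup.orderOf_mk, ha_ord]
    · apply Subtype.ext
      show t₀ ^ 2 = 1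
      rw [pow_two]; exact ht2
    · apply Subtype.ext
      show t₀ * g.1 * t₀⁻¹ = g.1⁻¹
      rw [ht']; exact hta
    · intro h
      obtain ⟨j, hj⟩ := Subgroup.mem_zpowers_iff.mp h
      have hj' : g.1 ^ j = t₀ := by
        have := congrArg Subtype.val hj
        simpa using this
      apply hnc
      have hc0 : Commute g.1 x := hax
      have := (hc0.zpow_left j).eq
      rw [hj'] at this
      exact this
    · exact hcardN
  rcases hcard with h | h
  · left; rw [← h]; exact hres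
  · right; rw [← h]; exact hres

end Cfsg.Agent.Lib.Helper3.L2
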