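import Mathlib
import Cfsg.Agent.Lib.Helper3.L2f

set_option autoImplicit false
set_option linter.unusedSectionVars false
set_option linter.unusedVariables false
set_option linter.unusedSimpArgs false
set_option linter.style.haveILetI false

namespace Cfsg.Agent.Lib.Helper3.L2

open Matrix Polynomial

variable {F : Type*} [Field F]

theorem pow_iter {x : F} {Q : ℕ} (h : x ^ Q = x) (k : ℕ) : x ^ (Q ^ k) = x := by
  induction k with
  | zero => rw [pow_zero, pow_one]
  | succ k ih => rw [pow_succ, pow_mul, ih, h]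

theorem subfield_pow_card [Finite F] (K : Subfield F) {x : F} (hx : x ∈ K) :
    x ^ Nat.card K = x := by
  classical
  haveI : Fintype K := Fintype.ofFinite _
  have h := FiniteField.pow_card (⟨x, hx⟩ : K)
  rw [Nat.card_eq_fintype_card]
  have := congrArg Subtype.val h
  simpa using this

theorem subfield_roots [Fintype F] (K : Subfield F) :
    (K : Set F) = {x : F | x ^ Nat.card K = x} := by
  classical
  obtain ⟨Q, hQ⟩ : ∃ Q, Q = Nat.card K := ⟨_, rfl⟩
  rw [← hQ]
  have hQ1 : 1 < Q := by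
    rw [hQ]; exact Finite.one_lt_card
  have hdeg : (X ^ Q - X : F[X]).natDegree = Q := FiniteField.X_pow_card_sub_X_natDegree_eq F hQ1
  have hne : (X ^ Q - X : F[X]) ≠ 0 := FiniteField.X_pow_card_sub_X_ne_zero F hQ1
  have hsub : {x : F | x ^ Q = x} ⊆ ↑((X ^ Q - X : F[X]).roots.toFinset) := by
    intro x hx
    have hx' : x ^ Q = x := hx
    simp only [Finset.mem_coe, Multiset.mem_toFinset, Polynomial.mem_roots hne,
      Polynomial.IsRoot, Polynomial.eval_sub, Polynomial.eval_pow, Polynomial.eval_X]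
    rw [hx', sub_self]
  have hle : {x : F | x ^ Q = x}.ncard ≤ Q := by
    calc {x : F | x ^ Q = x}.ncard
        ≤ (↑((X ^ Q - X : F[X]).roots.toFinset) : Set F).ncard :=
          Set.ncard_le_ncard hsub (Finset.finite_toSet _)
      _ = ((X ^ Q - X : F[X]).roots.toFinset).card := Set.ncard_coe_finset _
      _ ≤ Multiset.card (X ^ Q - X : F[X]).roots := Multiset.toFinset_card_le _
      _ ≤ (X ^ Q - X : F[X]).natDegree := Polynomial.card_roots' _
      _ = Q := hdeg
  apply Set.eq_of_subset_of_ncard_le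
  · intro x hx
    show x ^ Q = x
    rw [hQ]; exact subfield_pow_card K hx
  · rw [← Nat.card_coe_set_eq]
    show _ ≤ Nat.card K
    rw [← hQ]; exact hle
  · exact Set.toFinite _

theorem subfield_eq_of_card [Fintype F] {K₁ K₂ : Subfield F} (h : Nat.card K₁ = Nat.card K₂) :
    K₁ = K₂ := by
  apply SetLike.coe_injective
  rw [subfield_roots K₁, subfield_roots K₂, h]

theorem subfield_le_of_pow [Fintype F] {K₁ K₂ : Subfield F} (k : ℕ)
    (h : Nat.card K₂ = Nat.card K₁ ^ k) : K₁ ≤ K₂ := by
  intro x hx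
  have h1 := subfield_pow_card K₁ hx
  have h2 := pow_iter h1 k
  have : x ∈ (K₂ : Set F) := by
    rw [subfield_roots K₂, h]; exact h2
  exact this

theorem subfield_top_of_card [Fintype F] {K : Subfield F} (h : Nat.card K = Fintype.card F) :
    K = ⊤ := by
  rw [eq_top_iff]
  intro x _
  have hs : (K : Set F) = Set.univ := by
    apply Set.eq_of_subset_of_ncard_le (Set.subset_univ _) ?_ (Set.toFinite _)
    rw [Set.ncard_univ, ← Nat.card_coe_set_eq]
    show Nat.card F ≤ Nat.card K
    rw [h, Nat.card_eq_fintype_card]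
  have : x ∈ (K : Set F) := by rw [hs]; exact Set.mem_univ x
  exact this

theorem exists_emb [Fintype F] [CharP F 2] {n m : ℕ} (hF : Fintype.card F = 2 ^ n) (hm : m ∣ n)
    (hm0 : m ≠ 0) : ∃ ι : GaloisField 2 m →+* F, Nat.card ι.fieldRange = 2 ^ m := by
  haveI : Fact (Nat.Prime 2) := ⟨Nat.prime_two⟩
  letI : Algebra (ZMod 2) F := ZMod.algebra F 2
  have hfr : Module.finrank (ZMod 2) (GaloisField 2 m) ∣ Module.finrank (ZMod 2) F := by
    rw [GaloisField.finrank 2 hm0]
    have e2 := FiniteField.pow_finrank_eq_card 2 F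
    rw [hF] at e2
    rw [Nat.pow_right_injective (le_refl 2) e2]
    exact hm
  obtain ⟨ι⟩ := FiniteField.nonempty_algHom_of_finrank_dvd hfr
  refine ⟨(ι : GaloisField 2 m →+* F), ?_⟩
  rw [← GaloisField.card 2 m hm0]
  exact (Nat.card_congr (Equiv.ofInjective _ (ι : GaloisField 2 m →+* F).injective)).symm

/-- the maximal subgroups of `SL₂(2ⁿ)`. -/
theorem max_sl [Fintype F] [CharP F 2] (h4 : 4 ≤ Fintype.card F) (H : Subgroup (G2 F))
    (hH : IsCoatom H) :
    Nat.card H = Fintype.card F * (Fintype.card F - 1) ∨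
    Nonempty (H ≃* DihedralGroup (Fintype.card F - 1)) ∨
    Nonempty (H ≃* DihedralGroup (Fintype.card F + 1)) ∨
    (∃ (e r : ℕ), r.Prime ∧ 2 ≤ e ∧ Fintype.card F = (2 ^ e) ^ r ∧
      Nonempty (H ≃* G2 (GaloisField 2 e))) := by
  classical
  obtain ⟨b₁, hb0, hb1⟩ : ∃ b₁ : F, b₁ ≠ 0 ∧ b₁ ≠ 1 := by
    by_contra hcon
    push Not at hcon
    have hsub : (Set.univ : Set F) ⊆ {0, 1} := by
      intro x _
      by_cases h0 : x = 0
      · left; exact h0
      · right; exact hcon x h0
    have h1 := Set.ncard_le_ncard hsub (Set.toFinite _)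
    rw [Set.ncard_univ, Nat.card_eq_fintype_card, Set.ncard_pair zero_ne_one] at h1
    omega
  rcases dickson H with ⟨γ, hγ⟩ | ⟨x, hx1, hx2, hx⟩ | ⟨γ, K', hK', hγ⟩
  · left
    have hle : H ≤ cj γ Bor := fun h hh => mem_cj.mpr (hγ h hh)
    have hne : cj γ (Bor (F := F)) ≠ ⊤ := by
      intro htop
      have h1 : γ⁻¹ * l 1 * γ ∈ cj γ (Bor (F := F)) := by rw [htop]; exact Subgroup.mem_top _
      rw [mem_cj] at h1
      have e : γ * (γ⁻¹ * l 1 * γ) * γ⁻¹ = l 1 := by group
      rw [e] at h1
      have h2 : (l (1 : F)).1 1 0 = 0 := h1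
      rw [l10] at h2
      exact one_ne_zero h2
    have heq : H = cj γ Bor := by
      by_contra hne'
      exact hne (hH.2 _ (lt_of_le_of_ne hle hne'))
    rw [heq, card_cj, card_Bor]
  · right
    have hle : H ≤ Nx x := fun h hh => hx h hh
    have hne : Nx x ≠ ⊤ := by
      intro htop
      apply not_dih (⊤ : Subgroup (G2 F)) (Subgroup.mem_top _) (Subgroup.mem_top (u b₁)) hb0 hb1
      exact ⟨x, hx1, hx2, fun h _ => mem_Nx.mp (by rw [htop]; exact Subgroup.mem_top _)⟩
    have heq : H = Nx x := by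
      by_contra hne'
      exact hne (hH.2 _ (lt_of_le_of_ne hle hne'))
    rcases Nx_dihedral x hx1 hx2 h4 with h | h
    · obtain ⟨e⟩ := h
      left; exact ⟨(MulEquiv.subgroupCongr heq).trans e⟩
    · obtain ⟨e⟩ := h
      right; left; exact ⟨(MulEquiv.subgroupCongr heq).trans e⟩
  · right; right; right
    haveI : Fintype K' := Fintype.ofFinite _
    have hcardF : Fintype.card F = Fintype.card K' ^ Module.finrank K' F :=
      Module.card_eq_pow_finrank
    obtain ⟨r, hr⟩ : ∃ r, r = Module.finrank K' F := ⟨_, rfl⟩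
    obtain ⟨Q, hQ⟩ : ∃ Q, Q = Nat.card K' := ⟨_, rfl⟩
    rw [← hr, ← Nat.card_eq_fintype_card (α := K'), ← hQ] at hcardF
    haveI : Fact (Nat.Prime 2) := ⟨Nat.prime_two⟩
    letI : Algebra (ZMod 2) F := ZMod.algebra F 2
    obtain ⟨n, hn⟩ : ∃ n, Fintype.card F = 2 ^ n :=
      ⟨_, (FiniteField.pow_finrank_eq_card 2 F).symm⟩
    have hr0 : r ≠ 0 := by
      intro h0
      rw [h0, pow_zero] at hcardF
      omega
    have hQdvd : Q ∣ 2 ^ n := by
      rw [← hn, hcardF]; exact dvd_pow_self Q hr0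
    obtain ⟨e, -, he⟩ := (Nat.dvd_prime_pow Nat.prime_two).mp hQdvd
    have hner : n = e * r := by
      apply Nat.pow_right_injective (le_refl 2)
      show 2 ^ n = 2 ^ (e * r)
      rw [pow_mul, ← he, ← hcardF, hn]
    have he2 : 2 ≤ e := by
      obtain ⟨b, hb, hb0', hb1'⟩ := hK'
      have hs : ({0, 1, b} : Set F) ⊆ (K' : Set F) := by
        intro y hy
        rcases hy with rfl | rfl | rfl
        · exact zero_mem K'
        · exact one_mem K'
        · exact hb
      have h3 : ({0, 1, b} : Set F).ncard = 3 :=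
        Set.ncard_eq_three.mpr ⟨0, 1, b, zero_ne_one, Ne.symm hb0', Ne.symm hb1', rfl⟩
      have h4' := Set.ncard_le_ncard hs (Set.toFinite _)
      rw [h3, ← Nat.card_coe_set_eq] at h4'
      have h5 : 3 ≤ Q := by rw [hQ]; exact h4'
      rw [he] at h5
      by_contra hlt
      have h01 : e = 0 ∨ e = 1 := by omega
      rcases h01 with h | h <;> rw [h] at h5 <;> norm_num at h5
    have hHeq : H = cj γ (SLsub K') := by
      ext h; rw [hγ, mem_cj]
    have hr1 : r ≠ 1 := by
      intro h1
      rw [h1, pow_one] at hcardF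
      have htop : K' = ⊤ := subfield_top_of_card (by rw [← hQ, hcardF])
      apply hH.1
      rw [eq_top_iff]
      intro y _
      rw [hγ, htop, mem_SLsub]
      exact ⟨Subfield.mem_top _, Subfield.mem_top _, Subfield.mem_top _, Subfield.mem_top _⟩
    have hrp : r.Prime := by
      by_contra hnp
      obtain ⟨r₁, hr1dvd, hr12, hr1lt⟩ := Nat.exists_dvd_of_not_prime2 (by omega) hnp
      have hm0 : e * r₁ ≠ 0 := Nat.mul_ne_zero (by omega) (by omega)
      obtain ⟨ι₁, hι₁⟩ := exists_emb (m := e * r₁) hn (by rw [hner]; exact Nat.mul_dvd_mul_left e hr1dvd) hm0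
      have hK'' : K' ≤ ι₁.fieldRange := by
        apply subfield_le_of_pow r₁
        rw [hι₁, ← hQ, he, pow_mul]
      have hle : H ≤ cj γ (SLsub ι₁.fieldRange) := by
        intro h hh
        rw [mem_cj]
        have h1 := (hγ h).mp hh
        rw [mem_SLsub] at h1 ⊢
        exact ⟨hK'' h1.1, hK'' h1.2.1, hK'' h1.2.2.1, hK'' h1.2.2.2⟩
      have hne1 : H ≠ cj γ (SLsub ι₁.fieldRange) := by
        intro heq
        have hle' : ι₁.fieldRange ≤ K' := by
          intro y hy
          have h1 : γ⁻¹ * u y * γ ∈ cj γ (SLsub ι₁.fieldRange) := conj_mem_cj (u_mem_SLsub hy)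
          rw [← heq, hγ] at h1
          have e' : γ * (γ⁻¹ * u y * γ) * γ⁻¹ = u y := by group
          rw [e', mem_SLsub, u01] at h1
          exact h1.2.1
        have h2 := le_antisymm hle' hK''
        rw [h2, ← hQ, he] at hι₁
        have h3 := Nat.pow_right_injective (le_refl 2) hι₁
        have h4 : e * 2 ≤ e * r₁ := Nat.mul_le_mul_left e hr12
        omega
      have htop := hH.2 _ (lt_of_le_of_ne hle hne1)
      have hall : ∀ y : F, y ∈ ι₁.fieldRange := by
        intro y
        have h1 : γ⁻¹ * u y * γ ∈ cj γ (SLsub ι₁.fieldRange) := by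
          rw [htop]; exact Subgroup.mem_top _
        rw [mem_cj] at h1
        have e' : γ * (γ⁻¹ * u y * γ) * γ⁻¹ = u y := by group
        rw [e', mem_SLsub, u01] at h1
        exact h1.2.1
      have hc : Nat.card ι₁.fieldRange = Nat.card F :=
        Nat.card_congr (Equiv.subtypeUnivEquiv hall)
      rw [hι₁, Nat.card_eq_fintype_card, hn] at hc
      have h3 := Nat.pow_right_injective (le_refl 2) hc
      rw [hner] at h3
      have h4 := Nat.eq_of_mul_eq_mul_left (by omega) h3
      omega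
    obtain ⟨ι₀, hι₀⟩ := exists_emb (m := e) hn (by rw [hner]; exact dvd_mul_right e r) (by omega)
    have hrange : ι₀.fieldRange = K' := subfield_eq_of_card (by rw [hι₀, ← hQ, he])
    refine ⟨e, r, hrp, he2, by rw [hcardF, he], ?_⟩
    exact ⟨(MulEquiv.subgroupCongr hHeq).trans ((cjEquiv γ (SLsub K')).trans
      ((MulEquiv.subgroupCongr (show SLsub K' = SLsub ι₀.fieldRange by rw [hrange])).trans
        (slEquiv ι₀).symm))⟩

end Cfsg.Agent.Lib.Helper3.L2
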