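import Mathlib
import Cfsg.Prelude.Def_LieExceptional
import Cfsg.Agent.Lib.Helper3.Sz10
import Cfsg.Agent.Lib.Helper14.SzLink

set_option autoImplicit false
set_option linter.unusedSectionVars false

namespace Cfsg.Agent.Lib.Helper3.Sz13

open Matrix Cfsg.Agent.Lib.Helper3.Sz1 Cfsg.Agent.Lib.Helper3.Sz2 Cfsg.Agent.Lib.Helper3.Sz3
  Cfsg.Agent.Lib.Helper3.Sz4 Cfsg.Agent.Lib.Helper3.Sz5 Cfsg.Agent.Lib.Helper3.Sz6
  Cfsg.Agent.Lib.Helper3.Sz7 Cfsg.Agent.Lib.Helper3.Sz8 Cfsg.Agent.Lib.Helper3.Sz9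
  Cfsg.Agent.Lib.Helper3.Sz10

/-- in an extension of `G` by an elementary abelian 2-group on which elements outside the
2-part act freely, there is no element of order `2 s`. -/
theorem order_two_mul {P G : Type*} [Group P] [Group G] (π : P →* G)
    (hker : ∀ k : P, π k = 1 → k * k = 1)
    (h1 : ∀ y k : P, π k = 1 → k ≠ 1 → y * k = k * y → (π y) ^ 4 = 1)
    (h2 : ∀ z t : G, z ≠ 1 → z * z = 1 → t * z = z * t → t ^ 4 = 1)
    {s : ℕ} (hs : s.Prime) (hs2 : s ≠ 2) (y : P) (hy : orderOf y = 2 * s) : False := by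
  have hodd : Nat.Coprime s 2 := (Nat.coprime_primes hs Nat.prime_two).mpr hs2
  have hs4 : Nat.Coprime s 4 := by
    have h : Nat.Coprime s (2 ^ 2) := Nat.Coprime.pow_right 2 hodd
    exact h
  have hz1 : y ^ s ≠ 1 := by
    intro h
    have h3 := orderOf_dvd_of_pow_eq_one h
    rw [hy] at h3
    have h4 := Nat.le_of_dvd hs.pos h3
    have h5 := hs.pos
    omega
  have hz2 : y ^ s * y ^ s = 1 := by
    rw [← pow_add, ← two_mul, ← hy, pow_orderOf_eq_one]
  have ht1 : y ^ 2 ≠ 1 := by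
    intro h
    have h3 := orderOf_dvd_of_pow_eq_one h
    rw [hy] at h3
    have h4 := Nat.le_of_dvd (by norm_num) h3
    have h5 := hs.two_le
    omega
  have hts : (y ^ 2) ^ s = 1 := by
    rw [← pow_mul, ← hy, pow_orderOf_eq_one]
  have hcomm : y * y ^ s = y ^ s * y := by
    rw [← pow_succ', ← pow_succ]
  by_cases hπ : π (y ^ s) = 1
  · have h4 := h1 y (y ^ s) hπ hz1 hcomm
    have h5 : π (y ^ 4) = 1 := by rw [map_pow]; exact h4
    have h6 := hker _ h5
    rw [← pow_add] at h6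
    have h7 := orderOf_dvd_of_pow_eq_one h6
    rw [hy] at h7
    have h8 : s ∣ 4 := by
      have h9 : 2 * s ∣ 2 * 4 := h7
      exact Nat.dvd_of_mul_dvd_mul_left (by norm_num) h9
    have h9 := hs4.eq_one_of_dvd h8
    have h10 := hs.one_lt
    omega
  · have hz2' : π (y ^ s) * π (y ^ s) = 1 := by rw [← map_mul, hz2, map_one]
    have hc' : π (y ^ 2) * π (y ^ s) = π (y ^ s) * π (y ^ 2) := by
      rw [← map_mul, ← map_mul, ← pow_add, ← pow_add, add_comm]
    have h4 := h2 _ _ hπ hz2' hc'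
    have h5 : (π (y ^ 2)) ^ s = 1 := by rw [← map_pow, hts, map_one]
    have h6 : π (y ^ 2) = 1 := by
      have d1 := orderOf_dvd_of_pow_eq_one h4
      have d2 := orderOf_dvd_of_pow_eq_one h5
      have d3 := Nat.dvd_gcd d2 d1
      rw [hs4] at d3
      exact orderOf_eq_one_iff.mp (Nat.dvd_one.mp d3)
    have h7 := hker _ h6
    have d1 : orderOf (y ^ 2) ∣ 2 := orderOf_dvd_of_pow_eq_one (by rw [pow_two]; exact h7)
    have d2 := orderOf_dvd_of_pow_eq_one hts
    have d3 := Nat.dvd_gcd d2 d1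
    rw [hodd] at d3
    exact ht1 (orderOf_eq_one_iff.mp (Nat.dvd_one.mp d3))

/-- the extension has the same products of two distinct primes as element orders. -/
theorem graph_lift {P G : Type*} [Group P] [Group G] (π : P →* G) (ι : G →* P)
    (hsec : ∀ g, π (ι g) = g)
    (hker : ∀ k : P, π k = 1 → k * k = 1)
    (h1 : ∀ y k : P, π k = 1 → k ≠ 1 → y * k = k * y → (π y) ^ 4 = 1)
    (h2 : ∀ z t : G, z ≠ 1 → z * z = 1 → t * z = z * t → t ^ 4 = 1)
    (r s : ℕ) (hr : r.Prime) (hs : s.Prime) (hrs : r ≠ s) :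
    (∃ x : G, orderOf x = r * s) ↔ (∃ y : P, orderOf y = r * s) := by
  constructor
  · rintro ⟨x, hx⟩
    refine ⟨ι x, ?_⟩
    have hinj : Function.Injective ι := by
      intro a b h
      have h3 := congrArg π h
      rwa [hsec, hsec] at h3
    rw [orderOf_injective ι hinj x, hx]
  · rintro ⟨y, hy⟩
    by_cases hr2 : r = 2
    · subst hr2
      exact (order_two_mul π hker h1 h2 hs (Ne.symm hrs) y hy).elim
    by_cases hs2 : s = 2
    · subst hs2
      exact (order_two_mul π hker h1 h2 hr hrs y (by rw [hy, mul_comm])).elim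
    refine ⟨π y, ?_⟩
    have hd : orderOf (π y) ∣ r * s := by rw [← hy]; exact orderOf_map_dvd π y
    have hcop : Nat.Coprime r s := (Nat.coprime_primes hr hs).mpr hrs
    have key : ∀ a b : ℕ, a.Prime → b.Prime → b ≠ 2 → orderOf y = a * b → ¬ (π y) ^ a = 1 := by
      intro a b ha hb hb2 hyab h
      have h5 : π (y ^ a) = 1 := by rw [map_pow]; exact h
      have h6 := hker _ h5
      rw [← pow_add] at h6
      have h7 := orderOf_dvd_of_pow_eq_one h6
      rw [hyab, ← two_mul, mul_comm 2 a] at h7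
      have h8 : b ∣ 2 := Nat.dvd_of_mul_dvd_mul_left ha.pos h7
      exact hb2 ((Nat.prime_dvd_prime_iff_eq hb Nat.prime_two).mp h8)
    have kr := key r s hr hs hs2 hy
    have ks := key s r hs hr hr2 (by rw [hy, mul_comm])
    have dr : r ∣ orderOf (π y) := by
      rcases Nat.coprime_or_dvd_of_prime hr (orderOf (π y)) with h | h
      · exfalso
        apply ks
        have h3 : orderOf (π y) ∣ s := Nat.Coprime.dvd_of_dvd_mul_left h.symm hd
        exact orderOf_dvd_iff_pow_eq_one.mp h3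
      · exact h
    have ds : s ∣ orderOf (π y) := by
      rcases Nat.coprime_or_dvd_of_prime hs (orderOf (π y)) with h | h
      · exfalso
        apply kr
        have h3 : orderOf (π y) ∣ r := Nat.Coprime.dvd_of_dvd_mul_right h.symm hd
        exact orderOf_dvd_iff_pow_eq_one.mp h3
      · exact h
    exact Nat.dvd_antisymm hd (Nat.Coprime.mul_dvd_of_dvd_of_dvd hcop dr ds)

section sz

variable {F : Type*} [Field F] [Fintype F] {m : ℕ}

theorem pow_s1_eq_one {s : ℕ} (hs : Hyp F s) {k : F} (h : k ^ (s + 1) = 1) : k = 1 := by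
  have h3 := pow_sm1 hs k
  rw [← pow_mul, mul_comm, pow_mul, h, one_pow] at h3
  exact h3.symm

/-- an element of the Suzuki group fixing a non-zero vector is a 2-element. -/
theorem fixvec (hm : 1 ≤ m) (hF : Fintype.card F = 2 ^ (2 * m + 1))
    {g : Matrix.SpecialLinearGroup (Fin 4) F} (hg : g ∈ Cfsg.Sz F m) {v : Fin 4 → F}
    (hv : v ≠ 0) (hfix : g.1 *ᵥ v = v) : g ^ 4 = 1 := by
  have hs := hyp_of_card hm hF
  by_cases hg1 : g = 1
  · rw [hg1, one_pow]
  rcases trichotomy hm hF hg hg1 with ⟨x, hx, k, hk1, hk⟩ | ⟨x, hx, a, b, hab, hk⟩ | h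
  · exfalso
    have hw : x.1 *ᵥ v ≠ 0 := mulVec_ne x hv
    have hfix' : Dm (2 ^ (m + 1)) k *ᵥ (x.1 *ᵥ v) = x.1 *ᵥ v := by
      have h3 : Dm (2 ^ (m + 1)) k = (x * g * x⁻¹).1 := by rw [hk]; rfl
      have h4 : (x * g * x⁻¹).1 * x.1 = x.1 * g.1 := by
        have h5 : x * g * x⁻¹ * x = x * g := by group
        exact congrArg Subtype.val h5
      rw [h3, Matrix.mulVec_mulVec, h4, ← Matrix.mulVec_mulVec, hfix]
    rw [Dm_mulVec] at hfix'
    obtain ⟨i, hi⟩ := Function.ne_iff.mp hw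
    have hkk : (k : F) * ((k⁻¹ : Fˣ) : F) = 1 := by simp
    have hi' : (x.1 *ᵥ v) i ≠ 0 := hi
    generalize x.1 *ᵥ v = w at hfix' hi'
    have hcase : ∀ c : F, c * w i = w i → c = 1 := by
      intro c hc
      apply mul_right_cancel₀ hi'
      rw [hc, one_mul]
    have hk' : (k : F) = 1 := by
      fin_cases i
      · exact pow_s1_eq_one hs (hcase _ (congrFun hfix' 0))
      · exact hcase _ (congrFun hfix' 1)
      · have h3 : ((k⁻¹ : Fˣ) : F) = 1 := hcase _ (congrFun hfix' 2)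
        rw [h3, mul_one] at hkk
        exact hkk
      · have h3 : ((k⁻¹ : Fˣ) : F) = 1 := pow_s1_eq_one hs (hcase _ (congrFun hfix' 3))
        rw [h3, mul_one] at hkk
        exact hkk
    exact hk1 (Units.ext hk')
  · have h3 : (x * g * x⁻¹) ^ 4 = 1 := by rw [hk, T_pow4 hm hF]
    rw [conj_pow] at h3
    exact conj_eq_one_iff.mp h3
  · exfalso
    have hM := fpf_mat hm hF hg h
    have hM1 : (g.1 : Matrix (Fin 4) (Fin 4) F) ≠ 1 := fun h1 => hg1 (Subtype.ext h1)
    obtain ⟨hirr, hdeg⟩ := minpoly_irred (q := 2 ^ (2 * m + 1)) hF hs.two (cast_q hm hF) g.1 hM hM1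
    have hnd : ¬ minpoly F (g.1 : Matrix (Fin 4) (Fin 4) F) ∣ (Polynomial.X - Polynomial.C 1) := by
      intro hd
      have h3 := Polynomial.natDegree_le_of_dvd hd (Polynomial.X_sub_C_ne_zero 1)
      rw [hdeg, Polynomial.natDegree_X_sub_C] at h3
      omega
    obtain ⟨a, b, hab⟩ := (hirr.coprime_iff_not_dvd).mpr hnd
    have h3 := congrArg (Polynomial.aeval (g.1 : Matrix (Fin 4) (Fin 4) F)) hab
    rw [map_add, map_mul, map_mul, minpoly.aeval, mul_zero, zero_add, map_sub,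
      Polynomial.aeval_X] at h3
    simp only [map_one] at h3
    have h4 : (Polynomial.aeval (g.1 : Matrix (Fin 4) (Fin 4) F) b *
        ((g.1 : Matrix (Fin 4) (Fin 4) F) - 1)) *ᵥ v = (1 : Matrix (Fin 4) (Fin 4) F) *ᵥ v :=
      congrArg (fun A : Matrix (Fin 4) (Fin 4) F => A *ᵥ v) h3
    rw [← Matrix.mulVec_mulVec, Matrix.sub_mulVec, hfix, Matrix.one_mulVec, sub_self,
      Matrix.mulVec_zero] at h4
    exact hv h4.symm

/-- the centraliser of an involution of the Suzuki group is a 2-group. -/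
theorem cent_invol (hm : 1 ≤ m) (hF : Fintype.card F = 2 ^ (2 * m + 1))
    {z t : Matrix.SpecialLinearGroup (Fin 4) F} (hz : z ∈ Cfsg.Sz F m) (ht : t ∈ Cfsg.Sz F m)
    (hz1 : z ≠ 1) (hz2 : z * z = 1) (hc : t * z = z * t) : t ^ 4 = 1 := by
  have hs := hyp_of_card hm hF
  rcases trichotomy hm hF hz hz1 with ⟨x, hx, k, hk1, hk⟩ | ⟨x, hx, a, b, hab, hk⟩ | h
  · exfalso
    have h3 : D (2 ^ (m + 1)) (k * k) = D (2 ^ (m + 1)) 1 := by
      rw [D_mul, ← hk, D_one]
      calc x * z * x⁻¹ * (x * z * x⁻¹) = x * (z * z) * x⁻¹ := by group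
        _ = 1 := by rw [hz2]; group
    have h4 : k * k = 1 := D_inj h3
    have h5 : (k : F) ^ 2 = 1 := by rw [sq, ← Units.val_mul, h4, Units.val_one]
    exact hk1 (Units.ext (sq_eq_one_char2 hs.two h5))
  · have hc' : (x * t * x⁻¹) * T (2 ^ (m + 1)) a b = T (2 ^ (m + 1)) a b * (x * t * x⁻¹) := by
      rw [← hk]
      calc x * t * x⁻¹ * (x * z * x⁻¹) = x * (t * z) * x⁻¹ := by group
        _ = x * (z * t) * x⁻¹ := by rw [hc]
        _ = x * z * x⁻¹ * (x * t * x⁻¹) := by group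
    have ht' : x * t * x⁻¹ ∈ Cfsg.Sz F m := mul_mem (mul_mem hx ht) (inv_mem hx)
    obtain ⟨c, d, hcd⟩ := cent_T hm hF hab ht' hc'
    have h3 : (x * t * x⁻¹) ^ 4 = 1 := by rw [hcd, T_pow4 hm hF]
    rw [conj_pow] at h3
    exact conj_eq_one_iff.mp h3
  · exfalso
    have h3 := fpf_order hm hF hz h
    have h4 : (2 ^ (2 * m + 1)) ^ 2 + 1 = 2 * (2 ^ (4 * m + 1)) + 1 := by ring
    rw [h4, pow_succ, pow_mul, pow_two, hz2, one_pow, one_mul] at h3
    exact hz1 h3

/-- the affine group `F^(4 × n) ⋊ Sz`. -/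
structure Aff (F : Type*) [Field F] (m n : ℕ) where
  /-- translation part. -/
  w : Matrix (Fin 4) (Fin n) F
  /-- linear part. -/
  g : ↥(Cfsg.Sz F m)

namespace Aff

variable {n : ℕ}

theorem ext' {a b : Aff F m n} (hw : a.w = b.w) (hg : a.g = b.g) : a = b := by
  cases a
  cases b
  simp only [] at hw hg
  rw [hw, hg]

instance : Mul (Aff F m n) := ⟨fun a b => ⟨a.w + a.g.1.1 * b.w, a.g * b.g⟩⟩
instance : One (Aff F m n) := ⟨⟨0, 1⟩⟩
instance : Inv (Aff F m n) := ⟨fun a => ⟨-((a.g⁻¹).1.1 * a.w), a.g⁻¹⟩⟩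

theorem mul_w (a b : Aff F m n) : (a * b).w = a.w + a.g.1.1 * b.w := rfl
theorem mul_g (a b : Aff F m n) : (a * b).g = a.g * b.g := rfl
theorem one_w : (1 : Aff F m n).w = 0 := rfl
theorem one_g : (1 : Aff F m n).g = 1 := rfl
theorem inv_w (a : Aff F m n) : (a⁻¹).w = -((a.g⁻¹).1.1 * a.w) := rfl
theorem inv_g (a : Aff F m n) : (a⁻¹).g = a.g⁻¹ := rfl

theorem coe_mul' (x y : ↥(Cfsg.Sz F m)) : (x * y).1.1 = x.1.1 * y.1.1 := rfl
theorem coe_one' : (1 : ↥(Cfsg.Sz F m)).1.1 = 1 := rfl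

instance : Group (Aff F m n) := Group.ofLeftAxioms
  (by
    intro a b c
    apply ext'
    · rw [mul_w, mul_w, mul_w, mul_w, mul_g, coe_mul', Matrix.mul_add, Matrix.mul_assoc, add_assoc]
    · rw [mul_g, mul_g, mul_g, mul_g, mul_assoc])
  (by
    intro a
    apply ext'
    · rw [mul_w, one_w, one_g, coe_one', Matrix.one_mul, zero_add]
    · rw [mul_g, one_g, one_mul])
  (by
    intro a
    apply ext'
    · rw [mul_w, inv_w, inv_g, one_w, neg_add_cancel]
    · rw [mul_g, inv_g, one_g, inv_mul_cancel])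

/-- projection. -/
def proj : Aff F m n →* ↥(Cfsg.Sz F m) where
  toFun a := a.g
  map_one' := rfl
  map_mul' _ _ := rfl

/-- section. -/
def sec : ↥(Cfsg.Sz F m) →* Aff F m n where
  toFun g := ⟨0, g⟩
  map_one' := rfl
  map_mul' x y := by
    apply ext'
    · rw [mul_w]
      show (0 : Matrix (Fin 4) (Fin n) F) = 0 + x.1.1 * 0
      rw [Matrix.mul_zero, add_zero]
    · rfl

/-- as a product. -/
def equivProd : Aff F m n ≃ Matrix (Fin 4) (Fin n) F × ↥(Cfsg.Sz F m) where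
  toFun a := (a.w, a.g)
  invFun p := ⟨p.1, p.2⟩
  left_inv a := by cases a; rfl
  right_inv p := by cases p; rfl

instance : Finite (Aff F m n) := Finite.of_equiv _ (equivProd (F := F) (m := m) (n := n)).symm

theorem card_eq : Nat.card (Aff F m n) = (Fintype.card F ^ n) ^ 4 * Nat.card ↥(Cfsg.Sz F m) := by
  rw [Nat.card_congr (equivProd (F := F) (m := m) (n := n)), Nat.card_prod]
  congr 1
  show Nat.card (Fin 4 → Fin n → F) = _
  rw [Nat.card_fun, Nat.card_fun, Nat.card_eq_fintype_card, Nat.card_eq_fintype_card,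
    Nat.card_eq_fintype_card, Fintype.card_fin, Fintype.card_fin]

theorem ker_sq (hm : 1 ≤ m) (hF : Fintype.card F = 2 ^ (2 * m + 1)) (k : Aff F m n)
    (hk : proj k = 1) : k * k = 1 := by
  have hs := hyp_of_card hm hF
  have hk' : k.g = 1 := hk
  apply ext'
  · rw [mul_w, hk', coe_one', Matrix.one_mul, one_w]
    ext i j
    show k.w i j + k.w i j = 0
    rw [← two_mul, hs.two, zero_mul]
  · rw [mul_g, hk', one_g, one_mul]

theorem fix_ker (hm : 1 ≤ m) (hF : Fintype.card F = 2 ^ (2 * m + 1)) (y k : Aff F m n)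
    (hk : proj k = 1) (hk1 : k ≠ 1) (hc : y * k = k * y) : (proj y) ^ 4 = 1 := by
  have hk' : k.g = 1 := hk
  have h3 := congrArg Aff.w hc
  rw [mul_w, mul_w, hk', coe_one', Matrix.one_mul, add_comm] at h3
  have h4 : y.g.1.1 * k.w = k.w := add_right_cancel h3
  have hw : k.w ≠ 0 := by
    intro h
    apply hk1
    apply ext'
    · rw [h, one_w]
    · rw [hk', one_g]
  obtain ⟨i, j, hij⟩ : ∃ i j, k.w i j ≠ 0 := by
    by_contra hcon
    push Not at hcon
    apply hw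
    ext i j
    exact hcon i j
  have hv : (fun l => k.w l j) ≠ 0 := fun h => hij (congrFun h i)
  have hfix : y.g.1.1 *ᵥ (fun l => k.w l j) = fun l => k.w l j := by
    funext l
    have h5 := congrFun (congrFun h4 l) j
    rw [Matrix.mul_apply] at h5
    exact h5
  have h6 := fixvec hm hF y.g.2 hv hfix
  apply Subtype.ext
  exact h6

theorem cent_invol' (hm : 1 ≤ m) (hF : Fintype.card F = 2 ^ (2 * m + 1))
    (z t : ↥(Cfsg.Sz F m)) (hz1 : z ≠ 1) (hz2 : z * z = 1) (hc : t * z = z * t) : t ^ 4 = 1 := by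
  apply Subtype.ext
  exact cent_invol hm hF z.2 t.2 (fun h => hz1 (Subtype.ext h)) (congrArg Subtype.val hz2)
    (congrArg Subtype.val hc)

end Aff

/-- `S3639`. -/
theorem prime_graph (hm : 1 ≤ m) (hF : Fintype.card F = 2 ^ (2 * m + 1)) (N : ℕ) :
    ∃ (H : Type) (_ : Group H) (_ : Fintype H), N < Fintype.card H ∧
      ((∀ r : ℕ, r.Prime → (r ∣ Nat.card ↥(Cfsg.Lie.Sz F (2 ^ (m + 1))) ↔ r ∣ Nat.card H)) ∧
      (∀ r s : ℕ, r.Prime → s.Prime → r ≠ s →
        ((∃ x : ↥(Cfsg.Lie.Sz F (2 ^ (m + 1))), orderOf x = r * s) ↔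
          (∃ y : H, orderOf y = r * s)))) := by
  have e1 := Cfsg.Agent.Lib.Helper14.SzLink.szEquiv hm hF
  have e2 : Shrink.{0} (Aff F m N) ≃* Aff F m N := Shrink.mulEquiv
  have hfin : Finite (Shrink.{0} (Aff F m N)) := Finite.of_equiv _ e2.symm.toEquiv
  have hcard : Nat.card (Shrink.{0} (Aff F m N)) =
      (Fintype.card F ^ N) ^ 4 * Nat.card ↥(Cfsg.Sz F m) := by
    rw [Nat.card_congr e2.toEquiv, Aff.card_eq]
  have hS : Nat.card ↥(Cfsg.Lie.Sz F (2 ^ (m + 1))) = Nat.card ↥(Cfsg.Sz F m) :=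
    (Nat.card_congr e1.toEquiv).symm
  have hSc := card_Sz hm hF
  have hSpos : 0 < Nat.card ↥(Cfsg.Sz F m) := by
    rw [hSc]
    have h3 : 2 ≤ 2 ^ (2 * m + 1) := by
      calc 2 = 2 ^ 1 := by norm_num
        _ ≤ 2 ^ (2 * m + 1) := Nat.pow_le_pow_right (by norm_num) (by omega)
    have h4 : 0 < 2 ^ (2 * m + 1) - 1 := by omega
    positivity
  refine ⟨Shrink.{0} (Aff F m N), inferInstance, Fintype.ofFinite _, ?_, ?_, ?_⟩
  · rw [Fintype.card_eq_nat_card, hcard, hF]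
    have h3 : N < 2 ^ N := Nat.lt_two_pow_self
    have h4 : 2 ^ N ≤ ((2 ^ (2 * m + 1)) ^ N) ^ 4 := by
      rw [← pow_mul, ← pow_mul]
      exact Nat.pow_le_pow_right (by norm_num) (by nlinarith [Nat.zero_le (m * N)])
    calc N < 2 ^ N := h3
      _ ≤ ((2 ^ (2 * m + 1)) ^ N) ^ 4 := h4
      _ = ((2 ^ (2 * m + 1)) ^ N) ^ 4 * 1 := (mul_one _).symm
      _ ≤ ((2 ^ (2 * m + 1)) ^ N) ^ 4 * Nat.card ↥(Cfsg.Sz F m) :=
        Nat.mul_le_mul_left _ hSpos
  · intro r hr
    rw [hS, hcard]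
    constructor
    · intro h
      exact dvd_mul_of_dvd_right h _
    · intro h
      rcases (Nat.Prime.dvd_mul hr).mp h with h3 | h3
      · rw [hF, ← pow_mul, ← pow_mul] at h3
        have h4 := hr.dvd_of_dvd_pow h3
        have h5 : r = 2 := (Nat.prime_dvd_prime_iff_eq hr Nat.prime_two).mp h4
        rw [h5, hSc, mul_assoc]
        apply dvd_mul_of_dvd_left
        exact dvd_pow (dvd_pow_self 2 (by omega)) (by norm_num)
      · exact h3
  · intro r s hr hs hrs
    have hg := graph_lift (Aff.proj (F := F) (m := m) (n := N)) Aff.sec (fun g => rfl)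
      (Aff.ker_sq hm hF) (Aff.fix_ker hm hF) (Aff.cent_invol' hm hF) r s hr hs hrs
    constructor
    · rintro ⟨x, hx⟩
      obtain ⟨y, hy⟩ := hg.mp ⟨e1.symm x, by rw [MulEquiv.orderOf_eq, hx]⟩
      exact ⟨e2.symm y, by rw [MulEquiv.orderOf_eq, hy]⟩
    · rintro ⟨y, hy⟩
      obtain ⟨x, hx⟩ := hg.mpr ⟨e2 y, by rw [MulEquiv.orderOf_eq, hy]⟩
      exact ⟨e1 x, by rw [MulEquiv.orderOf_eq, hx]⟩

end sz

end Cfsg.Agent.Lib.Helper3.Sz13
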