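import Mathlib
import Cfsg.Prelude.Def_LieExceptional
import Cfsg.Prelude.Def_KGroupFacts
import Cfsg.Agent.Lib.Helper3.Sz11

set_option autoImplicit false

namespace Cfsg.Agent.Lib.Helper3.Sz14

open Matrix Cfsg.Agent.Lib.Helper3.Sz1 Cfsg.Agent.Lib.Helper3.Sz2 Cfsg.Agent.Lib.Helper3.Sz3
  Cfsg.Agent.Lib.Helper3.Sz4 Cfsg.Agent.Lib.Helper3.Sz5 Cfsg.Agent.Lib.Helper3.Sz6
  Cfsg.Agent.Lib.Helper3.Sz7 Cfsg.Agent.Lib.Helper3.Sz9 Cfsg.Agent.Lib.Helper3.Sz10
  Cfsg.Agent.Lib.Helper3.Sz11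

/-! ### general lemmas on outer automorphism groups -/

/-- if a group `A` maps to `Aut G` such that every automorphism is inner times the image of
some `a` times inner, and only `1` maps to an inner automorphism, then `|Out G| = |A|`. -/
theorem out_card_of_hom {G A : Type*} [Group G] [Group A] (Φ : A →* MulAut G)
    (hsurj : ∀ α : MulAut G, ∃ a : A, ∃ i j : MulAut G, i ∈ Cfsg.Inn G ∧ j ∈ Cfsg.Inn G ∧
      α = i * Φ a * j)
    (hinj : ∀ a, Φ a ∈ Cfsg.Inn G → a = 1) : Nat.card (Cfsg.Out G) = Nat.card A := by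
  let ψ : A →* Cfsg.Out G := (QuotientGroup.mk' (Cfsg.Inn G)).comp Φ
  have hψi : Function.Injective ψ := by
    rw [injective_iff_map_eq_one]
    intro a ha
    apply hinj
    exact (QuotientGroup.eq_one_iff _).mp ha
  have hψs : Function.Surjective ψ := by
    intro x
    obtain ⟨α, rfl⟩ := QuotientGroup.mk_surjective x
    obtain ⟨a, i, j, hi, hj, rfl⟩ := hsurj α
    refine ⟨a, ?_⟩
    show (QuotientGroup.mk (Φ a) : Cfsg.Out G) = QuotientGroup.mk (i * Φ a * j)
    rw [QuotientGroup.mk_mul, QuotientGroup.mk_mul, (QuotientGroup.eq_one_iff i).mpr hi,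
      (QuotientGroup.eq_one_iff j).mpr hj, one_mul, mul_one]
  exact (Nat.card_congr (Equiv.ofBijective ψ ⟨hψi, hψs⟩)).symm

/-- isomorphic groups have outer automorphism groups of the same order. -/
theorem out_card_congr {G G' : Type*} [Group G] [Group G'] (e : G ≃* G') :
    Nat.card (Cfsg.Out G) = Nat.card (Cfsg.Out G') := by
  show (Cfsg.Inn G).index = (Cfsg.Inn G').index
  have h : (Cfsg.Inn G).map ((MulAut.congr e : MulAut G ≃* MulAut G') : MulAut G →* MulAut G') =
      Cfsg.Inn G' := by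
    ext β
    constructor
    · rintro ⟨α, ⟨g, rfl⟩, rfl⟩
      refine ⟨e g, ?_⟩
      apply MulEquiv.ext
      intro x
      show e g * x * (e g)⁻¹ = e (g * e.symm x * g⁻¹)
      rw [map_mul, map_mul, map_inv, e.apply_symm_apply]
    · rintro ⟨g', rfl⟩
      refine ⟨MulAut.conj (e.symm g'), ⟨e.symm g', rfl⟩, ?_⟩
      apply MulEquiv.ext
      intro x
      show e (e.symm g' * e.symm x * (e.symm g')⁻¹) = g' * x * g'⁻¹
      rw [map_mul, map_mul, map_inv, e.apply_symm_apply, e.apply_symm_apply]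
  rw [← h]
  exact (Subgroup.index_map_equiv _ (MulAut.congr e)).symm

/-! ### ring automorphisms of a finite field of characteristic 2 -/

theorem card_ringAut {F : Type*} [Field F] [Fintype F] {n : ℕ} (hF : Fintype.card F = 2 ^ n) :
    Nat.card (F ≃+* F) = n := by
  classical
  have : Fact (Nat.Prime 2) := ⟨Nat.prime_two⟩
  obtain ⟨p, hp⟩ := CharP.exists F
  obtain ⟨k, hpp, hk⟩ := FiniteField.card F p
  have hp2 : p = 2 := by
    have h1 : p ∣ 2 ^ n := by
      rw [← hF, hk]
      exact dvd_pow_self p k.ne_zero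
    exact (Nat.prime_dvd_prime_iff_eq hpp Nat.prime_two).mp (hpp.dvd_of_dvd_pow h1)
  subst hp2
  letI : Algebra (ZMod 2) F := ZMod.algebra F 2
  have h1 : Nat.card (F ≃ₐ[ZMod 2] F) = Module.finrank (ZMod 2) F :=
    IsGalois.card_aut_eq_finrank (ZMod 2) F
  have h2 : Module.finrank (ZMod 2) F = n := by
    have h3 := Module.card_eq_pow_finrank (K := ZMod 2) (V := F)
    rw [hF, ZMod.card] at h3
    exact (Nat.pow_right_injective (le_refl 2) h3).symm
  rw [← h2, ← h1]
  apply Nat.card_congr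
  exact
    { toFun := fun r => AlgEquiv.ofRingEquiv (f := r) (fun x => RingHom.congr_fun
        (Subsingleton.elim ((r : F →+* F).comp (algebraMap (ZMod 2) F))
          (algebraMap (ZMod 2) F)) x)
      invFun := fun f => f.toRingEquiv
      left_inv := fun r => by ext; rfl
      right_inv := fun f => by ext; rfl }

/-! ### field automorphisms of the Suzuki group -/

variable {F : Type*} [Field F]

theorem coneP_map {s : ℕ} (τ : F ≃+* F) {v : Fin 4 → F} (h : ConeP s v) :
    ConeP s (fun i => τ (v i)) := by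
  rcases h with ⟨h1, h2, h3, h0⟩ | ⟨h3, h⟩
  · left
    refine ⟨?_, ?_, ?_, ?_⟩
    · show τ (v 1) = 0
      rw [h1, map_zero]
    · show τ (v 2) = 0
      rw [h2, map_zero]
    · show τ (v 3) = 0
      rw [h3, map_zero]
    · show τ (v 0) ≠ 0
      exact (map_ne_zero τ).mpr h0
  · right
    refine ⟨?_, ?_⟩
    · show τ (v 3) ≠ 0
      exact (map_ne_zero τ).mpr h3
    · show τ (v 0) * τ (v 3) ^ (s + 1) =
        τ (v 1) * τ (v 2) * τ (v 3) ^ s + τ (v 2) ^ (s + 2) + τ (v 1) ^ s * τ (v 3) ^ 2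
      have h' := congrArg τ h
      simpa only [map_mul, map_pow, map_add] using h'

theorem fq_map (s : ℕ) (τ : F ≃+* F) (x y : F) : τ (fq s x y) = fq s (τ x) (τ y) := by
  simp only [fq, map_add, map_mul, map_pow]

theorem map_coe (τ : F ≃+* F) (g : Matrix.SpecialLinearGroup (Fin 4) F) (i j : Fin 4) :
    (Matrix.SpecialLinearGroup.map (τ : F →+* F) g).1 i j = τ (g.1 i j) := rfl

theorem inS_map {s : ℕ} (τ : F ≃+* F) {g : Matrix.SpecialLinearGroup (Fin 4) F}
    (hg : InS s g) : InS s (Matrix.SpecialLinearGroup.map (τ : F →+* F) g) := by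
  constructor
  · have h := coneP_map τ hg.1
    have e : (Matrix.SpecialLinearGroup.map (τ : F →+* F) g).1 *ᵥ vInf =
        fun i => τ ((g.1 *ᵥ vInf) i) := by
      funext i
      rw [mulVec_vInf, mulVec_vInf, map_coe]
    rw [e]
    exact h
  · intro x y
    have h := coneP_map τ (hg.2 (τ.symm x) (τ.symm y))
    have e : (Matrix.SpecialLinearGroup.map (τ : F →+* F) g).1 *ᵥ vP s x y =
        fun i => τ ((g.1 *ᵥ vP s (τ.symm x) (τ.symm y)) i) := by
      funext i
      rw [mulVec_vP, mulVec_vP, map_add, map_add, map_add, map_mul, map_mul, map_mul, fq_map,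
        τ.apply_symm_apply, τ.apply_symm_apply, map_coe, map_coe, map_coe, map_coe]
    rw [e]
    exact h

variable [Fintype F]

/-- a field automorphism applied entrywise, as an automorphism of the Suzuki group. -/
noncomputable def fieldAut (m : ℕ) (τ : F ≃+* F) : MulAut ↥(Cfsg.Sz F m) where
  toFun g := ⟨Matrix.SpecialLinearGroup.map (τ : F →+* F) g.1,
    (mem_Sz_iff' m _).mpr (inS_map τ ((mem_Sz_iff' m _).mp g.2))⟩
  invFun g := ⟨Matrix.SpecialLinearGroup.map (τ.symm : F →+* F) g.1,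
    (mem_Sz_iff' m _).mpr (inS_map τ.symm ((mem_Sz_iff' m _).mp g.2))⟩
  left_inv g := by
    apply Subtype.ext
    apply Subtype.ext
    ext i j
    exact τ.symm_apply_apply _
  right_inv g := by
    apply Subtype.ext
    apply Subtype.ext
    ext i j
    exact τ.apply_symm_apply _
  map_mul' g h := Subtype.ext (map_mul _ _ _)

theorem fieldAut_coe (m : ℕ) (τ : F ≃+* F) (g : ↥(Cfsg.Sz F m)) (i j : Fin 4) :
    (fieldAut m τ g).1.1 i j = τ (g.1.1 i j) := rfl

/-- the field automorphisms, as a homomorphism into the automorphism group. -/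
noncomputable def fieldHom (m : ℕ) : (F ≃+* F) →* MulAut ↥(Cfsg.Sz F m) where
  toFun := fieldAut m
  map_one' := by
    apply MulEquiv.ext
    intro g
    apply Subtype.ext
    apply Subtype.ext
    ext i j
    rfl
  map_mul' σ τ := by
    apply MulEquiv.ext
    intro g
    apply Subtype.ext
    apply Subtype.ext
    ext i j
    rfl

theorem fieldHom_apply (m : ℕ) (τ : F ≃+* F) : fieldHom m τ = fieldAut m τ := rfl

variable {m : ℕ}

theorem fieldAut_u (hm : 1 ≤ m) (hF : Fintype.card F = 2 ^ (2 * m + 1)) (τ : F ≃+* F)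
    (a b : F) : fieldAut m τ (u hm hF a b) = u hm hF (τ a) (τ b) := by
  apply Subtype.ext
  apply Subtype.ext
  ext i j
  show τ (Tm (2 ^ (m + 1)) a b i j) = Tm (2 ^ (m + 1)) (τ a) (τ b) i j
  fin_cases i <;> fin_cases j <;> simp [Tm, fq]

theorem fieldAut_D (hm : 1 ≤ m) (hF : Fintype.card F = 2 ^ (2 * m + 1)) (τ : F ≃+* F)
    (k : Fˣ) : fieldAut m τ (DHom hm hF k) =
      DHom hm hF (Units.map ((τ : F →+* F) : F →* F) k) := by
  apply Subtype.ext
  apply Subtype.ext
  ext i j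
  show τ (Dm (2 ^ (m + 1)) k i j) = Dm (2 ^ (m + 1)) (Units.map ((τ : F →+* F) : F →* F) k) i j
  have e1 : ((Units.map ((τ : F →+* F) : F →* F) k : Fˣ) : F) = τ (k : F) := rfl
  have e2 : (((Units.map ((τ : F →+* F) : F →* F) k)⁻¹ : Fˣ) : F) = τ ((k⁻¹ : Fˣ) : F) := by
    rw [← map_inv]
    rfl
  fin_cases i <;> fin_cases j <;> simp [Dm, e1, e2]

theorem fieldAut_W (hm : 1 ≤ m) (hF : Fintype.card F = 2 ^ (2 * m + 1)) (τ : F ≃+* F) :
    fieldAut m τ ⟨W (hyp_of_card hm hF), W_mem hm hF⟩ =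
      ⟨W (hyp_of_card hm hF), W_mem hm hF⟩ := by
  apply Subtype.ext
  apply Subtype.ext
  ext i j
  show τ ((Jm : Matrix (Fin 4) (Fin 4) F) i j) = (Jm : Matrix (Fin 4) (Fin 4) F) i j
  fin_cases i <;> fin_cases j <;> simp [Jm]

end Cfsg.Agent.Lib.Helper3.Sz14
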