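import Mathlib
import Cfsg.Prelude.Def_LieExceptional
import Cfsg.Prelude.Def_KGroupFacts
import Cfsg.Agent.Lib.Helper3.Sz13
import Cfsg.Agent.Lib.Helper3.Sz14

set_option autoImplicit false

namespace Cfsg.Agent.Lib.Helper3.Sz15

open Matrix Cfsg.Agent.Lib.Helper3.Sz1 Cfsg.Agent.Lib.Helper3.Sz2 Cfsg.Agent.Lib.Helper3.Sz3
  Cfsg.Agent.Lib.Helper3.Sz4 Cfsg.Agent.Lib.Helper3.Sz5 Cfsg.Agent.Lib.Helper3.Sz6
  Cfsg.Agent.Lib.Helper3.Sz7 Cfsg.Agent.Lib.Helper3.Sz9 Cfsg.Agent.Lib.Helper3.Sz10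
  Cfsg.Agent.Lib.Helper3.Sz11 Cfsg.Agent.Lib.Helper3.Sz13 Cfsg.Agent.Lib.Helper3.Sz14

variable {F : Type*} [Field F] [Fintype F] {m : ℕ}

theorem u_sq (hm : 1 ≤ m) (hF : Fintype.card F = 2 ^ (2 * m + 1)) (a b : F) :
    u hm hF a b * u hm hF a b = u hm hF 0 (a ^ (2 ^ (m + 1)) * a) := by
  have hs := hyp_of_card hm hF
  rw [u_mul]
  congr 1
  · linear_combination a * hs.two
  · linear_combination b * hs.two

theorem u_split (hm : 1 ≤ m) (hF : Fintype.card F = 2 ^ (2 * m + 1)) (a b : F) :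
    u hm hF a b = u hm hF 0 b * u hm hF a 0 := by
  have hs := hyp_of_card hm hF
  rw [u_mul]
  congr 1
  · rw [add_zero]
  · rw [pow_s_zero hs, zero_mul, add_zero, zero_add]

theorem D_u (hm : 1 ≤ m) (hF : Fintype.card F = 2 ^ (2 * m + 1)) (k : Fˣ) (a b : F) :
    DHom hm hF k * u hm hF a b * (DHom hm hF k)⁻¹ =
      u hm hF ((k : F) ^ (2 ^ (m + 1)) * a) ((k : F) ^ (2 ^ (m + 1) + 2) * b) := by
  rw [mul_inv_eq_iff_eq_mul]
  exact Subtype.ext (D_T hm hF k a b)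

theorem u_eq_one (hm : 1 ≤ m) (hF : Fintype.card F = 2 ^ (2 * m + 1)) {a b : F}
    (h : u hm hF a b = 1) : a = 0 ∧ b = 0 := by
  rw [← u_zero hm hF] at h
  exact u_inj hm hF h

theorem DHom_inj (hm : 1 ≤ m) (hF : Fintype.card F = 2 ^ (2 * m + 1)) {k k' : Fˣ}
    (h : DHom hm hF k = DHom hm hF k') : k = k' :=
  D_inj (congrArg Subtype.val h)

theorem D_not_u (hm : 1 ≤ m) (hF : Fintype.card F = 2 ^ (2 * m + 1)) {k : Fˣ} {a b : F}
    (h : DHom hm hF k = u hm hF a b) : k = 1 := by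
  have h1 : D (2 ^ (m + 1)) k = T (2 ^ (m + 1)) a b := congrArg Subtype.val h
  have h2 : T (2 ^ (m + 1)) 0 0 * D (2 ^ (m + 1)) k = T (2 ^ (m + 1)) a b * D (2 ^ (m + 1)) 1 := by
    rw [T_zero hm hF, one_mul, D_one, mul_one, h1]
  exact (TD_inj h2).2.2

theorem pow_s2_surj (hm : 1 ≤ m) (hF : Fintype.card F = 2 ^ (2 * m + 1)) (x : F) (hx : x ≠ 0) :
    ∃ k : Fˣ, (k : F) ^ (2 ^ (m + 1) + 2) = x := by
  have hs := hyp_of_card hm hF
  have hinj : Function.Injective (fun k : Fˣ => k ^ (2 ^ (m + 1) + 2)) := by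
    intro k k' h
    have h0 : k ^ (2 ^ (m + 1) + 2) = k' ^ (2 ^ (m + 1) + 2) := h
    have h1 : (k * k'⁻¹) ^ (2 ^ (m + 1) + 2) = 1 := by
      rw [mul_pow, inv_pow, h0, mul_inv_cancel]
    have h2 : ((k * k'⁻¹ : Fˣ) : F) ^ (2 ^ (m + 1) + 2) = 1 := by
      rw [← Units.val_pow_eq_pow_val, h1, Units.val_one]
    have h4 : k * k'⁻¹ = 1 := Units.ext (pow_s2_eq_one hs h2)
    exact mul_inv_eq_one.mp h4
  obtain ⟨k, hk⟩ := (Finite.injective_iff_surjective.mp hinj) (Units.mk0 x hx)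
  refine ⟨k, ?_⟩
  have h5 := congrArg (fun z : Fˣ => (z : F)) hk
  simpa using h5

/-- an automorphism normalising `U` and the diagonal torus. -/
def Good (hm : 1 ≤ m) (hF : Fintype.card F = 2 ^ (2 * m + 1)) (α : MulAut ↥(Cfsg.Sz F m)) : Prop :=
  (∀ a b, ∃ a' b', α (u hm hF a b) = u hm hF a' b') ∧
  (∀ k : Fˣ, ∃ k' : Fˣ, α (DHom hm hF k) = DHom hm hF k')

/-- an automorphism normalising `U` maps central involutions of `U` to central involutions. -/
theorem center_of_U (hm : 1 ≤ m) (hF : Fintype.card F = 2 ^ (2 * m + 1))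
    (α : MulAut ↥(Cfsg.Sz F m)) (hU : ∀ a b, ∃ a' b', α (u hm hF a b) = u hm hF a' b') (b : F) :
    ∃ b', α (u hm hF 0 b) = u hm hF 0 b' := by
  have hs := hyp_of_card hm hF
  obtain ⟨a', b', h⟩ := hU 0 b
  have h1 : α (u hm hF 0 b) * α (u hm hF 0 b) = 1 := by
    rw [← map_mul, u0_sq, map_one]
  rw [h, u_sq] at h1
  have h2 := (u_eq_one hm hF h1).2
  have h3 : a' = 0 := by
    rcases mul_eq_zero.mp h2 with h | h
    · exact pow_s_eq_zero hs h
    · exact h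
  exact ⟨b', by rw [h, h3]⟩

theorem exists_good (hm : 1 ≤ m) (hF : Fintype.card F = 2 ^ (2 * m + 1))
    (α : MulAut ↥(Cfsg.Sz F m)) : ∃ g : ↥(Cfsg.Sz F m), Good hm hF (MulAut.conj g * α) := by
  classical
  have hs := hyp_of_card hm hF
  have hp2 : Fact (Nat.Prime 2) := ⟨Nat.prime_two⟩
  have hfin : Finite (Matrix.SpecialLinearGroup (Fin 4) F) := finite_SL
  -- step 1: normalise `U`
  have hcard : Nat.card ((U hm hF).map α.toMonoidHom) = (2 ^ (2 * m + 1)) ^ 2 := by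
    rw [Subgroup.card_map_of_injective α.injective]
    exact card_U hm hF
  have hpg : IsPGroup 2 ((U hm hF).map α.toMonoidHom) :=
    IsPGroup.of_card (n := 2 * (2 * m + 1)) (by rw [hcard]; ring)
  obtain ⟨P, hP⟩ := hpg.exists_le_sylow
  have hPeq : (U hm hF).map α.toMonoidHom = P :=
    Subgroup.eq_of_le_of_card_ge hP (by rw [hcard, (sylow2 hm hF P).1])
  obtain ⟨γ, hγ⟩ := sylow_conj hm hF P
  set α₁ : MulAut ↥(Cfsg.Sz F m) := MulAut.conj γ⁻¹ * α with hα₁def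
  have hα₁ : ∀ x, α₁ x = γ⁻¹ * α x * γ := by
    intro x
    rw [hα₁def, MulAut.mul_apply, MulAut.conj_apply, inv_inv]
  have h1 : ∀ a b, ∃ a' b', α₁ (u hm hF a b) = u hm hF a' b' := by
    intro a b
    have hmem : α (u hm hF a b) ∈ (P : Subgroup ↥(Cfsg.Sz F m)) := by
      rw [← hPeq]
      exact Subgroup.mem_map_of_mem _ ⟨a, b, rfl⟩
    rw [hα₁]
    exact (hγ _).mp hmem
  have h1' : ∀ x, (∃ a' b', α₁ x = u hm hF a' b') → ∃ a b, x = u hm hF a b := by
    intro x hx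
    rw [hα₁] at hx
    have hmem : α x ∈ (P : Subgroup ↥(Cfsg.Sz F m)) := (hγ _).mpr hx
    rw [← hPeq] at hmem
    obtain ⟨y, hy, e⟩ := hmem
    have hyx : y = x := α.injective e
    rw [← hyx]
    exact hy
  have h2 : ∀ b, ∃ b', α₁ (u hm hF 0 b) = u hm hF 0 b' := center_of_U hm hF α₁ h1
  have h2' : ∀ b b', b ≠ 0 → α₁ (u hm hF 0 b) = u hm hF 0 b' → b' ≠ 0 := by
    intro b b' hb e hb'
    rw [hb', u_zero, ← map_one α₁] at e
    exact hb (u_eq_one hm hF (α₁.injective e)).2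
  have h3 : ∀ n : ↥(Cfsg.Sz F m),
      n.1 • Cfsg.suzukiPointInfinity F = Cfsg.suzukiPointInfinity F →
      (α₁ n).1 • Cfsg.suzukiPointInfinity F = Cfsg.suzukiPointInfinity F := by
    intro n hn
    obtain ⟨κ, hκ⟩ := conj_u0 hm hF n hn
    obtain ⟨b1, hb1⟩ := h2 1
    obtain ⟨b2, hb2⟩ := h2 ((κ : F) * 1)
    have hb2' := h2' _ _ (mul_ne_zero κ.ne_zero one_ne_zero) hb2
    apply fix_of_conj hm hF (α₁ n) b2 b1 hb2'
    rw [← hb1, ← hb2, ← hκ 1, map_mul, map_mul, map_inv]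
  -- step 2: normalise the torus
  obtain ⟨c, hc0, hc1⟩ := exists_ne_zero_one hm hF
  have hk1 : Units.mk0 c hc0 ≠ 1 := by
    intro h
    apply hc1
    have h4 := congrArg (fun z : Fˣ => (z : F)) h
    simpa using h4
  obtain ⟨a1, b1, k1', hd1⟩ := stab_one hm hF (α₁ (DHom hm hF (Units.mk0 c hc0))).2
    (h3 (DHom hm hF (Units.mk0 c hc0)) (D_pInf _ (Units.mk0 c hc0)))
  have hk1' : k1' ≠ 1 := by
    intro h
    rw [h, D_one, mul_one] at hd1
    have h4 : α₁ (DHom hm hF (Units.mk0 c hc0)) = u hm hF a1 b1 := Subtype.ext hd1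
    obtain ⟨a, b, h5⟩ := h1' _ ⟨a1, b1, h4⟩
    exact hk1 (D_not_u hm hF h5)
  have hden1 : (1 : F) + (k1' : F) ^ (2 ^ (m + 1)) ≠ 0 := by
    intro h
    apply hk1'
    apply Units.ext
    apply pow_s_eq_one hs
    linear_combination h - hs.two
  have hden2 : (1 : F) + (k1' : F) ^ (2 ^ (m + 1) + 2) ≠ 0 := by
    intro h
    apply hk1'
    apply Units.ext
    apply pow_s2_eq_one hs
    linear_combination h - hs.two
  obtain ⟨x0, ex⟩ : ∃ x0 : F, x0 * (1 + (k1' : F) ^ (2 ^ (m + 1))) = a1 :=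
    ⟨a1 / (1 + (k1' : F) ^ (2 ^ (m + 1))), div_mul_cancel₀ _ hden1⟩
  obtain ⟨y0, ey⟩ : ∃ y0 : F, y0 * (1 + (k1' : F) ^ (2 ^ (m + 1) + 2)) =
      b1 + a1 ^ (2 ^ (m + 1)) * ((k1' : F) ^ (2 ^ (m + 1)) * x0) :=
    ⟨(b1 + a1 ^ (2 ^ (m + 1)) * ((k1' : F) ^ (2 ^ (m + 1)) * x0)) /
      (1 + (k1' : F) ^ (2 ^ (m + 1) + 2)), div_mul_cancel₀ _ hden2⟩
  have hfixp : (α₁ (DHom hm hF (Units.mk0 c hc0))).1 • pt (2 ^ (m + 1)) x0 y0 =
      pt (2 ^ (m + 1)) x0 y0 := by
    rw [hd1, mul_smul, D_pt hs, T_pt hs]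
    congr 1
    · linear_combination (-1 : F) * ex + ((k1' : F) ^ (2 ^ (m + 1)) * x0) * hs.two
    · linear_combination (-1 : F) * ey + ((k1' : F) ^ (2 ^ (m + 1) + 2) * y0) * hs.two
  have hd1ne : (α₁ (DHom hm hF (Units.mk0 c hc0))).1 ≠ 1 := by
    intro h
    have h4 : α₁ (DHom hm hF (Units.mk0 c hc0)) = 1 := Subtype.ext h
    rw [← map_one α₁] at h4
    have h5 := α₁.injective h4
    rw [← map_one (DHom hm hF)] at h5
    exact hk1 (DHom_inj hm hF h5)
  have hall : ∀ k : Fˣ, (α₁ (DHom hm hF k)).1 • pt (2 ^ (m + 1)) x0 y0 =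
      pt (2 ^ (m + 1)) x0 y0 := by
    intro k
    by_contra hne
    have hinf := h3 (DHom hm hF k) (D_pInf (2 ^ (m + 1)) k)
    have hcomm : (α₁ (DHom hm hF (Units.mk0 c hc0))).1 * (α₁ (DHom hm hF k)).1 =
        (α₁ (DHom hm hF k)).1 * (α₁ (DHom hm hF (Units.mk0 c hc0))).1 := by
      have h4 : α₁ (DHom hm hF (Units.mk0 c hc0)) * α₁ (DHom hm hF k) =
          α₁ (DHom hm hF k) * α₁ (DHom hm hF (Units.mk0 c hc0)) := by
        rw [← map_mul, ← map_mul, ← map_mul, ← map_mul, mul_comm]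
      exact congrArg Subtype.val h4
    have hfix3 : (α₁ (DHom hm hF (Units.mk0 c hc0))).1 •
        ((α₁ (DHom hm hF k)).1 • pt (2 ^ (m + 1)) x0 y0) =
        (α₁ (DHom hm hF k)).1 • pt (2 ^ (m + 1)) x0 y0 := by
      rw [← mul_smul, hcomm, mul_smul, hfixp]
    have hne2 : Cfsg.suzukiPointInfinity F ≠ (α₁ (DHom hm hF k)).1 • pt (2 ^ (m + 1)) x0 y0 := by
      intro h
      have h4 : (α₁ (DHom hm hF k)).1 • Cfsg.suzukiPointInfinity F =
          (α₁ (DHom hm hF k)).1 • pt (2 ^ (m + 1)) x0 y0 := by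
        rw [hinf]
        exact h
      exact pt_ne_inf _ _ _ (smul_left_cancel _ h4).symm
    exact hd1ne (three_fix hm hF (α₁ (DHom hm hF (Units.mk0 c hc0))).2 (pInf_mem m)
      (pt_mem m x0 y0) (smul_mem_ovoid (α₁ (DHom hm hF k)).2 (pt_mem m x0 y0))
      (Ne.symm (pt_ne_inf _ _ _)) (Ne.symm hne) hne2
      (h3 (DHom hm hF (Units.mk0 c hc0)) (D_pInf _ (Units.mk0 c hc0))) hfixp hfix3)
  -- conjugate by `u x0 y0`
  refine ⟨(u hm hF x0 y0)⁻¹ * γ⁻¹, ?_⟩
  have hα₂ : ∀ x, (MulAut.conj ((u hm hF x0 y0)⁻¹ * γ⁻¹) * α) x =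
      (u hm hF x0 y0)⁻¹ * α₁ x * u hm hF x0 y0 := by
    intro x
    rw [MulAut.mul_apply, MulAut.conj_apply, hα₁]
    group
  constructor
  · intro a b
    obtain ⟨a', b', h⟩ := h1 a b
    rw [hα₂, h]
    exact (U hm hF).mul_mem ((U hm hF).mul_mem ((U hm hF).inv_mem ⟨x0, y0, rfl⟩) ⟨a', b', rfl⟩)
      ⟨x0, y0, rfl⟩
  · intro k
    have hv0 : (u hm hF x0 y0).1 • Cfsg.suzukiPointZero F = pt (2 ^ (m + 1)) x0 y0 :=
      T_pZero hs x0 y0
    have hvinf : (u hm hF x0 y0).1 • Cfsg.suzukiPointInfinity F = Cfsg.suzukiPointInfinity F :=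
      T_pInf _ x0 y0
    have e1 : ((u hm hF x0 y0)⁻¹ * α₁ (DHom hm hF k) * u hm hF x0 y0).1 •
        Cfsg.suzukiPointInfinity F = Cfsg.suzukiPointInfinity F := by
      show ((u hm hF x0 y0).1⁻¹ * (α₁ (DHom hm hF k)).1 * (u hm hF x0 y0).1) • _ = _
      rw [mul_smul, mul_smul, hvinf, h3 (DHom hm hF k) (D_pInf _ k), inv_smul_eq_iff, hvinf]
    have e2 : ((u hm hF x0 y0)⁻¹ * α₁ (DHom hm hF k) * u hm hF x0 y0).1 •
        Cfsg.suzukiPointZero F = Cfsg.suzukiPointZero F := by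
      show ((u hm hF x0 y0).1⁻¹ * (α₁ (DHom hm hF k)).1 * (u hm hF x0 y0).1) • _ = _
      rw [mul_smul, mul_smul, hv0, hall k, inv_smul_eq_iff, hv0]
    obtain ⟨k', hk'⟩ := stab_two hm hF
      ((u hm hF x0 y0)⁻¹ * α₁ (DHom hm hF k) * u hm hF x0 y0).2 e1 e2
    exact ⟨k', by rw [hα₂]; exact Subtype.ext hk'⟩

/-- a good automorphism is, up to a field automorphism and a torus element, the identity on
the centre of `U`. -/
theorem exists_fix_center (hm : 1 ≤ m) (hF : Fintype.card F = 2 ^ (2 * m + 1))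
    (α : MulAut ↥(Cfsg.Sz F m)) (hG : Good hm hF α) :
    ∃ (τ : F ≃+* F) (k1 : Fˣ),
      Good hm hF (MulAut.conj (DHom hm hF k1) * fieldAut m τ * α) ∧
      ∀ b, (MulAut.conj (DHom hm hF k1) * fieldAut m τ * α) (u hm hF 0 b) = u hm hF 0 b := by
  classical
  have hs := hyp_of_card hm hF
  choose β hβ using center_of_U hm hF α hG.1
  choose χ hχ using hG.2
  have hβadd : ∀ b b', β (b + b') = β b + β b' := by
    intro b b'
    have h1 : α (u hm hF 0 b' * u hm hF 0 b) = α (u hm hF 0 b') * α (u hm hF 0 b) :=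
      map_mul α _ _
    rw [u0_mul, hβ, hβ, hβ, u0_mul] at h1
    exact (u_inj hm hF h1).2
  have hβinj : Function.Injective β := by
    intro b b' h
    have h1 : α (u hm hF 0 b) = α (u hm hF 0 b') := by rw [hβ, hβ, h]
    exact (u_inj hm hF (α.injective h1)).2
  have hβ0 : β 0 = 0 := by
    have h1 := hβadd 0 0
    rw [add_zero] at h1
    exact left_eq_add.mp h1
  have hE1 : ∀ (k : Fˣ) (b : F), β ((k : F) ^ (2 ^ (m + 1) + 2) * b) =
      ((χ k : Fˣ) : F) ^ (2 ^ (m + 1) + 2) * β b := by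
    intro k b
    have h1 := D_u hm hF k 0 b
    rw [mul_zero] at h1
    have h2 := congrArg α h1
    rw [map_mul, map_mul, map_inv, hχ, hβ, hβ, D_u, mul_zero] at h2
    exact ((u_inj hm hF h2).2).symm
  have hc0 : β 1 ≠ 0 := by
    intro h
    rw [← hβ0] at h
    exact one_ne_zero (hβinj h)
  let τ0 : F →+* F :=
    { toFun := fun b => β b / β 1
      map_one' := div_self hc0
      map_mul' := by
        intro x y
        show β (x * y) / β 1 = β x / β 1 * (β y / β 1)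
        by_cases hx : x = 0
        · subst hx
          rw [zero_mul, hβ0, zero_div, zero_mul]
        · obtain ⟨k, hk⟩ := pow_s2_surj hm hF x hx
          have h1 := hE1 k y
          have h2 := hE1 k 1
          rw [mul_one] at h2
          rw [hk] at h1 h2
          rw [h1, h2]
          field_simp
      map_zero' := by
        show β 0 / β 1 = 0
        rw [hβ0, zero_div]
      map_add' := by
        intro x y
        show β (x + y) / β 1 = β x / β 1 + β y / β 1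
        rw [hβadd, add_div] }
  have hτ0inj : Function.Injective τ0 := τ0.injective
  let τ : F ≃+* F := RingEquiv.ofBijective τ0 ⟨hτ0inj, Finite.injective_iff_surjective.mp hτ0inj⟩
  have hτ : ∀ b, β b = β 1 * τ b := by
    intro b
    show β b = β 1 * (β b / β 1)
    field_simp
  have hc1 : τ.symm (β 1) ≠ 0 := (map_ne_zero τ.symm).mpr hc0
  obtain ⟨k1, hk1⟩ := pow_s2_surj hm hF (τ.symm (β 1))⁻¹ (inv_ne_zero hc1)
  refine ⟨τ.symm, k1, ?_, ?_⟩
  · constructor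
    · intro a b
      obtain ⟨a', b', h⟩ := hG.1 a b
      rw [MulAut.mul_apply, MulAut.mul_apply, h, fieldAut_u, MulAut.conj_apply, D_u]
      exact ⟨_, _, rfl⟩
    · intro k
      refine ⟨k1 * Units.map ((τ.symm : F →+* F) : F →* F) (χ k) * k1⁻¹, ?_⟩
      rw [MulAut.mul_apply, MulAut.mul_apply, hχ, fieldAut_D, MulAut.conj_apply, map_mul, map_mul,
        map_inv]
  · intro b
    rw [MulAut.mul_apply, MulAut.mul_apply, hβ, fieldAut_u, MulAut.conj_apply, D_u, map_zero,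
      mul_zero, hτ, map_mul, τ.symm_apply_apply, hk1, inv_mul_cancel_left₀ hc1]

/-- a good automorphism fixing the centre of `U` pointwise is the identity. -/
theorem rigid (hm : 1 ≤ m) (hF : Fintype.card F = 2 ^ (2 * m + 1))
    (α : MulAut ↥(Cfsg.Sz F m)) (hG : Good hm hF α)
    (hZ : ∀ b, α (u hm hF 0 b) = u hm hF 0 b) : α = 1 := by
  classical
  have hs := hyp_of_card hm hF
  choose χ hχ using hG.2
  -- the torus is fixed pointwise
  have hD : ∀ k, α (DHom hm hF k) = DHom hm hF k := by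
    intro k
    rw [hχ]
    congr 1
    have h1 := D_u hm hF k 0 1
    rw [mul_zero] at h1
    have h2 := congrArg α h1
    rw [map_mul, map_mul, map_inv, hχ, hZ, hZ, D_u, mul_zero] at h2
    have h3 := (u_inj hm hF h2).2
    rw [mul_one, mul_one] at h3
    have h4 : ((χ k * k⁻¹ : Fˣ) : F) ^ (2 ^ (m + 1) + 2) = 1 := by
      rw [Units.val_mul, mul_pow, h3, ← mul_pow, ← Units.val_mul, mul_inv_cancel, Units.val_one,
        one_pow]
    have h5 : χ k * k⁻¹ = 1 := Units.ext (pow_s2_eq_one hs h4)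
    exact mul_inv_eq_one.mp h5
  have h0 : ∀ a, ∃ a' b', α (u hm hF a 0) = u hm hF a' b' := fun a => hG.1 a 0
  choose l n hln using h0
  have hl : ∀ a, l a = a := by
    intro a
    have h1 := congrArg α (u_sq hm hF a 0)
    rw [map_mul, hln, u_sq, hZ] at h1
    have h2 := (u_inj hm hF h1).2
    by_cases ha : a = 0
    · subst ha
      rw [pow_s_zero hs, zero_mul] at h2
      rcases mul_eq_zero.mp h2 with h | h
      · exact pow_s_eq_zero hs h
      · exact h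
    · have h3 : (l a / a) ^ (2 ^ (m + 1) + 1) = 1 := by
        rw [div_pow, pow_succ (l a) (2 ^ (m + 1)), pow_succ a (2 ^ (m + 1)), h2]
        exact div_self (mul_ne_zero (pow_ne_zero _ ha) ha)
      have h4 := pow_s1_eq_one hs h3
      rw [div_eq_one_iff_eq ha] at h4
      exact h4
  have hU0 : ∀ a, α (u hm hF a 0) = u hm hF a (n a) := by
    intro a
    rw [hln, hl]
  have hnadd : ∀ a c, n (a + c) = n a + n c := by
    intro a c
    have h1 : u hm hF c 0 * u hm hF a 0 =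
        u hm hF 0 (c ^ (2 ^ (m + 1)) * a) * u hm hF (a + c) 0 := by
      rw [u_mul, u_mul]
      congr 1
      · rw [add_zero]
      · rw [pow_s_zero hs, zero_mul]
        ring
    have h2 := congrArg α h1
    rw [map_mul, map_mul, hU0, hU0, hU0, hZ, u_mul, u_mul] at h2
    have h3 := (u_inj hm hF h2).2
    rw [pow_s_zero hs, zero_mul, add_zero] at h3
    exact (add_right_cancel h3).symm
  have hE2 : ∀ (k : Fˣ) (a : F), n ((k : F) ^ (2 ^ (m + 1)) * a) =
      (k : F) ^ (2 ^ (m + 1) + 2) * n a := by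
    intro k a
    have h1 := D_u hm hF k a 0
    rw [mul_zero] at h1
    have h2 := congrArg α h1
    rw [map_mul, map_mul, map_inv, hD, hU0, hU0, D_u] at h2
    exact ((u_inj hm hF h2).2).symm
  obtain ⟨c, hc0, hc1⟩ := exists_ne_zero_one hm hF
  have hn : ∀ a, n a = 0 := by
    intro a
    have hc1' : c + 1 ≠ 0 := by
      intro h
      apply hc1
      linear_combination h - hs.two
    have h1 := hE2 (Units.mk0 c hc0) a
    have h2 := hE2 (Units.mk0 (c + 1) hc1') a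
    rw [Units.val_mk0] at h1 h2
    have h3 : (c + 1) ^ (2 ^ (m + 1)) = c ^ (2 ^ (m + 1)) + 1 := by rw [hs.add, one_pow]
    have h4 : (c + 1) ^ (2 ^ (m + 1)) * a = c ^ (2 ^ (m + 1)) * a + a := by
      rw [h3]
      ring
    have e1 : (c + 1) ^ (2 ^ (m + 1) + 2) = (c ^ (2 ^ (m + 1)) + 1) * (c + 1) ^ 2 := by
      rw [pow_add, h3]
    have e2 : c ^ (2 ^ (m + 1) + 2) = c ^ (2 ^ (m + 1)) * c ^ 2 := pow_add _ _ _
    rw [h4, hnadd, h1, e1, e2] at h2
    have h6 : c ^ (2 ^ (m + 1)) + c ^ 2 ≠ 0 := by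
      intro h
      have h7 : c ^ (2 ^ (m + 1)) = c ^ 2 := by linear_combination h - c ^ 2 * hs.two
      have h8 : c ^ 2 = (c ^ 2) ^ 2 := by
        calc c ^ 2 = (c ^ (2 ^ (m + 1))) ^ (2 ^ (m + 1)) := (hs.sq c).symm
          _ = (c ^ 2) ^ (2 ^ (m + 1)) := by rw [h7]
          _ = (c ^ (2 ^ (m + 1))) ^ 2 := by rw [← pow_mul, ← pow_mul, mul_comm]
          _ = (c ^ 2) ^ 2 := by rw [h7]
      have h9 : c ^ 2 * (c ^ 2 - 1) = 0 := by linear_combination (-1 : F) * h8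
      rcases mul_eq_zero.mp h9 with h | h
      · exact hc0 ((pow_eq_zero_iff two_ne_zero).mp h)
      · exact hc1 (sq_eq_one_char2 hs.two (sub_eq_zero.mp h))
    have h5 : (c ^ (2 ^ (m + 1)) + c ^ 2) * n a = 0 := by
      generalize c ^ (2 ^ (m + 1)) = cs at h2 ⊢
      linear_combination (-1 : F) * h2 - ((cs * c + c) * n a) * hs.two
    exact (mul_eq_zero.mp h5).resolve_left h6
  have hU : ∀ a b, α (u hm hF a b) = u hm hF a b := by
    intro a b
    rw [u_split hm hF a b, map_mul, hZ, hU0, hn]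
  have hB : ∀ g : ↥(Cfsg.Sz F m),
      g.1 • Cfsg.suzukiPointInfinity F = Cfsg.suzukiPointInfinity F → α g = g := by
    intro g hg
    obtain ⟨a, b, k, h⟩ := stab_one hm hF g.2 hg
    have h1 : g = u hm hF a b * DHom hm hF k := Subtype.ext h
    rw [h1, map_mul, hU, hD]
  -- the Weyl element
  obtain ⟨w, hwdef⟩ : ∃ w : ↥(Cfsg.Sz F m), w.1 = W hs := ⟨⟨W hs, W_mem hm hF⟩, rfl⟩
  have hwD : ∀ k : Fˣ, w * DHom hm hF k = DHom hm hF k⁻¹ * w := by
    intro k
    apply Subtype.ext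
    show w.1 * D (2 ^ (m + 1)) k = D (2 ^ (m + 1)) k⁻¹ * w.1
    rw [hwdef]
    exact W_D hs k
  have hww : w * w = 1 := by
    apply Subtype.ext
    show w.1 * w.1 = 1
    rw [hwdef]
    exact W_sq hs
  have hk1 : Units.mk0 c hc0 ≠ 1 := by
    intro h
    apply hc1
    have h4 := congrArg (fun z : Fˣ => (z : F)) h
    simpa using h4
  have hwinf : w.1 • Cfsg.suzukiPointInfinity F = Cfsg.suzukiPointZero F := by
    rw [hwdef]
    exact W_pInf hs
  have hw0 : w.1 • Cfsg.suzukiPointZero F = Cfsg.suzukiPointInfinity F := by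
    rw [hwdef]
    exact W_pZero hs
  have hw11 : w.1 • pt (2 ^ (m + 1)) (1 : F) 1 = pt (2 ^ (m + 1)) 1 1 := by
    rw [hwdef]
    apply smul_mk_eq _ _ _ 1
    rw [one_smul]
    show Jm *ᵥ vP (2 ^ (m + 1)) (1 : F) 1 = vP (2 ^ (m + 1)) 1 1
    rw [Jm_vP]
    have hf : fq (2 ^ (m + 1)) (1 : F) 1 = 1 := by
      simp only [fq, one_pow, mul_one]
      linear_combination hs.two
    simp [vP, hf]
  obtain ⟨k', hk'⟩ : ∃ k' : Fˣ, α w = w * DHom hm hF k' := by
    have h1 := congrArg α (hwD (Units.mk0 c hc0))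
    rw [map_mul, map_mul, hD, hD] at h1
    have h2 : w * α w * DHom hm hF (Units.mk0 c hc0) =
        DHom hm hF (Units.mk0 c hc0) * (w * α w) := by
      rw [mul_assoc, h1, ← mul_assoc, hwD, inv_inv, mul_assoc]
    obtain ⟨k', hk'⟩ := cent_D hm hF hk1 (w * α w).2 (congrArg Subtype.val h2)
    refine ⟨k', ?_⟩
    have h3 : w * α w = DHom hm hF k' := Subtype.ext hk'
    rw [← h3, ← mul_assoc, hww, one_mul]
  have hαw : α w = w := by
    have hv0 : (u hm hF 1 1).1 • Cfsg.suzukiPointZero F = pt (2 ^ (m + 1)) 1 1 := T_pZero hs 1 1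
    have hvinv : (u hm hF 1 1).1⁻¹ • pt (2 ^ (m + 1)) (1 : F) 1 = Cfsg.suzukiPointZero F :=
      inv_smul_eq_iff.mpr hv0.symm
    have hb1 : (w * (u hm hF 1 1)⁻¹ * w * u hm hF 1 1 * w).1 • Cfsg.suzukiPointInfinity F =
        Cfsg.suzukiPointInfinity F := by
      show (w.1 * (u hm hF 1 1).1⁻¹ * w.1 * (u hm hF 1 1).1 * w.1) • _ = _
      rw [mul_smul, mul_smul, mul_smul, mul_smul, hwinf, hv0, hw11, hvinv, hw0]
    have h1 := hB _ hb1
    rw [map_mul, map_mul, map_mul, map_mul, map_inv, hU] at h1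
    have hw'inf : (α w).1 • Cfsg.suzukiPointInfinity F = Cfsg.suzukiPointZero F := by
      rw [hk']
      show (w.1 * D (2 ^ (m + 1)) k') • _ = _
      rw [mul_smul, D_pInf, hwinf]
    have hw'0 : (α w).1 • Cfsg.suzukiPointZero F = Cfsg.suzukiPointInfinity F := by
      rw [hk']
      show (w.1 * D (2 ^ (m + 1)) k') • _ = _
      rw [mul_smul, D_pZero, hw0]
    have h2 : (α w * (u hm hF 1 1)⁻¹ * α w * u hm hF 1 1 * α w).1 •
        Cfsg.suzukiPointInfinity F = Cfsg.suzukiPointInfinity F := by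
      rw [h1]
      exact hb1
    have h3 : ((α w).1 * (u hm hF 1 1).1⁻¹ * (α w).1 * (u hm hF 1 1).1 * (α w).1) •
        Cfsg.suzukiPointInfinity F = Cfsg.suzukiPointInfinity F := h2
    rw [mul_smul, mul_smul, mul_smul, mul_smul, hw'inf, hv0] at h3
    have h4 : (u hm hF 1 1).1⁻¹ • (α w).1 • pt (2 ^ (m + 1)) (1 : F) 1 =
        Cfsg.suzukiPointZero F := smul_left_cancel _ (h3.trans hw'0.symm)
    rw [inv_smul_eq_iff, hv0, hk'] at h4
    have h5 : (w.1 * D (2 ^ (m + 1)) k') • pt (2 ^ (m + 1)) (1 : F) 1 =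
        pt (2 ^ (m + 1)) 1 1 := h4
    rw [mul_smul] at h5
    have h6 : D (2 ^ (m + 1)) k' • pt (2 ^ (m + 1)) (1 : F) 1 = pt (2 ^ (m + 1)) 1 1 :=
      smul_left_cancel _ (h5.trans hw11.symm)
    have h7 := D_fix_pt hs k' 1 1 (fun h => one_ne_zero h.1) h6
    rw [hk', h7, map_one, mul_one]
  apply MulEquiv.ext
  intro g
  show α g = g
  by_cases hg : g.1 • Cfsg.suzukiPointInfinity F = Cfsg.suzukiPointInfinity F
  · exact hB g hg
  · rcases ovoid_cases (smul_mem_ovoid g.2 (pInf_mem m)) with h | ⟨x, y, h⟩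
    · exact absurd h hg
    · have h1 : ((u hm hF x y * w)⁻¹ * g).1 • Cfsg.suzukiPointInfinity F =
          Cfsg.suzukiPointInfinity F := by
        show (((u hm hF x y).1 * w.1)⁻¹ * g.1) • _ = _
        rw [mul_smul, h, inv_smul_eq_iff, mul_smul, hwinf]
        exact (T_pZero hs x y).symm
      have h2 := hB _ h1
      have h3 : g = u hm hF x y * w * ((u hm hF x y * w)⁻¹ * g) := by group
      calc α g = α (u hm hF x y * w * ((u hm hF x y * w)⁻¹ * g)) := congrArg α h3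
        _ = u hm hF x y * w * ((u hm hF x y * w)⁻¹ * g) := by rw [map_mul, map_mul, hU, hαw, h2]
        _ = g := h3.symm

end Cfsg.Agent.Lib.Helper3.Sz15
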