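import Mathlib
import Cfsg.Prelude.Def_LieExceptional
import Cfsg.Agent.Lib.Helper3.Sz15

set_option autoImplicit false
set_option linter.unusedSectionVars false
set_option linter.unusedVariables false

namespace Cfsg.Agent.Lib.Helper3.SzFix1

open Matrix Cfsg.Agent.Lib.Helper3.Sz1 Cfsg.Agent.Lib.Helper3.Sz2 Cfsg.Agent.Lib.Helper3.Sz3
  Cfsg.Agent.Lib.Helper3.Sz4 Cfsg.Agent.Lib.Helper3.Sz5 Cfsg.Agent.Lib.Helper3.Sz6
  Cfsg.Agent.Lib.Helper3.Sz7 Cfsg.Agent.Lib.Helper3.Sz9 Cfsg.Agent.Lib.Helper3.Sz10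
  Cfsg.Agent.Lib.Helper3.Sz11 Cfsg.Agent.Lib.Helper3.Sz15

/-- three points of a set with at most two elements are not distinct. -/
theorem three_pts {Ω : Type*} [Finite Ω] {S : Set Ω} (hS : Nat.card S ≤ 2) {a b c : Ω}
    (ha : a ∈ S) (hb : b ∈ S) (hc : c ∈ S) : a = b ∨ a = c ∨ b = c := by
  classical
  by_contra h
  push Not at h
  obtain ⟨hab, hac, hbc⟩ := h
  have h3 : 3 ≤ Nat.card S := by
    rw [Nat.card_coe_set_eq]
    have hsub : ({a, b, c} : Set Ω) ⊆ S := by
      intro x hx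
      rcases hx with rfl | rfl | rfl <;> assumption
    calc 3 = ({a, b, c} : Set Ω).ncard :=
          (Set.ncard_eq_three.mpr ⟨a, b, c, hab, hac, hbc, rfl⟩).symm
      _ ≤ S.ncard := Set.ncard_le_ncard hsub (Set.toFinite S)
  omega

variable {F : Type*} [Field F] [Fintype F] {m : ℕ}

/-- no non-identity element fixes three distinct points. -/
def Fix3 (F : Type*) [Field F] [Fintype F] (m : ℕ) (Ω : Type*) [MulAction ↥(Cfsg.Sz F m) Ω] :
    Prop :=
  ∀ g : ↥(Cfsg.Sz F m), g ≠ 1 → ∀ a b c : Ω, g • a = a → g • b = b → g • c = c →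
    a = b ∨ a = c ∨ b = c

theorem pow_s_surj (hm : 1 ≤ m) (hF : Fintype.card F = 2 ^ (2 * m + 1)) (x : F) (hx : x ≠ 0) :
    ∃ k : Fˣ, (k : F) ^ (2 ^ (m + 1)) = x := by
  have hs := hyp_of_card hm hF
  have hinj : Function.Injective (fun k : Fˣ => k ^ (2 ^ (m + 1))) := by
    intro k k' h
    have h0 : k ^ (2 ^ (m + 1)) = k' ^ (2 ^ (m + 1)) := h
    have h1 : (k * k'⁻¹) ^ (2 ^ (m + 1)) = 1 := by
      rw [mul_pow, inv_pow, h0, mul_inv_cancel]
    have h2 : ((k * k'⁻¹ : Fˣ) : F) ^ (2 ^ (m + 1)) = 1 := by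
      rw [← Units.val_pow_eq_pow_val, h1, Units.val_one]
    have h4 : k * k'⁻¹ = 1 := Units.ext (pow_s_eq_one hs h2)
    exact mul_inv_eq_one.mp h4
  obtain ⟨k, hk⟩ := (Finite.injective_iff_surjective.mp hinj) (Units.mk0 x hx)
  refine ⟨k, ?_⟩
  have h5 := congrArg (fun z : Fˣ => (z : F)) hk
  simpa using h5

theorem u0_comm (hm : 1 ≤ m) (hF : Fintype.card F = 2 ^ (2 * m + 1)) (b a c : F) :
    u hm hF 0 b * u hm hF a c = u hm hF a c * u hm hF 0 b := by
  have hs := hyp_of_card hm hF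
  rw [u_mul, u_mul]
  congr 1
  · ring
  · rw [pow_s_zero hs]
    ring

theorem u_ne_one (hm : 1 ≤ m) (hF : Fintype.card F = 2 ^ (2 * m + 1)) {a b : F}
    (h : ¬ (a = 0 ∧ b = 0)) : u hm hF a b ≠ 1 := by
  intro h1
  rw [← u_zero hm hF] at h1
  exact h (u_inj hm hF h1)

theorem D_sq_root (hm : 1 ≤ m) (hF : Fintype.card F = 2 ^ (2 * m + 1)) (k : Fˣ) :
    ∃ k' : Fˣ, k = k' * k' := by
  refine ⟨k ^ (2 ^ (2 * m)), ?_⟩
  apply Units.ext
  rw [Units.val_mul, Units.val_pow_eq_pow_val, ← pow_add]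
  have h1 : 2 ^ (2 * m) + 2 ^ (2 * m) = Fintype.card F := by
    rw [hF]
    ring
  rw [h1, FiniteField.pow_card]

variable {Ω : Type*} [MulAction ↥(Cfsg.Sz F m) Ω]

/-- if the squares of the torus elements fix a point, so does the torus. -/
theorem sq_fix (hm : 1 ≤ m) (hF : Fintype.card F = 2 ^ (2 * m + 1)) (α : Ω)
    (h : ∀ k : Fˣ, (DHom hm hF k * DHom hm hF k) • α = α) : ∀ k : Fˣ, DHom hm hF k • α = α := by
  intro k
  obtain ⟨k', hk'⟩ := D_sq_root hm hF k
  rw [hk', map_mul]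
  exact h k'

/-- an element of odd order commuting with a non-identity element `g` fixes every fixed point
of `g`. -/
theorem odd_fix (hfix : Fix3 F m Ω) {g y : ↥(Cfsg.Sz F m)} (hg : g ≠ 1) {α : Ω}
    (hgα : g • α = α) (hc : y * g = g * y) (hodd : Odd (orderOf y)) : y • α = α := by
  have hc' : y⁻¹ * g = g * y⁻¹ := by
    have h1 : y⁻¹ * g = y⁻¹ * (g * y) * y⁻¹ := by group
    rw [h1, ← hc]
    group
  have e1 : g • (y • α) = y • α := by rw [← mul_smul, ← hc, mul_smul, hgα]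
  have e2 : g • (y⁻¹ • α) = y⁻¹ • α := by rw [← mul_smul, ← hc', mul_smul, hgα]
  rcases hfix g hg α (y • α) (y⁻¹ • α) hgα e1 e2 with h | h | h
  · exact h.symm
  · have h2 := congrArg (fun x => y • x) h
    simp only [smul_inv_smul] at h2
    exact h2
  · have h2 : (y * y) • α = α := by
      rw [mul_smul, h, smul_inv_smul]
    have h3 : y * y ∈ MulAction.stabilizer ↥(Cfsg.Sz F m) α := h2
    obtain ⟨r, hr⟩ := hodd
    have h4 : (y * y) ^ (r + 1) = y := by
      rw [← pow_two, ← pow_mul]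
      have h5 : 2 * (r + 1) = orderOf y + 1 := by omega
      rw [h5, pow_succ, pow_orderOf_eq_one, one_mul]
    have h6 := pow_mem h3 (r + 1)
    rw [h4] at h6
    exact h6

/-- if no involution has a fixed point, no non-identity 2-element of order dividing 4 has. -/
theorem no_two_elt (hNI : ∀ t : ↥(Cfsg.Sz F m), t ≠ 1 → t * t = 1 → ∀ ω : Ω, t • ω ≠ ω)
    {x : ↥(Cfsg.Sz F m)} (hx : x ≠ 1) (h4 : x ^ 4 = 1) (ω : Ω) : x • ω ≠ ω := by
  intro h
  by_cases h2 : x * x = 1
  · exact hNI x hx h2 ω h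
  · apply hNI (x * x) h2 _ ω
    · rw [mul_smul, h, h]
    · rw [← pow_two, ← pow_two, ← pow_mul]
      exact h4

/-- the even case: if a central involution of `U` fixes `α`, the stabiliser of `α` is the
stabiliser of the point at infinity. -/
theorem even_case (hm : 1 ≤ m) (hF : Fintype.card F = 2 ^ (2 * m + 1)) (hfix : Fix3 F m Ω)
    (htr : MulAction.IsPretransitive ↥(Cfsg.Sz F m) Ω) (hnt : ∃ ω ω' : Ω, ω ≠ ω') (α : Ω)
    (b₀ : F) (hb₀ : b₀ ≠ 0) (ht : u hm hF 0 b₀ • α = α) :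
    ∀ n : ↥(Cfsg.Sz F m), n • α = α ↔
      n.1 • Cfsg.suzukiPointInfinity F = Cfsg.suzukiPointInfinity F := by
  classical
  have hs := hyp_of_card hm hF
  have ht1 : u hm hF 0 b₀ ≠ 1 := u_ne_one hm hF (fun h => hb₀ h.2)
  have hcomm : ∀ (a c : F) (ω : Ω), u hm hF 0 b₀ • ω = ω →
      u hm hF 0 b₀ • (u hm hF a c • ω) = u hm hF a c • ω := by
    intro a c ω hω
    rw [← mul_smul, u0_comm, mul_smul, hω]
  -- step 1: `U` fixes `α`
  have hU : ∀ a b : F, u hm hF a b • α = α := by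
    by_contra hcon
    push Not at hcon
    obtain ⟨a₀, c₀, hx₀⟩ := hcon
    have hi : ∀ b : F, b ≠ 0 → u hm hF 0 b • α = α → ∀ ω : Ω, u hm hF 0 b • ω = ω →
        ω = α ∨ ω = u hm hF a₀ c₀ • α := by
      intro b hb hbα ω hω
      have hb1 : u hm hF 0 b ≠ 1 := u_ne_one hm hF (fun h => hb h.2)
      have hβ : u hm hF 0 b • (u hm hF a₀ c₀ • α) = u hm hF a₀ c₀ • α := by
        rw [← mul_smul, u0_comm, mul_smul, hbα]
      rcases hfix _ hb1 α (u hm hF a₀ c₀ • α) ω hbα hβ hω with h | h | h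
      · exact absurd h.symm hx₀
      · exact Or.inl h.symm
      · exact Or.inr h.symm
    have hZadd : ∀ b b' : F, u hm hF 0 b • α = α → u hm hF 0 b' • α = α →
        u hm hF 0 (b + b') • α = α := by
      intro b b' h h'
      rw [add_comm, ← u0_mul, mul_smul, h', h]
    have hZout : ∀ b b' : F, u hm hF 0 b • α ≠ α → u hm hF 0 b' • α ≠ α →
        u hm hF 0 (b + b') • α = α := by
      intro b b' h h'
      rcases hfix _ ht1 α (u hm hF 0 b • α) (u hm hF 0 b' • α) ht (hcomm 0 b α ht)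
        (hcomm 0 b' α ht) with h1 | h1 | h1
      · exact absurd h1.symm h
      · exact absurd h1.symm h'
      · rw [← u0_mul, mul_smul, h1, ← mul_smul, u0_sq, one_smul]
    have hpig : ∀ κ : F, ∃ b : F, b ≠ 0 ∧ u hm hF 0 b • α = α ∧
        u hm hF 0 (κ * b) • α = α := by
      intro κ
      let f : F → Bool × Bool := fun b =>
        (decide (u hm hF 0 b • α = α), decide (u hm hF 0 (κ * b) • α = α))
      have hcard : Fintype.card (Bool × Bool) < Fintype.card F := by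
        rw [Fintype.card_prod, Fintype.card_bool, hF]
        calc 2 * 2 < 2 ^ 3 := by norm_num
          _ ≤ 2 ^ (2 * m + 1) := Nat.pow_le_pow_right (by norm_num) (by omega)
      obtain ⟨x, y, hxy, hf⟩ := Fintype.exists_ne_map_eq_of_card_lt f hcard
      have h1 : (u hm hF 0 x • α = α ↔ u hm hF 0 y • α = α) := by
        have h := congrArg Prod.fst hf
        simpa [f] using h
      have h2 : (u hm hF 0 (κ * x) • α = α ↔ u hm hF 0 (κ * y) • α = α) := by
        have h := congrArg Prod.snd hf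
        simpa [f] using h
      refine ⟨x + y, ?_, ?_, ?_⟩
      · intro h
        apply hxy
        linear_combination h - y * hs.two
      · by_cases hx : u hm hF 0 x • α = α
        · exact hZadd _ _ hx (h1.mp hx)
        · exact hZout _ _ hx (fun h => hx (h1.mpr h))
      · rw [mul_add]
        by_cases hx : u hm hF 0 (κ * x) • α = α
        · exact hZadd _ _ hx (h2.mp hx)
        · exact hZout _ _ hx (fun h => hx (h2.mpr h))
    have hDsq : ∀ k : Fˣ, (DHom hm hF k * DHom hm hF k) • α = α := by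
      intro k
      obtain ⟨b, hb0, hb1, hb2⟩ := hpig ((k : F) ^ (2 ^ (m + 1) + 2))
      have hrel : DHom hm hF k * u hm hF 0 b =
          u hm hF 0 ((k : F) ^ (2 ^ (m + 1) + 2) * b) * DHom hm hF k := by
        have h := D_u hm hF k 0 b
        rw [mul_zero] at h
        rw [← h]
        group
      have hκb : (k : F) ^ (2 ^ (m + 1) + 2) * b ≠ 0 :=
        mul_ne_zero (pow_ne_zero _ k.ne_zero) hb0
      have hβfix : u hm hF 0 b • (u hm hF a₀ c₀ • α) = u hm hF a₀ c₀ • α := by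
        rw [← mul_smul, u0_comm, mul_smul, hb1]
      have e1 : u hm hF 0 ((k : F) ^ (2 ^ (m + 1) + 2) * b) • (DHom hm hF k • α) =
          DHom hm hF k • α := by
        rw [← mul_smul, ← hrel, mul_smul, hb1]
      have e2 : u hm hF 0 ((k : F) ^ (2 ^ (m + 1) + 2) * b) •
          (DHom hm hF k • (u hm hF a₀ c₀ • α)) = DHom hm hF k • (u hm hF a₀ c₀ • α) := by
        rw [← mul_smul, ← hrel, mul_smul, hβfix]
      rcases hi _ hκb hb2 _ e1 with h1 | h1
      · rw [mul_smul, h1, h1]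
      · rcases hi _ hκb hb2 _ e2 with h2 | h2
        · rw [mul_smul, h1, h2]
        · exfalso
          have h3 : DHom hm hF k • (u hm hF a₀ c₀ • α) = DHom hm hF k • α := by rw [h2, h1]
          exact hx₀ (smul_left_cancel _ h3)
    have hD := sq_fix hm hF α hDsq
    have hZ : ∀ b : F, u hm hF 0 b • α = α := by
      intro b
      by_cases hb : b = 0
      · rw [hb, u_zero, one_smul]
      · obtain ⟨k, hk⟩ := pow_s2_surj hm hF (b / b₀) (div_ne_zero hb hb₀)
        have h1 := D_u hm hF k 0 b₀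
        rw [mul_zero, hk, div_mul_cancel₀ _ hb₀] at h1
        rw [← h1, mul_smul, mul_smul, ← map_inv, hD, ht, hD]
    obtain ⟨c, hc0, hc1⟩ := exists_ne_zero_one (F := F) hm hF
    have hex1 : ∃ a₁ b₁ : F, a₁ ≠ 0 ∧ u hm hF a₁ b₁ • α = α := by
      by_cases h1 : u hm hF 1 0 • α = α
      · exact ⟨1, 0, one_ne_zero, h1⟩
      · by_cases h2 : u hm hF c 0 • α = α
        · exact ⟨c, 0, hc0, h2⟩
        · rcases hfix _ ht1 α (u hm hF 1 0 • α) (u hm hF c 0 • α) ht (hcomm 1 0 α ht)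
            (hcomm c 0 α ht) with h | h | h
          · exact absurd h.symm h1
          · exact absurd h.symm h2
          · obtain ⟨a', b', hab⟩ : ∃ a' b', (u hm hF c 0)⁻¹ * u hm hF 1 0 = u hm hF a' b' :=
              (U hm hF).mul_mem ((U hm hF).inv_mem ⟨c, 0, rfl⟩) ⟨1, 0, rfl⟩
            refine ⟨a', b', ?_, ?_⟩
            · intro ha'
              have h3 : u hm hF c 0 * u hm hF a' b' = u hm hF 1 0 := by
                rw [← hab]
                group
              rw [u_mul] at h3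
              have h4 := (u_inj hm hF h3).1
              rw [ha', zero_add] at h4
              exact hc1 h4
            · rw [← hab, mul_smul, h, inv_smul_smul]
    obtain ⟨a₁, b₁, ha₁, hab₁⟩ := hex1
    apply hx₀
    by_cases ha₀ : a₀ = 0
    · rw [ha₀]
      exact hZ c₀
    · obtain ⟨k, hk⟩ := pow_s_surj hm hF (a₀ / a₁) (div_ne_zero ha₀ ha₁)
      have h1 := D_u hm hF k a₁ b₁
      rw [hk, div_mul_cancel₀ _ ha₁] at h1
      have h2 : u hm hF a₀ ((k : F) ^ (2 ^ (m + 1) + 2) * b₁) • α = α := by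
        rw [← h1, mul_smul, mul_smul, ← map_inv, hD, hab₁, hD]
      have h3 : u hm hF a₀ c₀ = u hm hF 0 (c₀ - (k : F) ^ (2 ^ (m + 1) + 2) * b₁) *
          u hm hF a₀ ((k : F) ^ (2 ^ (m + 1) + 2) * b₁) := by
        rw [u_mul]
        congr 1
        · ring
        · rw [pow_s_zero hs]
          ring
      rw [h3, mul_smul, h2, hZ]
  -- step 2: the stabiliser fixes the point at infinity
  have hHB : ∀ n : ↥(Cfsg.Sz F m), n • α = α →
      n.1 • Cfsg.suzukiPointInfinity F = Cfsg.suzukiPointInfinity F := by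
    intro n hn
    by_contra hmove
    have htop := top_of_U_le hm hF (MulAction.stabilizer ↥(Cfsg.Sz F m) α)
      (by rintro _ ⟨a, b, rfl⟩; exact hU a b) n hn hmove
    obtain ⟨ω, ω', hne⟩ := hnt
    have h1 : ∀ ω : Ω, ω = α := by
      intro ω
      obtain ⟨g, hg⟩ := MulAction.exists_smul_eq ↥(Cfsg.Sz F m) α ω
      have h2 : g ∈ MulAction.stabilizer ↥(Cfsg.Sz F m) α := by
        rw [htop]
        trivial
      rw [← hg]
      exact h2
    exact hne ((h1 ω).trans (h1 ω').symm)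
  -- step 3: the torus fixes `α`
  have hDfix : ∀ k : Fˣ, DHom hm hF k • α = α := by
    apply sq_fix hm hF α
    intro k
    have hconj : ∀ k' : Fˣ, u hm hF 0 b₀ • (DHom hm hF k' • α) = DHom hm hF k' • α := by
      intro k'
      have h1 := D_u hm hF k'⁻¹ 0 b₀
      have h2 : u hm hF 0 b₀ * DHom hm hF k' = DHom hm hF k' *
          (DHom hm hF k'⁻¹ * u hm hF 0 b₀ * (DHom hm hF k'⁻¹)⁻¹) := by
        rw [map_inv]
        group
      rw [← mul_smul, h2, h1, mul_smul, hU]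
    rcases hfix _ ht1 α (DHom hm hF k • α) (DHom hm hF k⁻¹ • α) ht (hconj k) (hconj k⁻¹)
      with h | h | h
    · rw [mul_smul, ← h, ← h]
    · have h' : DHom hm hF k • α = α := by
        have h2 : DHom hm hF k • α = DHom hm hF k • (DHom hm hF k⁻¹ • α) :=
          congrArg (fun x => DHom hm hF k • x) h
        rw [← mul_smul, ← map_mul, mul_inv_cancel, map_one, one_smul] at h2
        exact h2
      rw [mul_smul, h', h']
    · rw [mul_smul, h, ← mul_smul, ← map_mul, mul_inv_cancel, map_one, one_smul]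
  intro n
  constructor
  · exact hHB n
  · intro hn
    obtain ⟨a, b, k, hk⟩ := stab_one hm hF n.2 hn
    have h1 : n = u hm hF a b * DHom hm hF k := Subtype.ext hk
    rw [h1, mul_smul, hDfix, hU]

/-- consequences of the even case. -/
theorem even_concl [Finite Ω] (hm : 1 ≤ m) (hF : Fintype.card F = 2 ^ (2 * m + 1))
    (htr : MulAction.IsPretransitive ↥(Cfsg.Sz F m) Ω) (α : Ω)
    (hstab : ∀ n : ↥(Cfsg.Sz F m), n • α = α ↔
      n.1 • Cfsg.suzukiPointInfinity F = Cfsg.suzukiPointInfinity F) :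
    Nat.card Ω = (2 ^ (2 * m + 1)) ^ 2 + 1 ∧
      ∀ a b c d : Ω, a ≠ b → c ≠ d → ∃ g : ↥(Cfsg.Sz F m), g • a = c ∧ g • b = d := by
  classical
  have hs := hyp_of_card hm hF
  have hch : ∀ ω : Ω, ∃ g : ↥(Cfsg.Sz F m), g • α = ω :=
    fun ω => MulAction.exists_smul_eq ↥(Cfsg.Sz F m) α ω
  choose γ hγ using hch
  have hψ : ∀ (g : ↥(Cfsg.Sz F m)) (ω : Ω), g • α = ω →
      (γ ω).1 • Cfsg.suzukiPointInfinity F = g.1 • Cfsg.suzukiPointInfinity F := by
    intro g ω hg
    have h1 : ((γ ω)⁻¹ * g) • α = α := by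
      rw [mul_smul, hg, inv_smul_eq_iff, hγ]
    have h2 := (hstab _).mp h1
    have h3 : ((γ ω).1⁻¹ * g.1) • Cfsg.suzukiPointInfinity F = Cfsg.suzukiPointInfinity F := h2
    rw [mul_smul, inv_smul_eq_iff] at h3
    exact h3.symm
  have hequiv : ∀ (g : ↥(Cfsg.Sz F m)) (ω : Ω),
      (γ (g • ω)).1 • Cfsg.suzukiPointInfinity F =
        g.1 • ((γ ω).1 • Cfsg.suzukiPointInfinity F) := by
    intro g ω
    have h1 : (g * γ ω) • α = g • ω := by rw [mul_smul, hγ]
    rw [hψ _ _ h1, ← mul_smul]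
    rfl
  have hinj : ∀ ω ω' : Ω, (γ ω).1 • Cfsg.suzukiPointInfinity F =
      (γ ω').1 • Cfsg.suzukiPointInfinity F → ω = ω' := by
    intro ω ω' h
    have h1 : ((γ ω')⁻¹ * γ ω).1 • Cfsg.suzukiPointInfinity F = Cfsg.suzukiPointInfinity F := by
      show ((γ ω').1⁻¹ * (γ ω).1) • _ = _
      rw [mul_smul, h, inv_smul_smul]
    have h2 := (hstab _).mpr h1
    rw [mul_smul, hγ, inv_smul_eq_iff, hγ] at h2
    exact h2
  constructor
  · have hb : Function.Bijective (fun ω : Ω =>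
        (⟨(γ ω).1 • Cfsg.suzukiPointInfinity F, smul_mem_ovoid (γ ω).2 (pInf_mem m)⟩ :
          ↥(Cfsg.suzukiOvoid F m))) := by
      constructor
      · intro ω ω' h
        exact hinj ω ω' (congrArg Subtype.val h)
      · rintro ⟨p, hp⟩
        rw [← orbit_eq hm hF] at hp
        obtain ⟨g, hg⟩ := hp
        refine ⟨g • α, ?_⟩
        apply Subtype.ext
        show (γ (g • α)).1 • Cfsg.suzukiPointInfinity F = p
        rw [hψ g (g • α) rfl]
        exact hg
    rw [Nat.card_congr (Equiv.ofBijective _ hb), Nat.card_coe_set_eq, card_ovoid hF]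
  · intro a b c d hab hcd
    have hab' : (γ a).1 • Cfsg.suzukiPointInfinity F ≠ (γ b).1 • Cfsg.suzukiPointInfinity F :=
      fun h => hab (hinj a b h)
    have hcd' : (γ c).1 • Cfsg.suzukiPointInfinity F ≠ (γ d).1 • Cfsg.suzukiPointInfinity F :=
      fun h => hcd (hinj c d h)
    obtain ⟨g₁, hg₁, e1, e2⟩ := two_trans hm hF (smul_mem_ovoid (γ a).2 (pInf_mem m))
      (smul_mem_ovoid (γ b).2 (pInf_mem m)) hab'
    obtain ⟨g₂, hg₂, e3, e4⟩ := two_trans hm hF (smul_mem_ovoid (γ c).2 (pInf_mem m))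
      (smul_mem_ovoid (γ d).2 (pInf_mem m)) hcd'
    refine ⟨(⟨g₂, hg₂⟩ : ↥(Cfsg.Sz F m))⁻¹ * ⟨g₁, hg₁⟩, ?_, ?_⟩
    · apply hinj
      rw [hequiv]
      show (g₂⁻¹ * g₁) • _ = _
      rw [mul_smul, e1, inv_smul_eq_iff, e3]
    · apply hinj
      rw [hequiv]
      show (g₂⁻¹ * g₁) • _ = _
      rw [mul_smul, e2, inv_smul_eq_iff, e4]

end Cfsg.Agent.Lib.Helper3.SzFix1
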