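import Mathlib
import Cfsg.Prelude.Def_LieExceptional
import Cfsg.Agent.Lib.Helper3.SzFix1
import Cfsg.Agent.Lib.Helper3.SzR

set_option autoImplicit false
set_option linter.unusedSectionVars false
set_option linter.unusedVariables false
set_option linter.style.haveILetI false

namespace Cfsg.Agent.Lib.Helper3.SzFix2

open Matrix Cfsg.Agent.Lib.Helper3.Sz1 Cfsg.Agent.Lib.Helper3.Sz2 Cfsg.Agent.Lib.Helper3.Sz3
  Cfsg.Agent.Lib.Helper3.Sz4 Cfsg.Agent.Lib.Helper3.Sz5 Cfsg.Agent.Lib.Helper3.Sz6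
  Cfsg.Agent.Lib.Helper3.Sz7 Cfsg.Agent.Lib.Helper3.Sz9 Cfsg.Agent.Lib.Helper3.Sz10
  Cfsg.Agent.Lib.Helper3.Sz11 Cfsg.Agent.Lib.Helper3.Sz15 Cfsg.Agent.Lib.Helper3.SzFix1
  Cfsg.Agent.Lib.Helper3.SzR

theorem nt_lemma (Q d : ℕ) (hQ : 7 ≤ Q) (hQodd : Odd Q) (hd : 1 ≤ d) (h1 : Q ∣ d - 1)
    (h2 : d ∣ (Q + 1) ^ 2 + 1) : d = 1 := by
  obtain ⟨c, hc⟩ := h1
  obtain ⟨e, he⟩ := h2
  have hd' : d = 1 + Q * c := by omega
  subst hd'
  rcases Nat.eq_zero_or_pos c with hc0 | hcpos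
  · rw [hc0]
    simp
  · exfalso
    have he' : Q * Q + 2 * Q + 2 = e + Q * (c * e) := by nlinarith [he]
    by_cases hce : Q + 2 ≤ c * e
    · have h3 : Q * (Q + 2) ≤ Q * (c * e) := Nat.mul_le_mul_left Q hce
      have h4 : e ≤ 2 := by nlinarith
      have h5 : Q ∣ 2 - e := by
        refine ⟨c * e - (Q + 2), ?_⟩
        rw [Nat.mul_sub]
        have h6 : Q * (c * e) + e = Q * (Q + 2) + 2 := by nlinarith
        omega
      have h6 : 2 - e = 0 := Nat.eq_zero_of_dvd_of_lt h5 (by omega)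
      have h7 : e = 2 := by omega
      subst h7
      have h8 : Q * (c * 2) = Q * (Q + 2) := by nlinarith
      have h9 : c * 2 = Q + 2 := Nat.eq_of_mul_eq_mul_left (by omega) h8
      obtain ⟨r, hr⟩ := hQodd
      omega
    · push Not at hce
      have h3 : Q * (c * e) ≤ Q * (Q + 1) := Nat.mul_le_mul_left Q (by omega)
      have h4 : Q + 2 ≤ e := by nlinarith
      have h5 : e ≤ c * e := Nat.le_mul_of_pos_left e hcpos
      omega

variable {F : Type*} [Field F] [Fintype F] {m : ℕ}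

theorem q_ge8 (hm : 1 ≤ m) : 8 ≤ 2 ^ (2 * m + 1) :=
  calc 8 = 2 ^ 3 := by norm_num
    _ ≤ 2 ^ (2 * m + 1) := Nat.pow_le_pow_right (by norm_num) (by omega)

theorem q_sub_odd (m : ℕ) : Odd (2 ^ (2 * m + 1) - 1) := by
  have h1 : 2 ^ (2 * m + 1) = 2 * 2 ^ (2 * m) := by ring
  have h2 : 1 ≤ 2 ^ (2 * m) := Nat.one_le_two_pow
  exact ⟨2 ^ (2 * m) - 1, by omega⟩

theorem DHom_pow_card (hm : 1 ≤ m) (hF : Fintype.card F = 2 ^ (2 * m + 1)) (k : Fˣ) :
    DHom hm hF k ^ (2 ^ (2 * m + 1) - 1) = 1 := by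
  classical
  rw [← map_pow]
  have h1 : k ^ (2 ^ (2 * m + 1) - 1) = 1 := by
    have h2 : Fintype.card Fˣ = 2 ^ (2 * m + 1) - 1 := by rw [Fintype.card_units, hF]
    rw [← h2]
    exact pow_card_eq_one
  rw [h1, map_one]

theorem DHom_odd (hm : 1 ≤ m) (hF : Fintype.card F = 2 ^ (2 * m + 1)) (k : Fˣ) :
    Odd (orderOf (DHom hm hF k)) :=
  Odd.of_dvd_nat (q_sub_odd m) (orderOf_dvd_of_pow_eq_one (DHom_pow_card hm hF k))

theorem DHom_ne_one (hm : 1 ≤ m) (hF : Fintype.card F = 2 ^ (2 * m + 1)) {k : Fˣ} (hk : k ≠ 1) :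
    DHom hm hF k ≠ 1 := by
  intro h
  rw [← map_one (DHom hm hF)] at h
  exact hk (DHom_inj hm hF h)

/-- the Weyl element as an element of the Suzuki group. -/
noncomputable def wS (hm : 1 ≤ m) (hF : Fintype.card F = 2 ^ (2 * m + 1)) : ↥(Cfsg.Sz F m) :=
  ⟨W (hyp_of_card hm hF), W_mem hm hF⟩

theorem wS_sq (hm : 1 ≤ m) (hF : Fintype.card F = 2 ^ (2 * m + 1)) : wS hm hF * wS hm hF = 1 :=
  Subtype.ext (W_sq (hyp_of_card hm hF))

theorem wS_inv (hm : 1 ≤ m) (hF : Fintype.card F = 2 ^ (2 * m + 1)) :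
    (wS hm hF)⁻¹ = wS hm hF :=
  inv_eq_of_mul_eq_one_left (wS_sq hm hF)

theorem wS_D (hm : 1 ≤ m) (hF : Fintype.card F = 2 ^ (2 * m + 1)) (k : Fˣ) :
    wS hm hF * DHom hm hF k = DHom hm hF k⁻¹ * wS hm hF :=
  Subtype.ext (W_D (hyp_of_card hm hF) k)

variable {Ω : Type*} [MulAction ↥(Cfsg.Sz F m) Ω]

/-- the torus case: if a non-identity diagonal element fixes `α` and no involution has a
fixed point, the stabiliser of `α` has order `q - 1`. -/
theorem torus_case [Finite Ω] (hm : 1 ≤ m) (hF : Fintype.card F = 2 ^ (2 * m + 1))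
    (hfix : Fix3 F m Ω)
    (hNI : ∀ t : ↥(Cfsg.Sz F m), t ≠ 1 → t * t = 1 → ∀ ω : Ω, t • ω ≠ ω)
    (α : Ω) (k₀ : Fˣ) (hk₀ : k₀ ≠ 1) (hα : DHom hm hF k₀ • α = α) :
    Nat.card (MulAction.stabilizer ↥(Cfsg.Sz F m) α) = 2 ^ (2 * m + 1) - 1 := by
  classical
  have hs := hyp_of_card hm hF
  have hfin : Finite (Matrix.SpecialLinearGroup (Fin 4) F) := finite_SL
  -- (a) the torus fixes `α`
  have hT : ∀ k : Fˣ, DHom hm hF k • α = α := by
    intro k
    apply odd_fix hfix (DHom_ne_one hm hF hk₀) hα _ (DHom_odd hm hF k)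
    rw [← map_mul, ← map_mul, mul_comm]
  -- (b) elements of a stabiliser containing the torus which fix infinity are diagonal
  have hB : ∀ ω : Ω, (∀ k : Fˣ, DHom hm hF k • ω = ω) → ∀ h : ↥(Cfsg.Sz F m), h • ω = ω →
      h.1 • Cfsg.suzukiPointInfinity F = Cfsg.suzukiPointInfinity F →
      ∃ k : Fˣ, h = DHom hm hF k := by
    intro ω hTω h hω hinf
    obtain ⟨a, b, k, hk⟩ := stab_one hm hF h.2 hinf
    have h1 : h = u hm hF a b * DHom hm hF k := Subtype.ext hk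
    have h2 : u hm hF a b • ω = ω := by
      have h3 : u hm hF a b = h * DHom hm hF k⁻¹ := by
        rw [h1, map_inv]
        group
      rw [h3, mul_smul, hTω, hω]
    have h4 : u hm hF a b ^ 4 = 1 := Subtype.ext (T_pow4 hm hF a b)
    by_cases h5 : u hm hF a b = 1
    · exact ⟨k, by rw [h1, h5, one_mul]⟩
    · exact absurd h2 (no_two_elt hNI h5 h4 ω)
  -- (c) elements of the stabiliser of `α` fixing zero are diagonal
  have hwT : ∀ k : Fˣ, DHom hm hF k • (wS hm hF • α) = wS hm hF • α := by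
    intro k
    have h1 : DHom hm hF k * wS hm hF = wS hm hF * DHom hm hF k⁻¹ := by
      rw [wS_D, inv_inv]
    rw [← mul_smul, h1, mul_smul, hT]
  have hC : ∀ h : ↥(Cfsg.Sz F m), h • α = α →
      h.1 • Cfsg.suzukiPointZero F = Cfsg.suzukiPointZero F →
      ∃ k : Fˣ, h = DHom hm hF k := by
    intro h hα' hzero
    have h1 : (wS hm hF * h * wS hm hF) • (wS hm hF • α) = wS hm hF • α := by
      rw [mul_smul, mul_smul, ← mul_smul (wS hm hF) (wS hm hF), wS_sq, one_smul, hα']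
    have h2 : (wS hm hF * h * wS hm hF).1 • Cfsg.suzukiPointInfinity F =
        Cfsg.suzukiPointInfinity F := by
      show (W hs * h.1 * W hs) • _ = _
      rw [mul_smul, mul_smul, W_pInf hs, hzero, W_pZero hs]
    obtain ⟨k, hk⟩ := hB _ hwT _ h1 h2
    refine ⟨k⁻¹, ?_⟩
    have h3 : h = wS hm hF * (wS hm hF * h * wS hm hF) * wS hm hF := by
      have e1 : wS hm hF * (wS hm hF * h * wS hm hF) * wS hm hF =
          (wS hm hF * wS hm hF) * h * (wS hm hF * wS hm hF) := by group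
      rw [e1, wS_sq, one_mul, mul_one]
    rw [h3, hk, wS_D, mul_assoc, wS_sq, mul_one]
  -- (d) elements of the stabiliser have odd order
  have hodd : ∀ h : ↥(Cfsg.Sz F m), h • α = α → Odd (orderOf h) := by
    intro h hα'
    by_contra hne
    rw [Nat.not_odd_iff_even] at hne
    obtain ⟨j, hj⟩ := hne
    have hpos : 0 < orderOf h := orderOf_pos h
    have hj1 : h ^ j ≠ 1 := pow_ne_one_of_lt_orderOf (by omega) (by omega)
    have hj2 : h ^ j * h ^ j = 1 := by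
      rw [← pow_add, ← hj, pow_orderOf_eq_one]
    have hmem : h ^ j ∈ MulAction.stabilizer ↥(Cfsg.Sz F m) α :=
      pow_mem (show h ∈ MulAction.stabilizer ↥(Cfsg.Sz F m) α from hα') j
    exact hNI _ hj1 hj2 α hmem
  -- (e) no element of the stabiliser maps infinity to zero
  have hE : ∀ h : ↥(Cfsg.Sz F m), h • α = α →
      h.1 • Cfsg.suzukiPointInfinity F ≠ Cfsg.suzukiPointZero F := by
    intro h hα' hmap
    have hinvα : h⁻¹ • α = α := by rw [inv_smul_eq_iff, hα']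
    have h1 : (h * DHom hm hF k₀ * h⁻¹) • α = α := by
      rw [mul_smul, mul_smul, hinvα, hT, hα']
    have h2 : (h * DHom hm hF k₀ * h⁻¹).1 • Cfsg.suzukiPointZero F = Cfsg.suzukiPointZero F := by
      show (h.1 * D (2 ^ (m + 1)) k₀ * h.1⁻¹) • _ = _
      rw [mul_smul, mul_smul, ← hmap, inv_smul_smul, D_pInf]
    obtain ⟨k', hk'⟩ := hC _ h1 h2
    have hk'1 : k' ≠ 1 := by
      rintro rfl
      rw [map_one] at hk'
      apply DHom_ne_one hm hF hk₀
      have e1 : DHom hm hF k₀ = h⁻¹ * (h * DHom hm hF k₀ * h⁻¹) * h := by group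
      rw [e1, hk']
      group
    have h3 : D (2 ^ (m + 1)) k' • (h.1 • Cfsg.suzukiPointZero F) =
        h.1 • Cfsg.suzukiPointZero F := by
      have e1 : D (2 ^ (m + 1)) k' = h.1 * D (2 ^ (m + 1)) k₀ * h.1⁻¹ :=
        (congrArg Subtype.val hk').symm
      rw [e1, mul_smul, mul_smul, inv_smul_smul, D_pZero]
    have hmemO : h.1 • Cfsg.suzukiPointZero F ∈ Cfsg.suzukiOvoid F m :=
      smul_mem_ovoid h.2 (pZero_mem hm hF)
    rcases ovoid_cases hmemO with h4 | ⟨x, y, h4⟩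
    · -- `h` swaps zero and infinity
      have h5 : (h * h).1 • Cfsg.suzukiPointInfinity F = Cfsg.suzukiPointInfinity F := by
        show (h.1 * h.1) • _ = _
        rw [mul_smul, hmap, h4]
      have h6 : (h * h) • α = α := by rw [mul_smul, hα', hα']
      obtain ⟨k'', hk''⟩ := hB α hT _ h6 h5
      obtain ⟨r, hr⟩ := hodd h hα'
      have h7 : (h * h) ^ (r + 1) = h := by
        rw [← pow_two, ← pow_mul]
        have h8 : 2 * (r + 1) = orderOf h + 1 := by omega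
        rw [h8, pow_succ, pow_orderOf_eq_one, one_mul]
      rw [hk'', ← map_pow] at h7
      have h9 : h.1 • Cfsg.suzukiPointInfinity F = Cfsg.suzukiPointInfinity F := by
        rw [← h7]
        exact D_pInf _ _
      rw [h9] at hmap
      exact pZero_ne_inf hmap.symm
    · by_cases hxy : x = 0 ∧ y = 0
      · obtain ⟨rfl, rfl⟩ := hxy
        rw [pt_zero hs] at h4
        have h5 : h.1 • Cfsg.suzukiPointZero F = h.1 • Cfsg.suzukiPointInfinity F := by
          rw [h4, hmap]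
        exact pZero_ne_inf (smul_left_cancel _ h5)
      · rw [h4] at h3
        exact hk'1 (D_fix_pt hs k' x y hxy h3)
  -- (f) counting
  obtain ⟨X₀, hX₀⟩ : ∃ X₀ : Set (Projectivization F (Fin 4 → F)),
      X₀ = {p | ∃ h : ↥(Cfsg.Sz F m), h • α = α ∧ h.1 • Cfsg.suzukiPointInfinity F = p} :=
    ⟨_, rfl⟩
  have hmemX : ∀ p, p ∈ X₀ ↔ ∃ h : ↥(Cfsg.Sz F m), h • α = α ∧
      h.1 • Cfsg.suzukiPointInfinity F = p := by
    intro p
    rw [hX₀]
    rfl
  have hinfX : Cfsg.suzukiPointInfinity F ∈ X₀ :=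
    (hmemX _).mpr ⟨1, one_smul _ _, one_smul _ _⟩
  have hch : ∀ p : ↥X₀, ∃ h : ↥(Cfsg.Sz F m), h • α = α ∧
      h.1 • Cfsg.suzukiPointInfinity F = p.1 := fun p => (hmemX _).mp p.2
  choose ρ hρ using hch
  have hcardH : Nat.card (MulAction.stabilizer ↥(Cfsg.Sz F m) α) =
      Nat.card ↥X₀ * (2 ^ (2 * m + 1) - 1) := by
    have hbij : Function.Bijective (fun pk : ↥X₀ × Fˣ =>
        (⟨ρ pk.1 * DHom hm hF pk.2, by
          show (ρ pk.1 * DHom hm hF pk.2) • α = α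
          rw [mul_smul, hT, (hρ pk.1).1]⟩ : ↥(MulAction.stabilizer ↥(Cfsg.Sz F m) α))) := by
      constructor
      · rintro ⟨p, k⟩ ⟨p', k'⟩ h
        have h1 : ρ p * DHom hm hF k = ρ p' * DHom hm hF k' := congrArg Subtype.val h
        have h2 : (ρ p * DHom hm hF k).1 • Cfsg.suzukiPointInfinity F =
            (ρ p' * DHom hm hF k').1 • Cfsg.suzukiPointInfinity F := by rw [h1]
        have h3 : ∀ (q : ↥X₀) (l : Fˣ), (ρ q * DHom hm hF l).1 • Cfsg.suzukiPointInfinity F =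
            q.1 := by
          intro q l
          show ((ρ q).1 * D (2 ^ (m + 1)) l) • _ = _
          rw [mul_smul, D_pInf, (hρ q).2]
        rw [h3, h3] at h2
        have hpp : p = p' := Subtype.ext h2
        subst hpp
        have h4 : DHom hm hF k = DHom hm hF k' := mul_left_cancel h1
        rw [DHom_inj hm hF h4]
      · rintro ⟨h, hh⟩
        have hh' : h • α = α := hh
        obtain ⟨p, hp⟩ : ∃ p : ↥X₀, p.1 = h.1 • Cfsg.suzukiPointInfinity F :=
          ⟨⟨h.1 • Cfsg.suzukiPointInfinity F, (hmemX _).mpr ⟨h, hh', rfl⟩⟩, rfl⟩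
        have h1 : ((ρ p)⁻¹ * h) • α = α := by
          rw [mul_smul, hh', inv_smul_eq_iff, (hρ p).1]
        have h2 : ((ρ p)⁻¹ * h).1 • Cfsg.suzukiPointInfinity F = Cfsg.suzukiPointInfinity F := by
          show ((ρ p).1⁻¹ * h.1) • _ = _
          rw [mul_smul, ← hp, inv_smul_eq_iff, (hρ p).2]
        obtain ⟨k, hk⟩ := hB α hT _ h1 h2
        refine ⟨(p, k), ?_⟩
        apply Subtype.ext
        show ρ p * DHom hm hF k = h
        rw [← hk]
        group
    rw [← Nat.card_congr (Equiv.ofBijective _ hbij), Nat.card_prod, Nat.card_units,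
      Nat.card_eq_fintype_card (α := F), hF]
  -- the free action of the torus
  obtain ⟨X₁, hX₁⟩ : ∃ X₁ : Set (Projectivization F (Fin 4 → F)),
      X₁ = X₀ \ {Cfsg.suzukiPointInfinity F} := ⟨_, rfl⟩
  have hmemX₁ : ∀ p, p ∈ X₁ ↔ p ∈ X₀ ∧ p ≠ Cfsg.suzukiPointInfinity F := by
    intro p
    rw [hX₁, Set.mem_sdiff, Set.mem_singleton_iff]
  have hsmul : ∀ (k : Fˣ) (p : Projectivization F (Fin 4 → F)), p ∈ X₁ →
      D (2 ^ (m + 1)) k • p ∈ X₁ := by
    intro k p hp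
    obtain ⟨hp0, hp1⟩ := (hmemX₁ p).mp hp
    obtain ⟨h, hh, rfl⟩ := (hmemX p).mp hp0
    refine (hmemX₁ _).mpr ⟨(hmemX _).mpr ⟨DHom hm hF k * h, ?_, ?_⟩, ?_⟩
    · rw [mul_smul, hh, hT]
    · show (D (2 ^ (m + 1)) k * h.1) • _ = _
      rw [mul_smul]
    · intro h1
      apply hp1
      rw [eq_inv_smul_iff.mpr h1]
      exact inv_smul_eq_iff.mpr (D_pInf _ k).symm
  letI act : MulAction Fˣ ↥X₁ :=
    { smul := fun k p => ⟨D (2 ^ (m + 1)) k • p.1, hsmul k p.1 p.2⟩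
      one_smul := by
        rintro ⟨p, hp⟩
        apply Subtype.ext
        show D (2 ^ (m + 1)) 1 • p = p
        rw [D_one, one_smul]
      mul_smul := by
        rintro k k' ⟨p, hp⟩
        apply Subtype.ext
        show D (2 ^ (m + 1)) (k * k') • p = D (2 ^ (m + 1)) k • (D (2 ^ (m + 1)) k' • p)
        rw [D_mul, mul_smul] }
  have hfree : ∀ k : Fˣ, k ≠ 1 → ∀ p : ↥X₁, k • p ≠ p := by
    rintro k hk ⟨p, hp⟩ h
    have h1 : D (2 ^ (m + 1)) k • p = p := congrArg Subtype.val h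
    obtain ⟨hp0, hp1⟩ := (hmemX₁ p).mp hp
    obtain ⟨g, hg, rfl⟩ := (hmemX p).mp hp0
    have hmemO : g.1 • Cfsg.suzukiPointInfinity F ∈ Cfsg.suzukiOvoid F m :=
      smul_mem_ovoid g.2 (pInf_mem m)
    rcases ovoid_cases hmemO with h4 | ⟨x, y, h4⟩
    · exact hp1 h4
    · by_cases hxy : x = 0 ∧ y = 0
      · obtain ⟨rfl, rfl⟩ := hxy
        rw [pt_zero hs] at h4
        exact hE g hg h4
      · rw [h4] at h1
        exact hk (D_fix_pt hs k x y hxy h1)
  have hdvd1 := card_dvd_of_free hfree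
  rw [Nat.card_units, Nat.card_eq_fintype_card, hF, Nat.card_coe_set_eq, hX₁] at hdvd1
  have hX₀fin : X₀.Finite := Set.toFinite X₀
  have hcardX : (X₀ \ {Cfsg.suzukiPointInfinity F}).ncard + 1 = X₀.ncard :=
    Set.ncard_sdiff_singleton_add_one hinfX hX₀fin
  rw [Nat.card_coe_set_eq] at hcardH
  -- the order of the stabiliser is odd and divides the group order
  have hHodd : ¬ 2 ∣ Nat.card (MulAction.stabilizer ↥(Cfsg.Sz F m) α) := by
    intro h2
    have hp2 : Fact (Nat.Prime 2) := ⟨Nat.prime_two⟩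
    obtain ⟨t', ht'⟩ := exists_prime_orderOf_dvd_card' 2 h2
    obtain ⟨t, htα⟩ := t'
    have hto : orderOf t = 2 := by
      rw [← ht']
      exact (Subgroup.orderOf_mk t htα).symm
    have ht1 : t ≠ 1 := by
      intro e
      rw [e, orderOf_one] at hto
      norm_num at hto
    have ht2 : t * t = 1 := by
      rw [← pow_two, ← hto]
      exact pow_orderOf_eq_one t
    exact hNI t ht1 ht2 α htα
  have hHdvd : Nat.card (MulAction.stabilizer ↥(Cfsg.Sz F m) α) ∣ Nat.card ↥(Cfsg.Sz F m) :=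
    Subgroup.card_subgroup_dvd_card _
  rw [card_Sz hm hF, hcardH] at hHdvd
  rw [hcardH] at hHodd
  have hq8 := q_ge8 hm
  have hQpos : 0 < 2 ^ (2 * m + 1) - 1 := by omega
  have hd1 : X₀.ncard ∣ (2 ^ (2 * m + 1)) ^ 2 * ((2 ^ (2 * m + 1)) ^ 2 + 1) := by
    have h1 : X₀.ncard * (2 ^ (2 * m + 1) - 1) ∣
        (2 ^ (2 * m + 1)) ^ 2 * ((2 ^ (2 * m + 1)) ^ 2 + 1) * (2 ^ (2 * m + 1) - 1) := hHdvd
    exact Nat.dvd_of_mul_dvd_mul_right hQpos h1
  have hdodd : ¬ 2 ∣ X₀.ncard := fun h => hHodd (dvd_mul_of_dvd_left h _)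
  have hcop : Nat.Coprime X₀.ncard ((2 ^ (2 * m + 1)) ^ 2) := by
    apply Nat.Coprime.pow_right
    apply Nat.Coprime.pow_right
    rw [Nat.coprime_comm, Nat.Prime.coprime_iff_not_dvd Nat.prime_two]
    exact hdodd
  have hd2 : X₀.ncard ∣ (2 ^ (2 * m + 1)) ^ 2 + 1 := hcop.dvd_of_dvd_mul_left hd1
  have hdpos : 1 ≤ X₀.ncard := by omega
  have hd3 : (2 ^ (2 * m + 1) - 1) ∣ X₀.ncard - 1 := by
    have h1 : X₀.ncard - 1 = (X₀ \ {Cfsg.suzukiPointInfinity F}).ncard := by omega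
    rw [h1]
    exact hdvd1
  have hd4 : X₀.ncard ∣ ((2 ^ (2 * m + 1) - 1) + 1) ^ 2 + 1 := by
    have h1 : 2 ^ (2 * m + 1) - 1 + 1 = 2 ^ (2 * m + 1) := by omega
    rw [h1]
    exact hd2
  have hfinal := nt_lemma (2 ^ (2 * m + 1) - 1) X₀.ncard (by omega) (q_sub_odd m) hdpos hd3 hd4
  rw [hcardH, hfinal, one_mul]

end Cfsg.Agent.Lib.Helper3.SzFix2
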