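import Mathlib
import Cfsg.Prelude.Def_LieExceptional
import Cfsg.Agent.Lib.Helper3.SzFix2

set_option autoImplicit false
set_option linter.unusedSectionVars false
set_option linter.unusedVariables false
set_option linter.style.haveILetI false

namespace Cfsg.Agent.Lib.Helper3.SzFix3

open Matrix Cfsg.Agent.Lib.Helper3.Sz1 Cfsg.Agent.Lib.Helper3.Sz2 Cfsg.Agent.Lib.Helper3.Sz3
  Cfsg.Agent.Lib.Helper3.Sz4 Cfsg.Agent.Lib.Helper3.Sz5 Cfsg.Agent.Lib.Helper3.Sz6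
  Cfsg.Agent.Lib.Helper3.Sz7 Cfsg.Agent.Lib.Helper3.Sz9 Cfsg.Agent.Lib.Helper3.Sz10
  Cfsg.Agent.Lib.Helper3.Sz11 Cfsg.Agent.Lib.Helper3.Sz15 Cfsg.Agent.Lib.Helper3.SzFix1
  Cfsg.Agent.Lib.Helper3.SzFix2 Cfsg.Agent.Lib.Helper3.SzR

variable {F : Type*} [Field F] [Fintype F] {m : ℕ}

/-- every involution is conjugate to a central element of `U`. -/
theorem inv_conj (hm : 1 ≤ m) (hF : Fintype.card F = 2 ^ (2 * m + 1)) (s : ↥(Cfsg.Sz F m))
    (hs1 : s ≠ 1) (hs2 : s * s = 1) :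
    ∃ (γ : ↥(Cfsg.Sz F m)) (b : F), b ≠ 0 ∧ s = γ * u hm hF 0 b * γ⁻¹ := by
  classical
  have hfin : Finite (Matrix.SpecialLinearGroup (Fin 4) F) := finite_SL
  have hp2 : Fact (Nat.Prime 2) := ⟨Nat.prime_two⟩
  have hpg' : IsPGroup 2 (Subgroup.zpowers s) := by
    apply IsPGroup.of_card (n := 1)
    rw [Nat.card_zpowers, pow_one]
    exact orderOf_eq_prime (by rw [pow_two]; exact hs2) hs1
  obtain ⟨P', hP'⟩ := hpg'.exists_le_sylow
  obtain ⟨γ', hγ'⟩ := sylow_conj hm hF P'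
  obtain ⟨a, b, hab⟩ := (hγ' s).mp (hP' (Subgroup.mem_zpowers s))
  have h1 : u hm hF a b * u hm hF a b = 1 := by
    rw [← hab]
    calc γ'⁻¹ * s * γ' * (γ'⁻¹ * s * γ') = γ'⁻¹ * (s * s) * γ' := by group
      _ = 1 := by rw [hs2]; group
  have ha := a_zero_of_sq hm hF h1
  subst ha
  have hs_eq : s = γ' * u hm hF 0 b * γ'⁻¹ := by
    rw [← hab]
    group
  refine ⟨γ', b, ?_, hs_eq⟩
  rintro rfl
  apply hs1
  rw [hs_eq, u_zero]
  group

variable {Ω : Type*} [MulAction ↥(Cfsg.Sz F m) Ω]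

/-- the odd case: if no involution has a fixed point but some non-identity element does, then
some point stabiliser has order `q - 1`. -/
theorem odd_case [Finite Ω] (hm : 1 ≤ m) (hF : Fintype.card F = 2 ^ (2 * m + 1))
    (hfix : Fix3 F m Ω)
    (hNI : ∀ t : ↥(Cfsg.Sz F m), t ≠ 1 → t * t = 1 → ∀ ω : Ω, t • ω ≠ ω)
    (α : Ω) (g₀ : ↥(Cfsg.Sz F m)) (hg₀ : g₀ ≠ 1) (hg₀α : g₀ • α = α) :
    ∃ α' : Ω, Nat.card (MulAction.stabilizer ↥(Cfsg.Sz F m) α') = 2 ^ (2 * m + 1) - 1 := by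
  classical
  have hs := hyp_of_card hm hF
  have hfin : Finite (Matrix.SpecialLinearGroup (Fin 4) F) := finite_SL
  have hg₀' : g₀.1 ≠ 1 := fun e => hg₀ (Subtype.ext e)
  rcases trichotomy hm hF g₀.2 hg₀' with ⟨x, hx, k, hk1, hk⟩ | ⟨x, hx, a, b, hab, hk⟩ | hfpf
  · -- conjugate to a diagonal element
    obtain ⟨xs, hxs⟩ : ∃ xs : ↥(Cfsg.Sz F m), xs = ⟨x, hx⟩ := ⟨_, rfl⟩
    have hk' : xs * g₀ * xs⁻¹ = DHom hm hF k := by
      rw [hxs]
      exact Subtype.ext hk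
    refine ⟨xs • α, torus_case hm hF hfix hNI (xs • α) k hk1 ?_⟩
    rw [← hk', mul_smul, mul_smul, inv_smul_smul, hg₀α]
  · -- a 2-element: impossible
    exfalso
    have h4 : g₀ ^ 4 = 1 := by
      apply Subtype.ext
      show g₀.1 ^ 4 = 1
      have e : g₀.1 = x⁻¹ * T (2 ^ (m + 1)) a b * x⁻¹⁻¹ := by
        rw [← hk]
        group
      rw [e, conj_pow, T_pow4 hm hF]
      group
    exact no_two_elt hNI hg₀ h4 α hg₀α
  · -- fixed-point-free on the ovoid: impossible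
    exfalso
    have hF' : Cfsg.Agent.Lib.Helper14.SzTori.Fpf g₀ := hfpf
    obtain ⟨hmain, _, _⟩ := Cfsg.Agent.Lib.Helper14.SzTori.main hm hF
    obtain ⟨_, hcN⟩ := hmain g₀ hF'
    have hdvd := Cfsg.Agent.Lib.Helper14.SzTori.cA_dvd hm hF hF'
    have hoddA : Odd (Nat.card ↥(Subgroup.centralizer ({g₀} : Set ↥(Cfsg.Sz F m)))) := by
      have h1 : Odd ((2 ^ (2 * m + 1)) ^ 2 + 1) := by
        refine ⟨2 ^ (2 * m + 1) * 2 ^ (2 * m), ?_⟩
        ring
      exact Odd.of_dvd_nat h1 hdvd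
    -- the centraliser fixes `α`
    have hA : ∀ y ∈ Subgroup.centralizer ({g₀} : Set ↥(Cfsg.Sz F m)), y • α = α := by
      intro y hy
      apply odd_fix hfix hg₀ hg₀α (Cfsg.Agent.Lib.Helper14.SzTori.mem_cent_iff.mp hy)
      exact Odd.of_dvd_nat hoddA (Subgroup.orderOf_dvd_natCard _ hy)
    -- the normaliser of the centraliser permutes the fixed points of `g₀`
    have hN : ∀ n ∈ Subgroup.normalizer
        ((Subgroup.centralizer ({g₀} : Set ↥(Cfsg.Sz F m)) : Subgroup ↥(Cfsg.Sz F m)) :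
          Set ↥(Cfsg.Sz F m)), g₀ • (n • α) = n • α := by
      intro n hn
      have hn' := inv_mem hn
      have h1 : n⁻¹ * g₀ * n⁻¹⁻¹ ∈ Subgroup.centralizer ({g₀} : Set ↥(Cfsg.Sz F m)) :=
        (Subgroup.mem_normalizer_iff.mp hn' g₀).mp
          (Cfsg.Agent.Lib.Helper14.SzTori.self_mem_cent g₀)
      have h2 := hA _ h1
      have h3 : g₀ * n = n * (n⁻¹ * g₀ * n⁻¹⁻¹) := by group
      rw [← mul_smul, h3, mul_smul, h2]
    have h4N : 2 ^ 2 ∣ Nat.card ↥(Subgroup.normalizer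
        ((Subgroup.centralizer ({g₀} : Set ↥(Cfsg.Sz F m)) : Subgroup ↥(Cfsg.Sz F m)) :
          Set ↥(Cfsg.Sz F m))) := by
      have h5 : Cfsg.Agent.Lib.Helper14.SzTori.cN g₀ =
          4 * Cfsg.Agent.Lib.Helper14.SzTori.cA g₀ := hcN
      unfold Cfsg.Agent.Lib.Helper14.SzTori.cN at h5
      rw [h5]
      exact ⟨Cfsg.Agent.Lib.Helper14.SzTori.cA g₀, by ring⟩
    have hp2 : Fact (Nat.Prime 2) := ⟨Nat.prime_two⟩
    obtain ⟨K, hK⟩ := Sylow.exists_subgroup_card_pow_prime 2 h4N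
    have hK4 : ∀ s : ↥K, s ^ 4 = 1 := by
      intro s
      have h1 : s ^ Nat.card ↥K = 1 := pow_card_eq_one'
      rw [hK] at h1
      exact h1
    have hKnt : ∃ s₁ : ↥K, s₁ ≠ 1 := by
      by_contra hcon
      push Not at hcon
      have h1 : Nat.card ↥K ≤ 1 := by
        rw [Finite.card_le_one_iff_subsingleton]
        exact ⟨fun a b => (hcon a).trans (hcon b).symm⟩
      rw [hK] at h1
      norm_num at h1
    obtain ⟨s₁, hs₁⟩ := hKnt
    have hK2 : ∃ s₂ : ↥K, s₂ ≠ 1 ∧ s₂ ≠ s₁ := by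
      by_contra hcon
      push Not at hcon
      have hinj : Function.Injective (fun s : ↥K => decide (s = 1)) := by
        intro a b hab'
        have hab'' : decide (a = 1) = decide (b = 1) := hab'
        by_cases ha : a = 1
        · have hb : b = 1 := by
            by_contra hb
            simp [ha, hb] at hab''
          rw [ha, hb]
        · have hb : b ≠ 1 := by
            intro hb
            simp [ha, hb] at hab''
          rw [hcon a ha, hcon b hb]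
      have h1 := Nat.card_le_card_of_injective _ hinj
      rw [hK, Nat.card_eq_fintype_card, Fintype.card_bool] at h1
      norm_num at h1
    obtain ⟨s₂, hs₂, hs₂₁⟩ := hK2
    -- the three points `α`, `s₁ α`, `s₂ α`
    have e1 := hN s₁.1.1 s₁.1.2
    have e2 := hN s₂.1.1 s₂.1.2
    have hx1 : (s₁.1.1 : ↥(Cfsg.Sz F m)) ≠ 1 := by
      intro h
      apply hs₁
      exact Subtype.ext (Subtype.ext h)
    have hx2 : (s₂.1.1 : ↥(Cfsg.Sz F m)) ≠ 1 := by
      intro h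
      apply hs₂
      exact Subtype.ext (Subtype.ext h)
    have hp1 : (s₁.1.1 : ↥(Cfsg.Sz F m)) ^ 4 = 1 := by
      have h := congrArg (fun s : ↥K => (s.1.1 : ↥(Cfsg.Sz F m))) (hK4 s₁)
      simpa using h
    have hp2' : (s₂.1.1 : ↥(Cfsg.Sz F m)) ^ 4 = 1 := by
      have h := congrArg (fun s : ↥K => (s.1.1 : ↥(Cfsg.Sz F m))) (hK4 s₂)
      simpa using h
    have hp3 : ((s₂.1.1 : ↥(Cfsg.Sz F m))⁻¹ * s₁.1.1) ^ 4 = 1 := by
      have h := congrArg (fun s : ↥K => (s.1.1 : ↥(Cfsg.Sz F m))) (hK4 (s₂⁻¹ * s₁))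
      simpa using h
    have hx3 : (s₂.1.1 : ↥(Cfsg.Sz F m))⁻¹ * s₁.1.1 ≠ 1 := by
      intro h
      apply hs₂₁
      have h' : (s₁.1.1 : ↥(Cfsg.Sz F m)) = s₂.1.1 := by
        rw [inv_mul_eq_one] at h
        exact h.symm
      exact (Subtype.ext (Subtype.ext h')).symm
    rcases hfix g₀ hg₀ α (s₁.1.1 • α) (s₂.1.1 • α) hg₀α e1 e2 with h | h | h
    · exact no_two_elt hNI hx1 hp1 α h.symm
    · exact no_two_elt hNI hx2 hp2' α h.symm
    · apply no_two_elt hNI hx3 hp3 α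
      rw [mul_smul, h, inv_smul_smul]

/-- the fixity-two actions of the Suzuki group (ovoid model). -/
theorem fixity_main [Finite Ω] (hm : 1 ≤ m) (hF : Fintype.card F = 2 ^ (2 * m + 1))
    (htr : MulAction.IsPretransitive ↥(Cfsg.Sz F m) Ω)
    (hfix : ∀ g : ↥(Cfsg.Sz F m), g ≠ 1 → Nat.card (MulAction.fixedBy Ω g) ≤ 2)
    (hex : ∃ g : ↥(Cfsg.Sz F m), g ≠ 1 ∧ Nat.card (MulAction.fixedBy Ω g) = 2) :
    (Nat.card Ω = (2 ^ (2 * m + 1)) ^ 2 + 1 ∧
      ∀ a b c d : Ω, a ≠ b → c ≠ d → ∃ g : ↥(Cfsg.Sz F m), g • a = c ∧ g • b = d) ∨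
    (Nat.card Ω = (2 ^ (2 * m + 1)) ^ 2 * ((2 ^ (2 * m + 1)) ^ 2 + 1) ∧
      ∀ ω : Ω, Nat.card (MulAction.stabilizer ↥(Cfsg.Sz F m) ω) = 2 ^ (2 * m + 1) - 1) := by
  classical
  have hfin : Finite (Matrix.SpecialLinearGroup (Fin 4) F) := finite_SL
  have hfix3 : Fix3 F m Ω := fun g hg a b c ha hb hc => three_pts (hfix g hg) ha hb hc
  obtain ⟨g₁, hg₁, hg₁c⟩ := hex
  rw [Nat.card_coe_set_eq, Set.ncard_eq_two] at hg₁c
  obtain ⟨ω₁, ω₂, hne, hset⟩ := hg₁c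
  have hω₁ : g₁ • ω₁ = ω₁ := by
    have h1 : ω₁ ∈ MulAction.fixedBy Ω g₁ := by
      rw [hset]
      exact Set.mem_insert _ _
    exact h1
  by_cases hNI : ∀ t : ↥(Cfsg.Sz F m), t ≠ 1 → t * t = 1 → ∀ ω : Ω, t • ω ≠ ω
  · right
    obtain ⟨α', hα'⟩ := odd_case hm hF hfix3 hNI ω₁ g₁ hg₁ hω₁
    have hq8 := q_ge8 hm
    constructor
    · have h := Nat.card_congr
        (MulAction.orbitProdStabilizerEquivGroup ↥(Cfsg.Sz F m) α')
      rw [Nat.card_prod, hα', Nat.card_coe_set_eq, MulAction.orbit_eq_univ, Set.ncard_univ,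
        card_Sz hm hF] at h
      exact Nat.eq_of_mul_eq_mul_right (by omega) h
    · intro ω
      obtain ⟨g, hg⟩ := MulAction.exists_smul_eq ↥(Cfsg.Sz F m) α' ω
      rw [← hg, MulAction.stabilizer_smul_eq_stabilizer_map_conj,
        Subgroup.card_map_of_injective (MulAut.conj g).injective, hα']
  · left
    push Not at hNI
    obtain ⟨t, ht1, ht2, ω, hω⟩ := hNI
    obtain ⟨γ, b, hb, hteq⟩ := inv_conj hm hF t ht1 ht2
    have hα : u hm hF 0 b • (γ⁻¹ • ω) = γ⁻¹ • ω := by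
      have h1 : u hm hF 0 b = γ⁻¹ * t * γ := by
        rw [hteq]
        group
      rw [h1, mul_smul, mul_smul, smul_inv_smul, hω]
    have hstab := even_case hm hF hfix3 htr ⟨ω₁, ω₂, hne⟩ (γ⁻¹ • ω) b hb hα
    exact even_concl hm hF htr (γ⁻¹ • ω) hstab

/-- `S3391`: the fixity-two actions of a group isomorphic to the Suzuki group. -/
theorem fixity_lie {G : Type*} [Group G] (hm : 1 ≤ m) (hF : Fintype.card F = 2 ^ (2 * m + 1))
    (e : G ≃* ↥(Cfsg.Lie.Sz F (2 ^ (m + 1)))) {Ω : Type*} [Fintype Ω] [MulAction G Ω]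
    (htr : MulAction.IsPretransitive G Ω)
    (hfix : ∀ g : G, g ≠ 1 → Nat.card (MulAction.fixedBy Ω g) ≤ 2)
    (hex : ∃ g : G, g ≠ 1 ∧ Nat.card (MulAction.fixedBy Ω g) = 2) :
    (Fintype.card Ω = Fintype.card F ^ 2 + 1 ∧ MulAction.IsMultiplyPretransitive G Ω 2) ∨
    (Fintype.card Ω = Fintype.card F ^ 2 * (Fintype.card F ^ 2 + 1) ∧
      ∀ α : Ω, Nat.card (MulAction.stabilizer G α) = Fintype.card F - 1) := by
  classical
  obtain ⟨e', he'⟩ : ∃ e' : ↥(Cfsg.Sz F m) ≃* G,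
      e' = (Cfsg.Agent.Lib.Helper14.SzLink.szEquiv hm hF).trans e.symm := ⟨_, rfl⟩
  letI act : MulAction ↥(Cfsg.Sz F m) Ω := MulAction.compHom Ω e'.toMonoidHom
  have hsm : ∀ (g₀ : ↥(Cfsg.Sz F m)) (ω : Ω), g₀ • ω = e' g₀ • ω := fun _ _ => rfl
  have htr' : MulAction.IsPretransitive ↥(Cfsg.Sz F m) Ω := by
    constructor
    intro x y
    obtain ⟨g, hg⟩ := MulAction.exists_smul_eq G x y
    refine ⟨e'.symm g, ?_⟩
    rw [hsm, e'.apply_symm_apply]
    exact hg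
  have hfb : ∀ g₀ : ↥(Cfsg.Sz F m), MulAction.fixedBy Ω g₀ = MulAction.fixedBy Ω (e' g₀) := by
    intro g₀
    ext ω
    exact Iff.rfl
  have hfix' : ∀ g₀ : ↥(Cfsg.Sz F m), g₀ ≠ 1 → Nat.card (MulAction.fixedBy Ω g₀) ≤ 2 := by
    intro g₀ hg₀
    rw [hfb]
    apply hfix
    intro h
    apply hg₀
    apply e'.injective
    rw [h, map_one]
  have hex' : ∃ g₀ : ↥(Cfsg.Sz F m), g₀ ≠ 1 ∧ Nat.card (MulAction.fixedBy Ω g₀) = 2 := by
    obtain ⟨g, hg, hgc⟩ := hex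
    refine ⟨e'.symm g, ?_, ?_⟩
    · intro h
      apply hg
      have h2 := congrArg e' h
      rw [e'.apply_symm_apply, map_one] at h2
      exact h2
    · rw [hfb, e'.apply_symm_apply]
      exact hgc
  rcases fixity_main hm hF htr' hfix' hex' with ⟨hc, h2⟩ | ⟨hc, hst⟩
  · left
    constructor
    · rw [← Nat.card_eq_fintype_card, hc, hF]
    · rw [MulAction.is_two_pretransitive_iff]
      intro a b c d hab hcd
      obtain ⟨g₀, h1, h2'⟩ := h2 a b c d hab hcd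
      exact ⟨e' g₀, h1, h2'⟩
  · right
    constructor
    · rw [← Nat.card_eq_fintype_card, hc, hF]
    · intro α
      rw [hF, ← hst α]
      apply Nat.card_congr
      exact
        { toFun := fun y => ⟨e'.symm y.1, by
            show e'.symm y.1 • α = α
            rw [hsm, e'.apply_symm_apply]
            exact y.2⟩
          invFun := fun x => ⟨e' x.1, x.2⟩
          left_inv := fun y => Subtype.ext (e'.apply_symm_apply _)
          right_inv := fun x => Subtype.ext (e'.symm_apply_apply _) }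

end Cfsg.Agent.Lib.Helper3.SzFix3
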