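import Mathlib
import Cfsg.Prelude.Def_LieExceptional
import Cfsg.Agent.Lib.Helper3.Sz15
import Cfsg.Agent.Lib.Helper14.SzLink

set_option autoImplicit false
set_option linter.unusedSectionVars false

namespace Cfsg.Agent.Lib.Helper3.SzSub1

open Matrix Cfsg.Agent.Lib.Helper3.Sz1 Cfsg.Agent.Lib.Helper3.Sz2 Cfsg.Agent.Lib.Helper3.Sz3
  Cfsg.Agent.Lib.Helper3.Sz4 Cfsg.Agent.Lib.Helper3.Sz5 Cfsg.Agent.Lib.Helper3.Sz6
  Cfsg.Agent.Lib.Helper3.Sz7 Cfsg.Agent.Lib.Helper14.SzLink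

variable {F : Type*} [Field F] [Fintype F] {m : ℕ} {K : Type*} [Field K] [Fintype K] {k : ℕ}

/-- the small field embeds into the large one. -/
theorem exists_emb (hF : Fintype.card F = 2 ^ (2 * m + 1))
    (hK : Fintype.card K = 2 ^ (2 * k + 1)) (hdiv : 2 * k + 1 ∣ 2 * m + 1) :
    Nonempty (K →+* F) := by
  have h2F : (2 : F) = 0 := by
    have h := FiniteField.cast_card_eq_zero F
    rw [hF] at h
    push_cast at h
    exact pow_eq_zero_iff (by omega) |>.mp h
  have h2K : (2 : K) = 0 := by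
    have h := FiniteField.cast_card_eq_zero K
    rw [hK] at h
    push_cast at h
    exact pow_eq_zero_iff (by omega) |>.mp h
  have : CharP F 2 := CharTwo.of_one_ne_zero_of_two_eq_zero one_ne_zero h2F
  have : CharP K 2 := CharTwo.of_one_ne_zero_of_two_eq_zero one_ne_zero h2K
  have : Fact (Nat.Prime 2) := ⟨Nat.prime_two⟩
  let _ : Algebra (ZMod 2) K := ZMod.algebra K 2
  let _ : Algebra (ZMod 2) F := ZMod.algebra F 2
  have hrK : Module.finrank (ZMod 2) K = 2 * k + 1 := by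
    have h := FiniteField.pow_finrank_eq_card 2 K
    rw [hK] at h
    exact Nat.pow_right_injective (le_refl 2) h
  have hrF : Module.finrank (ZMod 2) F = 2 * m + 1 := by
    have h := FiniteField.pow_finrank_eq_card 2 F
    rw [hF] at h
    exact Nat.pow_right_injective (le_refl 2) h
  have hd : Module.finrank (ZMod 2) K ∣ Module.finrank (ZMod 2) F := by
    rw [hrK, hrF]
    exact hdiv
  obtain ⟨f⟩ := FiniteField.nonempty_algHom_of_finrank_dvd hd
  exact ⟨f.toRingHom⟩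

/-- the two twisting exponents agree on the small field. -/
theorem pow_congr (hK : Fintype.card K = 2 ^ (2 * k + 1)) (hdiv : 2 * k + 1 ∣ 2 * m + 1)
    (ι : K →+* F) (x : K) : ι x ^ (2 ^ (m + 1)) = ι (x ^ (2 ^ (k + 1))) := by
  obtain ⟨d, hd⟩ := hdiv
  have hodd : d % 2 = 1 := by
    rcases Nat.mod_two_eq_zero_or_one d with h | h
    · exfalso
      have h1 : (2 * m + 1) % 2 = 1 := by omega
      rw [hd, Nat.mul_mod, h] at h1
      simp at h1
    · exact h
  obtain ⟨j, hj⟩ : ∃ j, d = 2 * j + 1 := ⟨d / 2, by omega⟩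
  have hm : m + 1 = (2 * k + 1) * j + (k + 1) := by
    rw [hj] at hd
    have : 2 * m + 1 = 2 * ((2 * k + 1) * j) + (2 * k + 1) := by rw [hd]; ring
    omega
  rw [← map_pow, hm, pow_add, pow_mul, pow_mul, ← hK, FiniteField.pow_card_pow]

theorem Jm_map (ι : K →+* F) : (Jm : Matrix (Fin 4) (Fin 4) K).map ι = Jm := by
  ext i j
  fin_cases i <;> fin_cases j <;> simp [Jm]

theorem inL_map (hK : Fintype.card K = 2 ^ (2 * k + 1)) (hdiv : 2 * k + 1 ∣ 2 * m + 1)
    (ι : K →+* F) {A : Matrix (Fin 4) (Fin 4) K} (hA : InL (2 ^ (k + 1)) A) :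
    InL (2 ^ (m + 1)) (A.map ι) := by
  obtain ⟨hf, hst⟩ := hA
  constructor
  · unfold FormP at hf ⊢
    have h : (Aᵀ * Jm * A).map ι = (Jm : Matrix (Fin 4) (Fin 4) K).map ι := by rw [hf]
    rw [Matrix.map_mul, Matrix.map_mul, Jm_map, Matrix.transpose_map] at h
    exact h
  · ext p r
    rw [star4_apply]
    have h := congrFun (congrFun hst p) r
    rw [star4_apply] at h
    simp only [Matrix.map_apply] at h ⊢
    rw [pow_congr hK hdiv ι, ← h, map_sub, map_mul, map_mul]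

/-- the subfield embedding of Suzuki groups. -/
noncomputable def emb (hm : 1 ≤ m) (hF : Fintype.card F = 2 ^ (2 * m + 1)) (hk : 1 ≤ k)
    (hK : Fintype.card K = 2 ^ (2 * k + 1)) (hdiv : 2 * k + 1 ∣ 2 * m + 1) (ι : K →+* F) :
    ↥(Cfsg.Sz K k) →* ↥(Cfsg.Sz F m) :=
  ((Matrix.SpecialLinearGroup.map ι).comp (Cfsg.Sz K k).subtype).codRestrict (Cfsg.Sz F m)
    (fun g => mem_of_inL hm hF _ (inL_map hK hdiv ι (inL_of_mem hk hK g.2)))

theorem emb_inj (hm : 1 ≤ m) (hF : Fintype.card F = 2 ^ (2 * m + 1)) (hk : 1 ≤ k)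
    (hK : Fintype.card K = 2 ^ (2 * k + 1)) (hdiv : 2 * k + 1 ∣ 2 * m + 1) (ι : K →+* F) :
    Function.Injective (emb hm hF hk hK hdiv ι) := by
  intro g g' h
  have h1 : (Matrix.SpecialLinearGroup.map ι g.1).1 = (Matrix.SpecialLinearGroup.map ι g'.1).1 := by
    have := congrArg (fun x : ↥(Cfsg.Sz F m) => x.1.1) h
    exact this
  apply Subtype.ext
  apply Subtype.ext
  ext i j
  have h2 := congrFun (congrFun h1 i) j
  exact ι.injective h2

/-- existence of a subfield subgroup. -/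
theorem exists_sub (hm : 1 ≤ m) (hF : Fintype.card F = 2 ^ (2 * m + 1)) (hk : 1 ≤ k)
    (hK : Fintype.card K = 2 ^ (2 * k + 1)) (hdiv : 2 * k + 1 ∣ 2 * m + 1) :
    ∃ S : Subgroup ↥(Cfsg.Sz F m), Nonempty (↥S ≃* ↥(Cfsg.Sz K k)) := by
  obtain ⟨ι⟩ := exists_emb hF hK hdiv
  exact ⟨(emb hm hF hk hK hdiv ι).range,
    ⟨(MonoidHom.ofInjective (emb_inj hm hF hk hK hdiv ι)).symm⟩⟩

end Cfsg.Agent.Lib.Helper3.SzSub1
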