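import Mathlib
import Cfsg.Prelude.Def_LieExceptional
import Cfsg.Agent.Lib.Helper3.Sz15
import Cfsg.Agent.Lib.Helper3.SzR
import Cfsg.Agent.Lib.Helper3.SzFix2

set_option autoImplicit false
set_option linter.unusedSectionVars false

namespace Cfsg.Agent.Lib.Helper3.SzSub2

open Matrix Cfsg.Agent.Lib.Helper3.Sz1 Cfsg.Agent.Lib.Helper3.Sz2 Cfsg.Agent.Lib.Helper3.Sz3
  Cfsg.Agent.Lib.Helper3.Sz4 Cfsg.Agent.Lib.Helper3.Sz5 Cfsg.Agent.Lib.Helper3.Sz6
  Cfsg.Agent.Lib.Helper3.Sz7 Cfsg.Agent.Lib.Helper3.Sz9 Cfsg.Agent.Lib.Helper3.Sz10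
  Cfsg.Agent.Lib.Helper3.Sz11 Cfsg.Agent.Lib.Helper3.Sz15 Cfsg.Agent.Lib.Helper3.SzR
  Cfsg.Agent.Lib.Helper3.SzFix1 Cfsg.Agent.Lib.Helper3.SzFix2

/-! ### generalities -/

theorem mem_conj {G : Type*} [Group G] (S : Subgroup G) (g y : G) :
    y ∈ S.map (MulAut.conj g).toMonoidHom ↔ g⁻¹ * y * g ∈ S := by
  constructor
  · rintro ⟨x, hx, rfl⟩
    have e : g⁻¹ * ((MulAut.conj g).toMonoidHom x) * g = x := by
      show g⁻¹ * (g * x * g⁻¹) * g = x
      group
    rw [e]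
    exact hx
  · intro h
    refine ⟨g⁻¹ * y * g, h, ?_⟩
    show g * (g⁻¹ * y * g) * g⁻¹ = y
    group

/-- the abstract data of a subgroup "of Suzuki type over a field with `q0` elements". -/
structure Dat {G : Type*} [Group G] (q0 : ℕ) (S Q : Subgroup G) (c w : G) : Prop where
  card : Nat.card S = q0 ^ 2 * (q0 ^ 2 + 1) * (q0 - 1)
  QS : Q ≤ S
  cardQ : Nat.card Q = q0 ^ 2
  sq : ∃ t, t ∈ Q ∧ t * t ≠ 1
  cS : c ∈ S
  ord : orderOf c = q0 - 1
  norm : ∀ x, x ∈ Q → c * x * c⁻¹ ∈ Q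
  wS : w ∈ S
  w2 : w * w = 1
  wc : w * c * w⁻¹ = c⁻¹

theorem Dat.conj {G : Type*} [Group G] {q0 : ℕ} {S Q : Subgroup G} {c w : G}
    (h : Dat q0 S Q c w) (g : G) :
    Dat q0 (S.map (MulAut.conj g).toMonoidHom) (Q.map (MulAut.conj g).toMonoidHom)
      (g * c * g⁻¹) (g * w * g⁻¹) := by
  have hinj : Function.Injective (MulAut.conj g).toMonoidHom := (MulAut.conj g).injective
  refine ⟨?_, Subgroup.map_mono h.QS, ?_, ?_, ?_, ?_, ?_, ?_, ?_, ?_⟩
  · rw [Subgroup.card_map_of_injective hinj, h.card]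
  · rw [Subgroup.card_map_of_injective hinj, h.cardQ]
  · obtain ⟨t, ht, ht2⟩ := h.sq
    refine ⟨g * t * g⁻¹, ⟨t, ht, rfl⟩, ?_⟩
    intro e
    apply ht2
    have e2 : t * t = g⁻¹ * (g * t * g⁻¹ * (g * t * g⁻¹)) * g := by group
    rw [e2, e]
    group
  · exact ⟨c, h.cS, rfl⟩
  · have := orderOf_injective (MulAut.conj g).toMonoidHom hinj c
    rw [← h.ord, ← this]
    rfl
  · rintro _ ⟨x, hx, rfl⟩
    refine ⟨c * x * c⁻¹, h.norm x hx, ?_⟩
    show g * (c * x * c⁻¹) * g⁻¹ = g * c * g⁻¹ * (g * x * g⁻¹) * (g * c * g⁻¹)⁻¹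
    group
  · exact ⟨w, h.wS, rfl⟩
  · calc g * w * g⁻¹ * (g * w * g⁻¹) = g * (w * w) * g⁻¹ := by group
      _ = 1 := by rw [h.w2]; group
  · calc g * w * g⁻¹ * (g * c * g⁻¹) * (g * w * g⁻¹)⁻¹ = g * (w * c * w⁻¹) * g⁻¹ := by group
      _ = (g * c * g⁻¹)⁻¹ := by rw [h.wc]; group

theorem pow_norm {G : Type*} [Group G] {Q : Subgroup G} {c : G}
    (h : ∀ x, x ∈ Q → c * x * c⁻¹ ∈ Q) (i : ℕ) : ∀ x, x ∈ Q → c ^ i * x * (c ^ i)⁻¹ ∈ Q := by
  induction i with
  | zero =>
    intro x hx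
    rw [pow_zero, one_mul, inv_one, mul_one]
    exact hx
  | succ i ih =>
    intro x hx
    have e : c ^ (i + 1) * x * (c ^ (i + 1))⁻¹ = c * (c ^ i * x * (c ^ i)⁻¹) * c⁻¹ := by
      rw [pow_succ']
      group
    rw [e]
    exact h _ (ih x hx)

/-! ### the small field inside the large one -/

variable {F : Type*} [Field F] [Fintype F] {m : ℕ} {K : Type*} [Field K] [Fintype K] {k : ℕ}

theorem pow_s_inj {s : ℕ} (hs : Hyp F s) {x y : F} (h : x ^ s = y ^ s) : x = y := by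
  have h1 : x ^ 2 = y ^ 2 := by rw [← hs.sq x, ← hs.sq y, h]
  have h2 : (x - y) ^ 2 = 0 := by linear_combination h1 + (y ^ 2 - x * y) * hs.two
  have h3 := pow_eq_zero_iff (two_ne_zero) |>.mp h2
  linear_combination h3

/-- roots of `X^q0 - X` lie in the small field. -/
theorem mem_range_of_pow (hK : Fintype.card K = 2 ^ (2 * k + 1)) (ι : K →+* F) (x : F)
    (hx : x ^ (2 ^ (2 * k + 1)) = x) : ∃ y : K, ι y = x := by
  classical
  have h1 : 1 < 2 ^ (2 * k + 1) := Nat.one_lt_two_pow (by omega)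
  have hp0 := FiniteField.X_pow_card_sub_X_ne_zero F h1
  have hdeg := FiniteField.X_pow_card_sub_X_natDegree_eq F h1
  set p : Polynomial F := Polynomial.X ^ (2 ^ (2 * k + 1)) - Polynomial.X with hp
  have hsub : (Finset.univ.image ι : Finset F) ⊆ p.roots.toFinset := by
    intro z hz
    obtain ⟨y, _, rfl⟩ := Finset.mem_image.mp hz
    rw [Multiset.mem_toFinset, Polynomial.mem_roots hp0, Polynomial.IsRoot.def, hp]
    simp only [Polynomial.eval_sub, Polynomial.eval_pow, Polynomial.eval_X]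
    rw [← map_pow, ← hK, FiniteField.pow_card, sub_self]
  have hcard : p.roots.toFinset.card ≤ (Finset.univ.image ι : Finset F).card := by
    rw [Finset.card_image_of_injective _ ι.injective, Finset.card_univ, hK]
    calc p.roots.toFinset.card ≤ p.roots.card := Multiset.toFinset_card_le _
      _ ≤ p.natDegree := Polynomial.card_roots' p
      _ = 2 ^ (2 * k + 1) := hdeg
  have heq := Finset.eq_of_subset_of_card_le hsub hcard
  have hxr : x ∈ p.roots.toFinset := by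
    rw [Multiset.mem_toFinset, Polynomial.mem_roots hp0, Polynomial.IsRoot.def, hp]
    simp only [Polynomial.eval_sub, Polynomial.eval_pow, Polynomial.eval_X]
    rw [hx, sub_self]
  rw [← heq] at hxr
  obtain ⟨y, _, hy⟩ := Finset.mem_image.mp hxr
  exact ⟨y, hy⟩

/-- an element of order `q0 - 1` generates the image of the units of the small field. -/
theorem units_range (hk : 1 ≤ k) (hK : Fintype.card K = 2 ^ (2 * k + 1)) (ι : K →+* F) (κ0 : Fˣ)
    (hord : orderOf κ0 = 2 ^ (2 * k + 1) - 1) (κ : Kˣ) :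
    ∃ i : ℕ, Units.map (ι : K →* F) κ = κ0 ^ i := by
  classical
  have h1 : 1 ≤ 2 ^ (2 * k + 1) := Nat.one_le_two_pow
  have hpow : (κ0 : F) ^ (2 ^ (2 * k + 1)) = (κ0 : F) := by
    have h2 : κ0 ^ (2 ^ (2 * k + 1) - 1) = 1 := by
      rw [← hord]
      exact pow_orderOf_eq_one κ0
    have h3 : ((κ0 ^ (2 ^ (2 * k + 1) - 1) : Fˣ) : F) = 1 := by rw [h2]; rfl
    rw [Units.val_pow_eq_pow_val] at h3
    calc (κ0 : F) ^ (2 ^ (2 * k + 1)) = (κ0 : F) ^ (2 ^ (2 * k + 1) - 1) * (κ0 : F) := by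
          rw [← pow_succ]
          congr 1
          omega
      _ = (κ0 : F) := by rw [h3, one_mul]
  obtain ⟨y, hy⟩ := mem_range_of_pow hK ι (κ0 : F) hpow
  have hy0 : y ≠ 0 := by
    rintro rfl
    rw [map_zero] at hy
    exact κ0.ne_zero hy.symm
  have hinj : Function.Injective (Units.map (ι : K →* F)) :=
    Units.map_injective (f := (ι : K →* F)) ι.injective
  have hκ' : Units.map (ι : K →* F) (Units.mk0 y hy0) = κ0 := by
    apply Units.ext
    rw [Units.coe_map]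
    exact hy
  have hord' : orderOf (Units.mk0 y hy0) = Nat.card Kˣ := by
    rw [← orderOf_injective _ hinj, hκ', hord, Nat.card_units, Nat.card_eq_fintype_card, hK]
  have htop : Subgroup.zpowers (Units.mk0 y hy0) = ⊤ := by
    apply Subgroup.eq_top_of_card_eq
    rw [Nat.card_zpowers, hord']
  have hmem : κ ∈ Subgroup.zpowers (Units.mk0 y hy0) := by
    rw [htop]
    exact Subgroup.mem_top κ
  obtain ⟨i, hi⟩ := mem_powers_iff_mem_zpowers.mpr hmem
  refine ⟨i, ?_⟩
  have hi' : Units.mk0 y hy0 ^ i = κ := hi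
  rw [← hκ', ← map_pow, hi']

/-- `x ↦ x^s` is onto on the small field. -/
theorem pow_s_surjK {s : ℕ} (hs : Hyp F s) (ι : K →+* F) (y : K) : ∃ y' : K, y' ^ s = y := by
  have hinj : Function.Injective (fun z : K => z ^ s) := by
    intro z z' h
    have h' : z ^ s = z' ^ s := h
    apply ι.injective
    apply pow_s_inj hs
    rw [← map_pow, ← map_pow, h']
  exact (Finite.injective_iff_surjective.mp hinj) y

/-- `x ↦ x^(s+1)` is onto on the small field. -/
theorem pow_s1_surjK {s : ℕ} (hs : Hyp F s) (ι : K →+* F) (y : K) :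
    ∃ y' : K, y' ^ (s + 1) = y := by
  have hinj : Function.Injective (fun z : K => z ^ (s + 1)) := by
    intro z z' h
    have h' : z ^ (s + 1) = z' ^ (s + 1) := h
    by_cases hz' : z' = 0
    · rw [hz', zero_pow (by omega)] at h'
      rw [hz']
      exact (pow_eq_zero_iff (by omega)).mp h'
    · have h1 : (z / z') ^ (s + 1) = 1 := by
        rw [div_pow, h', div_self (pow_ne_zero _ hz')]
      have h2 : ι (z / z') ^ (s + 1) = 1 := by rw [← map_pow, h1, map_one]
      have h3 := Cfsg.Agent.Lib.Helper3.Sz13.pow_s1_eq_one hs h2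
      have h4 : z / z' = 1 := by
        apply ι.injective
        rw [h3, map_one]
      exact (div_eq_one_iff_eq hz').mp h4
  exact (Finite.injective_iff_surjective.mp hinj) y

end Cfsg.Agent.Lib.Helper3.SzSub2
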