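import Mathlib
import Cfsg.Prelude.Def_LieExceptional
import Cfsg.Agent.Lib.Helper3.SzSub2

set_option autoImplicit false
set_option linter.unusedSectionVars false

namespace Cfsg.Agent.Lib.Helper3.SzSub3

open Matrix Cfsg.Agent.Lib.Helper3.Sz1 Cfsg.Agent.Lib.Helper3.Sz2 Cfsg.Agent.Lib.Helper3.Sz3
  Cfsg.Agent.Lib.Helper3.Sz4 Cfsg.Agent.Lib.Helper3.Sz5 Cfsg.Agent.Lib.Helper3.Sz6
  Cfsg.Agent.Lib.Helper3.Sz7 Cfsg.Agent.Lib.Helper3.Sz9 Cfsg.Agent.Lib.Helper3.Sz10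
  Cfsg.Agent.Lib.Helper3.Sz11 Cfsg.Agent.Lib.Helper3.Sz15 Cfsg.Agent.Lib.Helper3.SzR
  Cfsg.Agent.Lib.Helper3.SzFix1 Cfsg.Agent.Lib.Helper3.SzFix2 Cfsg.Agent.Lib.Helper3.SzSub2

variable {F : Type*} [Field F] [Fintype F] {m : ℕ} {K : Type*} [Field K] [Fintype K] {k : ℕ}

/-- Step 1: the Sylow 2-subgroup can be conjugated into `U`. -/
theorem step1 (hm : 1 ≤ m) (hF : Fintype.card F = 2 ^ (2 * m + 1))
    {S Q : Subgroup ↥(Cfsg.Sz F m)} {c w : ↥(Cfsg.Sz F m)}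
    (hD : Dat (2 ^ (2 * k + 1)) S Q c w) :
    ∃ γ : ↥(Cfsg.Sz F m), Q.map (MulAut.conj γ).toMonoidHom ≤ U hm hF := by
  classical
  have hfin : Finite (Matrix.SpecialLinearGroup (Fin 4) F) := finite_SL
  have hp2 : Fact (Nat.Prime 2) := ⟨Nat.prime_two⟩
  have hpg : IsPGroup 2 Q :=
    IsPGroup.of_card (n := (2 * k + 1) * 2) (by rw [hD.cardQ, ← pow_mul])
  obtain ⟨P, hP⟩ := hpg.exists_le_sylow
  obtain ⟨γ, hγ⟩ := sylow_conj hm hF P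
  refine ⟨γ⁻¹, ?_⟩
  intro y hy
  rw [mem_conj] at hy
  have h1 := (hγ _).mp (hP hy)
  have e : γ⁻¹ * (γ⁻¹⁻¹ * y * γ⁻¹) * γ = y := by group
  rw [e] at h1
  exact h1

/-- Step 2: the torus can be conjugated into the diagonal torus by an element of `U`. -/
theorem step2 (hm : 1 ≤ m) (hF : Fintype.card F = 2 ^ (2 * m + 1)) (hk : 1 ≤ k)
    {S Q : Subgroup ↥(Cfsg.Sz F m)} {c w : ↥(Cfsg.Sz F m)}
    (hD : Dat (2 ^ (2 * k + 1)) S Q c w) (hQU : Q ≤ U hm hF) :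
    ∃ (g : ↥(Cfsg.Sz F m)) (κ0 : Fˣ), g ∈ U hm hF ∧ g * c * g⁻¹ = DHom hm hF κ0 := by
  have hs := hyp_of_card hm hF
  obtain ⟨t, htQ, ht2⟩ := hD.sq
  obtain ⟨a, b, rfl⟩ := hQU htQ
  have hab : ¬ (a = 0 ∧ b = 0) := by
    rintro ⟨rfl, rfl⟩
    apply ht2
    rw [u_zero, mul_one]
  obtain ⟨a', b', hab'⟩ := hQU (hD.norm _ htQ)
  have hab2 : ¬ (a' = 0 ∧ b' = 0) := by
    rintro ⟨rfl, rfl⟩
    rw [u_zero] at hab'
    have h1 : u hm hF a b = 1 := by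
      have e : u hm hF a b = c⁻¹ * (c * u hm hF a b * c⁻¹) * c := by group
      rw [e, hab']
      group
    rw [← u_zero hm hF] at h1
    exact hab (u_inj hm hF h1)
  have hcinf : c.1 • Cfsg.suzukiPointInfinity F = Cfsg.suzukiPointInfinity F := by
    apply T_fix hm hF hab2 (smul_mem_ovoid c.2 (pInf_mem m))
    have e : T (2 ^ (m + 1)) a' b' = c.1 * T (2 ^ (m + 1)) a b * c.1⁻¹ := by
      have := congrArg Subtype.val hab'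
      exact this.symm
    rw [e, mul_smul, mul_smul, inv_smul_smul, T_pInf]
  obtain ⟨a1, b1, κ, hκ⟩ := stab_one hm hF c.2 hcinf
  have h8 : 2 ^ 3 ≤ 2 ^ (2 * k + 1) := Nat.pow_le_pow_right (by norm_num) (by omega)
  have hκ1 : κ ≠ 1 := by
    rintro rfl
    rw [D_one, mul_one] at hκ
    have h4 : c ^ 4 = 1 := by
      apply Subtype.ext
      show c.1 ^ 4 = 1
      rw [hκ, T_pow4 hm hF]
    have hd : orderOf c ∣ 4 := orderOf_dvd_of_pow_eq_one h4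
    have hle := Nat.le_of_dvd (by norm_num) hd
    rw [hD.ord] at hle
    omega
  have hκs : (κ : F) ^ (2 ^ (m + 1)) ≠ 1 := fun h => hκ1 (Units.ext (pow_s_eq_one hs h))
  have hκs2 : (κ : F) ^ (2 ^ (m + 1) + 2) ≠ 1 := fun h => hκ1 (Units.ext (pow_s2_eq_one hs h))
  have hd1 : (1 : F) + (κ : F) ^ (2 ^ (m + 1)) ≠ 0 := by
    intro h
    apply hκs
    linear_combination h - hs.two
  have hd2 : (1 : F) + (κ : F) ^ (2 ^ (m + 1) + 2) ≠ 0 := by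
    intro h
    apply hκs2
    linear_combination h - hs.two
  obtain ⟨x0, hx0d⟩ : ∃ x0 : F, x0 * (1 + (κ : F) ^ (2 ^ (m + 1))) = a1 :=
    ⟨a1 / (1 + (κ : F) ^ (2 ^ (m + 1))), div_mul_cancel₀ _ hd1⟩
  obtain ⟨y0, hy0d⟩ : ∃ y0 : F, y0 * (1 + (κ : F) ^ (2 ^ (m + 1) + 2)) =
      b1 + a1 ^ (2 ^ (m + 1)) * ((κ : F) ^ (2 ^ (m + 1)) * x0) :=
    ⟨(b1 + a1 ^ (2 ^ (m + 1)) * ((κ : F) ^ (2 ^ (m + 1)) * x0)) /
      (1 + (κ : F) ^ (2 ^ (m + 1) + 2)), div_mul_cancel₀ _ hd2⟩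
  have hx0 : (κ : F) ^ (2 ^ (m + 1)) * x0 + a1 = x0 := by
    linear_combination (-1 : F) * hx0d + ((κ : F) ^ (2 ^ (m + 1)) * x0) * hs.two
  have hy0 : (κ : F) ^ (2 ^ (m + 1) + 2) * y0 + b1 +
      a1 ^ (2 ^ (m + 1)) * ((κ : F) ^ (2 ^ (m + 1)) * x0) = y0 := by
    linear_combination (-1 : F) * hy0d + ((κ : F) ^ (2 ^ (m + 1) + 2) * y0) * hs.two
  have hfix : c.1 • pt (2 ^ (m + 1)) x0 y0 = pt (2 ^ (m + 1)) x0 y0 := by
    rw [hκ, mul_smul, D_pt hs, T_pt hs, hx0, hy0]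
  refine ⟨(u hm hF x0 y0)⁻¹, ?_⟩
  have h1 : ((u hm hF x0 y0)⁻¹ * c * (u hm hF x0 y0)⁻¹⁻¹).1 • Cfsg.suzukiPointInfinity F =
      Cfsg.suzukiPointInfinity F := by
    show ((T (2 ^ (m + 1)) x0 y0)⁻¹ * c.1 * (T (2 ^ (m + 1)) x0 y0)⁻¹⁻¹) • _ = _
    rw [inv_inv, mul_smul, mul_smul, T_pInf, hcinf, inv_smul_eq_iff, T_pInf]
  have h2 : ((u hm hF x0 y0)⁻¹ * c * (u hm hF x0 y0)⁻¹⁻¹).1 • Cfsg.suzukiPointZero F =
      Cfsg.suzukiPointZero F := by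
    show ((T (2 ^ (m + 1)) x0 y0)⁻¹ * c.1 * (T (2 ^ (m + 1)) x0 y0)⁻¹⁻¹) • _ = _
    rw [inv_inv, mul_smul, mul_smul, T_pZero hs, hfix, inv_smul_eq_iff, T_pZero hs]
  obtain ⟨κ', hκ'⟩ := stab_two hm hF ((u hm hF x0 y0)⁻¹ * c * (u hm hF x0 y0)⁻¹⁻¹).2 h1 h2
  exact ⟨κ', (U hm hF).inv_mem ⟨x0, y0, rfl⟩, Subtype.ext hκ'⟩

/-- Step 3a: normalise an element of order 4 of `Q` to `u(1, c1)`. -/
theorem step3a (hm : 1 ≤ m) (hF : Fintype.card F = 2 ^ (2 * m + 1))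
    {S Q : Subgroup ↥(Cfsg.Sz F m)} {c w : ↥(Cfsg.Sz F m)}
    (hD : Dat (2 ^ (2 * k + 1)) S Q c w) (hQU : Q ≤ U hm hF) :
    ∃ (ν : Fˣ) (c1 : F),
      u hm hF 1 c1 ∈ Q.map (MulAut.conj (DHom hm hF ν)).toMonoidHom := by
  have hs := hyp_of_card hm hF
  obtain ⟨t, htQ, ht2⟩ := hD.sq
  obtain ⟨μ, b0, rfl⟩ := hQU htQ
  have hμ : μ ≠ 0 := by
    rintro rfl
    exact ht2 (u0_sq hm hF b0)
  obtain ⟨ν, hν⟩ := pow_s_surj hm hF μ⁻¹ (inv_ne_zero hμ)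
  refine ⟨ν, (ν : F) ^ (2 ^ (m + 1) + 2) * b0, ?_⟩
  refine ⟨u hm hF μ b0, htQ, ?_⟩
  show DHom hm hF ν * u hm hF μ b0 * (DHom hm hF ν)⁻¹ = _
  rw [D_u, hν, inv_mul_cancel₀ hμ]

/-- Step 3b: `Q` is the standard unipotent subgroup over the small field. -/
theorem step3b (hm : 1 ≤ m) (hF : Fintype.card F = 2 ^ (2 * m + 1)) (hk : 1 ≤ k)
    (hK : Fintype.card K = 2 ^ (2 * k + 1)) (ι : K →+* F)
    {S Q : Subgroup ↥(Cfsg.Sz F m)} {c w : ↥(Cfsg.Sz F m)}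
    (hD : Dat (2 ^ (2 * k + 1)) S Q c w) (hQU : Q ≤ U hm hF) (κ0 : Fˣ)
    (hc : c = DHom hm hF κ0) (c1 : F) (h1 : u hm hF 1 c1 ∈ Q) :
    ∀ x, x ∈ Q ↔ ∃ a b : K, x = u hm hF (ι a) (ι b) := by
  classical
  have hs := hyp_of_card hm hF
  have hspos : 2 ^ (m + 1) ≠ 0 := by positivity
  have hordκ : orderOf κ0 = 2 ^ (2 * k + 1) - 1 := by
    rw [← hD.ord, hc]
    exact (orderOf_injective (DHom hm hF) (fun _ _ h => DHom_inj hm hF h) κ0).symm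
  have hnorm : ∀ κ : Kˣ, ∀ x, x ∈ Q → DHom hm hF (Units.map (ι : K →* F) κ) * x *
      (DHom hm hF (Units.map (ι : K →* F) κ))⁻¹ ∈ Q := by
    intro κ x hx
    obtain ⟨i, hi⟩ := units_range hk hK ι κ0 hordκ κ
    rw [hi, map_pow, ← hc]
    exact pow_norm hD.norm i x hx
  -- (a)
  have ha : ∀ τ : K, τ ≠ 0 → u hm hF (ι τ) (ι τ ^ (2 ^ (m + 1) + 1) * c1) ∈ Q := by
    intro τ hτ
    obtain ⟨κ, hκ⟩ := pow_s_surjK hs ι τ
    have hκ0 : κ ≠ 0 := by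
      rintro rfl
      rw [zero_pow hspos] at hκ
      exact hτ hκ.symm
    have h2 := hnorm (Units.mk0 κ hκ0) _ h1
    rw [D_u] at h2
    have e0 : ((Units.map (ι : K →* F) (Units.mk0 κ hκ0) : Fˣ) : F) = ι κ := rfl
    rw [e0] at h2
    have e1 : ι κ ^ (2 ^ (m + 1)) = ι τ := by rw [← map_pow, hκ]
    have e2 : ι κ ^ (2 ^ (m + 1) + 2) = ι τ ^ (2 ^ (m + 1) + 1) := by
      calc ι κ ^ (2 ^ (m + 1) + 2) = ι κ ^ (2 ^ (m + 1)) * ι κ ^ 2 := pow_add _ _ _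
        _ = ι τ * (ι κ ^ (2 ^ (m + 1))) ^ (2 ^ (m + 1)) := by rw [hs.sq, e1]
        _ = ι τ * ι τ ^ (2 ^ (m + 1)) := by rw [e1]
        _ = ι τ ^ (2 ^ (m + 1) + 1) := by rw [pow_succ (ι τ) (2 ^ (m + 1)), mul_comm]
    rw [e1, e2, mul_one] at h2
    exact h2
  -- (b)
  have hb : ∀ z : K, u hm hF 0 (ι z) ∈ Q := by
    intro z
    by_cases hz : z = 0
    · rw [hz, map_zero, u_zero]
      exact one_mem Q
    · obtain ⟨τ, hτ⟩ := pow_s1_surjK hs ι z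
      have hτ0 : τ ≠ 0 := by
        rintro rfl
        rw [zero_pow (by omega)] at hτ
        exact hz hτ.symm
      have h2 := Q.mul_mem (ha τ hτ0) (ha τ hτ0)
      rw [u_sq'] at h2
      have e : ι τ ^ (2 ^ (m + 1)) * ι τ = ι z := by
        rw [← pow_succ (ι τ) (2 ^ (m + 1)), ← map_pow, hτ]
      rw [e] at h2
      exact h2
  -- (c)
  have hc' : ∀ τ z : K, u hm hF (ι τ) (ι τ ^ (2 ^ (m + 1) + 1) * c1 + ι z) ∈ Q := by
    intro τ z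
    by_cases hτ : τ = 0
    · rw [hτ, map_zero, zero_pow (by omega), zero_mul, zero_add]
      exact hb z
    · have h2 := Q.mul_mem (hb z) (ha τ hτ)
      rw [u_mul, add_zero, zero_pow hspos, zero_mul, add_zero] at h2
      exact h2
  have hinj : Function.Injective (fun p : K × K =>
      (⟨u hm hF (ι p.1) (ι p.1 ^ (2 ^ (m + 1) + 1) * c1 + ι p.2), hc' p.1 p.2⟩ : Q)) := by
    intro p p' h
    have h' := congrArg Subtype.val h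
    obtain ⟨e1, e2⟩ := u_inj hm hF h'
    have e1' := ι.injective e1
    rw [e1'] at e2
    have e2' := ι.injective (add_left_cancel e2)
    exact Prod.ext e1' e2'
  have hbij := hinj.bijective_of_nat_card_le (by
    rw [hD.cardQ, Nat.card_prod, Nat.card_eq_fintype_card, hK, sq])
  have hQform : ∀ x, x ∈ Q →
      ∃ τ z : K, x = u hm hF (ι τ) (ι τ ^ (2 ^ (m + 1) + 1) * c1 + ι z) := by
    intro x hx
    obtain ⟨p, hp⟩ := hbij.2 ⟨x, hx⟩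
    exact ⟨p.1, p.2, (congrArg Subtype.val hp).symm⟩
  -- (d)
  obtain ⟨τ, hτ0, hτ1⟩ := exists_ne_zero_one (F := K) hk hK
  have hx := Q.mul_mem (ha τ hτ0) h1
  rw [u_mul] at hx
  obtain ⟨τ', z, hτz⟩ := hQform _ hx
  obtain ⟨e1, e2⟩ := u_inj hm hF hτz
  have hne : ι τ + ι τ ^ (2 ^ (m + 1)) ≠ 0 := by
    intro h
    have h3 : ι τ ^ (2 ^ (m + 1)) = ι τ := by linear_combination h - ι τ * hs.two
    have h4 : ι τ ^ 2 = ι τ := by rw [← hs.sq, h3, h3]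
    have h5 : ι τ * (ι τ - 1) = 0 := by linear_combination h4
    rcases mul_eq_zero.mp h5 with h6 | h6
    · exact hτ0 (ι.injective (by rw [h6, map_zero]))
    · exact hτ1 (ι.injective (by rw [map_one]; linear_combination h6))
  have hc1 : c1 = ι ((τ ^ (2 ^ (m + 1)) + z) / (τ + τ ^ (2 ^ (m + 1)))) := by
    rw [map_div₀, map_add, map_add, map_pow, eq_div_iff hne]
    rw [← e1] at e2
    have e3 : (1 + ι τ) ^ (2 ^ (m + 1) + 1) =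
        1 + ι τ + ι τ ^ (2 ^ (m + 1)) + ι τ ^ (2 ^ (m + 1) + 1) := by
      rw [pow_succ (1 + ι τ) (2 ^ (m + 1)), hs.add, one_pow, pow_succ (ι τ) (2 ^ (m + 1))]
      ring
    rw [e3] at e2
    linear_combination (-1 : F) * e2 - ι z * hs.two
  obtain ⟨e, he⟩ : ∃ e : K, c1 = ι e := ⟨_, hc1⟩
  -- (e)
  intro x
  constructor
  · intro hx
    obtain ⟨τ, z, rfl⟩ := hQform x hx
    refine ⟨τ, τ ^ (2 ^ (m + 1) + 1) * e + z, ?_⟩
    rw [map_add, map_mul, map_pow, ← he]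
  · rintro ⟨a, b, rfl⟩
    have h3 := hc' a (b - a ^ (2 ^ (m + 1) + 1) * e)
    have e4 : ι a ^ (2 ^ (m + 1) + 1) * c1 + ι (b - a ^ (2 ^ (m + 1) + 1) * e) = ι b := by
      rw [map_sub, map_mul, map_pow, ← he]
      ring
    rw [e4] at h3
    exact h3

end Cfsg.Agent.Lib.Helper3.SzSub3
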