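import Mathlib
import Cfsg.Prelude.Def_LieExceptional
import Cfsg.Agent.Lib.Helper3.SzSub1
import Cfsg.Agent.Lib.Helper3.SzSub3

set_option autoImplicit false
set_option linter.unusedSectionVars false

namespace Cfsg.Agent.Lib.Helper3.SzSub4

open Matrix Cfsg.Agent.Lib.Helper3.Sz1 Cfsg.Agent.Lib.Helper3.Sz2 Cfsg.Agent.Lib.Helper3.Sz3
  Cfsg.Agent.Lib.Helper3.Sz4 Cfsg.Agent.Lib.Helper3.Sz5 Cfsg.Agent.Lib.Helper3.Sz6
  Cfsg.Agent.Lib.Helper3.Sz7 Cfsg.Agent.Lib.Helper3.Sz9 Cfsg.Agent.Lib.Helper3.Sz10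
  Cfsg.Agent.Lib.Helper3.Sz11 Cfsg.Agent.Lib.Helper3.Sz15 Cfsg.Agent.Lib.Helper3.SzR
  Cfsg.Agent.Lib.Helper3.SzFix1 Cfsg.Agent.Lib.Helper3.SzFix2 Cfsg.Agent.Lib.Helper3.SzSub1
  Cfsg.Agent.Lib.Helper3.SzSub2 Cfsg.Agent.Lib.Helper3.SzSub3

/-- the inversion on the points `(0, y)`. -/
theorem W_pt0 {F : Type*} [Field F] {s : ℕ} (hs : Hyp F s) {y : F} (hy : y ≠ 0) :
    W hs • pt s 0 y = pt s (y / y ^ s) 0 := by
  have hys : y ^ s ≠ 0 := pow_ne_zero _ hy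
  have hpos := hs.pos
  refine smul_mk_eq _ _ _ (y ^ s) ?_
  show Jm *ᵥ vP s 0 y = y ^ s • vP s (y / y ^ s) 0
  rw [Jm_vP]
  funext i
  fin_cases i
  · show (1 : F) = y ^ s * fq s (y / y ^ s) 0
    unfold fq
    have e : (y ^ s) ^ (s + 2) = y ^ 2 * (y ^ s) ^ 2 := by rw [pow_add, hs.sq]
    rw [mul_zero, zero_pow (by omega), add_zero, zero_add, div_pow, e, pow_add]
    field_simp
  · show (0 : F) = y ^ s * 0
    rw [mul_zero]
  · show y = y ^ s * (y / y ^ s)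
    field_simp
  · show fq s 0 y = y ^ s * 1
    unfold fq
    rw [zero_mul, zero_pow (by omega), zero_add, zero_add, mul_one]

variable {F : Type*} [Field F] [Fintype F] {m : ℕ} {K : Type*} [Field K] [Fintype K] {k : ℕ}

/-- the standard subfield subgroup, as a predicate. -/
def StdP (hm : 1 ≤ m) (hF : Fintype.card F = 2 ^ (2 * m + 1)) (ι : K →+* F)
    (x : ↥(Cfsg.Sz F m)) : Prop :=
  (∃ (a b : K) (κ : Kˣ), x = u hm hF (ι a) (ι b) * DHom hm hF (Units.map (ι : K →* F) κ)) ∨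
  (∃ (a b a' b' : K) (κ : Kˣ), x = u hm hF (ι a) (ι b) * wS hm hF * u hm hF (ι a') (ι b') *
    DHom hm hF (Units.map (ι : K →* F) κ))

/-- the Bruhat decomposition of a subgroup of the right order containing the standard Borel
subgroup over the small field and an element mapping `∞` to `0`. -/
theorem big_cell (hm : 1 ≤ m) (hF : Fintype.card F = 2 ^ (2 * m + 1))
    (hK : Fintype.card K = 2 ^ (2 * k + 1)) (ι : K →+* F) (S : Subgroup ↥(Cfsg.Sz F m))
    (hcard : Nat.card S =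
      (2 ^ (2 * k + 1)) ^ 2 * ((2 ^ (2 * k + 1)) ^ 2 + 1) * (2 ^ (2 * k + 1) - 1))
    (hUS : ∀ a b : K, u hm hF (ι a) (ι b) ∈ S)
    (hDS : ∀ κ : Kˣ, DHom hm hF (Units.map (ι : K →* F) κ) ∈ S)
    (w1 : ↥(Cfsg.Sz F m)) (hw1 : w1 ∈ S)
    (hwinf : w1.1 • Cfsg.suzukiPointInfinity F = Cfsg.suzukiPointZero F) :
    ∀ x, x ∈ S →
      (∃ (a b : K) (κ : Kˣ), x = u hm hF (ι a) (ι b) * DHom hm hF (Units.map (ι : K →* F) κ)) ∨
      (∃ (a b a' b' : K) (κ : Kˣ), x = u hm hF (ι a) (ι b) * w1 * u hm hF (ι a') (ι b') *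
        DHom hm hF (Units.map (ι : K →* F) κ)) := by
  classical
  have hs := hyp_of_card hm hF
  have hB : ∀ (a b : F) (κ : Fˣ), (u hm hF a b * DHom hm hF κ).1 • Cfsg.suzukiPointInfinity F =
      Cfsg.suzukiPointInfinity F := by
    intro a b κ
    show (T (2 ^ (m + 1)) a b * D (2 ^ (m + 1)) κ) • _ = _
    rw [mul_smul, D_pInf, T_pInf]
  have hC : ∀ (a b a' b' : F) (κ : Fˣ),
      (u hm hF a b * w1 * u hm hF a' b' * DHom hm hF κ).1 • Cfsg.suzukiPointInfinity F =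
      pt (2 ^ (m + 1)) a b := by
    intro a b a' b' κ
    show (T (2 ^ (m + 1)) a b * w1.1 * T (2 ^ (m + 1)) a' b' * D (2 ^ (m + 1)) κ) • _ = _
    rw [mul_smul, mul_smul, mul_smul, D_pInf, T_pInf, hwinf, T_pZero hs]
  have hinjU : Function.Injective (Units.map (ι : K →* F)) :=
    Units.map_injective (f := (ι : K →* F)) ι.injective
  have hTD : ∀ (a b a' b' : K) (κ κ' : Kˣ),
      u hm hF (ι a) (ι b) * DHom hm hF (Units.map (ι : K →* F) κ) =
        u hm hF (ι a') (ι b') * DHom hm hF (Units.map (ι : K →* F) κ') →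
      a = a' ∧ b = b' ∧ κ = κ' := by
    intro a b a' b' κ κ' h
    have h' : T (2 ^ (m + 1)) (ι a) (ι b) * D (2 ^ (m + 1)) (Units.map (ι : K →* F) κ) =
        T (2 ^ (m + 1)) (ι a') (ι b') * D (2 ^ (m + 1)) (Units.map (ι : K →* F) κ') :=
      congrArg Subtype.val h
    obtain ⟨h1, h2, h3⟩ := TD_inj h'
    exact ⟨ι.injective h1, ι.injective h2, hinjU h3⟩
  let f : (K × K × Kˣ) ⊕ (K × K × K × K × Kˣ) → S :=
    Sum.elim
      (fun p => ⟨u hm hF (ι p.1) (ι p.2.1) * DHom hm hF (Units.map (ι : K →* F) p.2.2),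
        S.mul_mem (hUS _ _) (hDS _)⟩)
      (fun p => ⟨u hm hF (ι p.1) (ι p.2.1) * w1 * u hm hF (ι p.2.2.1) (ι p.2.2.2.1) *
          DHom hm hF (Units.map (ι : K →* F) p.2.2.2.2),
        S.mul_mem (S.mul_mem (S.mul_mem (hUS _ _) hw1) (hUS _ _)) (hDS _)⟩)
  have hinj : Function.Injective f := by
    rintro (⟨a, b, κ⟩ | ⟨a, b, a', b', κ⟩) (⟨a2, b2, κ2⟩ | ⟨a2, b2, a2', b2', κ2⟩) h
    · have h' : u hm hF (ι a) (ι b) * DHom hm hF (Units.map (ι : K →* F) κ) =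
          u hm hF (ι a2) (ι b2) * DHom hm hF (Units.map (ι : K →* F) κ2) :=
        congrArg Subtype.val h
      obtain ⟨h1, h2, h3⟩ := hTD _ _ _ _ _ _ h'
      rw [h1, h2, h3]
    · exfalso
      have h' : u hm hF (ι a) (ι b) * DHom hm hF (Units.map (ι : K →* F) κ) =
          u hm hF (ι a2) (ι b2) * w1 * u hm hF (ι a2') (ι b2') *
            DHom hm hF (Units.map (ι : K →* F) κ2) :=
        congrArg Subtype.val h
      have h1 := hB (ι a) (ι b) (Units.map (ι : K →* F) κ)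
      rw [h', hC] at h1
      exact pt_ne_inf _ _ _ h1
    · exfalso
      have h' : u hm hF (ι a) (ι b) * w1 * u hm hF (ι a') (ι b') *
            DHom hm hF (Units.map (ι : K →* F) κ) =
          u hm hF (ι a2) (ι b2) * DHom hm hF (Units.map (ι : K →* F) κ2) :=
        congrArg Subtype.val h
      have h1 := hB (ι a2) (ι b2) (Units.map (ι : K →* F) κ2)
      rw [← h', hC] at h1
      exact pt_ne_inf _ _ _ h1
    · have h' : u hm hF (ι a) (ι b) * w1 * u hm hF (ι a') (ι b') *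
            DHom hm hF (Units.map (ι : K →* F) κ) =
          u hm hF (ι a2) (ι b2) * w1 * u hm hF (ι a2') (ι b2') *
            DHom hm hF (Units.map (ι : K →* F) κ2) :=
        congrArg Subtype.val h
      have h1 := hC (ι a) (ι b) (ι a') (ι b') (Units.map (ι : K →* F) κ)
      rw [h', hC] at h1
      obtain ⟨e1, e2⟩ := pt_inj h1
      have e1' := ι.injective e1
      have e2' := ι.injective e2
      rw [e1', e2'] at h'
      have h2 : u hm hF (ι a) (ι b) * w1 * (u hm hF (ι a') (ι b') *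
            DHom hm hF (Units.map (ι : K →* F) κ)) =
          u hm hF (ι a) (ι b) * w1 * (u hm hF (ι a2') (ι b2') *
            DHom hm hF (Units.map (ι : K →* F) κ2)) := by
        rw [← mul_assoc, ← mul_assoc]
        exact h'
      obtain ⟨h3, h4, h5⟩ := hTD _ _ _ _ _ _ (mul_left_cancel h2)
      rw [e1', e2', h3, h4, h5]
  have hcardle : Nat.card S ≤ Nat.card ((K × K × Kˣ) ⊕ (K × K × K × K × Kˣ)) := by
    rw [hcard, Nat.card_sum, Nat.card_prod, Nat.card_prod, Nat.card_prod, Nat.card_prod,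
      Nat.card_prod, Nat.card_prod, Nat.card_units, Nat.card_eq_fintype_card, hK]
    apply le_of_eq
    ring
  have hbij := hinj.bijective_of_nat_card_le hcardle
  intro x hx
  obtain ⟨p, hp⟩ := hbij.2 ⟨x, hx⟩
  have hp' : (f p).1 = x := congrArg Subtype.val hp
  rcases p with ⟨a, b, κ⟩ | ⟨a, b, a', b', κ⟩
  · left
    exact ⟨a, b, κ, hp'.symm⟩
  · right
    exact ⟨a, b, a', b', κ, hp'.symm⟩

/-- Step 4: once the Sylow 2-subgroup and the torus are standard, so is the subgroup. -/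
theorem step4 (hm : 1 ≤ m) (hF : Fintype.card F = 2 ^ (2 * m + 1)) (hk : 1 ≤ k)
    (hK : Fintype.card K = 2 ^ (2 * k + 1)) (ι : K →+* F)
    {S Q : Subgroup ↥(Cfsg.Sz F m)} {c w : ↥(Cfsg.Sz F m)}
    (hD : Dat (2 ^ (2 * k + 1)) S Q c w)
    (hQ : ∀ x, x ∈ Q ↔ ∃ a b : K, x = u hm hF (ι a) (ι b)) (κ0 : Fˣ)
    (hc : c = DHom hm hF κ0) :
    ∀ x, x ∈ S ↔ StdP hm hF ι x := by
  have hs := hyp_of_card hm hF
  have hspos : 2 ^ (m + 1) ≠ 0 := by positivity
  have h8 : 2 ^ 3 ≤ 2 ^ (2 * k + 1) := Nat.pow_le_pow_right (by norm_num) (by omega)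
  have hordκ : orderOf κ0 = 2 ^ (2 * k + 1) - 1 := by
    rw [← hD.ord, hc]
    exact (orderOf_injective (DHom hm hF) (fun _ _ h => DHom_inj hm hF h) κ0).symm
  have hκ01 : κ0 ≠ 1 := by
    rintro rfl
    rw [orderOf_one] at hordκ
    omega
  have hDS : ∀ κ : Kˣ, DHom hm hF (Units.map (ι : K →* F) κ) ∈ S := by
    intro κ
    obtain ⟨i, hi⟩ := units_range hk hK ι κ0 hordκ κ
    rw [hi, map_pow, ← hc]
    exact S.pow_mem hD.cS i
  have hUS : ∀ a b : K, u hm hF (ι a) (ι b) ∈ S := fun a b => hD.QS ((hQ _).mpr ⟨a, b, rfl⟩)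
  -- the fixed points of `c`
  have hcfix : ∀ p ∈ Cfsg.suzukiOvoid F m, c.1 • p = p →
      p = Cfsg.suzukiPointInfinity F ∨ p = Cfsg.suzukiPointZero F := by
    intro p hp hfix
    rcases ovoid_cases hp with h | ⟨x, y, rfl⟩
    · left
      exact h
    · right
      by_contra hne
      have hxy : ¬ (x = 0 ∧ y = 0) := by
        rintro ⟨rfl, rfl⟩
        exact hne (pt_zero hs)
      rw [hc] at hfix
      exact hκ01 (D_fix_pt hs κ0 x y hxy hfix)
  have hwc : ∀ p : Projectivization F (Fin 4 → F), c.1 • p = p → c.1 • (w.1 • p) = w.1 • p := by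
    intro p hp
    have e : c⁻¹ * w = w * c := by
      rw [← hD.wc]
      group
    have e' : c.1⁻¹ * w.1 = w.1 * c.1 := congrArg Subtype.val e
    have h1 : c.1⁻¹ • (w.1 • p) = w.1 • p := by rw [← mul_smul, e', mul_smul, hp]
    exact (inv_smul_eq_iff.mp h1).symm
  have hcinf : c.1 • Cfsg.suzukiPointInfinity F = Cfsg.suzukiPointInfinity F := by
    rw [hc]
    exact D_pInf _ _
  have hczero : c.1 • Cfsg.suzukiPointZero F = Cfsg.suzukiPointZero F := by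
    rw [hc]
    exact D_pZero _ _
  have hwinf : w.1 • Cfsg.suzukiPointInfinity F = Cfsg.suzukiPointZero F := by
    rcases hcfix _ (smul_mem_ovoid w.2 (pInf_mem m)) (hwc _ hcinf) with h | h
    · exfalso
      have h0 : w.1 • Cfsg.suzukiPointZero F = Cfsg.suzukiPointZero F := by
        rcases hcfix _ (smul_mem_ovoid w.2 (pZero_mem hm hF)) (hwc _ hczero) with h' | h'
        · exfalso
          have h2 := MulAction.injective w.1 (h.trans h'.symm)
          exact pZero_ne_inf h2.symm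
        · exact h'
      obtain ⟨j, hj⟩ := stab_two hm hF w.2 h h0
      have hw : w = DHom hm hF j := Subtype.ext hj
      have h2 : c = c⁻¹ := by
        conv_rhs => rw [← hD.wc]
        rw [hw, hc, ← map_mul, ← map_inv, ← map_mul, mul_comm j κ0, mul_inv_cancel_right]
      have h3 : c ^ 2 = 1 := by
        rw [pow_two]
        nth_rewrite 2 [h2]
        exact mul_inv_cancel c
      have hd := orderOf_dvd_of_pow_eq_one h3
      rw [hD.ord] at hd
      have hle := Nat.le_of_dvd (by norm_num) hd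
      omega
    · exact h
  have hwzero : w.1 • Cfsg.suzukiPointZero F = Cfsg.suzukiPointInfinity F := by
    rcases hcfix _ (smul_mem_ovoid w.2 (pZero_mem hm hF)) (hwc _ hczero) with h | h
    · exact h
    · exfalso
      have h2 := MulAction.injective w.1 (hwinf.trans h.symm)
      exact pZero_ne_inf h2.symm
  -- `w = W D(j)`
  have hWw1 : (wS hm hF * w).1 • Cfsg.suzukiPointInfinity F = Cfsg.suzukiPointInfinity F := by
    show (W (hyp_of_card hm hF) * w.1) • _ = _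
    rw [mul_smul, hwinf, W_pZero]
  have hWw2 : (wS hm hF * w).1 • Cfsg.suzukiPointZero F = Cfsg.suzukiPointZero F := by
    show (W (hyp_of_card hm hF) * w.1) • _ = _
    rw [mul_smul, hwzero, W_pInf]
  obtain ⟨j, hj⟩ := stab_two hm hF (wS hm hF * w).2 hWw1 hWw2
  have hw : w = wS hm hF * DHom hm hF j := by
    have h1 : wS hm hF * w = DHom hm hF j := Subtype.ext hj
    rw [← h1, ← mul_assoc, wS_sq, one_mul]
  -- `j` lies in the small field
  have hcell := big_cell hm hF hK ι S hD.card hUS hDS w hD.wS hwinf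
  have hx : w * u hm hF (ι 0) (ι 1) * w ∈ S := S.mul_mem (S.mul_mem hD.wS (hUS 0 1)) hD.wS
  have hj0 : (j : F) ^ (2 ^ (m + 1) + 2) ≠ 0 := pow_ne_zero _ j.ne_zero
  have hxinf : (w * u hm hF (ι 0) (ι 1) * w).1 • Cfsg.suzukiPointInfinity F =
      pt (2 ^ (m + 1)) ((j : F) ^ (2 ^ (m + 1) + 2) /
        ((j : F) ^ (2 ^ (m + 1) + 2)) ^ (2 ^ (m + 1))) 0 := by
    show (w.1 * T (2 ^ (m + 1)) (ι 0) (ι 1) * w.1) • _ = _
    rw [mul_smul, mul_smul, hwinf, map_zero, map_one, T_pZero hs]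
    have hw' : w.1 = W hs * D (2 ^ (m + 1)) j := congrArg Subtype.val hw
    rw [hw', mul_smul, D_pt hs, mul_zero, mul_one, W_pt0 hs hj0]
  obtain ⟨j0, hj0', hjj⟩ : ∃ j0 : K, j0 ≠ 0 ∧ ι j0 = (j : F) := by
    rcases hcell _ hx with ⟨a, b, κ, hxe⟩ | ⟨a, b, a', b', κ, hxe⟩
    · exfalso
      have h1 : (u hm hF (ι a) (ι b) * DHom hm hF (Units.map (ι : K →* F) κ)).1 •
          Cfsg.suzukiPointInfinity F = Cfsg.suzukiPointInfinity F := by
        show (T (2 ^ (m + 1)) (ι a) (ι b) * D (2 ^ (m + 1)) _) • _ = _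
        rw [mul_smul, D_pInf, T_pInf]
      rw [← hxe, hxinf] at h1
      exact pt_ne_inf _ _ _ h1
    · have h1 : (u hm hF (ι a) (ι b) * w * u hm hF (ι a') (ι b') *
          DHom hm hF (Units.map (ι : K →* F) κ)).1 •
          Cfsg.suzukiPointInfinity F = pt (2 ^ (m + 1)) (ι a) (ι b) := by
        show (T (2 ^ (m + 1)) (ι a) (ι b) * w.1 * T (2 ^ (m + 1)) (ι a') (ι b') *
          D (2 ^ (m + 1)) _) • _ = _
        rw [mul_smul, mul_smul, mul_smul, D_pInf, T_pInf, hwinf, T_pZero hs]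
      rw [← hxe, hxinf] at h1
      have h2 := (pt_inj h1).1
      have hjs : (j : F) ^ (2 ^ (m + 1)) ≠ 0 := pow_ne_zero _ j.ne_zero
      have h3 : (j : F) ^ (2 ^ (m + 1)) * ι a = 1 := by
        rw [← h2]
        have e : ((j : F) ^ (2 ^ (m + 1) + 2)) ^ (2 ^ (m + 1)) =
            (j : F) ^ 2 * ((j : F) ^ (2 ^ (m + 1))) ^ 2 := by
          rw [pow_add (j : F) (2 ^ (m + 1)) 2, mul_pow, hs.sq, ← pow_mul, ← pow_mul,
            mul_comm 2 (2 ^ (m + 1))]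
        have hB : (j : F) ^ 2 ≠ 0 := pow_ne_zero _ j.ne_zero
        rw [e, pow_add (j : F) (2 ^ (m + 1)) 2]
        generalize (j : F) ^ (2 ^ (m + 1)) = A at hjs ⊢
        generalize (j : F) ^ 2 = B at hB ⊢
        field_simp
      have ha0 : a ≠ 0 := by
        rintro rfl
        rw [map_zero, mul_zero] at h3
        exact zero_ne_one h3
      obtain ⟨j0, hj0⟩ := pow_s_surjK hs ι a⁻¹
      have hj00 : j0 ≠ 0 := by
        rintro rfl
        rw [zero_pow hspos] at hj0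
        exact inv_ne_zero ha0 hj0.symm
      refine ⟨j0, hj00, ?_⟩
      apply pow_s_inj hs
      rw [← map_pow, hj0, map_inv₀]
      exact (eq_inv_of_mul_eq_one_left h3).symm
  have hjS : DHom hm hF j ∈ S := by
    have e : j = Units.map (ι : K →* F) (Units.mk0 j0 hj0') := by
      apply Units.ext
      exact hjj.symm
    rw [e]
    exact hDS _
  have hWS : wS hm hF ∈ S := by
    have e : wS hm hF = w * (DHom hm hF j)⁻¹ := by
      rw [hw]
      group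
    rw [e]
    exact S.mul_mem hD.wS (S.inv_mem hjS)
  have hcell2 := big_cell hm hF hK ι S hD.card hUS hDS (wS hm hF) hWS
    (W_pInf (hyp_of_card hm hF))
  intro x
  constructor
  · exact hcell2 x
  · rintro (⟨a, b, κ, rfl⟩ | ⟨a, b, a', b', κ, rfl⟩)
    · exact S.mul_mem (hUS a b) (hDS κ)
    · exact S.mul_mem (S.mul_mem (S.mul_mem (hUS a b) hWS) (hUS a' b')) (hDS κ)

/-- every subgroup of Suzuki type over the small field is conjugate to the standard one. -/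
theorem conj_std (hm : 1 ≤ m) (hF : Fintype.card F = 2 ^ (2 * m + 1)) (hk : 1 ≤ k)
    (hK : Fintype.card K = 2 ^ (2 * k + 1)) (ι : K →+* F)
    {S Q : Subgroup ↥(Cfsg.Sz F m)} {c w : ↥(Cfsg.Sz F m)}
    (hD : Dat (2 ^ (2 * k + 1)) S Q c w) :
    ∃ g : ↥(Cfsg.Sz F m), ∀ x, x ∈ S ↔ StdP hm hF ι (g * x * g⁻¹) := by
  obtain ⟨γ, hγ⟩ := step1 hm hF hD
  have hD1 := hD.conj γ
  obtain ⟨g2, κ0, hg2U, hg2⟩ := step2 hm hF hk hD1 hγ
  have hD2 := hD1.conj g2
  have hQ2 : (Q.map (MulAut.conj γ).toMonoidHom).map (MulAut.conj g2).toMonoidHom ≤ U hm hF := by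
    intro y hy
    rw [mem_conj] at hy
    have h1 := hγ hy
    have e : y = g2 * (g2⁻¹ * y * g2) * g2⁻¹ := by group
    rw [e]
    exact (U hm hF).mul_mem ((U hm hF).mul_mem hg2U h1) ((U hm hF).inv_mem hg2U)
  obtain ⟨ν, c1, h3a⟩ := step3a hm hF hD2 hQ2
  have hD3 := hD2.conj (DHom hm hF ν)
  have hQ3 : ((Q.map (MulAut.conj γ).toMonoidHom).map (MulAut.conj g2).toMonoidHom).map
      (MulAut.conj (DHom hm hF ν)).toMonoidHom ≤ U hm hF := by
    intro y hy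
    rw [mem_conj] at hy
    obtain ⟨a, b, hab⟩ := hQ2 hy
    have e : y = DHom hm hF ν * u hm hF a b * (DHom hm hF ν)⁻¹ := by
      rw [← hab]
      group
    rw [e, D_u]
    exact ⟨_, _, rfl⟩
  have hc3 : DHom hm hF ν * (g2 * (γ * c * γ⁻¹) * g2⁻¹) * (DHom hm hF ν)⁻¹ = DHom hm hF κ0 := by
    rw [hg2, ← map_mul, ← map_inv, ← map_mul, mul_comm ν κ0, mul_inv_cancel_right]
  have hQform := step3b hm hF hk hK ι hD3 hQ3 κ0 hc3 c1 h3a
  have h4 := step4 hm hF hk hK ι hD3 hQform κ0 hc3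
  refine ⟨DHom hm hF ν * g2 * γ, ?_⟩
  intro x
  rw [← h4, mem_conj, mem_conj, mem_conj]
  have e : γ⁻¹ * (g2⁻¹ * ((DHom hm hF ν)⁻¹ * (DHom hm hF ν * g2 * γ * x *
      (DHom hm hF ν * g2 * γ)⁻¹) * DHom hm hF ν) * g2) * γ = x := by group
  rw [e]

/-- the abstract data of a group isomorphic to the Suzuki group over the small field. -/
theorem dat_of_iso (hk : 1 ≤ k) (hK : Fintype.card K = 2 ^ (2 * k + 1)) {G : Type*} [Group G]
    (S : Subgroup G) (ψ : ↥S ≃* ↥(Cfsg.Sz K k)) :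
    ∃ (Q : Subgroup G) (c w : G), Dat (2 ^ (2 * k + 1)) S Q c w := by
  classical
  have hsK := hyp_of_card hk hK
  obtain ⟨θ, hθdef⟩ : ∃ θ : ↥(Cfsg.Sz K k) →* G, θ = S.subtype.comp ψ.symm.toMonoidHom :=
    ⟨_, rfl⟩
  have hθ : Function.Injective θ := by
    rw [hθdef]
    exact (Subgroup.subtype_injective S).comp ψ.symm.injective
  have hθS : ∀ v, θ v ∈ S := by
    intro v
    rw [hθdef]
    exact (ψ.symm v).2
  obtain ⟨κg, hκg⟩ := IsCyclic.exists_generator (α := Kˣ)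
  have hordg : orderOf κg = 2 ^ (2 * k + 1) - 1 := by
    rw [orderOf_eq_card_of_forall_mem_zpowers hκg, Nat.card_units, Nat.card_eq_fintype_card, hK]
  refine ⟨(U hk hK).map θ, θ (DHom hk hK κg), θ (wS hk hK), ?_, ?_, ?_, ?_, ?_, ?_, ?_, ?_, ?_, ?_⟩
  · rw [Nat.card_congr ψ.toEquiv, card_Sz hk hK]
  · rintro _ ⟨v, _, rfl⟩
    exact hθS v
  · rw [Subgroup.card_map_of_injective hθ, card_U hk hK]
  · refine ⟨θ (u hk hK 1 0), ⟨_, ⟨1, 0, rfl⟩, rfl⟩, ?_⟩
    rw [← map_mul, u_sq']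
    intro h
    have h1 := hθ (h.trans (map_one θ).symm)
    rw [← u_zero hk hK] at h1
    have h2 := (u_inj hk hK h1).2
    rw [one_pow, one_mul] at h2
    exact one_ne_zero h2
  · exact hθS _
  · rw [orderOf_injective θ hθ, orderOf_injective (DHom hk hK) (fun _ _ h => DHom_inj hk hK h),
      hordg]
  · rintro _ ⟨v, ⟨a, b, rfl⟩, rfl⟩
    refine ⟨DHom hk hK κg * u hk hK a b * (DHom hk hK κg)⁻¹, ?_, ?_⟩
    · rw [D_u]
      exact ⟨_, _, rfl⟩
    · rw [map_mul, map_mul, map_inv]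
  · exact hθS _
  · rw [← map_mul, wS_sq, map_one]
  · rw [← map_inv, ← map_mul, ← map_mul, ← map_inv]
    congr 1
    rw [wS_D, mul_inv_cancel_right, map_inv]

/-- `S2239`. -/
theorem main (hm : 1 ≤ m) (hF : Fintype.card F = 2 ^ (2 * m + 1)) (hk : 1 ≤ k)
    (hK : Fintype.card K = 2 ^ (2 * k + 1)) (hdiv : 2 * k + 1 ∣ 2 * m + 1) :
    (∃ S : Subgroup ↥(Cfsg.Sz F m), Nonempty (↥S ≃* ↥(Cfsg.Sz K k))) ∧
    ∀ S₁ S₂ : Subgroup ↥(Cfsg.Sz F m), Nonempty (↥S₁ ≃* ↥(Cfsg.Sz K k)) →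
      Nonempty (↥S₂ ≃* ↥(Cfsg.Sz K k)) →
      ∃ g : ↥(Cfsg.Sz F m), S₂ = S₁.map (MulAut.conj g).toMonoidHom := by
  refine ⟨exists_sub hm hF hk hK hdiv, ?_⟩
  rintro S₁ S₂ ⟨ψ₁⟩ ⟨ψ₂⟩
  obtain ⟨ι⟩ := exists_emb hF hK hdiv
  obtain ⟨Q₁, c₁, w₁, hD₁⟩ := dat_of_iso hk hK S₁ ψ₁
  obtain ⟨Q₂, c₂, w₂, hD₂⟩ := dat_of_iso hk hK S₂ ψ₂
  obtain ⟨g₁, hg₁⟩ := conj_std hm hF hk hK ι hD₁
  obtain ⟨g₂, hg₂⟩ := conj_std hm hF hk hK ι hD₂
  refine ⟨g₂⁻¹ * g₁, ?_⟩
  ext y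
  rw [mem_conj, hg₂, hg₁]
  have e : g₁ * ((g₂⁻¹ * g₁)⁻¹ * y * (g₂⁻¹ * g₁)) * g₁⁻¹ = g₂ * y * g₂⁻¹ := by group
  rw [e]

end Cfsg.Agent.Lib.Helper3.SzSub4
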