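import Mathlib
import Cfsg.Prelude.Def_LieExceptional
import Cfsg.Agent.Lib.Helper3.SzSub4
import Cfsg.Agent.Lib.Helper3.SzFix3
import Cfsg.Agent.Lib.Helper14.SzTori8
import Cfsg.Agent.Lib.Helper14.SzPart

set_option autoImplicit false
set_option linter.unusedSectionVars false

namespace Cfsg.Agent.Lib.Helper3.SzMax1

open Matrix Cfsg.Agent.Lib.Helper3.Sz1 Cfsg.Agent.Lib.Helper3.Sz2 Cfsg.Agent.Lib.Helper3.Sz3
  Cfsg.Agent.Lib.Helper3.Sz4 Cfsg.Agent.Lib.Helper3.Sz5 Cfsg.Agent.Lib.Helper3.Sz6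
  Cfsg.Agent.Lib.Helper3.Sz7 Cfsg.Agent.Lib.Helper3.Sz9 Cfsg.Agent.Lib.Helper3.Sz10
  Cfsg.Agent.Lib.Helper3.Sz11 Cfsg.Agent.Lib.Helper3.Sz15 Cfsg.Agent.Lib.Helper3.SzR
  Cfsg.Agent.Lib.Helper3.SzFix1 Cfsg.Agent.Lib.Helper3.SzFix2 Cfsg.Agent.Lib.Helper3.SzSub2

variable {F : Type*} [Field F] [Fintype F] {m : ℕ}

/-- an involution has a unique fixed point on the ovoid. -/
theorem invol_fix (hm : 1 ≤ m) (hF : Fintype.card F = 2 ^ (2 * m + 1)) (z : ↥(Cfsg.Sz F m))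
    (hz1 : z ≠ 1) (hz2 : z * z = 1) :
    ∃ p ∈ Cfsg.suzukiOvoid F m, z.1 • p = p ∧
      ∀ p' ∈ Cfsg.suzukiOvoid F m, z.1 • p' = p' → p' = p := by
  obtain ⟨γ, b, hb, rfl⟩ := Cfsg.Agent.Lib.Helper3.SzFix3.inv_conj hm hF z hz1 hz2
  refine ⟨γ.1 • Cfsg.suzukiPointInfinity F, smul_mem_ovoid γ.2 (pInf_mem m), ?_, ?_⟩
  · show (γ.1 * T (2 ^ (m + 1)) 0 b * γ.1⁻¹) • (γ.1 • Cfsg.suzukiPointInfinity F) = _
    rw [mul_smul, mul_smul, inv_smul_smul, T_pInf]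
  · intro p' hp' hfix
    have h1 : T (2 ^ (m + 1)) 0 b • (γ.1⁻¹ • p') = γ.1⁻¹ • p' := by
      have e : (γ * u hm hF 0 b * γ⁻¹).1 = γ.1 * T (2 ^ (m + 1)) 0 b * γ.1⁻¹ := rfl
      rw [e, mul_smul, mul_smul] at hfix
      exact (smul_eq_iff_eq_inv_smul _).mp hfix
    have h2 := T_fix hm hF (fun h => hb h.2) (smul_mem_ovoid (inv_mem γ.2) hp') h1
    exact inv_smul_eq_iff.mp h2

/-- elements fixing the fixed point of a Sylow 2-subgroup normalise it. -/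
theorem norm_sylow_of_fix (hm : 1 ≤ m) (hF : Fintype.card F = 2 ^ (2 * m + 1))
    (P : Sylow 2 ↥(Cfsg.Sz F m)) (γ : ↥(Cfsg.Sz F m))
    (hγ : ∀ x, x ∈ (P : Subgroup ↥(Cfsg.Sz F m)) ↔ γ⁻¹ * x * γ ∈ U hm hF)
    (y : ↥(Cfsg.Sz F m))
    (hy : y.1 • (γ.1 • Cfsg.suzukiPointInfinity F) = γ.1 • Cfsg.suzukiPointInfinity F) :
    y ∈ Subgroup.normalizer ((P : Subgroup ↥(Cfsg.Sz F m)) : Set ↥(Cfsg.Sz F m)) := by
  have key : ∀ y : ↥(Cfsg.Sz F m),
      y.1 • (γ.1 • Cfsg.suzukiPointInfinity F) = γ.1 • Cfsg.suzukiPointInfinity F →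
      ∀ g, g ∈ (P : Subgroup ↥(Cfsg.Sz F m)) → y * g * y⁻¹ ∈ (P : Subgroup ↥(Cfsg.Sz F m)) := by
    intro y hy g hg
    rw [hγ] at hg ⊢
    have hn : (γ⁻¹ * y * γ).1 • Cfsg.suzukiPointInfinity F = Cfsg.suzukiPointInfinity F := by
      show (γ.1⁻¹ * y.1 * γ.1) • _ = _
      rw [mul_smul, mul_smul, hy, inv_smul_smul]
    have h1 := norm_of_fix hm hF (γ⁻¹ * y * γ) hn _ hg
    have e : γ⁻¹ * y * γ * (γ⁻¹ * g * γ) * (γ⁻¹ * y * γ)⁻¹ = γ⁻¹ * (y * g * y⁻¹) * γ := by group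
    rw [e] at h1
    exact h1
  rw [Subgroup.mem_normalizer_iff]
  intro g
  constructor
  · exact key y hy g
  · intro hg
    have hy' : (y⁻¹).1 • (γ.1 • Cfsg.suzukiPointInfinity F) =
        γ.1 • Cfsg.suzukiPointInfinity F := by
      show y.1⁻¹ • _ = _
      rw [inv_smul_eq_iff, hy]
    have h1 := key y⁻¹ hy' _ hg
    have e : y⁻¹ * (y * g * y⁻¹) * y⁻¹⁻¹ = g := by group
    rw [e] at h1
    exact h1

/-- a subgroup fixing a point of the ovoid lies in a Sylow 2-normaliser. -/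
theorem conc1_of_fix (hm : 1 ≤ m) (hF : Fintype.card F = 2 ^ (2 * m + 1))
    (H : Subgroup ↥(Cfsg.Sz F m)) {p : Projectivization F (Fin 4 → F)}
    (hp : p ∈ Cfsg.suzukiOvoid F m) (hH : ∀ h ∈ H, h.1 • p = p) :
    ∃ P : Sylow 2 ↥(Cfsg.Sz F m),
      H ≤ Subgroup.normalizer ((P : Subgroup ↥(Cfsg.Sz F m)) : Set ↥(Cfsg.Sz F m)) := by
  classical
  have hs := hyp_of_card hm hF
  have hfin : Finite (Matrix.SpecialLinearGroup (Fin 4) F) := finite_SL
  have hp2 : Fact (Nat.Prime 2) := ⟨Nat.prime_two⟩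
  obtain ⟨g, hg, hgp⟩ := move_to_inf hm hF hp
  obtain ⟨gS, hgS⟩ : ∃ gS : ↥(Cfsg.Sz F m), gS = ⟨g, hg⟩ := ⟨_, rfl⟩
  have hgS1 : gS.1 = g := by rw [hgS]
  have hpg : IsPGroup 2 ((U hm hF).map (MulAut.conj gS⁻¹).toMonoidHom) := by
    apply IsPGroup.of_card (n := (2 * m + 1) * 2)
    rw [Subgroup.card_map_of_injective (MulAut.conj gS⁻¹).injective, card_U hm hF, ← pow_mul]
  obtain ⟨P, hP⟩ := hpg.exists_le_sylow
  obtain ⟨γ, hγ⟩ := sylow_conj hm hF P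
  have hγp : γ.1 • Cfsg.suzukiPointInfinity F = p := by
    have ht : gS⁻¹ * u hm hF 0 1 * gS⁻¹⁻¹ ∈ (P : Subgroup ↥(Cfsg.Sz F m)) :=
      hP ⟨u hm hF 0 1, ⟨0, 1, rfl⟩, rfl⟩
    obtain ⟨a, b, hab⟩ := (hγ _).mp ht
    have hne : ¬ (a = 0 ∧ b = 0) := by
      rintro ⟨rfl, rfl⟩
      rw [u_zero] at hab
      have h1 : u hm hF 0 1 = 1 := by
        have e : u hm hF 0 1 =
            gS * γ * (γ⁻¹ * (gS⁻¹ * u hm hF 0 1 * gS⁻¹⁻¹) * γ) * γ⁻¹ * gS⁻¹ := by group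
        rw [e, hab]
        group
      rw [← u_zero hm hF] at h1
      exact one_ne_zero (u_inj hm hF h1).2
    have hfix : T (2 ^ (m + 1)) a b • (γ.1⁻¹ • p) = γ.1⁻¹ • p := by
      have e : T (2 ^ (m + 1)) a b =
          γ.1⁻¹ * (gS.1⁻¹ * T (2 ^ (m + 1)) 0 1 * gS.1⁻¹⁻¹) * γ.1 :=
        (congrArg Subtype.val hab).symm
      rw [e, hgS1, mul_smul, mul_smul, smul_inv_smul, inv_inv, mul_smul, mul_smul, hgp, T_pInf,
        ← hgp, inv_smul_smul]
    have h2 := T_fix hm hF hne (smul_mem_ovoid (inv_mem γ.2) hp) hfix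
    exact (inv_smul_eq_iff.mp h2).symm
  refine ⟨P, ?_⟩
  intro y hy
  apply norm_sylow_of_fix hm hF P γ hγ
  rw [hγp]
  exact hH y hy

/-- if all conjugates of an involution `z` under `H` commute with `z`, then `H` fixes a point. -/
theorem fix_of_invol (hm : 1 ≤ m) (hF : Fintype.card F = 2 ^ (2 * m + 1))
    (H : Subgroup ↥(Cfsg.Sz F m)) (z : ↥(Cfsg.Sz F m)) (hz1 : z ≠ 1) (hz2 : z * z = 1)
    (hH : ∀ h ∈ H, (h * z * h⁻¹) * z = z * (h * z * h⁻¹)) :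
    ∃ p ∈ Cfsg.suzukiOvoid F m, ∀ h ∈ H, h.1 • p = p := by
  obtain ⟨p, hp, hzp, huniq⟩ := invol_fix hm hF z hz1 hz2
  refine ⟨p, hp, ?_⟩
  intro h hh
  have hc := hH h hh
  have hc' : (h.1 * z.1 * h.1⁻¹) * z.1 = z.1 * (h.1 * z.1 * h.1⁻¹) := congrArg Subtype.val hc
  have h1 : z.1 • ((h.1 * z.1 * h.1⁻¹) • p) = (h.1 * z.1 * h.1⁻¹) • p := by
    rw [← mul_smul, ← hc', mul_smul, hzp]
  have h2 := huniq _ (smul_mem_ovoid (mul_mem (mul_mem h.2 z.2) (inv_mem h.2)) hp) h1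
  rw [mul_smul, mul_smul] at h2
  have h3 : z.1 • (h.1⁻¹ • p) = h.1⁻¹ • p := (smul_eq_iff_eq_inv_smul _).mp h2
  have h4 := huniq _ (smul_mem_ovoid (inv_mem h.2) hp) h3
  exact (inv_smul_eq_iff.mp h4).symm

/-- the second alternative of the subgroup theorem. -/
def Conc2 (H : Subgroup ↥(Cfsg.Sz F m)) : Prop :=
  ∃ V : Subgroup ↥(Cfsg.Sz F m), IsCyclic ↥V ∧
    Nat.card ↥V ∈ ({2 ^ (2 * m + 1) - 1, 2 ^ (2 * m + 1) + 2 ^ (m + 1) + 1,
      2 ^ (2 * m + 1) - 2 ^ (m + 1) + 1} : Set ℕ) ∧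
    H ≤ Subgroup.normalizer (V : Set ↥(Cfsg.Sz F m))

open Cfsg.Agent.Lib.Helper14.SzTori in
/-- if all conjugates of a non-identity element `x` of odd order under `H` commute with `x`,
then `H` normalises the (cyclic) centraliser of `x`. -/
theorem conc2_of_odd (hm : 1 ≤ m) (hF : Fintype.card F = 2 ^ (2 * m + 1))
    (H : Subgroup ↥(Cfsg.Sz F m)) (x : ↥(Cfsg.Sz F m)) (hx1 : x ≠ 1) (hodd : Odd (orderOf x))
    (hH : ∀ h ∈ H, (h * x * h⁻¹) * x = x * (h * x * h⁻¹)) : Conc2 H := by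
  have hs := hyp_of_card hm hF
  have hx1' : x.1 ≠ 1 := fun e => hx1 (Subtype.ext e)
  -- the two facts about the centraliser
  have hfacts : (IsCyclic ↥(Subgroup.centralizer ({x} : Set ↥(Cfsg.Sz F m))) ∧
      Nat.card ↥(Subgroup.centralizer ({x} : Set ↥(Cfsg.Sz F m))) ∈
        ({2 ^ (2 * m + 1) - 1, 2 ^ (2 * m + 1) + 2 ^ (m + 1) + 1,
          2 ^ (2 * m + 1) - 2 ^ (m + 1) + 1} : Set ℕ)) ∧
      ∀ y ∈ Subgroup.centralizer ({x} : Set ↥(Cfsg.Sz F m)), y ≠ 1 →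
        Subgroup.centralizer ({y} : Set ↥(Cfsg.Sz F m)) =
          Subgroup.centralizer ({x} : Set ↥(Cfsg.Sz F m)) := by
    rcases trichotomy hm hF x.2 hx1' with ⟨g, hg, k, hk1, hk⟩ | ⟨g, hg, a, b, hab, hk⟩ | hfpf
    · obtain ⟨hcyc, hcard⟩ := Cfsg.Agent.Lib.Helper14.SzPart.typeD_cent hm hF x ⟨g, hg⟩ k hk1 hk
      refine ⟨⟨hcyc, ?_⟩, ?_⟩
      · rw [hcard]
        exact Or.inl rfl
      · -- elements of the centraliser are conjugates of diagonal elements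
        have hdiag : ∀ z : ↥(Cfsg.Sz F m), z * x = x * z →
            ∃ k' : Fˣ, g * z.1 * g⁻¹ = D (2 ^ (m + 1)) k' := by
          intro z hz
          have hz' : z.1 * x.1 = x.1 * z.1 := congrArg Subtype.val hz
          apply cent_D hm hF hk1 (mul_mem (mul_mem hg z.2) (inv_mem hg))
          rw [← hk]
          calc g * z.1 * g⁻¹ * (g * x.1 * g⁻¹) = g * (z.1 * x.1) * g⁻¹ := by group
            _ = g * (x.1 * z.1) * g⁻¹ := by rw [hz']
            _ = g * x.1 * g⁻¹ * (g * z.1 * g⁻¹) := by group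
        have hcomm : ∀ z z' : ↥(Cfsg.Sz F m), z * x = x * z → z' * x = x * z' →
            z * z' = z' * z := by
          intro z z' hz hz'
          obtain ⟨k1, hk1'⟩ := hdiag z hz
          obtain ⟨k2, hk2'⟩ := hdiag z' hz'
          apply Subtype.ext
          show z.1 * z'.1 = z'.1 * z.1
          have e1 : z.1 = g⁻¹ * D (2 ^ (m + 1)) k1 * g := by rw [← hk1']; group
          have e2 : z'.1 = g⁻¹ * D (2 ^ (m + 1)) k2 * g := by rw [← hk2']; group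
          rw [e1, e2]
          calc g⁻¹ * D (2 ^ (m + 1)) k1 * g * (g⁻¹ * D (2 ^ (m + 1)) k2 * g)
              = g⁻¹ * (D (2 ^ (m + 1)) k1 * D (2 ^ (m + 1)) k2) * g := by group
            _ = g⁻¹ * (D (2 ^ (m + 1)) k2 * D (2 ^ (m + 1)) k1) * g := by
                rw [← D_mul, ← D_mul, mul_comm]
            _ = g⁻¹ * D (2 ^ (m + 1)) k2 * g * (g⁻¹ * D (2 ^ (m + 1)) k1 * g) := by group
        intro y hy hy1
        rw [mem_cent_iff] at hy
        obtain ⟨ky, hky⟩ := hdiag y hy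
        have hky1 : ky ≠ 1 := by
          rintro rfl
          rw [D_one] at hky
          apply hy1
          apply Subtype.ext
          show y.1 = 1
          have e : y.1 = g⁻¹ * (g * y.1 * g⁻¹) * g := by group
          rw [e, hky]
          group
        -- symmetric statement for `y`
        have hdiag' : ∀ z : ↥(Cfsg.Sz F m), z * y = y * z →
            ∃ k' : Fˣ, g * z.1 * g⁻¹ = D (2 ^ (m + 1)) k' := by
          intro z hz
          have hz' : z.1 * y.1 = y.1 * z.1 := congrArg Subtype.val hz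
          apply cent_D hm hF hky1 (mul_mem (mul_mem hg z.2) (inv_mem hg))
          rw [← hky]
          calc g * z.1 * g⁻¹ * (g * y.1 * g⁻¹) = g * (z.1 * y.1) * g⁻¹ := by group
            _ = g * (y.1 * z.1) * g⁻¹ := by rw [hz']
            _ = g * y.1 * g⁻¹ * (g * z.1 * g⁻¹) := by group
        ext z
        rw [mem_cent_iff, mem_cent_iff]
        constructor
        · intro hz
          obtain ⟨k1, hk1'⟩ := hdiag' z hz
          apply Subtype.ext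
          show z.1 * x.1 = x.1 * z.1
          have e1 : z.1 = g⁻¹ * D (2 ^ (m + 1)) k1 * g := by rw [← hk1']; group
          have e2 : x.1 = g⁻¹ * D (2 ^ (m + 1)) k * g := by rw [← hk]; group
          rw [e1, e2]
          calc g⁻¹ * D (2 ^ (m + 1)) k1 * g * (g⁻¹ * D (2 ^ (m + 1)) k * g)
              = g⁻¹ * (D (2 ^ (m + 1)) k1 * D (2 ^ (m + 1)) k) * g := by group
            _ = g⁻¹ * (D (2 ^ (m + 1)) k * D (2 ^ (m + 1)) k1) * g := by
                rw [← D_mul, ← D_mul, mul_comm]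
            _ = g⁻¹ * D (2 ^ (m + 1)) k * g * (g⁻¹ * D (2 ^ (m + 1)) k1 * g) := by group
        · intro hz
          exact hcomm z y hz hy
    · exfalso
      have h4 : x ^ 4 = 1 := by
        apply Subtype.ext
        show x.1 ^ 4 = 1
        have e : x.1 = g⁻¹ * T (2 ^ (m + 1)) a b * g⁻¹⁻¹ := by
          rw [← hk]
          group
        rw [e, conj_pow, T_pow4 hm hF]
        group
      have hd : orderOf x ∣ 4 := orderOf_dvd_of_pow_eq_one h4
      have hle := Nat.le_of_dvd (by norm_num) hd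
      obtain ⟨r, hr⟩ := hodd
      have h1 : orderOf x = 1 := by
        generalize orderOf x = n at *
        interval_cases n <;> omega
      exact hx1 (orderOf_eq_one_iff.mp h1)
    · have hF' : Fpf x := hfpf
      obtain ⟨hmain, _, _⟩ := main hm hF
      obtain ⟨hcA, _⟩ := hmain x hF'
      refine ⟨⟨cent_cyclic hm hF hF', ?_⟩, ?_⟩
      · unfold cA at hcA
        rcases hcA with h | h
        · rw [h]
          exact Or.inr (Or.inl rfl)
        · rw [h]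
          exact Or.inr (Or.inr rfl)
      · intro y hy hy1
        exact cent_eq_of_mem hm hF hF' hy hy1
  obtain ⟨⟨hcyc, hcard⟩, hTI⟩ := hfacts
  refine ⟨Subgroup.centralizer ({x} : Set ↥(Cfsg.Sz F m)), hcyc, hcard, ?_⟩
  intro h hh
  have hy : h * x * h⁻¹ ∈ Subgroup.centralizer ({x} : Set ↥(Cfsg.Sz F m)) := by
    rw [mem_cent_iff]
    exact hH h hh
  have hy1 : h * x * h⁻¹ ≠ 1 := by
    intro e
    apply hx1
    have e2 : x = h⁻¹ * (h * x * h⁻¹) * h := by group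
    rw [e2, e]
    group
  have hC := hTI _ hy hy1
  rw [Subgroup.mem_normalizer_iff]
  intro g
  rw [← hC]
  nth_rewrite 1 [hC]
  rw [mem_cent_iff, mem_cent_iff]
  constructor
  · intro hg
    calc h * g * h⁻¹ * (h * x * h⁻¹) = h * (g * x) * h⁻¹ := by group
      _ = h * (x * g) * h⁻¹ := by rw [hg]
      _ = h * x * h⁻¹ * (h * g * h⁻¹) := by group
  · intro hg
    calc g * x = h⁻¹ * (h * g * h⁻¹ * (h * x * h⁻¹)) * h := by group
      _ = h⁻¹ * (h * x * h⁻¹ * (h * g * h⁻¹)) * h := by rw [hg]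
      _ = x * g := by group

/-- the first two alternatives of the subgroup theorem. -/
def Conc12 (H : Subgroup ↥(Cfsg.Sz F m)) : Prop :=
  (∃ P : Sylow 2 ↥(Cfsg.Sz F m),
      H ≤ Subgroup.normalizer ((P : Subgroup ↥(Cfsg.Sz F m)) : Set ↥(Cfsg.Sz F m))) ∨ Conc2 H

/-- a subgroup normalising a non-trivial abelian subgroup. -/
theorem conc_of_abelian (hm : 1 ≤ m) (hF : Fintype.card F = 2 ^ (2 * m + 1))
    (H Y : Subgroup ↥(Cfsg.Sz F m)) (hY1 : Y ≠ ⊥)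
    (hYab : ∀ a ∈ Y, ∀ b ∈ Y, a * b = b * a) (hYn : ∀ h ∈ H, ∀ y ∈ Y, h * y * h⁻¹ ∈ Y) :
    Conc12 H := by
  have hfin : Finite (Matrix.SpecialLinearGroup (Fin 4) F) := finite_SL
  obtain ⟨y, hyY, hy1⟩ : ∃ y, y ∈ Y ∧ y ≠ 1 := by
    by_contra hcon
    push Not at hcon
    apply hY1
    rw [Subgroup.eq_bot_iff_forall]
    exact hcon
  have hord0 : orderOf y ≠ 0 := (orderOf_pos y).ne'
  have hord1 : orderOf y ≠ 1 := fun h => hy1 (orderOf_eq_one_iff.mp h)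
  have hp : (orderOf y).minFac.Prime := Nat.minFac_prime hord1
  obtain ⟨x, hx⟩ : ∃ x, x = y ^ (orderOf y / (orderOf y).minFac) := ⟨_, rfl⟩
  have hxo : orderOf x = (orderOf y).minFac := by
    rw [hx]
    exact orderOf_pow_orderOf_div hord0 (Nat.minFac_dvd _)
  have hxY : x ∈ Y := by
    rw [hx]
    exact Y.pow_mem hyY _
  have hx1 : x ≠ 1 := by
    intro e
    rw [e, orderOf_one] at hxo
    exact hp.one_lt.ne hxo
  have hcomm : ∀ h ∈ H, (h * x * h⁻¹) * x = x * (h * x * h⁻¹) := fun h hh =>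
    hYab _ (hYn h hh x hxY) _ hxY
  by_cases h2 : (orderOf y).minFac = 2
  · left
    have hx2 : x * x = 1 := by
      rw [← pow_two, ← h2, ← hxo]
      exact pow_orderOf_eq_one x
    obtain ⟨p, hp', hfix⟩ := fix_of_invol hm hF H x hx1 hx2 hcomm
    exact conc1_of_fix hm hF H hp' hfix
  · right
    have hodd : Odd (orderOf x) := by
      rw [hxo]
      exact hp.odd_of_ne_two h2
    exact conc2_of_odd hm hF H x hx1 hodd hcomm

end Cfsg.Agent.Lib.Helper3.SzMax1
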