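import Mathlib
import Cfsg.Prelude.Def_LieExceptional
import Cfsg.Agent.Lib.Helper3.SzMax1

set_option autoImplicit false
set_option linter.unusedSectionVars false

namespace Cfsg.Agent.Lib.Helper3.SzMax2

open Matrix Cfsg.Agent.Lib.Helper3.Sz1 Cfsg.Agent.Lib.Helper3.Sz2 Cfsg.Agent.Lib.Helper3.Sz3
  Cfsg.Agent.Lib.Helper3.Sz4 Cfsg.Agent.Lib.Helper3.Sz5 Cfsg.Agent.Lib.Helper3.Sz6
  Cfsg.Agent.Lib.Helper3.Sz7 Cfsg.Agent.Lib.Helper3.Sz9 Cfsg.Agent.Lib.Helper3.Sz10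
  Cfsg.Agent.Lib.Helper3.Sz11 Cfsg.Agent.Lib.Helper3.Sz15 Cfsg.Agent.Lib.Helper3.SzR
  Cfsg.Agent.Lib.Helper3.SzFix1 Cfsg.Agent.Lib.Helper3.SzFix2 Cfsg.Agent.Lib.Helper3.SzSub2
  Cfsg.Agent.Lib.Helper3.SzMax1

variable {F : Type*} [Field F] [Fintype F] {m : ℕ}

/-- the Z-group case. -/
theorem conc_of_zgroup (hm : 1 ≤ m) (hF : Fintype.card F = 2 ^ (2 * m + 1))
    (H : Subgroup ↥(Cfsg.Sz F m)) (hZ : IsZGroup ↥H) (hH1 : H ≠ ⊥) : Conc12 H := by
  have hfin : Finite (Matrix.SpecialLinearGroup (Fin 4) F) := finite_SL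
  by_cases hc : commutator ↥H = ⊥
  · apply conc_of_abelian hm hF H H hH1
    · intro a ha b hb
      have hcen := (commutator_eq_bot_iff_center_eq_top ↥H).mp hc
      have h1 : (⟨b, hb⟩ : ↥H) ∈ Subgroup.center ↥H := by
        rw [hcen]
        exact Subgroup.mem_top _
      have h2 := Subgroup.mem_center_iff.mp h1 ⟨a, ha⟩
      exact congrArg Subtype.val h2
    · intro h hh y hy
      exact H.mul_mem (H.mul_mem hh hy) (H.inv_mem hh)
  · have hcyc : IsCyclic ↥(commutator ↥H) := IsZGroup.isCyclic_commutator ↥H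
    apply conc_of_abelian hm hF H ((commutator ↥H).map H.subtype)
    · intro h
      exact hc ((Subgroup.map_eq_bot_iff_of_injective _ (Subgroup.subtype_injective H)).mp h)
    · rintro _ ⟨a, ha, rfl⟩ _ ⟨b, hb, rfl⟩
      obtain ⟨g, hg⟩ := hcyc.exists_generator
      obtain ⟨i, hi⟩ := Subgroup.mem_zpowers_iff.mp (hg ⟨a, ha⟩)
      obtain ⟨j, hj⟩ := Subgroup.mem_zpowers_iff.mp (hg ⟨b, hb⟩)
      have h1 : (⟨a, ha⟩ : ↥(commutator ↥H)) * ⟨b, hb⟩ = ⟨b, hb⟩ * ⟨a, ha⟩ := by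
        rw [← hi, ← hj]
        exact zpow_mul_comm g i j
      have h2 : a * b = b * a := congrArg Subtype.val h1
      exact congrArg Subtype.val h2
    · rintro h hh _ ⟨y, hy, rfl⟩
      have hn : (commutator ↥H).Normal := instNormalCommutator ↥H
      have h1 := hn.conj_mem y hy (⟨h, hh⟩ : ↥H)
      exact ⟨(⟨h, hh⟩ : ↥H) * y * (⟨h, hh⟩ : ↥H)⁻¹, h1, rfl⟩

/-- cyclic Sylow 2-subgroups make a subgroup of the Suzuki group a Z-group. -/
theorem zgroup_of (hm : 1 ≤ m) (hF : Fintype.card F = 2 ^ (2 * m + 1))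
    (H : Subgroup ↥(Cfsg.Sz F m)) (h2 : ∀ Q : Sylow 2 ↥H, IsCyclic ↥(Q : Subgroup ↥H)) :
    IsZGroup ↥H := by
  classical
  have hfin : Finite (Matrix.SpecialLinearGroup (Fin 4) F) := finite_SL
  refine ⟨fun p hp P => ?_⟩
  by_cases hp2 : p = 2
  · subst hp2
    exact h2 P
  · have hpf : Fact p.Prime := ⟨hp⟩
    have hpg : IsPGroup p ((P : Subgroup ↥H).map H.subtype) := P.isPGroup'.map H.subtype
    obtain ⟨P', hP'⟩ := hpg.exists_le_sylow
    have hcyc : IsCyclic ↥(P' : Subgroup ↥(Cfsg.Sz F m)) := sylow_cyclic hm hF hp2 P'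
    let f : ↥(P : Subgroup ↥H) →* ↥(P' : Subgroup ↥(Cfsg.Sz F m)) :=
      { toFun := fun x => ⟨x.1.1, hP' ⟨x.1, x.2, rfl⟩⟩
        map_one' := rfl
        map_mul' := fun _ _ => rfl }
    refine isCyclic_of_injective f ?_
    intro x y h
    have h' : (f x).1 = (f y).1 := congrArg Subtype.val h
    exact Subtype.ext (Subtype.ext h')

theorem pow_s1_inj {s : ℕ} (hs : Hyp F s) {x y : F} (h : x ^ s * x = y ^ s * y) : x = y := by
  by_cases hy : y = 0
  · rw [hy, pow_s_zero hs, zero_mul] at h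
    rw [hy]
    rcases mul_eq_zero.mp h with h1 | h1
    · exact pow_s_eq_zero hs h1
    · exact h1
  · have h1 : (x / y) ^ (s + 1) = 1 := by
      rw [pow_succ, div_pow, div_mul_div_comm, h]
      exact div_self (mul_ne_zero (pow_ne_zero _ hy) hy)
    have h2 := Cfsg.Agent.Lib.Helper3.Sz13.pow_s1_eq_one hs h1
    exact (div_eq_one_iff_eq hy).mp h2

/-- a subgroup of a Sylow 2-subgroup with at most one involution is cyclic. -/
theorem cyc_of_unique (hm : 1 ≤ m) (hF : Fintype.card F = 2 ^ (2 * m + 1))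
    (R : Subgroup ↥(Cfsg.Sz F m)) (γ : ↥(Cfsg.Sz F m))
    (hR : ∀ r ∈ R, ∃ a b, r = γ * u hm hF a b * γ⁻¹) (b0 : F)
    (hb : ∀ b, γ * u hm hF 0 b * γ⁻¹ ∈ R → b = 0 ∨ b = b0) : IsCyclic ↥R := by
  have hs := hyp_of_card hm hF
  have hconj : ∀ v v' : ↥(Cfsg.Sz F m), γ * v * γ⁻¹ * (γ * v' * γ⁻¹) = γ * (v * v') * γ⁻¹ :=
    fun v v' => by group
  have hone : γ * (1 : ↥(Cfsg.Sz F m)) * γ⁻¹ = 1 := by group
  rw [isCyclic_iff_exists_zpowers_eq_top]
  by_cases hex : ∃ a b, a ≠ 0 ∧ γ * u hm hF a b * γ⁻¹ ∈ R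
  · obtain ⟨a, b, ha, hx⟩ := hex
    have hsq : ∀ a' b', γ * u hm hF a' b' * γ⁻¹ ∈ R → a' ≠ 0 →
        a' ^ (2 ^ (m + 1)) * a' = b0 := by
      intro a' b' hr ha'
      have h1 := R.mul_mem hr hr
      rw [hconj, u_sq'] at h1
      exact (hb _ h1).resolve_left (mul_ne_zero (pow_ne_zero _ ha') ha')
    have hb0 := hsq a b hx ha
    have hx2 : (γ * u hm hF a b * γ⁻¹) ^ 2 = γ * u hm hF 0 b0 * γ⁻¹ := by
      rw [pow_two, hconj, u_sq', hb0]
    have hx3 : (γ * u hm hF a b * γ⁻¹) ^ 3 = γ * u hm hF a (b + b0) * γ⁻¹ := by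
      rw [pow_succ, hx2, hconj, u_mul, add_zero, pow_s_zero hs, zero_mul, add_zero]
    refine ⟨⟨γ * u hm hF a b * γ⁻¹, hx⟩, ?_⟩
    rw [Subgroup.eq_top_iff']
    rintro ⟨r, hr⟩
    rw [Subgroup.mem_zpowers_iff]
    obtain ⟨a', b', hreq⟩ := hR r hr
    have hr' : γ * u hm hF a' b' * γ⁻¹ ∈ R := by
      rw [← hreq]
      exact hr
    by_cases ha' : a' = 0
    · rw [ha'] at hr' hreq
      rcases hb _ hr' with h0 | h0
      · refine ⟨0, ?_⟩
        rw [zpow_zero]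
        apply Subtype.ext
        show (1 : ↥(Cfsg.Sz F m)) = r
        rw [hreq, h0, u_zero, hone]
      · refine ⟨((2 : ℕ) : ℤ), ?_⟩
        rw [zpow_natCast]
        apply Subtype.ext
        rw [Subgroup.coe_pow]
        show (γ * u hm hF a b * γ⁻¹) ^ 2 = r
        rw [hx2, hreq, h0]
    · have haa : a' = a := pow_s1_inj hs ((hsq a' b' hr' ha').trans hb0.symm)
      rw [haa] at hr' hreq
      have h3 : γ * u hm hF 0 (b' - b) * γ⁻¹ ∈ R := by
        have h4 := R.mul_mem hr' (R.inv_mem hx)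
        have e1 : u hm hF a b' = u hm hF 0 (b' - b) * u hm hF a b := by
          rw [u_mul, add_zero, pow_s_zero hs, zero_mul, add_zero]
          congr 1
          ring
        have e : γ * u hm hF a b' * γ⁻¹ * (γ * u hm hF a b * γ⁻¹)⁻¹ =
            γ * u hm hF 0 (b' - b) * γ⁻¹ := by
          rw [e1]
          group
        rw [e] at h4
        exact h4
      rcases hb _ h3 with h0 | h0
      · refine ⟨((1 : ℕ) : ℤ), ?_⟩
        rw [zpow_natCast, pow_one]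
        apply Subtype.ext
        show γ * u hm hF a b * γ⁻¹ = r
        have e2 : b' = b := by linear_combination h0
        rw [hreq, e2]
      · refine ⟨((3 : ℕ) : ℤ), ?_⟩
        rw [zpow_natCast]
        apply Subtype.ext
        rw [Subgroup.coe_pow]
        show (γ * u hm hF a b * γ⁻¹) ^ 3 = r
        have e2 : b' = b + b0 := by linear_combination h0
        rw [hx3, hreq, e2]
  · push Not at hex
    have hform : ∀ r ∈ R, r = 1 ∨ r = γ * u hm hF 0 b0 * γ⁻¹ := by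
      intro r hr
      obtain ⟨a', b', hreq⟩ := hR r hr
      have hr' : γ * u hm hF a' b' * γ⁻¹ ∈ R := by
        rw [← hreq]
        exact hr
      have ha' : a' = 0 := by
        by_contra h
        exact hex a' b' h hr'
      rw [ha'] at hr' hreq
      rcases hb _ hr' with h0 | h0
      · left
        rw [hreq, h0, u_zero, hone]
      · right
        rw [hreq, h0]
    by_cases hz : γ * u hm hF 0 b0 * γ⁻¹ ∈ R
    · refine ⟨⟨γ * u hm hF 0 b0 * γ⁻¹, hz⟩, ?_⟩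
      rw [Subgroup.eq_top_iff']
      rintro ⟨r, hr⟩
      rw [Subgroup.mem_zpowers_iff]
      rcases hform r hr with h0 | h0
      · exact ⟨0, by rw [zpow_zero]; exact Subtype.ext h0.symm⟩
      · exact ⟨1, by rw [zpow_one]; exact Subtype.ext h0.symm⟩
    · refine ⟨1, ?_⟩
      rw [Subgroup.eq_top_iff']
      rintro ⟨r, hr⟩
      rw [Subgroup.mem_zpowers_iff]
      rcases hform r hr with h0 | h0
      · exact ⟨0, by rw [zpow_zero]; exact Subtype.ext h0.symm⟩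
      · exfalso
        rw [h0] at hr
        exact hz hr

/-- some Sylow 2-subgroup of `G` meets `H` in at least two involutions. -/
def TwoInv (hm : 1 ≤ m) (hF : Fintype.card F = 2 ^ (2 * m + 1))
    (H : Subgroup ↥(Cfsg.Sz F m)) : Prop :=
  ∃ (γ : ↥(Cfsg.Sz F m)) (b1 b2 : F), b1 ≠ 0 ∧ b2 ≠ 0 ∧ b1 ≠ b2 ∧
    γ * u hm hF 0 b1 * γ⁻¹ ∈ H ∧ γ * u hm hF 0 b2 * γ⁻¹ ∈ H

/-- the case of cyclic Sylow 2-subgroups. -/
theorem conc_of_not_twoInv (hm : 1 ≤ m) (hF : Fintype.card F = 2 ^ (2 * m + 1))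
    (H : Subgroup ↥(Cfsg.Sz F m)) (hH1 : H ≠ ⊥) (hno : ¬ TwoInv hm hF H) : Conc12 H := by
  classical
  have hfin : Finite (Matrix.SpecialLinearGroup (Fin 4) F) := finite_SL
  have hp2 : Fact (Nat.Prime 2) := ⟨Nat.prime_two⟩
  apply conc_of_zgroup hm hF H (zgroup_of hm hF H ?_) hH1
  intro Q₂
  have hpg : IsPGroup 2 ((Q₂ : Subgroup ↥H).map H.subtype) := Q₂.isPGroup'.map H.subtype
  obtain ⟨P, hP⟩ := hpg.exists_le_sylow
  obtain ⟨γ, hγ⟩ := sylow_conj hm hF P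
  have hR : ∀ r ∈ (Q₂ : Subgroup ↥H).map H.subtype, ∃ a b, r = γ * u hm hF a b * γ⁻¹ := by
    intro r hr
    obtain ⟨a, b, hab⟩ := (hγ r).mp (hP hr)
    exact ⟨a, b, by rw [← hab]; group⟩
  have hRH : ∀ r ∈ (Q₂ : Subgroup ↥H).map H.subtype, r ∈ H := by
    rintro _ ⟨x, _, rfl⟩
    exact x.2
  obtain ⟨b0, hb0⟩ : ∃ b0 : F, ∀ b,
      γ * u hm hF 0 b * γ⁻¹ ∈ (Q₂ : Subgroup ↥H).map H.subtype → b = 0 ∨ b = b0 := by
    by_cases hex : ∃ b, b ≠ 0 ∧ γ * u hm hF 0 b * γ⁻¹ ∈ (Q₂ : Subgroup ↥H).map H.subtype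
    · obtain ⟨b0, hb00, hb0R⟩ := hex
      refine ⟨b0, fun b hbR => ?_⟩
      by_contra hcon
      push Not at hcon
      exact hno ⟨γ, b, b0, hcon.1, hb00, hcon.2, hRH _ hbR, hRH _ hb0R⟩
    · push Not at hex
      refine ⟨0, fun b hbR => ?_⟩
      left
      by_contra hb
      exact hex b hb hbR
  have hcyc := cyc_of_unique hm hF _ γ hR b0 hb0
  exact (MulEquiv.isCyclic ((Q₂ : Subgroup ↥H).equivMapOfInjective H.subtype
    (Subgroup.subtype_injective H))).mpr hcyc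

end Cfsg.Agent.Lib.Helper3.SzMax2
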