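import Mathlib
import Cfsg.Prelude.Def_LieExceptional
import Cfsg.Agent.Lib.Helper3.SzMax2

set_option autoImplicit false
set_option linter.unusedSectionVars false

namespace Cfsg.Agent.Lib.Helper3.SzMax3

open Matrix Cfsg.Agent.Lib.Helper3.Sz1 Cfsg.Agent.Lib.Helper3.Sz2 Cfsg.Agent.Lib.Helper3.Sz3
  Cfsg.Agent.Lib.Helper3.Sz4 Cfsg.Agent.Lib.Helper3.Sz5 Cfsg.Agent.Lib.Helper3.Sz6
  Cfsg.Agent.Lib.Helper3.Sz7 Cfsg.Agent.Lib.Helper3.Sz9 Cfsg.Agent.Lib.Helper3.Sz10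
  Cfsg.Agent.Lib.Helper3.Sz11 Cfsg.Agent.Lib.Helper3.Sz15 Cfsg.Agent.Lib.Helper3.SzR
  Cfsg.Agent.Lib.Helper3.SzFix1 Cfsg.Agent.Lib.Helper3.SzFix2 Cfsg.Agent.Lib.Helper3.SzSub2
  Cfsg.Agent.Lib.Helper3.SzMax1 Cfsg.Agent.Lib.Helper3.SzMax2

variable {F : Type*} [Field F] [Fintype F] {m : ℕ}

/-- the points of the `H`-orbit of `∞` other than `∞`. -/
def Om (H : Subgroup ↥(Cfsg.Sz F m)) : Set (Projectivization F (Fin 4 → F)) :=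
  {p | p ≠ Cfsg.suzukiPointInfinity F ∧ ∃ h ∈ H, h.1 • Cfsg.suzukiPointInfinity F = p}

/-- the involutions of `H` moving `∞`. -/
def Mv (H : Subgroup ↥(Cfsg.Sz F m)) : Set ↥(Cfsg.Sz F m) :=
  {t | t ∈ H ∧ t * t = 1 ∧ t.1 • Cfsg.suzukiPointInfinity F ≠ Cfsg.suzukiPointInfinity F}

/-- the parameters of the central elements of `U` in `H`. -/
def Zb (hm : 1 ≤ m) (hF : Fintype.card F = 2 ^ (2 * m + 1)) (H : Subgroup ↥(Cfsg.Sz F m)) :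
    Set F := {b | u hm hF 0 b ∈ H}

theorem zero_mem_Zb (hm : 1 ≤ m) (hF : Fintype.card F = 2 ^ (2 * m + 1))
    (H : Subgroup ↥(Cfsg.Sz F m)) : (0 : F) ∈ Zb hm hF H := by
  show u hm hF 0 0 ∈ H
  rw [u_zero]
  exact H.one_mem

theorem Om_mem_ovoid {H : Subgroup ↥(Cfsg.Sz F m)} {p : Projectivization F (Fin 4 → F)}
    (hp : p ∈ Om H) : p ∈ Cfsg.suzukiOvoid F m := by
  obtain ⟨_, h, _, rfl⟩ := hp
  exact smul_mem_ovoid h.2 (pInf_mem m)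

/-- the fixed point of a conjugate of a central involution. -/
theorem conj_u0_fix (hm : 1 ≤ m) (hF : Fintype.card F = 2 ^ (2 * m + 1)) {h : ↥(Cfsg.Sz F m)}
    {b : F} (hb : b ≠ 0) {p : Projectivization F (Fin 4 → F)} (hp : p ∈ Cfsg.suzukiOvoid F m)
    (hfix : (h * u hm hF 0 b * h⁻¹).1 • p = p) : p = h.1 • Cfsg.suzukiPointInfinity F := by
  have h1 : T (2 ^ (m + 1)) 0 b • (h.1⁻¹ • p) = h.1⁻¹ • p := by
    have e : (h * u hm hF 0 b * h⁻¹).1 = h.1 * T (2 ^ (m + 1)) 0 b * h.1⁻¹ := rfl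
    rw [e, mul_smul, mul_smul] at hfix
    exact (smul_eq_iff_eq_inv_smul _).mp hfix
  have h2 := T_fix hm hF (fun hh' => hb hh'.2) (smul_mem_ovoid (inv_mem h.2) hp) h1
  exact inv_smul_eq_iff.mp h2

theorem conj_u0_mem_Mv (hm : 1 ≤ m) (hF : Fintype.card F = 2 ^ (2 * m + 1))
    (H : Subgroup ↥(Cfsg.Sz F m)) {h : ↥(Cfsg.Sz F m)} (hh : h ∈ H) {b : F} (hb : b ≠ 0)
    (hbH : u hm hF 0 b ∈ H)
    (hmove : h.1 • Cfsg.suzukiPointInfinity F ≠ Cfsg.suzukiPointInfinity F) :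
    h * u hm hF 0 b * h⁻¹ ∈ Mv H := by
  refine ⟨H.mul_mem (H.mul_mem hh hbH) (H.inv_mem hh), ?_, ?_⟩
  · calc h * u hm hF 0 b * h⁻¹ * (h * u hm hF 0 b * h⁻¹)
        = h * (u hm hF 0 b * u hm hF 0 b) * h⁻¹ := by group
      _ = 1 := by rw [u0_sq]; group
  · intro hfix
    exact hmove (conj_u0_fix hm hF hb (pInf_mem m) hfix).symm

/-- the basic count: every point of the orbit other than `∞` is fixed by as many involutions
of `H` as `∞`, and they all move `∞`. -/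
theorem count (hm : 1 ≤ m) (hF : Fintype.card F = 2 ^ (2 * m + 1))
    (H : Subgroup ↥(Cfsg.Sz F m)) :
    Nat.card ↥(Om H) * (Nat.card ↥(Zb hm hF H) - 1) ≤ Nat.card ↥(Mv H) := by
  classical
  have hfin : Finite (Matrix.SpecialLinearGroup (Fin 4) F) := finite_SL
  obtain ⟨z0, hz0⟩ : ∃ z0 : ↥(Zb hm hF H), z0 = ⟨0, zero_mem_Zb hm hF H⟩ := ⟨_, rfl⟩
  have hz0v : z0.1 = 0 := by rw [hz0]
  rw [← Cfsg.Agent.Lib.Helper14.SzTori.card_ne' z0, ← Nat.card_prod]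
  have hex : ∀ p : ↥(Om H), ∃ h : ↥(Cfsg.Sz F m), h ∈ H ∧
      h.1 • Cfsg.suzukiPointInfinity F = p.1 := fun p => p.2.2
  choose rep hrepH hrep using hex
  have hmem : ∀ pz : ↥(Om H) × {z : ↥(Zb hm hF H) // z ≠ z0},
      rep pz.1 * u hm hF 0 pz.2.1.1 * (rep pz.1)⁻¹ ∈ Mv H := by
    intro pz
    apply conj_u0_mem_Mv hm hF H (hrepH pz.1) ?_ pz.2.1.2 ?_
    · intro h0
      apply pz.2.2
      exact Subtype.ext (h0.trans hz0v.symm)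
    · rw [hrep]
      exact pz.1.2.1
  apply Nat.card_le_card_of_injective (fun pz => (⟨_, hmem pz⟩ : ↥(Mv H)))
  rintro ⟨p, z⟩ ⟨p', z'⟩ h
  have h' : rep p * u hm hF 0 z.1.1 * (rep p)⁻¹ = rep p' * u hm hF 0 z'.1.1 * (rep p')⁻¹ :=
    congrArg Subtype.val h
  have hz0' : z.1.1 ≠ 0 := by
    intro h0
    apply z.2
    exact Subtype.ext (h0.trans hz0v.symm)
  have hfix : (rep p * u hm hF 0 z.1.1 * (rep p)⁻¹).1 • p'.1 = p'.1 := by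
    rw [h']
    have e := hrep p'
    show ((rep p').1 * T (2 ^ (m + 1)) 0 z'.1.1 * (rep p').1⁻¹) • p'.1 = p'.1
    nth_rewrite 1 [← e]
    rw [mul_smul, mul_smul, inv_smul_smul, T_pInf, e]
  have hpp : p' = p :=
    Subtype.ext ((conj_u0_fix hm hF hz0' (Om_mem_ovoid p'.2) hfix).trans (hrep p))
  subst hpp
  have h2 : u hm hF 0 z.1.1 = u hm hF 0 z'.1.1 := by
    have e : u hm hF 0 z.1.1 =
        (rep p')⁻¹ * (rep p' * u hm hF 0 z.1.1 * (rep p')⁻¹) * rep p' := by group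
    rw [e, h']
    group
  have h3 := (u_inj hm hF h2).2
  have h4 : z = z' := Subtype.ext (Subtype.ext h3)
  rw [h4]

/-- two involutions of `H` mapping `∞` to the same point. -/
theorem mv_prod (H : Subgroup ↥(Cfsg.Sz F m)) {t t' : ↥(Cfsg.Sz F m)} (ht : t ∈ Mv H)
    (ht' : t' ∈ Mv H)
    (hγ : t.1 • Cfsg.suzukiPointInfinity F = t'.1 • Cfsg.suzukiPointInfinity F) (hne : t ≠ t') :
    t * t' ∈ H ∧ t * t' ≠ 1 ∧
      (t * t').1 • Cfsg.suzukiPointInfinity F = Cfsg.suzukiPointInfinity F ∧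
      (t * t').1 • (t.1 • Cfsg.suzukiPointInfinity F) = t.1 • Cfsg.suzukiPointInfinity F := by
  have e1 : t.1 * t.1 = 1 := congrArg Subtype.val ht.2.1
  have e2 : t'.1 * t'.1 = 1 := congrArg Subtype.val ht'.2.1
  refine ⟨H.mul_mem ht.1 ht'.1, ?_, ?_, ?_⟩
  · intro e
    apply hne
    have h1 : t' = t⁻¹ := eq_inv_of_mul_eq_one_right e
    rw [h1]
    exact eq_inv_of_mul_eq_one_left ht.2.1
  · show (t.1 * t'.1) • _ = _
    rw [mul_smul, ← hγ, ← mul_smul, e1, one_smul]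
  · show (t.1 * t'.1) • (t.1 • Cfsg.suzukiPointInfinity F) = _
    rw [hγ, mul_smul, ← mul_smul t'.1 t'.1, e2, one_smul, hγ]

/-- with two involutions of `H` fixing `∞` and some element of `H` moving `∞`, some
non-identity element of `H` fixes `∞` and another point of its orbit. -/
theorem exists_two_pt (hm : 1 ≤ m) (hF : Fintype.card F = 2 ^ (2 * m + 1))
    (H : Subgroup ↥(Cfsg.Sz F m)) {b1 b2 : F} (hb1 : b1 ≠ 0) (hb2 : b2 ≠ 0) (hb12 : b1 ≠ b2)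
    (h1 : u hm hF 0 b1 ∈ H) (h2 : u hm hF 0 b2 ∈ H)
    (h0 : ∃ h ∈ H, h.1 • Cfsg.suzukiPointInfinity F ≠ Cfsg.suzukiPointInfinity F) :
    ∃ x ∈ H, x ≠ 1 ∧ x.1 • Cfsg.suzukiPointInfinity F = Cfsg.suzukiPointInfinity F ∧
      ∃ p ∈ Om H, x.1 • p = p := by
  classical
  have hfin : Finite (Matrix.SpecialLinearGroup (Fin 4) F) := finite_SL
  by_contra hcon
  push Not at hcon
  have hcount := count hm hF H
  have hne : Nonempty ↥(Om H) := by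
    obtain ⟨h, hh, hmove⟩ := h0
    exact ⟨⟨h.1 • Cfsg.suzukiPointInfinity F, hmove, h, hh, rfl⟩⟩
  have hpos : 0 < Nat.card ↥(Om H) := Nat.card_pos
  have hz : 2 ≤ Nat.card ↥(Zb hm hF H) - 1 := by
    rw [← Cfsg.Agent.Lib.Helper14.SzTori.card_ne'
      (⟨0, zero_mem_Zb hm hF H⟩ : ↥(Zb hm hF H))]
    have hnt : Nontrivial {z : ↥(Zb hm hF H) // z ≠ ⟨0, zero_mem_Zb hm hF H⟩} :=
      ⟨⟨⟨⟨b1, h1⟩, fun h => hb1 (congrArg Subtype.val h)⟩,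
        ⟨⟨b2, h2⟩, fun h => hb2 (congrArg Subtype.val h)⟩,
        fun h => hb12 (congrArg (fun z : {z : ↥(Zb hm hF H) // z ≠ ⟨0, zero_mem_Zb hm hF H⟩} =>
          z.1.1) h)⟩⟩
    exact Finite.one_lt_card_iff_nontrivial.mpr hnt
  have hle : Nat.card ↥(Mv H) ≤ Nat.card ↥(Om H) := by
    apply Nat.card_le_card_of_injective (fun t : ↥(Mv H) =>
      (⟨t.1.1 • Cfsg.suzukiPointInfinity F, t.2.2.2, t.1, t.2.1, rfl⟩ : ↥(Om H)))
    rintro ⟨t, ht⟩ ⟨t', ht'⟩ h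
    have hγ : t.1 • Cfsg.suzukiPointInfinity F = t'.1 • Cfsg.suzukiPointInfinity F :=
      congrArg Subtype.val h
    apply Subtype.ext
    show t = t'
    by_contra hne'
    obtain ⟨hxH, hx1, hxinf, hxp⟩ := mv_prod H ht ht' hγ hne'
    exact hcon _ hxH hx1 hxinf _ ⟨ht.2.2, t, ht.1, rfl⟩ hxp
  have h3 : Nat.card ↥(Om H) * 2 ≤ Nat.card ↥(Om H) :=
    le_trans (Nat.mul_le_mul_left _ hz) (le_trans hcount hle)
  omega

/-- conjugating so that the second fixed point is `0`. -/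
theorem to_zero (hm : 1 ≤ m) (hF : Fintype.card F = 2 ^ (2 * m + 1))
    (H : Subgroup ↥(Cfsg.Sz F m)) {b1 : F} (h1 : u hm hF 0 b1 ∈ H) {x : ↥(Cfsg.Sz F m)}
    (hx : x ∈ H) (hx1 : x ≠ 1)
    (hxinf : x.1 • Cfsg.suzukiPointInfinity F = Cfsg.suzukiPointInfinity F)
    {p : Projectivization F (Fin 4 → F)} (hp : p ∈ Om H) (hxp : x.1 • p = p) :
    ∃ g : ↥(Cfsg.Sz F m), u hm hF 0 b1 ∈ H.map (MulAut.conj g).toMonoidHom ∧
      (∃ κ : Fˣ, κ ≠ 1 ∧ DHom hm hF κ ∈ H.map (MulAut.conj g).toMonoidHom) ∧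
      (∃ h₁ ∈ H.map (MulAut.conj g).toMonoidHom,
        h₁.1 • Cfsg.suzukiPointInfinity F = Cfsg.suzukiPointZero F) := by
  have hs := hyp_of_card hm hF
  have hpov := Om_mem_ovoid hp
  obtain ⟨hpne, h, hh, hhp⟩ := hp
  rcases ovoid_cases hpov with hinf | ⟨x0, y0, hpt⟩
  · exact absurd hinf hpne
  refine ⟨(u hm hF x0 y0)⁻¹, ?_, ?_, ?_⟩
  · rw [mem_conj]
    have e : (u hm hF x0 y0)⁻¹⁻¹ * u hm hF 0 b1 * (u hm hF x0 y0)⁻¹ = u hm hF 0 b1 := by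
      rw [inv_inv, ← u0_comm, mul_inv_cancel_right]
    rw [e]
    exact h1
  · have h1' : ((u hm hF x0 y0)⁻¹ * x * (u hm hF x0 y0)⁻¹⁻¹).1 • Cfsg.suzukiPointInfinity F =
        Cfsg.suzukiPointInfinity F := by
      show ((T (2 ^ (m + 1)) x0 y0)⁻¹ * x.1 * (T (2 ^ (m + 1)) x0 y0)⁻¹⁻¹) • _ = _
      rw [inv_inv, mul_smul, mul_smul, T_pInf, hxinf, inv_smul_eq_iff, T_pInf]
    have h2' : ((u hm hF x0 y0)⁻¹ * x * (u hm hF x0 y0)⁻¹⁻¹).1 • Cfsg.suzukiPointZero F =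
        Cfsg.suzukiPointZero F := by
      show ((T (2 ^ (m + 1)) x0 y0)⁻¹ * x.1 * (T (2 ^ (m + 1)) x0 y0)⁻¹⁻¹) • _ = _
      rw [inv_inv, mul_smul, mul_smul, T_pZero hs, ← hpt, hxp, hpt, inv_smul_eq_iff, T_pZero hs]
    obtain ⟨κ, hκ⟩ := stab_two hm hF ((u hm hF x0 y0)⁻¹ * x * (u hm hF x0 y0)⁻¹⁻¹).2 h1' h2'
    have hκ' : (u hm hF x0 y0)⁻¹ * x * (u hm hF x0 y0)⁻¹⁻¹ = DHom hm hF κ := Subtype.ext hκ
    refine ⟨κ, ?_, ?_⟩
    · rintro rfl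
      rw [map_one] at hκ'
      apply hx1
      have e : x = (u hm hF x0 y0)⁻¹⁻¹ * ((u hm hF x0 y0)⁻¹ * x * (u hm hF x0 y0)⁻¹⁻¹) *
          (u hm hF x0 y0)⁻¹ := by group
      rw [e, hκ']
      group
    · rw [← hκ']
      exact ⟨x, hx, rfl⟩
  · refine ⟨(u hm hF x0 y0)⁻¹ * h * (u hm hF x0 y0)⁻¹⁻¹, ⟨h, hh, rfl⟩, ?_⟩
    show ((T (2 ^ (m + 1)) x0 y0)⁻¹ * h.1 * (T (2 ^ (m + 1)) x0 y0)⁻¹⁻¹) • _ = _
    rw [inv_inv, mul_smul, mul_smul, T_pInf, hhp, hpt, inv_smul_eq_iff, T_pZero hs]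

end Cfsg.Agent.Lib.Helper3.SzMax3
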