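import Mathlib
import Cfsg.Prelude.Def_LieExceptional
import Cfsg.Agent.Lib.Helper3.SzMax3

set_option autoImplicit false
set_option linter.unusedSectionVars false

namespace Cfsg.Agent.Lib.Helper3.SzMax4

open Matrix Cfsg.Agent.Lib.Helper3.Sz1 Cfsg.Agent.Lib.Helper3.Sz2 Cfsg.Agent.Lib.Helper3.Sz3
  Cfsg.Agent.Lib.Helper3.Sz4 Cfsg.Agent.Lib.Helper3.Sz5 Cfsg.Agent.Lib.Helper3.Sz6
  Cfsg.Agent.Lib.Helper3.Sz7 Cfsg.Agent.Lib.Helper3.Sz9 Cfsg.Agent.Lib.Helper3.Sz10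
  Cfsg.Agent.Lib.Helper3.Sz11 Cfsg.Agent.Lib.Helper3.Sz15 Cfsg.Agent.Lib.Helper3.SzR
  Cfsg.Agent.Lib.Helper3.SzFix1 Cfsg.Agent.Lib.Helper3.SzFix2 Cfsg.Agent.Lib.Helper3.SzSub2
  Cfsg.Agent.Lib.Helper3.SzMax1 Cfsg.Agent.Lib.Helper3.SzMax2 Cfsg.Agent.Lib.Helper3.SzMax3

variable {F : Type*} [Field F] [Fintype F] {m : ℕ}

/-- `D(k)`, `k ≠ 1`, centralises no non-identity element of `U`. -/
theorem D_comm_U (hm : 1 ≤ m) (hF : Fintype.card F = 2 ^ (2 * m + 1)) {k : Fˣ} (hk : k ≠ 1)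
    {a b : F} (h : DHom hm hF k * u hm hF a b * (DHom hm hF k)⁻¹ = u hm hF a b) :
    a = 0 ∧ b = 0 := by
  have hs := hyp_of_card hm hF
  rw [D_u] at h
  obtain ⟨h1, h2⟩ := u_inj hm hF h
  constructor
  · by_contra ha
    have h3 : (k : F) ^ (2 ^ (m + 1)) = 1 := mul_right_cancel₀ ha (h1.trans (one_mul a).symm)
    exact hk (Units.ext (pow_s_eq_one hs h3))
  · by_contra hb
    have h3 : (k : F) ^ (2 ^ (m + 1) + 2) = 1 :=
      mul_right_cancel₀ hb (h2.trans (one_mul b).symm)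
    exact hk (Units.ext (pow_s2_eq_one hs h3))

/-- injectivity of `y ↦ y (D y D⁻¹)⁻¹` on `U`. -/
theorem phi_inj (hm : 1 ≤ m) (hF : Fintype.card F = 2 ^ (2 * m + 1)) {k : Fˣ} (hk : k ≠ 1)
    {y y' : ↥(Cfsg.Sz F m)} (hy : y ∈ U hm hF) (hy' : y' ∈ U hm hF)
    (h : y * (DHom hm hF k * y * (DHom hm hF k)⁻¹)⁻¹ =
      y' * (DHom hm hF k * y' * (DHom hm hF k)⁻¹)⁻¹) : y = y' := by
  have hv : y'⁻¹ * y ∈ U hm hF := (U hm hF).mul_mem ((U hm hF).inv_mem hy') hy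
  obtain ⟨a, b, hab⟩ := hv
  have h1 : DHom hm hF k * (y'⁻¹ * y) * (DHom hm hF k)⁻¹ = y'⁻¹ * y := by
    have e1 : DHom hm hF k * (y'⁻¹ * y) * (DHom hm hF k)⁻¹ =
        y'⁻¹ * (y' * (DHom hm hF k * y' * (DHom hm hF k)⁻¹)⁻¹) *
          (y * (DHom hm hF k * y * (DHom hm hF k)⁻¹)⁻¹)⁻¹ * y := by group
    rw [e1, ← h]
    group
  rw [hab] at h1
  obtain ⟨ha, hb⟩ := D_comm_U hm hF hk h1
  rw [ha, hb, u_zero] at hab
  exact (inv_mul_eq_one.mp hab).symm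

/-- surjectivity of `y ↦ y (D y D⁻¹)⁻¹` on `H ∩ U`. -/
theorem phi_surj (hm : 1 ≤ m) (hF : Fintype.card F = 2 ^ (2 * m + 1))
    (H : Subgroup ↥(Cfsg.Sz F m)) {k : Fˣ} (hk : k ≠ 1) (hkH : DHom hm hF k ∈ H)
    {v : ↥(Cfsg.Sz F m)} (hvH : v ∈ H) (hvU : v ∈ U hm hF) :
    ∃ y, y ∈ H ∧ y ∈ U hm hF ∧ y * (DHom hm hF k * y * (DHom hm hF k)⁻¹)⁻¹ = v := by
  have hfin : Finite (Matrix.SpecialLinearGroup (Fin 4) F) := finite_SL
  have hmem : ∀ y : ↥(H ⊓ U hm hF),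
      y.1 * (DHom hm hF k * y.1 * (DHom hm hF k)⁻¹)⁻¹ ∈ H ⊓ U hm hF := by
    intro y
    obtain ⟨hyH, hyU⟩ := Subgroup.mem_inf.mp y.2
    refine Subgroup.mem_inf.mpr ⟨H.mul_mem hyH (H.inv_mem (H.mul_mem (H.mul_mem hkH hyH)
      (H.inv_mem hkH))), (U hm hF).mul_mem hyU ((U hm hF).inv_mem ?_)⟩
    obtain ⟨a, b, hab⟩ := hyU
    rw [hab, D_u]
    exact ⟨_, _, rfl⟩
  have hinj : Function.Injective (fun y : ↥(H ⊓ U hm hF) =>
      (⟨_, hmem y⟩ : ↥(H ⊓ U hm hF))) := by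
    intro y y' h
    exact Subtype.ext (phi_inj hm hF hk (Subgroup.mem_inf.mp y.2).2 (Subgroup.mem_inf.mp y'.2).2
      (congrArg Subtype.val h))
  obtain ⟨y, hy⟩ := (Finite.injective_iff_surjective.mp hinj)
    ⟨v, Subgroup.mem_inf.mpr ⟨hvH, hvU⟩⟩
  exact ⟨y.1, (Subgroup.mem_inf.mp y.2).1, (Subgroup.mem_inf.mp y.2).2, congrArg Subtype.val hy⟩

/-- the stabiliser of `∞` in `H` is `(H ∩ U)(H ∩ D)`. -/
theorem stab_form (hm : 1 ≤ m) (hF : Fintype.card F = 2 ^ (2 * m + 1))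
    (H : Subgroup ↥(Cfsg.Sz F m)) {κ : Fˣ} (hκ : κ ≠ 1) (hκH : DHom hm hF κ ∈ H)
    {x : ↥(Cfsg.Sz F m)} (hx : x ∈ H)
    (hxinf : x.1 • Cfsg.suzukiPointInfinity F = Cfsg.suzukiPointInfinity F) :
    ∃ (a b : F) (k : Fˣ), x = u hm hF a b * DHom hm hF k ∧ u hm hF a b ∈ H ∧
      DHom hm hF k ∈ H := by
  obtain ⟨a, b, k, hk⟩ := stab_one hm hF x.2 hxinf
  have hxe : x = u hm hF a b * DHom hm hF k := Subtype.ext hk
  have hv : u hm hF a b * (DHom hm hF κ * u hm hF a b * (DHom hm hF κ)⁻¹)⁻¹ =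
      x * DHom hm hF κ * x⁻¹ * (DHom hm hF κ)⁻¹ := by
    rw [hxe]
    have hcomm : DHom hm hF κ * DHom hm hF k = DHom hm hF k * DHom hm hF κ := by
      rw [← map_mul, ← map_mul, mul_comm]
    calc u hm hF a b * (DHom hm hF κ * u hm hF a b * (DHom hm hF κ)⁻¹)⁻¹
        = u hm hF a b * (DHom hm hF κ * DHom hm hF k) * (DHom hm hF k)⁻¹ *
            (u hm hF a b)⁻¹ * (DHom hm hF κ)⁻¹ := by group
      _ = u hm hF a b * (DHom hm hF k * DHom hm hF κ) * (DHom hm hF k)⁻¹ *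
            (u hm hF a b)⁻¹ * (DHom hm hF κ)⁻¹ := by rw [hcomm]
      _ = u hm hF a b * DHom hm hF k * DHom hm hF κ * (u hm hF a b * DHom hm hF k)⁻¹ *
            (DHom hm hF κ)⁻¹ := by group
  have hvH : u hm hF a b * (DHom hm hF κ * u hm hF a b * (DHom hm hF κ)⁻¹)⁻¹ ∈ H := by
    rw [hv]
    exact H.mul_mem (H.mul_mem (H.mul_mem hx hκH) (H.inv_mem hx)) (H.inv_mem hκH)
  have hvU : u hm hF a b * (DHom hm hF κ * u hm hF a b * (DHom hm hF κ)⁻¹)⁻¹ ∈ U hm hF := by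
    refine (U hm hF).mul_mem ⟨a, b, rfl⟩ ((U hm hF).inv_mem ?_)
    rw [D_u]
    exact ⟨_, _, rfl⟩
  obtain ⟨y, hyH, hyU, hy⟩ := phi_surj hm hF H hκ hκH hvH hvU
  have hyu : y = u hm hF a b := phi_inj hm hF hκ hyU ⟨a, b, rfl⟩ hy
  have huH : u hm hF a b ∈ H := by
    rw [← hyu]
    exact hyH
  refine ⟨a, b, k, hxe, huH, ?_⟩
  have e : DHom hm hF k = (u hm hF a b)⁻¹ * x := by
    rw [hxe]
    group
  rw [e]
  exact H.mul_mem (H.inv_mem huH) hx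

/-- a non-identity element of `H` fixing `∞` and another point `p` : then `p ∈ (H ∩ U)·0`. -/
theorem two_pt (hm : 1 ≤ m) (hF : Fintype.card F = 2 ^ (2 * m + 1))
    (H : Subgroup ↥(Cfsg.Sz F m)) {κ : Fˣ} (hκ : κ ≠ 1) (hκH : DHom hm hF κ ∈ H)
    {x : ↥(Cfsg.Sz F m)} (hx : x ∈ H) (hx1 : x ≠ 1)
    (hxinf : x.1 • Cfsg.suzukiPointInfinity F = Cfsg.suzukiPointInfinity F)
    {p : Projectivization F (Fin 4 → F)} (hp : p ∈ Cfsg.suzukiOvoid F m)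
    (hpinf : p ≠ Cfsg.suzukiPointInfinity F) (hxp : x.1 • p = p) :
    ∃ y, y ∈ H ∧ y ∈ U hm hF ∧ p = y.1 • Cfsg.suzukiPointZero F := by
  have hs := hyp_of_card hm hF
  obtain ⟨a, b, k, hxe, huH, hkH⟩ := stab_form hm hF H hκ hκH hx hxinf
  by_cases hk1 : k = 1
  · exfalso
    rw [hk1, map_one, mul_one] at hxe
    have hab : ¬ (a = 0 ∧ b = 0) := by
      rintro ⟨rfl, rfl⟩
      rw [u_zero] at hxe
      exact hx1 hxe
    rw [hxe] at hxp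
    exact hpinf (T_fix hm hF hab hp hxp)
  · obtain ⟨y, hyH, hyU, hy⟩ := phi_surj hm hF H hk1 hkH huH ⟨a, b, rfl⟩
    refine ⟨y, hyH, hyU, ?_⟩
    have hxy : x = y * DHom hm hF k * y⁻¹ := by
      rw [hxe, ← hy]
      group
    have h1 : D (2 ^ (m + 1)) k • (y.1⁻¹ • p) = y.1⁻¹ • p := by
      have e : x.1 = y.1 * D (2 ^ (m + 1)) k * y.1⁻¹ := congrArg Subtype.val hxy
      rw [e, mul_smul, mul_smul] at hxp
      exact (smul_eq_iff_eq_inv_smul _).mp hxp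
    have hyinf : y.1 • Cfsg.suzukiPointInfinity F = Cfsg.suzukiPointInfinity F := by
      obtain ⟨a', b', rfl⟩ := hyU
      exact T_pInf _ _ _
    rcases ovoid_cases (smul_mem_ovoid (inv_mem y.2) hp) with h2 | ⟨x', y', h2⟩
    · exfalso
      apply hpinf
      rw [inv_smul_eq_iff] at h2
      rw [h2, hyinf]
    · rw [h2] at h1
      have hxy0 : x' = 0 ∧ y' = 0 := by
        by_contra hne
        exact hk1 (D_fix_pt hs k x' y' hne h1)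
      rw [hxy0.1, hxy0.2, pt_zero hs] at h2
      exact inv_smul_eq_iff.mp h2

/-- an involution of `H` interchanging `∞` and `0`. -/
theorem exists_swap (hm : 1 ≤ m) (hF : Fintype.card F = 2 ^ (2 * m + 1))
    (H : Subgroup ↥(Cfsg.Sz F m)) {b1 : F} (hb1 : b1 ≠ 0) (hb1H : u hm hF 0 b1 ∈ H)
    {κ : Fˣ} (hκ : κ ≠ 1) (hκH : DHom hm hF κ ∈ H) {h₁ : ↥(Cfsg.Sz F m)} (hh₁ : h₁ ∈ H)
    (hh₁0 : h₁.1 • Cfsg.suzukiPointInfinity F = Cfsg.suzukiPointZero F) :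
    ∃ w₀ ∈ H, w₀ * w₀ = 1 ∧ w₀.1 • Cfsg.suzukiPointInfinity F = Cfsg.suzukiPointZero F := by
  classical
  have hfin : Finite (Matrix.SpecialLinearGroup (Fin 4) F) := finite_SL
  by_contra hcon
  push Not at hcon
  have hcount := count hm hF H
  obtain ⟨o0, ho0⟩ : ∃ o0 : ↥(Om H), o0.1 = Cfsg.suzukiPointZero F :=
    ⟨⟨Cfsg.suzukiPointZero F, pZero_ne_inf, h₁, hh₁, hh₁0⟩, rfl⟩
  have hne0 : ∀ t : ↥(Mv H),
      (⟨t.1.1 • Cfsg.suzukiPointInfinity F, t.2.2.2, t.1, t.2.1, rfl⟩ : ↥(Om H)) ≠ o0 := by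
    intro t h
    exact hcon t.1 t.2.1 t.2.2.1 ((congrArg Subtype.val h).trans ho0)
  have hle : Nat.card ↥(Mv H) ≤ Nat.card {p : ↥(Om H) // p ≠ o0} := by
    apply Nat.card_le_card_of_injective (fun t : ↥(Mv H) =>
      (⟨⟨t.1.1 • Cfsg.suzukiPointInfinity F, t.2.2.2, t.1, t.2.1, rfl⟩, hne0 t⟩ :
        {p : ↥(Om H) // p ≠ o0}))
    rintro ⟨t, ht⟩ ⟨t', ht'⟩ h
    have hγ : t.1 • Cfsg.suzukiPointInfinity F = t'.1 • Cfsg.suzukiPointInfinity F :=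
      congrArg (fun q : {p : ↥(Om H) // p ≠ o0} => q.1.1) h
    apply Subtype.ext
    show t = t'
    by_contra hne'
    obtain ⟨hxH, hx1, hxinf, hxp⟩ := mv_prod H ht ht' hγ hne'
    obtain ⟨y, hyH, hyU, hyp⟩ := two_pt hm hF H hκ hκH hxH hx1 hxinf
      (smul_mem_ovoid t.2 (pInf_mem m)) ht.2.2 hxp
    apply hcon (y⁻¹ * t * y) (H.mul_mem (H.mul_mem (H.inv_mem hyH) ht.1) hyH)
    · calc y⁻¹ * t * y * (y⁻¹ * t * y) = y⁻¹ * (t * t) * y := by group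
        _ = 1 := by rw [ht.2.1]; group
    · show (y.1⁻¹ * t.1 * y.1) • _ = _
      have hyinf : y.1 • Cfsg.suzukiPointInfinity F = Cfsg.suzukiPointInfinity F := by
        obtain ⟨a', b', rfl⟩ := hyU
        exact T_pInf _ _ _
      rw [mul_smul, mul_smul, hyinf, hyp, inv_smul_smul]
  rw [Cfsg.Agent.Lib.Helper14.SzTori.card_ne' o0] at hle
  have hne : Nonempty ↥(Om H) := ⟨o0⟩
  have hpos : 0 < Nat.card ↥(Om H) := Nat.card_pos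
  have hz : 1 ≤ Nat.card ↥(Zb hm hF H) - 1 := by
    have hnt : Nontrivial ↥(Zb hm hF H) :=
      ⟨⟨⟨0, zero_mem_Zb hm hF H⟩, ⟨b1, hb1H⟩, fun h => hb1 (congrArg Subtype.val h).symm⟩⟩
    have := Finite.one_lt_card_iff_nontrivial.mpr hnt
    omega
  have h3 : Nat.card ↥(Om H) * 1 ≤ Nat.card ↥(Om H) - 1 :=
    le_trans (le_trans (Nat.mul_le_mul_left _ hz) hcount) hle
  omega

end Cfsg.Agent.Lib.Helper3.SzMax4
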