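import Mathlib
import Cfsg.Prelude.Def_LieExceptional
import Cfsg.Agent.Lib.Helper3.SzMax4

set_option autoImplicit false
set_option linter.unusedSectionVars false

namespace Cfsg.Agent.Lib.Helper3.SzMax5

open Matrix Cfsg.Agent.Lib.Helper3.Sz1 Cfsg.Agent.Lib.Helper3.Sz2 Cfsg.Agent.Lib.Helper3.Sz3
  Cfsg.Agent.Lib.Helper3.Sz4 Cfsg.Agent.Lib.Helper3.Sz5 Cfsg.Agent.Lib.Helper3.Sz6
  Cfsg.Agent.Lib.Helper3.Sz7 Cfsg.Agent.Lib.Helper3.Sz9 Cfsg.Agent.Lib.Helper3.Sz10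
  Cfsg.Agent.Lib.Helper3.Sz11 Cfsg.Agent.Lib.Helper3.Sz15 Cfsg.Agent.Lib.Helper3.SzR
  Cfsg.Agent.Lib.Helper3.SzFix1 Cfsg.Agent.Lib.Helper3.SzFix2 Cfsg.Agent.Lib.Helper3.SzSub2
  Cfsg.Agent.Lib.Helper3.SzMax1 Cfsg.Agent.Lib.Helper3.SzMax2 Cfsg.Agent.Lib.Helper3.SzMax3
  Cfsg.Agent.Lib.Helper3.SzMax4

variable {F : Type*} [Field F] [Fintype F] {m : ℕ}

theorem arith {N i qQ d o : ℕ} (h1 : N * i ≤ qQ * d + o) (h2 : o + qQ ≤ N) (h3 : d ≤ i)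
    (h4 : 2 ≤ d) (h5 : 1 ≤ qQ) : N = qQ ∧ i = d := by
  have hi : i = d := by
    by_contra hne
    have h6 : d + 1 ≤ i := by omega
    have h7 : N * (d + 1) ≤ N * i := Nat.mul_le_mul_left _ h6
    have h8 : qQ * d ≤ N * d := Nat.mul_le_mul_right _ (by omega)
    nlinarith
  subst hi
  refine ⟨?_, rfl⟩
  by_contra hne
  obtain ⟨e, he⟩ : ∃ e, N = qQ + e := ⟨N - qQ, by omega⟩
  subst he
  have h6 : e * i ≤ e := by nlinarith
  have h7 : e * 2 ≤ e * i := Nat.mul_le_mul_left _ h4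
  omega

theorem U_inf (hm : 1 ≤ m) (hF : Fintype.card F = 2 ^ (2 * m + 1)) {y : ↥(Cfsg.Sz F m)}
    (hy : y ∈ U hm hF) : y.1 • Cfsg.suzukiPointInfinity F = Cfsg.suzukiPointInfinity F := by
  obtain ⟨a, b, rfl⟩ := hy
  exact T_pInf _ _ _

theorem U_zero_inj (hm : 1 ≤ m) (hF : Fintype.card F = 2 ^ (2 * m + 1)) {y y' : ↥(Cfsg.Sz F m)}
    (hy : y ∈ U hm hF) (hy' : y' ∈ U hm hF)
    (h : y.1 • Cfsg.suzukiPointZero F = y'.1 • Cfsg.suzukiPointZero F) : y = y' := by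
  have hs := hyp_of_card hm hF
  obtain ⟨a, b, rfl⟩ := hy
  obtain ⟨a', b', rfl⟩ := hy'
  have h' : T (2 ^ (m + 1)) a b • Cfsg.suzukiPointZero F =
      T (2 ^ (m + 1)) a' b' • Cfsg.suzukiPointZero F := h
  rw [T_pZero hs, T_pZero hs] at h'
  obtain ⟨h1, h2⟩ := pt_inj h'
  rw [h1, h2]

theorem U_zero_ne (hm : 1 ≤ m) (hF : Fintype.card F = 2 ^ (2 * m + 1)) {y : ↥(Cfsg.Sz F m)}
    (hy : y ∈ U hm hF) : y.1 • Cfsg.suzukiPointZero F ≠ Cfsg.suzukiPointInfinity F := by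
  have hs := hyp_of_card hm hF
  obtain ⟨a, b, rfl⟩ := hy
  show T (2 ^ (m + 1)) a b • Cfsg.suzukiPointZero F ≠ _
  rw [T_pZero hs]
  exact pt_ne_inf _ _ _

/-- the points of the orbit outside `(H ∩ U)·0`. -/
def OmP (hm : 1 ≤ m) (hF : Fintype.card F = 2 ^ (2 * m + 1)) (H : Subgroup ↥(Cfsg.Sz F m)) :
    Set ↥(Om H) := {p | ∀ y : ↥(H ⊓ U hm hF), p.1 ≠ y.1.1 • Cfsg.suzukiPointZero F}

/-- the count in the `Z`-setting. -/
theorem z_count (hm : 1 ≤ m) (hF : Fintype.card F = 2 ^ (2 * m + 1))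
    (H : Subgroup ↥(Cfsg.Sz F m)) {b1 : F} (hb1 : b1 ≠ 0) (hb1H : u hm hF 0 b1 ∈ H)
    {κ : Fˣ} (hκ : κ ≠ 1) (hκH : DHom hm hF κ ∈ H) {w₀ : ↥(Cfsg.Sz F m)} (hw₀ : w₀ ∈ H)
    (hw₀2 : w₀ * w₀ = 1)
    (hw₀0 : w₀.1 • Cfsg.suzukiPointInfinity F = Cfsg.suzukiPointZero F) :
    Nat.card ↥(Om H) = Nat.card ↥(H ⊓ U hm hF) ∧
      Nat.card ↥(Zb hm hF H) - 1 = Nat.card ↥(H.comap (DHom hm hF)) := by
  classical
  have hs := hyp_of_card hm hF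
  have hfin : Finite (Matrix.SpecialLinearGroup (Fin 4) F) := finite_SL
  have hw0inf : w₀.1 • Cfsg.suzukiPointZero F = Cfsg.suzukiPointInfinity F := by
    rw [← hw₀0, ← mul_smul]
    have e : w₀.1 * w₀.1 = 1 := congrArg Subtype.val hw₀2
    rw [e, one_smul]
  -- (ii)
  have hex : ∀ t : ↥(Mv H), ∃ r : (↥(H ⊓ U hm hF) × ↥(H.comap (DHom hm hF))) ⊕ ↥(OmP hm hF H),
      Sum.elim (fun yk : ↥(H ⊓ U hm hF) × ↥(H.comap (DHom hm hF)) =>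
          t.1 = yk.1.1 * w₀ * DHom hm hF yk.2.1 * yk.1.1⁻¹)
        (fun p : ↥(OmP hm hF H) => p.1.1 = t.1.1 • Cfsg.suzukiPointInfinity F) r := by
    intro t
    by_cases hc : ∃ y : ↥(H ⊓ U hm hF),
        t.1.1 • Cfsg.suzukiPointInfinity F = y.1.1 • Cfsg.suzukiPointZero F
    · obtain ⟨y, hy⟩ := hc
      obtain ⟨hyH, hyU⟩ := Subgroup.mem_inf.mp y.2
      have hyinf := U_inf hm hF hyU
      have h1 : (w₀ * y.1⁻¹ * t.1 * y.1).1 • Cfsg.suzukiPointInfinity F =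
          Cfsg.suzukiPointInfinity F := by
        show (w₀.1 * y.1.1⁻¹ * t.1.1 * y.1.1) • _ = _
        rw [mul_smul, mul_smul, mul_smul, hyinf, hy, inv_smul_smul, hw0inf]
      have h2 : (w₀ * y.1⁻¹ * t.1 * y.1).1 • Cfsg.suzukiPointZero F =
          Cfsg.suzukiPointZero F := by
        show (w₀.1 * y.1.1⁻¹ * t.1.1 * y.1.1) • _ = _
        have e : t.1.1 * t.1.1 = 1 := congrArg Subtype.val t.2.2.1
        rw [mul_smul, mul_smul, mul_smul, ← hy, ← mul_smul t.1.1, e, one_smul,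
          inv_smul_eq_iff.mpr hyinf.symm, hw₀0]
      obtain ⟨k, hk⟩ := stab_two hm hF (w₀ * y.1⁻¹ * t.1 * y.1).2 h1 h2
      have hk' : w₀ * y.1⁻¹ * t.1 * y.1 = DHom hm hF k := Subtype.ext hk
      have hkH : k ∈ H.comap (DHom hm hF) := by
        show DHom hm hF k ∈ H
        rw [← hk']
        exact H.mul_mem (H.mul_mem (H.mul_mem hw₀ (H.inv_mem hyH)) t.2.1) hyH
      refine ⟨Sum.inl (y, ⟨k, hkH⟩), ?_⟩
      show t.1 = y.1 * w₀ * DHom hm hF k * y.1⁻¹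
      rw [← hk']
      calc t.1 = y.1 * (w₀ * w₀) * y.1⁻¹ * t.1 * y.1 * y.1⁻¹ := by rw [hw₀2]; group
        _ = _ := by group
    · push Not at hc
      exact ⟨Sum.inr ⟨⟨t.1.1 • Cfsg.suzukiPointInfinity F, t.2.2.2, t.1, t.2.1, rfl⟩,
        fun y => hc y⟩, rfl⟩
  choose f hf using hex
  have hfinj : Function.Injective f := by
    intro t t' heq
    have h1 := hf t
    have h2 := hf t'
    rw [← heq] at h2
    generalize f t = r at h1 h2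
    rcases r with yk | p
    · exact Subtype.ext (h1.trans h2.symm)
    · have hγ : t.1.1 • Cfsg.suzukiPointInfinity F = t'.1.1 • Cfsg.suzukiPointInfinity F :=
        h1.symm.trans h2
      apply Subtype.ext
      by_contra hne'
      obtain ⟨hxH, hx1, hxinf, hxp⟩ := mv_prod H t.2 t'.2 hγ hne'
      obtain ⟨y, hyH, hyU, hyp⟩ := two_pt hm hF H hκ hκH hxH hx1 hxinf
        (smul_mem_ovoid t.1.2 (pInf_mem m)) t.2.2.2 hxp
      exact p.2 ⟨y, Subgroup.mem_inf.mpr ⟨hyH, hyU⟩⟩ (h1.trans hyp)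
  have hMv : Nat.card ↥(Mv H) ≤
      Nat.card ↥(H ⊓ U hm hF) * Nat.card ↥(H.comap (DHom hm hF)) + Nat.card ↥(OmP hm hF H) := by
    rw [← Nat.card_prod, ← Nat.card_sum]
    exact Nat.card_le_card_of_injective f hfinj
  -- (iii)
  have hmem3 : ∀ y : ↥(H ⊓ U hm hF), y.1.1 • Cfsg.suzukiPointZero F ∈ Om H := by
    intro y
    obtain ⟨hyH, hyU⟩ := Subgroup.mem_inf.mp y.2
    refine ⟨U_zero_ne hm hF hyU, y.1 * w₀, H.mul_mem hyH hw₀, ?_⟩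
    show (y.1.1 * w₀.1) • _ = _
    rw [mul_smul, hw₀0]
  have hOm : Nat.card ↥(OmP hm hF H) + Nat.card ↥(H ⊓ U hm hF) ≤ Nat.card ↥(Om H) := by
    rw [← Nat.card_sum]
    apply Nat.card_le_card_of_injective
      (Sum.elim (fun p : ↥(OmP hm hF H) => p.1) (fun y : ↥(H ⊓ U hm hF) => (⟨_, hmem3 y⟩ : ↥(Om H))))
    rintro (p | y) (p' | y') h
    · have h' : p.1 = p'.1 := h
      rw [Subtype.ext h']
    · exfalso
      have h' : p.1 = (⟨_, hmem3 y'⟩ : ↥(Om H)) := h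
      exact p.2 y' (congrArg Subtype.val h')
    · exfalso
      have h' : (⟨_, hmem3 y⟩ : ↥(Om H)) = p'.1 := h
      exact p'.2 y (congrArg Subtype.val h').symm
    · have h' : (⟨_, hmem3 y⟩ : ↥(Om H)) = (⟨_, hmem3 y'⟩ : ↥(Om H)) := h
      have h'' : y.1.1 • Cfsg.suzukiPointZero F = y'.1.1 • Cfsg.suzukiPointZero F :=
        congrArg Subtype.val h'
      have := U_zero_inj hm hF (Subgroup.mem_inf.mp y.2).2 (Subgroup.mem_inf.mp y'.2).2 h''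
      rw [Subtype.ext this]
  -- (iv)
  obtain ⟨z0, hz0⟩ : ∃ z0 : ↥(Zb hm hF H), z0 = ⟨0, zero_mem_Zb hm hF H⟩ := ⟨_, rfl⟩
  have hz0v : z0.1 = 0 := by rw [hz0]
  have hmem4 : ∀ k : ↥(H.comap (DHom hm hF)),
      ((k.1 : Fˣ) : F) ^ (2 ^ (m + 1) + 2) * b1 ∈ Zb hm hF H := by
    intro k
    show u hm hF 0 (((k.1 : Fˣ) : F) ^ (2 ^ (m + 1) + 2) * b1) ∈ H
    have e := D_u hm hF k.1 0 b1
    rw [mul_zero] at e
    rw [← e]
    exact H.mul_mem (H.mul_mem k.2 hb1H) (H.inv_mem k.2)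
  have hne4 : ∀ k : ↥(H.comap (DHom hm hF)),
      (⟨_, hmem4 k⟩ : ↥(Zb hm hF H)) ≠ z0 := by
    intro k h
    have h' : ((k.1 : Fˣ) : F) ^ (2 ^ (m + 1) + 2) * b1 = 0 :=
      (congrArg Subtype.val h).trans hz0v
    rcases mul_eq_zero.mp h' with h0 | h0
    · exact (pow_ne_zero _ (Units.ne_zero k.1)) h0
    · exact hb1 h0
  have hd : Nat.card ↥(H.comap (DHom hm hF)) ≤ Nat.card ↥(Zb hm hF H) - 1 := by
    rw [← Cfsg.Agent.Lib.Helper14.SzTori.card_ne' z0]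
    apply Nat.card_le_card_of_injective
      (fun k : ↥(H.comap (DHom hm hF)) =>
        (⟨⟨_, hmem4 k⟩, hne4 k⟩ : {z : ↥(Zb hm hF H) // z ≠ z0}))
    intro k k' h
    have h' : ((k.1 : Fˣ) : F) ^ (2 ^ (m + 1) + 2) * b1 =
        ((k'.1 : Fˣ) : F) ^ (2 ^ (m + 1) + 2) * b1 :=
      congrArg (fun z : {z : ↥(Zb hm hF H) // z ≠ z0} => z.1.1) h
    have h2 : ((k.1 : Fˣ) : F) ^ (2 ^ (m + 1) + 2) = ((k'.1 : Fˣ) : F) ^ (2 ^ (m + 1) + 2) :=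
      mul_right_cancel₀ hb1 h'
    have h3 : (((k.1 * k'.1⁻¹ : Fˣ) : Fˣ) : F) ^ (2 ^ (m + 1) + 2) = 1 := by
      rw [Units.val_mul, mul_pow, h2, ← mul_pow, ← Units.val_mul, mul_inv_cancel, Units.val_one,
        one_pow]
    have h4 : k.1 * k'.1⁻¹ = 1 := Units.ext (pow_s2_eq_one hs h3)
    exact Subtype.ext (mul_inv_eq_one.mp h4)
  -- (v)
  have h2d : 2 ≤ Nat.card ↥(H.comap (DHom hm hF)) := by
    have hnt : Nontrivial ↥(H.comap (DHom hm hF)) :=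
      ⟨⟨⟨κ, hκH⟩, 1, fun h => hκ (congrArg Subtype.val h)⟩⟩
    exact Finite.one_lt_card_iff_nontrivial.mpr hnt
  have hq1 : 1 ≤ Nat.card ↥(H ⊓ U hm hF) := Nat.card_pos
  exact arith (le_trans (count hm hF H) hMv) hOm hd h2d hq1

end Cfsg.Agent.Lib.Helper3.SzMax5
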