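import Mathlib
import Cfsg.Prelude.Def_LieExceptional
import Cfsg.Agent.Lib.Helper3.SzMax5

set_option autoImplicit false
set_option linter.unusedSectionVars false

namespace Cfsg.Agent.Lib.Helper3.SzMax6

open Matrix Cfsg.Agent.Lib.Helper3.Sz1 Cfsg.Agent.Lib.Helper3.Sz2 Cfsg.Agent.Lib.Helper3.Sz3
  Cfsg.Agent.Lib.Helper3.Sz4 Cfsg.Agent.Lib.Helper3.Sz5 Cfsg.Agent.Lib.Helper3.Sz6
  Cfsg.Agent.Lib.Helper3.Sz7 Cfsg.Agent.Lib.Helper3.Sz9 Cfsg.Agent.Lib.Helper3.Sz10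
  Cfsg.Agent.Lib.Helper3.Sz11 Cfsg.Agent.Lib.Helper3.Sz15 Cfsg.Agent.Lib.Helper3.SzR
  Cfsg.Agent.Lib.Helper3.SzFix1 Cfsg.Agent.Lib.Helper3.SzFix2 Cfsg.Agent.Lib.Helper3.SzSub2
  Cfsg.Agent.Lib.Helper3.SzMax1 Cfsg.Agent.Lib.Helper3.SzMax2 Cfsg.Agent.Lib.Helper3.SzMax3
  Cfsg.Agent.Lib.Helper3.SzMax4 Cfsg.Agent.Lib.Helper3.SzMax5

variable {F : Type*} [Field F] [Fintype F] {m : ℕ}

/-- the order of `H` in the `Z`-setting. -/
theorem card_H (hm : 1 ≤ m) (hF : Fintype.card F = 2 ^ (2 * m + 1))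
    (H : Subgroup ↥(Cfsg.Sz F m)) {κ : Fˣ} (hκ : κ ≠ 1) (hκH : DHom hm hF κ ∈ H) :
    Nat.card ↥H = (Nat.card ↥(Om H) + 1) *
      (Nat.card ↥(H ⊓ U hm hF) * Nat.card ↥(H.comap (DHom hm hF))) := by
  classical
  have hs := hyp_of_card hm hF
  have hfin : Finite (Matrix.SpecialLinearGroup (Fin 4) F) := finite_SL
  have hex : ∀ o : Option ↥(Om H), ∃ h : ↥(Cfsg.Sz F m), h ∈ H ∧
      h.1 • Cfsg.suzukiPointInfinity F =
        (o.elim (Cfsg.suzukiPointInfinity F) (fun p => p.1)) := by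
    intro o
    rcases o with _ | p
    · exact ⟨1, H.one_mem, one_smul _ _⟩
    · exact p.2.2
  choose rep hrepH hrep using hex
  have hmem : ∀ x : Option ↥(Om H) × (↥(H ⊓ U hm hF) × ↥(H.comap (DHom hm hF))),
      rep x.1 * x.2.1.1 * DHom hm hF x.2.2.1 ∈ H := fun x =>
    H.mul_mem (H.mul_mem (hrepH _) (Subgroup.mem_inf.mp x.2.1.2).1) x.2.2.2
  rw [← Finite.card_option, ← Nat.card_prod, ← Nat.card_prod]
  symm
  apply Nat.card_congr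
  apply Equiv.ofBijective (fun x => (⟨_, hmem x⟩ : ↥H))
  constructor
  · rintro ⟨o, y, k⟩ ⟨o', y', k'⟩ h
    have h' : rep o * y.1 * DHom hm hF k.1 = rep o' * y'.1 * DHom hm hF k'.1 :=
      congrArg Subtype.val h
    have hyinf := U_inf hm hF (Subgroup.mem_inf.mp y.2).2
    have hyinf' := U_inf hm hF (Subgroup.mem_inf.mp y'.2).2
    have h1 : (rep o).1 • Cfsg.suzukiPointInfinity F = (rep o').1 • Cfsg.suzukiPointInfinity F := by
      have e := congrArg (fun g : ↥(Cfsg.Sz F m) => g.1 • Cfsg.suzukiPointInfinity F) h'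
      have e' : ((rep o).1 * y.1.1 * D (2 ^ (m + 1)) k.1) • Cfsg.suzukiPointInfinity F =
          ((rep o').1 * y'.1.1 * D (2 ^ (m + 1)) k'.1) • Cfsg.suzukiPointInfinity F := e
      rw [mul_smul, mul_smul, mul_smul, mul_smul, D_pInf, D_pInf, hyinf, hyinf'] at e'
      exact e'
    rw [hrep, hrep] at h1
    have ho : o = o' := by
      rcases o with _ | p <;> rcases o' with _ | p'
      · rfl
      · exact absurd h1.symm p'.2.1
      · exact absurd h1 p.2.1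
      · have h1' : p.1 = p'.1 := h1
        rw [Subtype.ext h1']
    subst ho
    have h2 : y.1 * DHom hm hF k.1 = y'.1 * DHom hm hF k'.1 := by
      have e : y.1 * DHom hm hF k.1 = (rep o)⁻¹ * (rep o * y.1 * DHom hm hF k.1) := by group
      rw [e, h']
      group
    obtain ⟨a, b, hab⟩ := (Subgroup.mem_inf.mp y.2).2
    obtain ⟨a', b', hab'⟩ := (Subgroup.mem_inf.mp y'.2).2
    rw [hab, hab'] at h2
    have h3 : T (2 ^ (m + 1)) a b * D (2 ^ (m + 1)) k.1 =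
        T (2 ^ (m + 1)) a' b' * D (2 ^ (m + 1)) k'.1 := congrArg Subtype.val h2
    obtain ⟨e1, e2, e3⟩ := TD_inj h3
    have hy : y = y' := by
      apply Subtype.ext
      rw [hab, hab', e1, e2]
    have hk : k = k' := Subtype.ext e3
    rw [hy, hk]
  · rintro ⟨h, hh⟩
    have key : ∀ (o : Option ↥(Om H)),
        ((rep o)⁻¹ * h).1 • Cfsg.suzukiPointInfinity F = Cfsg.suzukiPointInfinity F →
        ∃ x : Option ↥(Om H) × (↥(H ⊓ U hm hF) × ↥(H.comap (DHom hm hF))),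
          rep x.1 * x.2.1.1 * DHom hm hF x.2.2.1 = h := by
      intro o ho
      obtain ⟨a, b, k, hxe, huH, hkH⟩ := stab_form hm hF H hκ hκH
        (H.mul_mem (H.inv_mem (hrepH o)) hh) ho
      refine ⟨(o, ⟨u hm hF a b, Subgroup.mem_inf.mpr ⟨huH, ⟨a, b, rfl⟩⟩⟩, ⟨k, hkH⟩), ?_⟩
      show rep o * u hm hF a b * DHom hm hF k = h
      rw [mul_assoc, ← hxe]
      group
    by_cases hinf : h.1 • Cfsg.suzukiPointInfinity F = Cfsg.suzukiPointInfinity F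
    · obtain ⟨x, hx⟩ := key none (by
        show ((rep none).1⁻¹ * h.1) • _ = _
        rw [mul_smul, hinf, inv_smul_eq_iff, hrep]
        rfl)
      exact ⟨x, Subtype.ext hx⟩
    · obtain ⟨x, hx⟩ := key (some ⟨h.1 • Cfsg.suzukiPointInfinity F, hinf, h, hh, rfl⟩) (by
        show ((rep _).1⁻¹ * h.1) • _ = _
        rw [mul_smul, inv_smul_eq_iff, hrep]
        rfl)
      exact ⟨x, Subtype.ext hx⟩

/-- the first coordinates of the elements of `H ∩ U`. -/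
def Ab (hm : 1 ≤ m) (hF : Fintype.card F = 2 ^ (2 * m + 1)) (H : Subgroup ↥(Cfsg.Sz F m)) :
    Set F := {a | ∃ b, u hm hF a b ∈ H}

theorem zero_mem_Ab (hm : 1 ≤ m) (hF : Fintype.card F = 2 ^ (2 * m + 1))
    (H : Subgroup ↥(Cfsg.Sz F m)) : (0 : F) ∈ Ab hm hF H := by
  refine ⟨0, ?_⟩
  rw [u_zero]
  exact H.one_mem

theorem card_Q (hm : 1 ≤ m) (hF : Fintype.card F = 2 ^ (2 * m + 1))
    (H : Subgroup ↥(Cfsg.Sz F m)) :
    Nat.card ↥(H ⊓ U hm hF) = Nat.card ↥(Ab hm hF H) * Nat.card ↥(Zb hm hF H) := by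
  classical
  have hs := hyp_of_card hm hF
  have hfin : Finite (Matrix.SpecialLinearGroup (Fin 4) F) := finite_SL
  have hex : ∀ a : ↥(Ab hm hF H), ∃ b, u hm hF a.1 b ∈ H := fun a => a.2
  choose β hβ using hex
  have hmul : ∀ (a e b : F), u hm hF 0 e * u hm hF a b = u hm hF a (b + e) := by
    intro a e b
    rw [u_mul, add_zero, zero_pow (by positivity), zero_mul, add_zero]
  have hmem : ∀ x : ↥(Ab hm hF H) × ↥(Zb hm hF H),
      u hm hF x.1.1 (β x.1 + x.2.1) ∈ H ⊓ U hm hF := by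
    intro x
    refine Subgroup.mem_inf.mpr ⟨?_, ⟨_, _, rfl⟩⟩
    rw [← hmul]
    exact H.mul_mem x.2.2 (hβ x.1)
  rw [← Nat.card_prod]
  symm
  apply Nat.card_congr
  apply Equiv.ofBijective (fun x => (⟨_, hmem x⟩ : ↥(H ⊓ U hm hF)))
  constructor
  · rintro ⟨a, e⟩ ⟨a', e'⟩ h
    have h' : u hm hF a.1 (β a + e.1) = u hm hF a'.1 (β a' + e'.1) := congrArg Subtype.val h
    obtain ⟨h1, h2⟩ := u_inj hm hF h'
    have ha : a = a' := Subtype.ext h1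
    subst ha
    have he : e = e' := Subtype.ext (add_left_cancel h2)
    rw [he]
  · rintro ⟨x, hx⟩
    obtain ⟨hxH, a, b, rfl⟩ := Subgroup.mem_inf.mp hx
    have haA : a ∈ Ab hm hF H := ⟨b, hxH⟩
    have he : b - β ⟨a, haA⟩ ∈ Zb hm hF H := by
      show u hm hF 0 (b - β ⟨a, haA⟩) ∈ H
      have e : u hm hF 0 (b - β ⟨a, haA⟩) = u hm hF a b * (u hm hF a (β ⟨a, haA⟩))⁻¹ := by
        rw [eq_mul_inv_iff_mul_eq, hmul]
        congr 1
        ring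
      rw [e]
      exact H.mul_mem hxH (H.inv_mem (hβ ⟨a, haA⟩))
    refine ⟨(⟨a, haA⟩, ⟨_, he⟩), Subtype.ext ?_⟩
    show u hm hF a (β ⟨a, haA⟩ + (b - β ⟨a, haA⟩)) = u hm hF a b
    congr 1
    ring

theorem card_Ab_le (hm : 1 ≤ m) (hF : Fintype.card F = 2 ^ (2 * m + 1))
    (H : Subgroup ↥(Cfsg.Sz F m)) : Nat.card ↥(Ab hm hF H) ≤ Nat.card ↥(Zb hm hF H) := by
  classical
  have hs := hyp_of_card hm hF
  have hmem : ∀ a : ↥(Ab hm hF H), a.1 ^ (2 ^ (m + 1)) * a.1 ∈ Zb hm hF H := by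
    intro a
    obtain ⟨b, hb⟩ := a.2
    show u hm hF 0 (a.1 ^ (2 ^ (m + 1)) * a.1) ∈ H
    rw [← u_sq' hm hF a.1 b]
    exact H.mul_mem hb hb
  apply Nat.card_le_card_of_injective (fun a => (⟨_, hmem a⟩ : ↥(Zb hm hF H)))
  intro a a' h
  have h' : a.1 ^ (2 ^ (m + 1)) * a.1 = a'.1 ^ (2 ^ (m + 1)) * a'.1 := congrArg Subtype.val h
  exact Subtype.ext (pow_s1_inj hs h')

theorem card_Ab_ge (hm : 1 ≤ m) (hF : Fintype.card F = 2 ^ (2 * m + 1))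
    (H : Subgroup ↥(Cfsg.Sz F m)) {a₁ : F} (ha₁ : a₁ ∈ Ab hm hF H) (ha₁0 : a₁ ≠ 0) :
    Nat.card ↥(H.comap (DHom hm hF)) + 1 ≤ Nat.card ↥(Ab hm hF H) := by
  classical
  have hs := hyp_of_card hm hF
  obtain ⟨z0, hz0⟩ : ∃ z0 : ↥(Ab hm hF H), z0 = ⟨0, zero_mem_Ab hm hF H⟩ := ⟨_, rfl⟩
  have hz0v : z0.1 = 0 := by rw [hz0]
  obtain ⟨b, hb⟩ := ha₁
  have hmem : ∀ k : ↥(H.comap (DHom hm hF)),
      ((k.1 : Fˣ) : F) ^ (2 ^ (m + 1)) * a₁ ∈ Ab hm hF H := by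
    intro k
    refine ⟨((k.1 : Fˣ) : F) ^ (2 ^ (m + 1) + 2) * b, ?_⟩
    rw [← D_u]
    exact H.mul_mem (H.mul_mem k.2 hb) (H.inv_mem k.2)
  have hne : ∀ k : ↥(H.comap (DHom hm hF)), (⟨_, hmem k⟩ : ↥(Ab hm hF H)) ≠ z0 := by
    intro k h
    have h' : ((k.1 : Fˣ) : F) ^ (2 ^ (m + 1)) * a₁ = 0 := (congrArg Subtype.val h).trans hz0v
    rcases mul_eq_zero.mp h' with h0 | h0
    · exact (pow_ne_zero _ (Units.ne_zero k.1)) h0
    · exact ha₁0 h0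
  have hle : Nat.card ↥(H.comap (DHom hm hF)) ≤ Nat.card ↥(Ab hm hF H) - 1 := by
    rw [← Cfsg.Agent.Lib.Helper14.SzTori.card_ne' z0]
    apply Nat.card_le_card_of_injective
      (fun k : ↥(H.comap (DHom hm hF)) =>
        (⟨⟨_, hmem k⟩, hne k⟩ : {z : ↥(Ab hm hF H) // z ≠ z0}))
    intro k k' h
    have h' : ((k.1 : Fˣ) : F) ^ (2 ^ (m + 1)) * a₁ = ((k'.1 : Fˣ) : F) ^ (2 ^ (m + 1)) * a₁ :=
      congrArg (fun z : {z : ↥(Ab hm hF H) // z ≠ z0} => z.1.1) h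
    have h2 : ((k.1 : Fˣ) : F) ^ (2 ^ (m + 1)) = ((k'.1 : Fˣ) : F) ^ (2 ^ (m + 1)) :=
      mul_right_cancel₀ ha₁0 h'
    exact Subtype.ext (Units.ext (pow_s_inj hs h2))
  have hpos : 0 < Nat.card ↥(Ab hm hF H) := by
    have : Nonempty ↥(Ab hm hF H) := ⟨z0⟩
    exact Nat.card_pos
  omega

theorem e_dvd {e n : ℕ} (h : 2 ^ e - 1 ∣ 2 ^ n - 1) : e ∣ n := by
  have h1 := Nat.pow_sub_one_gcd_pow_sub_one 2 e n
  rw [Nat.gcd_eq_left h] at h1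
  have h2 : 2 ^ e = 2 ^ (Nat.gcd e n) := by
    have h3 : 1 ≤ 2 ^ e := Nat.one_le_two_pow
    have h4 : 1 ≤ 2 ^ (Nat.gcd e n) := Nat.one_le_two_pow
    omega
  have h5 : e = Nat.gcd e n := Nat.pow_right_injective (le_refl 2) h2
  rw [h5]
  exact Nat.gcd_dvd_right e n

end Cfsg.Agent.Lib.Helper3.SzMax6
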