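import Mathlib
import Cfsg.Prelude.Def_LieExceptional
import Cfsg.Agent.Lib.Helper3.SzMax6

set_option autoImplicit false
set_option linter.unusedSectionVars false

namespace Cfsg.Agent.Lib.Helper3.SzMax7

open Matrix Cfsg.Agent.Lib.Helper3.Sz1 Cfsg.Agent.Lib.Helper3.Sz2 Cfsg.Agent.Lib.Helper3.Sz3
  Cfsg.Agent.Lib.Helper3.Sz4 Cfsg.Agent.Lib.Helper3.Sz5 Cfsg.Agent.Lib.Helper3.Sz6
  Cfsg.Agent.Lib.Helper3.Sz7 Cfsg.Agent.Lib.Helper3.Sz9 Cfsg.Agent.Lib.Helper3.Sz10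
  Cfsg.Agent.Lib.Helper3.Sz11 Cfsg.Agent.Lib.Helper3.Sz15 Cfsg.Agent.Lib.Helper3.SzR
  Cfsg.Agent.Lib.Helper3.SzFix1 Cfsg.Agent.Lib.Helper3.SzFix2 Cfsg.Agent.Lib.Helper3.SzSub2
  Cfsg.Agent.Lib.Helper3.SzMax1 Cfsg.Agent.Lib.Helper3.SzMax2 Cfsg.Agent.Lib.Helper3.SzMax3
  Cfsg.Agent.Lib.Helper3.SzMax4 Cfsg.Agent.Lib.Helper3.SzMax5 Cfsg.Agent.Lib.Helper3.SzMax6

variable {F : Type*} [Field F] [Fintype F] {m : ℕ}

theorem three_dvd (d : ℕ) : 3 ∣ (d + 1 + 1) * ((d + 1) * d) := by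
  induction d with
  | zero => simp
  | succ n ih =>
    have e : (n + 1 + 1 + 1) * ((n + 1 + 1) * (n + 1)) =
        (n + 1 + 1) * ((n + 1) * n) + 3 * ((n + 1 + 1) * (n + 1)) := by ring
    rw [e]
    exact dvd_add ih (dvd_mul_right _ _)

/-- the `Z`-setting : `H` is of Suzuki type over a subfield. -/
theorem z_case (hm : 1 ≤ m) (hF : Fintype.card F = 2 ^ (2 * m + 1))
    (H : Subgroup ↥(Cfsg.Sz F m)) {b1 : F} (hb1 : b1 ≠ 0) (hb1H : u hm hF 0 b1 ∈ H)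
    {κ : Fˣ} (hκ : κ ≠ 1) (hκH : DHom hm hF κ ∈ H) {h₁ : ↥(Cfsg.Sz F m)} (hh₁ : h₁ ∈ H)
    (hh₁0 : h₁.1 • Cfsg.suzukiPointInfinity F = Cfsg.suzukiPointZero F) :
    ∃ k : ℕ, 1 ≤ k ∧ 2 * k + 1 ∣ 2 * m + 1 ∧
      ∃ (Q : Subgroup ↥(Cfsg.Sz F m)) (c w : ↥(Cfsg.Sz F m)),
        Dat (2 ^ (2 * k + 1)) H Q c w := by
  classical
  have hs := hyp_of_card hm hF
  have hfin : Finite (Matrix.SpecialLinearGroup (Fin 4) F) := finite_SL
  obtain ⟨w₀, hw₀, hw₀2, hw₀0⟩ := exists_swap hm hF H hb1 hb1H hκ hκH hh₁ hh₁0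
  obtain ⟨hN, hzd⟩ := z_count hm hF H hb1 hb1H hκ hκH hw₀ hw₀2 hw₀0
  have hcard := card_H hm hF H hκ hκH
  have hQ := card_Q hm hF H
  have hAle := card_Ab_le hm hF H
  have h2d : 2 ≤ Nat.card ↥(H.comap (DHom hm hF)) := by
    have hnt : Nontrivial ↥(H.comap (DHom hm hF)) :=
      ⟨⟨⟨κ, hκH⟩, 1, fun h => hκ (congrArg Subtype.val h)⟩⟩
    exact Finite.one_lt_card_iff_nontrivial.mpr hnt
  have hddvd : Nat.card ↥(H.comap (DHom hm hF)) ∣ 2 ^ (2 * m + 1) - 1 := by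
    have h1 : Nat.card ↥(H.comap (DHom hm hF)) ∣ Nat.card Fˣ :=
      Subgroup.card_subgroup_dvd_card _
    rw [Nat.card_units, Nat.card_eq_fintype_card (α := F), hF] at h1
    exact h1
  have hQU : Nat.card ↥(H ⊓ U hm hF) ∣ 2 ^ ((2 * m + 1) * 2) := by
    have h1 : Nat.card ↥(H ⊓ U hm hF) ∣ Nat.card ↥(U hm hF) :=
      Subgroup.card_dvd_of_le inf_le_right
    rw [card_U, ← pow_mul] at h1
    exact h1
  obtain ⟨g, hg⟩ := (inferInstance : IsCyclic ↥(H.comap (DHom hm hF))).exists_generator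
  have hordg : orderOf (DHom hm hF g.1) = Nat.card ↥(H.comap (DHom hm hF)) := by
    rw [← orderOf_eq_card_of_forall_mem_zpowers hg]
    exact (orderOf_injective (DHom hm hF) (fun _ _ h => DHom_inj hm hF h) g.1).trans
      (Subgroup.orderOf_coe g)
  -- name the cardinalities
  obtain ⟨z, hz⟩ : ∃ z, z = Nat.card ↥(Zb hm hF H) := ⟨_, rfl⟩
  obtain ⟨d, hd⟩ : ∃ d, d = Nat.card ↥(H.comap (DHom hm hF)) := ⟨_, rfl⟩
  obtain ⟨A, hA⟩ : ∃ A, A = Nat.card ↥(Ab hm hF H) := ⟨_, rfl⟩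
  obtain ⟨qQ, hqQ⟩ : ∃ qQ, qQ = Nat.card ↥(H ⊓ U hm hF) := ⟨_, rfl⟩
  rw [← hz, ← hd] at hzd
  rw [← hA, ← hz, ← hqQ] at hQ
  rw [← hA, ← hz] at hAle
  rw [hN, ← hqQ, ← hd] at hcard
  rw [← hd] at h2d hddvd hordg
  rw [← hqQ] at hQU
  have hzpos : z = d + 1 := by omega
  have hex : ∃ a₁, a₁ ∈ Ab hm hF H ∧ a₁ ≠ 0 := by
    by_contra hno
    push Not at hno
    have hA1 : A = 1 := by
      rw [hA]
      have h1 : Subsingleton ↥(Ab hm hF H) :=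
        ⟨fun a a' => Subtype.ext ((hno a.1 a.2).trans (hno a'.1 a'.2).symm)⟩
      have h2 : Nonempty ↥(Ab hm hF H) := ⟨⟨0, zero_mem_Ab hm hF H⟩⟩
      exact Nat.card_eq_one_iff_unique.mpr ⟨h1, h2⟩
    have h3 : 3 ∣ Nat.card ↥H := by
      rw [hcard, hQ, hA1, one_mul, hzpos]
      exact three_dvd d
    exact Cfsg.Agent.Lib.Helper14.SzTori.three_not_dvd hm hF
      (dvd_trans h3 (Subgroup.card_subgroup_dvd_card H))
  obtain ⟨a₁, ha₁, ha₁0⟩ := hex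
  have hAge := card_Ab_ge hm hF H ha₁ ha₁0
  rw [← hd, ← hA] at hAge
  have hAz : A = z := by omega
  rw [hAz] at hQ
  have hzdvd : z ∣ 2 ^ ((2 * m + 1) * 2) := by
    rw [hQ] at hQU
    exact dvd_trans (Dvd.intro _ rfl) hQU
  obtain ⟨e, -, hze⟩ := (Nat.dvd_prime_pow Nat.prime_two).mp hzdvd
  have hde : d = 2 ^ e - 1 := by omega
  rw [hde] at hddvd
  have hediv := e_dvd hddvd
  have hodd : e % 2 = 1 := by
    obtain ⟨c, hc⟩ := hediv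
    by_contra h
    have h0 : e % 2 = 0 := by omega
    have h2 : (e * c) % 2 = 0 := by rw [Nat.mul_mod, h0]; simp
    omega
  have he2 : 2 ≤ e := by
    by_contra h
    have h01 : e = 0 ∨ e = 1 := by omega
    rcases h01 with rfl | rfl
    · norm_num at hze
      omega
    · norm_num at hze
      omega
  obtain ⟨k, hk⟩ : ∃ k, e = 2 * k + 1 := ⟨e / 2, by omega⟩
  subst hk
  refine ⟨k, by omega, hediv, H ⊓ U hm hF, DHom hm hF g.1, w₀, ?_⟩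
  -- `w₀ = wS * D(j)`
  have hw0inf : w₀.1 • Cfsg.suzukiPointZero F = Cfsg.suzukiPointInfinity F := by
    rw [← hw₀0, ← mul_smul]
    have e : w₀.1 * w₀.1 = 1 := congrArg Subtype.val hw₀2
    rw [e, one_smul]
  have h1 : (wS hm hF * w₀).1 • Cfsg.suzukiPointInfinity F = Cfsg.suzukiPointInfinity F := by
    show (W hs * w₀.1) • _ = _
    rw [mul_smul, hw₀0, W_pZero]
  have h2 : (wS hm hF * w₀).1 • Cfsg.suzukiPointZero F = Cfsg.suzukiPointZero F := by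
    show (W hs * w₀.1) • _ = _
    rw [mul_smul, hw0inf, W_pInf]
  obtain ⟨j, hj⟩ := stab_two hm hF (wS hm hF * w₀).2 h1 h2
  have hj' : wS hm hF * w₀ = DHom hm hF j := Subtype.ext hj
  have hw0e : w₀ = wS hm hF * DHom hm hF j := by
    rw [← hj', ← mul_assoc, wS_sq, one_mul]
  refine ⟨?_, inf_le_left, ?_, ?_, g.2, ?_, ?_, hw₀, hw₀2, ?_⟩
  · rw [hcard, hQ, hze, hde]
    ring
  · rw [← hqQ, hQ, hze]
    ring
  · obtain ⟨b, hb⟩ := ha₁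
    refine ⟨u hm hF a₁ b, Subgroup.mem_inf.mpr ⟨hb, ⟨_, _, rfl⟩⟩, ?_⟩
    intro h
    exact ha₁0 (a_zero_of_sq hm hF h)
  · rw [hordg, hde]
  · intro x hx
    obtain ⟨hxH, a, b, rfl⟩ := Subgroup.mem_inf.mp hx
    refine Subgroup.mem_inf.mpr ⟨H.mul_mem (H.mul_mem g.2 hxH) (H.inv_mem g.2), ?_⟩
    rw [D_u]
    exact ⟨_, _, rfl⟩
  · rw [hw0e]
    have hcomm : DHom hm hF j * DHom hm hF g.1 = DHom hm hF g.1 * DHom hm hF j := by
      rw [← map_mul, ← map_mul, mul_comm]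
    calc wS hm hF * DHom hm hF j * DHom hm hF g.1 * (wS hm hF * DHom hm hF j)⁻¹
        = wS hm hF * (DHom hm hF j * DHom hm hF g.1) * (DHom hm hF j)⁻¹ * (wS hm hF)⁻¹ := by
          group
      _ = wS hm hF * DHom hm hF g.1 * (wS hm hF)⁻¹ := by rw [hcomm]; group
      _ = (DHom hm hF g.1)⁻¹ := by rw [wS_D, map_inv]; group

end Cfsg.Agent.Lib.Helper3.SzMax7
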