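import Mathlib
import Cfsg.Prelude.Def_LieExceptional
import Cfsg.Agent.Lib.Helper3.SzMax7

set_option autoImplicit false
set_option linter.unusedSectionVars false

namespace Cfsg.Agent.Lib.Helper3.SzMax8

open Matrix Cfsg.Agent.Lib.Helper3.Sz1 Cfsg.Agent.Lib.Helper3.Sz2 Cfsg.Agent.Lib.Helper3.Sz3
  Cfsg.Agent.Lib.Helper3.Sz4 Cfsg.Agent.Lib.Helper3.Sz5 Cfsg.Agent.Lib.Helper3.Sz6
  Cfsg.Agent.Lib.Helper3.Sz7 Cfsg.Agent.Lib.Helper3.Sz9 Cfsg.Agent.Lib.Helper3.Sz10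
  Cfsg.Agent.Lib.Helper3.Sz11 Cfsg.Agent.Lib.Helper3.Sz15 Cfsg.Agent.Lib.Helper3.SzR
  Cfsg.Agent.Lib.Helper3.SzFix1 Cfsg.Agent.Lib.Helper3.SzFix2 Cfsg.Agent.Lib.Helper3.SzSub1
  Cfsg.Agent.Lib.Helper3.SzSub2 Cfsg.Agent.Lib.Helper3.SzSub4
  Cfsg.Agent.Lib.Helper3.SzMax1 Cfsg.Agent.Lib.Helper3.SzMax2 Cfsg.Agent.Lib.Helper3.SzMax3
  Cfsg.Agent.Lib.Helper3.SzMax4 Cfsg.Agent.Lib.Helper3.SzMax5 Cfsg.Agent.Lib.Helper3.SzMax6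
  Cfsg.Agent.Lib.Helper3.SzMax7

variable {F : Type*} [Field F] [Fintype F] {m : ℕ}

/-- Suzuki's theorem on the subgroups of `Sz(q)`. -/
theorem main (hm : 1 ≤ m) (hF : Fintype.card F = 2 ^ (2 * m + 1))
    (M : Subgroup ↥(Cfsg.Sz F m)) (hM : M ≠ ⊤) :
    Conc12 M ∨
    (∃ (K : Type) (_ : Field K) (_ : Fintype K) (k : ℕ), 1 ≤ k ∧ k < m ∧
      Fintype.card K = 2 ^ (2 * k + 1) ∧ 2 * k + 1 ∣ 2 * m + 1 ∧
      ∃ S : Subgroup ↥(Cfsg.Sz F m), Nonempty (↥S ≃* ↥(Cfsg.Sz K k)) ∧ M ≤ S) := by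
  classical
  have hs := hyp_of_card hm hF
  have hfin : Finite (Matrix.SpecialLinearGroup (Fin 4) F) := finite_SL
  have hp2 : Fact (Nat.Prime 2) := ⟨Nat.prime_two⟩
  by_cases hM1 : M = ⊥
  · left
    left
    obtain ⟨P⟩ := (inferInstance : Nonempty (Sylow 2 ↥(Cfsg.Sz F m)))
    refine ⟨P, ?_⟩
    rw [hM1]
    exact bot_le
  by_cases hT : TwoInv hm hF M
  swap
  · left
    exact conc_of_not_twoInv hm hF M hM1 hT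
  obtain ⟨γ, b1, b2, hb1, hb2, hb12, h1, h2⟩ := hT
  obtain ⟨H₁, hH₁⟩ : ∃ H₁ : Subgroup ↥(Cfsg.Sz F m),
      H₁ = M.map (MulAut.conj γ⁻¹).toMonoidHom := ⟨_, rfl⟩
  have hmem₁ : ∀ y, y ∈ H₁ ↔ γ * y * γ⁻¹ ∈ M := by
    intro y
    rw [hH₁, mem_conj, inv_inv]
  have hu1 : u hm hF 0 b1 ∈ H₁ := (hmem₁ _).mpr h1
  have hu2 : u hm hF 0 b2 ∈ H₁ := (hmem₁ _).mpr h2
  by_cases hfix : ∀ h ∈ H₁, h.1 • Cfsg.suzukiPointInfinity F = Cfsg.suzukiPointInfinity F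
  · left
    left
    apply conc1_of_fix hm hF M (p := γ.1 • Cfsg.suzukiPointInfinity F)
      (smul_mem_ovoid γ.2 (pInf_mem m))
    intro h hh
    have h3 := hfix (γ⁻¹ * h * γ) ((hmem₁ _).mpr (by
      have e : γ * (γ⁻¹ * h * γ) * γ⁻¹ = h := by group
      rw [e]
      exact hh))
    have h4 : (γ.1⁻¹ * h.1 * γ.1) • Cfsg.suzukiPointInfinity F = Cfsg.suzukiPointInfinity F := h3
    rw [mul_smul, mul_smul, inv_smul_eq_iff] at h4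
    exact h4
  push Not at hfix
  obtain ⟨x, hx, hx1, hxinf, p, hp, hxp⟩ := exists_two_pt hm hF H₁ hb1 hb2 hb12 hu1 hu2 hfix
  obtain ⟨g, hg1, ⟨κ, hκ, hκH⟩, h₁, hh₁, hh₁0⟩ := to_zero hm hF H₁ hu1 hx hx1 hxinf hp hxp
  obtain ⟨k, hk1, hdiv, Q, c, w, hD⟩ :=
    z_case hm hF (H₁.map (MulAut.conj g).toMonoidHom) hb1 hg1 hκ hκH hh₁ hh₁0
  right
  have hD' := hD.conj (γ * g⁻¹)
  have hback : ((H₁.map (MulAut.conj g).toMonoidHom).map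
      (MulAut.conj (γ * g⁻¹)).toMonoidHom) = M := by
    ext y
    rw [mem_conj, mem_conj, hmem₁]
    have e : γ * (g⁻¹ * ((γ * g⁻¹)⁻¹ * y * (γ * g⁻¹)) * g) * γ⁻¹ = y := by group
    rw [e]
  rw [hback] at hD'
  have hft : Fintype (GaloisField 2 (2 * k + 1)) := Fintype.ofFinite _
  have hK : Fintype.card (GaloisField 2 (2 * k + 1)) = 2 ^ (2 * k + 1) := by
    rw [← Nat.card_eq_fintype_card]
    exact GaloisField.card 2 (2 * k + 1) (by omega)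
  obtain ⟨S₀, ⟨ψ₀⟩⟩ := exists_sub hm hF hk1 hK hdiv
  obtain ⟨ι⟩ := exists_emb hF hK hdiv
  obtain ⟨Q₀, c₀, w₀, hD₀⟩ := dat_of_iso hk1 hK S₀ ψ₀
  obtain ⟨g₁, hg₁⟩ := conj_std hm hF hk1 hK ι hD'
  obtain ⟨g₂, hg₂⟩ := conj_std hm hF hk1 hK ι hD₀
  have hMS : M = S₀.map (MulAut.conj (g₁⁻¹ * g₂)).toMonoidHom := by
    ext y
    rw [mem_conj, hg₁, hg₂]
    have e : g₂ * ((g₁⁻¹ * g₂)⁻¹ * y * (g₁⁻¹ * g₂)) * g₂⁻¹ = g₁ * y * g₁⁻¹ := by group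
    rw [e]
  have hkm : k < m := by
    by_contra hkm
    have hle : 2 * k + 1 ≤ 2 * m + 1 := Nat.le_of_dvd (by omega) hdiv
    have hkeq : k = m := by omega
    apply hM
    apply Subgroup.eq_top_of_card_eq
    rw [hD'.card, card_Sz hm hF, hkeq]
  exact ⟨GaloisField 2 (2 * k + 1), inferInstance, hft, k, hk1, hkm, hK, hdiv, M,
    ⟨(MulEquiv.subgroupCongr hMS).trans
      ((S₀.equivMapOfInjective _ (MulAut.conj (g₁⁻¹ * g₂)).injective).symm.trans ψ₀)⟩, le_refl M⟩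

end Cfsg.Agent.Lib.Helper3.SzMax8
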