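import Mathlib
import Cfsg.Prelude.Def_LieExceptional
import Cfsg.Agent.Lib.Helper3.SzMax8

set_option autoImplicit false
set_option linter.unusedSectionVars false

namespace Cfsg.Agent.Lib.Helper3.SzSol1

open Matrix Cfsg.Agent.Lib.Helper3.Sz1 Cfsg.Agent.Lib.Helper3.Sz2 Cfsg.Agent.Lib.Helper3.Sz3
  Cfsg.Agent.Lib.Helper3.Sz4 Cfsg.Agent.Lib.Helper3.Sz5 Cfsg.Agent.Lib.Helper3.Sz6
  Cfsg.Agent.Lib.Helper3.Sz7 Cfsg.Agent.Lib.Helper3.Sz9 Cfsg.Agent.Lib.Helper3.Sz10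
  Cfsg.Agent.Lib.Helper3.Sz11 Cfsg.Agent.Lib.Helper3.Sz15 Cfsg.Agent.Lib.Helper3.SzR
  Cfsg.Agent.Lib.Helper3.SzFix1 Cfsg.Agent.Lib.Helper3.SzFix2 Cfsg.Agent.Lib.Helper3.SzSub2
  Cfsg.Agent.Lib.Helper14.SzTori

section gen

variable {G : Type*} [Group G]

/-- a subgroup whose commutators lie in a solvable subgroup is solvable. -/
theorem solv_of_comm_le (N A : Subgroup G) [hA : Group.IsSolvable ↥A]
    (h : ∀ x ∈ N, ∀ y ∈ N, x * y * x⁻¹ * y⁻¹ ∈ A) : Group.IsSolvable ↥N := by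
  have hK : (A.subgroupOf N).Normal := by
    constructor
    intro a ha n
    rw [Subgroup.mem_subgroupOf] at ha ⊢
    have e : ((n * a * n⁻¹ : ↥N) : G) = (n.1 * a.1 * n.1⁻¹ * a.1⁻¹) * a.1 := by
      show n.1 * a.1 * n.1⁻¹ = _
      group
    rw [e]
    exact A.mul_mem (h _ n.2 _ a.2) ha
  have hq : Group.IsSolvable (↥N ⧸ A.subgroupOf N) := by
    apply Group.isSolvable_of_comm
    intro a b
    refine QuotientGroup.induction_on a (fun a => ?_)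
    refine QuotientGroup.induction_on b (fun b => ?_)
    rw [← QuotientGroup.mk_mul, ← QuotientGroup.mk_mul, QuotientGroup.eq,
      Subgroup.mem_subgroupOf]
    have e : (((a * b)⁻¹ * (b * a) : ↥N) : G) = b.1⁻¹ * a.1⁻¹ * (b.1⁻¹)⁻¹ * (a.1⁻¹)⁻¹ := by
      show (a.1 * b.1)⁻¹ * (b.1 * a.1) = _
      group
    rw [e]
    exact h _ (N.inv_mem b.2) _ (N.inv_mem a.2)
  have hs : Group.IsSolvable ↥(A.subgroupOf N) := by
    let f : ↥(A.subgroupOf N) →* ↥A :=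
      { toFun := fun x => ⟨x.1.1, x.2⟩
        map_one' := rfl
        map_mul' := fun _ _ => rfl }
    apply Group.isSolvable_of_isSolvable_injective (f := f)
    intro x y hxy
    apply Subtype.ext
    apply Subtype.ext
    have h' : (f x).1 = (f y).1 := congrArg Subtype.val hxy
    exact h'
  exact Group.isSolvable_of_ker_le_range (A.subgroupOf N).subtype
    (QuotientGroup.mk' (A.subgroupOf N)) (by rw [QuotientGroup.ker_mk', Subgroup.range_subtype])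

theorem mem_of_pow4 {V : Subgroup G} {n : G} {k : ℕ} (h4 : n ^ 4 ∈ V)
    (hk : n ^ (2 * k + 1) = 1) : n ∈ V := by
  have h2 : n ^ 2 ∈ V := by
    have e : n ^ 2 = (n ^ 4) ^ (k + 1) := by
      rw [← pow_mul]
      have e' : 4 * (k + 1) = (2 * k + 1) * 2 + 2 := by ring
      rw [e', pow_add, pow_mul, hk, one_pow, one_mul]
    rw [e]
    exact V.pow_mem h4 _
  have e : n = (n ^ 2) ^ (k + 1) := by
    rw [← pow_mul]
    have e' : 2 * (k + 1) = (2 * k + 1) + 1 := by ring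
    rw [e', pow_add, hk, one_mul, pow_one]
  rw [e]
  exact V.pow_mem h2 _

end gen

variable {F : Type*} [Field F] [Fintype F] {m : ℕ}

/-- conjugates of non-identity diagonal elements. -/
def Dg (hm : 1 ≤ m) (hF : Fintype.card F = 2 ^ (2 * m + 1)) (v : ↥(Cfsg.Sz F m)) : Prop :=
  ∃ (g : ↥(Cfsg.Sz F m)) (k : Fˣ), k ≠ 1 ∧ v = g * DHom hm hF k * g⁻¹

theorem tri (hm : 1 ≤ m) (hF : Fintype.card F = 2 ^ (2 * m + 1)) (x : ↥(Cfsg.Sz F m))
    (hx1 : x ≠ 1) :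
    Dg hm hF x ∨ (∃ (g : ↥(Cfsg.Sz F m)) (a b : F), ¬ (a = 0 ∧ b = 0) ∧
      x = g * u hm hF a b * g⁻¹) ∨ Fpf x := by
  have hx1' : x.1 ≠ 1 := fun e => hx1 (Subtype.ext e)
  rcases trichotomy hm hF x.2 hx1' with ⟨g, hg, k, hk1, hk⟩ | ⟨g, hg, a, b, hab, hk⟩ | hfpf
  · left
    refine ⟨⟨g, hg⟩⁻¹, k, hk1, ?_⟩
    apply Subtype.ext
    show x.1 = g⁻¹ * D (2 ^ (m + 1)) k * g⁻¹⁻¹
    rw [← hk]
    group
  · right
    left
    refine ⟨⟨g, hg⟩⁻¹, a, b, hab, ?_⟩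
    apply Subtype.ext
    show x.1 = g⁻¹ * T (2 ^ (m + 1)) a b * g⁻¹⁻¹
    rw [← hk]
    group
  · right
    right
    exact hfpf

theorem Dg_fix_inf (hm : 1 ≤ m) (hF : Fintype.card F = 2 ^ (2 * m + 1)) (g : ↥(Cfsg.Sz F m))
    (k : Fˣ) : (g * DHom hm hF k * g⁻¹).1 • (g.1 • Cfsg.suzukiPointInfinity F) =
      g.1 • Cfsg.suzukiPointInfinity F := by
  show (g.1 * D (2 ^ (m + 1)) k * g.1⁻¹) • (g.1 • _) = _
  rw [mul_smul, mul_smul, inv_smul_smul, D_pInf]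

theorem Dg_fix_zero (hm : 1 ≤ m) (hF : Fintype.card F = 2 ^ (2 * m + 1)) (g : ↥(Cfsg.Sz F m))
    (k : Fˣ) : (g * DHom hm hF k * g⁻¹).1 • (g.1 • Cfsg.suzukiPointZero F) =
      g.1 • Cfsg.suzukiPointZero F := by
  show (g.1 * D (2 ^ (m + 1)) k * g.1⁻¹) • (g.1 • _) = _
  rw [mul_smul, mul_smul, inv_smul_smul, D_pZero]

theorem Dg_fix (hm : 1 ≤ m) (hF : Fintype.card F = 2 ^ (2 * m + 1)) (g : ↥(Cfsg.Sz F m))
    {k : Fˣ} (hk : k ≠ 1) {p : Projectivization F (Fin 4 → F)}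
    (hp : p ∈ Cfsg.suzukiOvoid F m) (h : (g * DHom hm hF k * g⁻¹).1 • p = p) :
    p = g.1 • Cfsg.suzukiPointInfinity F ∨ p = g.1 • Cfsg.suzukiPointZero F := by
  have hs := hyp_of_card hm hF
  have h1 : D (2 ^ (m + 1)) k • (g.1⁻¹ • p) = g.1⁻¹ • p := by
    have e : (g * DHom hm hF k * g⁻¹).1 = g.1 * D (2 ^ (m + 1)) k * g.1⁻¹ := rfl
    rw [e, mul_smul, mul_smul] at h
    exact (smul_eq_iff_eq_inv_smul _).mp h
  rcases ovoid_cases (smul_mem_ovoid (inv_mem g.2) hp) with h2 | ⟨x, y, h2⟩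
  · left
    exact inv_smul_eq_iff.mp h2
  · right
    rw [h2] at h1
    have hxy : x = 0 ∧ y = 0 := by
      by_contra hne
      exact hk (D_fix_pt hs k x y hne h1)
    rw [hxy.1, hxy.2, pt_zero hs] at h2
    exact inv_smul_eq_iff.mp h2

theorem Dg_cent (hm : 1 ≤ m) (hF : Fintype.card F = 2 ^ (2 * m + 1)) (g : ↥(Cfsg.Sz F m))
    {k : Fˣ} (hk : k ≠ 1) (z : ↥(Cfsg.Sz F m)) :
    z ∈ Subgroup.centralizer ({g * DHom hm hF k * g⁻¹} : Set ↥(Cfsg.Sz F m)) ↔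
      ∃ k' : Fˣ, z = g * DHom hm hF k' * g⁻¹ := by
  rw [mem_cent_iff]
  constructor
  · intro h
    have e : (g⁻¹ * z * g) * DHom hm hF k = DHom hm hF k * (g⁻¹ * z * g) := by
      calc g⁻¹ * z * g * DHom hm hF k = g⁻¹ * (z * (g * DHom hm hF k * g⁻¹)) * g := by group
        _ = g⁻¹ * ((g * DHom hm hF k * g⁻¹) * z) * g := by rw [h]
        _ = _ := by group
    have h' : (g⁻¹ * z * g).1 * D (2 ^ (m + 1)) k = D (2 ^ (m + 1)) k * (g⁻¹ * z * g).1 :=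
      congrArg Subtype.val e
    obtain ⟨k', hk'⟩ := cent_D hm hF hk (g⁻¹ * z * g).2 h'
    refine ⟨k', ?_⟩
    have e2 : g⁻¹ * z * g = DHom hm hF k' := Subtype.ext hk'
    calc z = g * (g⁻¹ * z * g) * g⁻¹ := by group
      _ = _ := by rw [e2]
  · rintro ⟨k', rfl⟩
    have hc : DHom hm hF k' * DHom hm hF k = DHom hm hF k * DHom hm hF k' := by
      rw [← map_mul, ← map_mul, mul_comm]
    calc g * DHom hm hF k' * g⁻¹ * (g * DHom hm hF k * g⁻¹)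
        = g * (DHom hm hF k' * DHom hm hF k) * g⁻¹ := by group
      _ = g * (DHom hm hF k * DHom hm hF k') * g⁻¹ := by rw [hc]
      _ = _ := by group

theorem Dg_ne_one (hm : 1 ≤ m) (hF : Fintype.card F = 2 ^ (2 * m + 1)) (g : ↥(Cfsg.Sz F m))
    {k : Fˣ} (hk : k ≠ 1) : g * DHom hm hF k * g⁻¹ ≠ 1 := by
  intro h
  have h2 : DHom hm hF k = 1 := by
    have e : DHom hm hF k = g⁻¹ * (g * DHom hm hF k * g⁻¹) * g := by group
    rw [e, h]
    group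
  exact hk (DHom_inj hm hF (h2.trans (map_one _).symm))

theorem gpts_ne (g : ↥(Cfsg.Sz F m)) :
    g.1 • Cfsg.suzukiPointInfinity F ≠ g.1 • Cfsg.suzukiPointZero F := fun h =>
  pZero_ne_inf (smul_left_cancel _ h).symm

/-- the normaliser of a torus of type `0` permutes its two fixed points. -/
theorem Dg_norm (hm : 1 ≤ m) (hF : Fintype.card F = 2 ^ (2 * m + 1)) (g : ↥(Cfsg.Sz F m))
    {k : Fˣ} (hk : k ≠ 1) {n : ↥(Cfsg.Sz F m)}
    (hn : n ∈ Subgroup.normalizer ((Subgroup.centralizer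
      ({g * DHom hm hF k * g⁻¹} : Set ↥(Cfsg.Sz F m)) : Subgroup ↥(Cfsg.Sz F m)) :
        Set ↥(Cfsg.Sz F m))) :
    (n.1 • (g.1 • Cfsg.suzukiPointInfinity F) = g.1 • Cfsg.suzukiPointInfinity F ∧
      n.1 • (g.1 • Cfsg.suzukiPointZero F) = g.1 • Cfsg.suzukiPointZero F) ∨
    (n.1 • (g.1 • Cfsg.suzukiPointInfinity F) = g.1 • Cfsg.suzukiPointZero F ∧
      n.1 • (g.1 • Cfsg.suzukiPointZero F) = g.1 • Cfsg.suzukiPointInfinity F) := by
  have hw : n * (g * DHom hm hF k * g⁻¹) * n⁻¹ ∈ Subgroup.centralizer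
      ({g * DHom hm hF k * g⁻¹} : Set ↥(Cfsg.Sz F m)) :=
    (Subgroup.mem_normalizer_iff.mp hn _).mp (self_mem_cent _)
  obtain ⟨k', hk'⟩ := (Dg_cent hm hF g hk _).mp hw
  have hk'1 : k' ≠ 1 := by
    rintro rfl
    rw [map_one, mul_one, mul_inv_cancel] at hk'
    apply Dg_ne_one hm hF g hk
    have e : g * DHom hm hF k * g⁻¹ = n⁻¹ * (n * (g * DHom hm hF k * g⁻¹) * n⁻¹) * n := by
      group
    rw [e, hk']
    group
  have hpI : (g.1 • Cfsg.suzukiPointInfinity F) ∈ Cfsg.suzukiOvoid F m :=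
    smul_mem_ovoid g.2 (pInf_mem m)
  have hpZ : (g.1 • Cfsg.suzukiPointZero F) ∈ Cfsg.suzukiOvoid F m :=
    smul_mem_ovoid g.2 (pZero_mem hm hF)
  have hne := gpts_ne g
  have f1 : (g * DHom hm hF k' * g⁻¹).1 • (n.1 • (g.1 • Cfsg.suzukiPointInfinity F)) =
      n.1 • (g.1 • Cfsg.suzukiPointInfinity F) := by
    rw [← hk']
    show (n.1 * (g * DHom hm hF k * g⁻¹).1 * n.1⁻¹) • (n.1 • _) = _
    rw [mul_smul, mul_smul, inv_smul_smul, Dg_fix_inf]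
  have f2 : (g * DHom hm hF k' * g⁻¹).1 • (n.1 • (g.1 • Cfsg.suzukiPointZero F)) =
      n.1 • (g.1 • Cfsg.suzukiPointZero F) := by
    rw [← hk']
    show (n.1 * (g * DHom hm hF k * g⁻¹).1 * n.1⁻¹) • (n.1 • _) = _
    rw [mul_smul, mul_smul, inv_smul_smul, Dg_fix_zero]
  rcases Dg_fix hm hF g hk'1 (smul_mem_ovoid n.2 hpI) f1 with a1 | a1 <;>
    rcases Dg_fix hm hF g hk'1 (smul_mem_ovoid n.2 hpZ) f2 with a2 | a2
  · exact absurd (smul_left_cancel _ (a1.trans a2.symm)) hne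
  · exact Or.inl ⟨a1, a2⟩
  · exact Or.inr ⟨a1, a2⟩
  · exact absurd (smul_left_cancel _ (a1.trans a2.symm)) hne

/-- an element fixing both fixed points of a torus of type `0` lies in it. -/
theorem Dg_mem_of_fix (hm : 1 ≤ m) (hF : Fintype.card F = 2 ^ (2 * m + 1))
    (g : ↥(Cfsg.Sz F m)) {k : Fˣ} (hk : k ≠ 1) {n : ↥(Cfsg.Sz F m)}
    (h1 : n.1 • (g.1 • Cfsg.suzukiPointInfinity F) = g.1 • Cfsg.suzukiPointInfinity F)
    (h2 : n.1 • (g.1 • Cfsg.suzukiPointZero F) = g.1 • Cfsg.suzukiPointZero F) :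
    n ∈ Subgroup.centralizer ({g * DHom hm hF k * g⁻¹} : Set ↥(Cfsg.Sz F m)) := by
  rw [Dg_cent hm hF g hk]
  have e1 : (g⁻¹ * n * g).1 • Cfsg.suzukiPointInfinity F = Cfsg.suzukiPointInfinity F := by
    show (g.1⁻¹ * n.1 * g.1) • _ = _
    rw [mul_smul, mul_smul, h1, inv_smul_smul]
  have e2 : (g⁻¹ * n * g).1 • Cfsg.suzukiPointZero F = Cfsg.suzukiPointZero F := by
    show (g.1⁻¹ * n.1 * g.1) • _ = _
    rw [mul_smul, mul_smul, h2, inv_smul_smul]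
  obtain ⟨k', hk'⟩ := stab_two hm hF (g⁻¹ * n * g).2 e1 e2
  refine ⟨k', ?_⟩
  have e : g⁻¹ * n * g = DHom hm hF k' := Subtype.ext hk'
  calc n = g * (g⁻¹ * n * g) * g⁻¹ := by group
    _ = _ := by rw [e]

/-- the tori : centralisers of non-identity elements of odd order. -/
structure Tor (hm : 1 ≤ m) (hF : Fintype.card F = 2 ^ (2 * m + 1))
    (V : Subgroup ↥(Cfsg.Sz F m)) : Prop where
  comm : ∀ a ∈ V, ∀ b ∈ V, a * b = b * a
  cent : ∀ w ∈ V, w ≠ 1 → Subgroup.centralizer ({w} : Set ↥(Cfsg.Sz F m)) = V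
  odd : Odd (Nat.card ↥V)
  pow4 : ∀ n ∈ Subgroup.normalizer (V : Set ↥(Cfsg.Sz F m)), n ^ 4 ∈ V
  el : ∀ w ∈ V, w ≠ 1 → Dg hm hF w ∨ Fpf w
  ne : ∃ w ∈ V, w ≠ 1

theorem tor_of_Dg (hm : 1 ≤ m) (hF : Fintype.card F = 2 ^ (2 * m + 1)) (g : ↥(Cfsg.Sz F m))
    {k : Fˣ} (hk : k ≠ 1) :
    Tor hm hF (Subgroup.centralizer ({g * DHom hm hF k * g⁻¹} : Set ↥(Cfsg.Sz F m))) := by
  have hfin : Finite (Matrix.SpecialLinearGroup (Fin 4) F) := finite_SL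
  have hk1' : ∀ {w : ↥(Cfsg.Sz F m)} {k' : Fˣ}, w ≠ 1 → w = g * DHom hm hF k' * g⁻¹ →
      k' ≠ 1 := by
    rintro w k' hw1 hw rfl
    rw [map_one, mul_one, mul_inv_cancel] at hw
    exact hw1 hw
  refine ⟨?_, ?_, ?_, ?_, ?_, ?_⟩
  · intro a ha b hb
    obtain ⟨k1, rfl⟩ := (Dg_cent hm hF g hk a).mp ha
    obtain ⟨k2, rfl⟩ := (Dg_cent hm hF g hk b).mp hb
    have hc : DHom hm hF k1 * DHom hm hF k2 = DHom hm hF k2 * DHom hm hF k1 := by
      rw [← map_mul, ← map_mul, mul_comm]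
    calc g * DHom hm hF k1 * g⁻¹ * (g * DHom hm hF k2 * g⁻¹)
        = g * (DHom hm hF k1 * DHom hm hF k2) * g⁻¹ := by group
      _ = g * (DHom hm hF k2 * DHom hm hF k1) * g⁻¹ := by rw [hc]
      _ = _ := by group
  · intro w hw hw1
    obtain ⟨k', hk'⟩ := (Dg_cent hm hF g hk w).mp hw
    have hk'1 := hk1' hw1 hk'
    ext z
    rw [hk', Dg_cent hm hF g hk'1, Dg_cent hm hF g hk]
  · have h := (Cfsg.Agent.Lib.Helper14.SzPart.typeD_cent hm hF (g * DHom hm hF k * g⁻¹) g⁻¹ k hk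
      (by
        show g.1⁻¹ * (g.1 * D (2 ^ (m + 1)) k * g.1⁻¹) * g.1⁻¹⁻¹ = _
        group)).2
    rw [h]
    have h1 : 1 ≤ 2 ^ (2 * m + 1) := Nat.one_le_two_pow
    have h2 : Even (2 ^ (2 * m + 1)) := (Nat.even_pow.mpr ⟨even_two, by omega⟩)
    exact Nat.Even.sub_odd h1 h2 odd_one
  · intro n hn
    have h2 : n ^ 2 ∈ Subgroup.centralizer ({g * DHom hm hF k * g⁻¹} : Set ↥(Cfsg.Sz F m)) := by
      apply Dg_mem_of_fix hm hF g hk
      · show (n.1 ^ 2) • _ = _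
        rw [pow_two, mul_smul]
        rcases Dg_norm hm hF g hk hn with ⟨a1, a2⟩ | ⟨a1, a2⟩
        · rw [a1, a1]
        · rw [a1, a2]
      · show (n.1 ^ 2) • _ = _
        rw [pow_two, mul_smul]
        rcases Dg_norm hm hF g hk hn with ⟨a1, a2⟩ | ⟨a1, a2⟩
        · rw [a2, a2]
        · rw [a2, a1]
    have e : n ^ 4 = (n ^ 2) ^ 2 := by rw [← pow_mul]
    rw [e]
    exact Subgroup.pow_mem _ h2 _
  · intro w hw hw1
    obtain ⟨k', hk'⟩ := (Dg_cent hm hF g hk w).mp hw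
    exact Or.inl ⟨g, k', hk1' hw1 hk', hk'⟩
  · exact ⟨_, self_mem_cent _, Dg_ne_one hm hF g hk⟩

theorem tor_of_fpf (hm : 1 ≤ m) (hF : Fintype.card F = 2 ^ (2 * m + 1)) {v : ↥(Cfsg.Sz F m)}
    (hv : Fpf v) : Tor hm hF (Subgroup.centralizer ({v} : Set ↥(Cfsg.Sz F m))) := by
  have hfin : Finite (Matrix.SpecialLinearGroup (Fin 4) F) := finite_SL
  refine ⟨?_, ?_, ?_, ?_, ?_, ?_⟩
  · intro a ha b hb
    exact cent_comm hm hF hv ha hb
  · intro w hw hw1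
    exact cent_eq_of_mem hm hF hv hw hw1
  · have hd := cent_card_dvd hm hF hv
    have hodd : Odd ((2 ^ (2 * m + 1)) ^ 2 + 1) := by
      have h2 : Even ((2 ^ (2 * m + 1)) ^ 2) :=
        Nat.even_pow.mpr ⟨Nat.even_pow.mpr ⟨even_two, by omega⟩, by norm_num⟩
      exact h2.add_one
    exact Odd.of_dvd_nat hodd hd
  · intro n hn
    obtain ⟨hmain, _, _⟩ := main hm hF
    obtain ⟨_, hcN⟩ := hmain v hv
    unfold cN cA at hcN
    have hnorm : ((Subgroup.centralizer ({v} : Set ↥(Cfsg.Sz F m))).subgroupOf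
        (Subgroup.normalizer ((Subgroup.centralizer ({v} : Set ↥(Cfsg.Sz F m)) :
          Subgroup ↥(Cfsg.Sz F m)) : Set ↥(Cfsg.Sz F m)))).Normal :=
      Subgroup.normal_in_normalizer
    have hidx : ((Subgroup.centralizer ({v} : Set ↥(Cfsg.Sz F m))).subgroupOf
        (Subgroup.normalizer ((Subgroup.centralizer ({v} : Set ↥(Cfsg.Sz F m)) :
          Subgroup ↥(Cfsg.Sz F m)) : Set ↥(Cfsg.Sz F m)))).index = 4 := by
      have h1 := Subgroup.card_mul_index ((Subgroup.centralizer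
        ({v} : Set ↥(Cfsg.Sz F m))).subgroupOf
        (Subgroup.normalizer ((Subgroup.centralizer ({v} : Set ↥(Cfsg.Sz F m)) :
          Subgroup ↥(Cfsg.Sz F m)) : Set ↥(Cfsg.Sz F m))))
      rw [Nat.card_congr (Subgroup.subgroupOfEquivOfLe Subgroup.le_normalizer).toEquiv,
        hcN] at h1
      have hpos : 0 < Nat.card ↥(Subgroup.centralizer ({v} : Set ↥(Cfsg.Sz F m))) :=
        Nat.card_pos
      have h2 : Nat.card ↥(Subgroup.centralizer ({v} : Set ↥(Cfsg.Sz F m))) *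
          ((Subgroup.centralizer ({v} : Set ↥(Cfsg.Sz F m))).subgroupOf
            (Subgroup.normalizer ((Subgroup.centralizer ({v} : Set ↥(Cfsg.Sz F m)) :
              Subgroup ↥(Cfsg.Sz F m)) : Set ↥(Cfsg.Sz F m)))).index =
          Nat.card ↥(Subgroup.centralizer ({v} : Set ↥(Cfsg.Sz F m))) * 4 := by
        rw [h1]
        ring
      exact Nat.eq_of_mul_eq_mul_left hpos h2
    have h4 := Subgroup.pow_index_mem ((Subgroup.centralizer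
      ({v} : Set ↥(Cfsg.Sz F m))).subgroupOf
      (Subgroup.normalizer ((Subgroup.centralizer ({v} : Set ↥(Cfsg.Sz F m)) :
        Subgroup ↥(Cfsg.Sz F m)) : Set ↥(Cfsg.Sz F m)))) ⟨n, hn⟩
    rw [hidx, Subgroup.mem_subgroupOf] at h4
    exact h4
  · intro w hw hw1
    exact Or.inr (fpf_of_mem_cent hm hF hv hw hw1)
  · exact ⟨v, self_mem_cent v, fpf_ne_one hv⟩

end Cfsg.Agent.Lib.Helper3.SzSol1
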