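import Mathlib
import Cfsg.Prelude.Def_LieExceptional
import Cfsg.Agent.Lib.Helper3.SzSol1
import Cfsg.Agent.Lib.Helper14.SzLink
import Cfsg.Agent.S0325

set_option autoImplicit false
set_option linter.unusedSectionVars false

namespace Cfsg.Agent.Lib.Helper3.SzSol2

open Matrix Cfsg.Agent.Lib.Helper3.Sz1 Cfsg.Agent.Lib.Helper3.Sz2 Cfsg.Agent.Lib.Helper3.Sz3
  Cfsg.Agent.Lib.Helper3.Sz4 Cfsg.Agent.Lib.Helper3.Sz5 Cfsg.Agent.Lib.Helper3.Sz6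
  Cfsg.Agent.Lib.Helper3.Sz7 Cfsg.Agent.Lib.Helper3.Sz9 Cfsg.Agent.Lib.Helper3.Sz10
  Cfsg.Agent.Lib.Helper3.Sz11 Cfsg.Agent.Lib.Helper3.Sz15 Cfsg.Agent.Lib.Helper3.SzR
  Cfsg.Agent.Lib.Helper3.SzFix1 Cfsg.Agent.Lib.Helper3.SzFix2 Cfsg.Agent.Lib.Helper3.SzSub2
  Cfsg.Agent.Lib.Helper3.SzMax1 Cfsg.Agent.Lib.Helper3.SzMax2
  Cfsg.Agent.Lib.Helper14.SzTori Cfsg.Agent.Lib.Helper3.SzSol1

variable {F : Type*} [Field F] [Fintype F] {m : ℕ}

/-- the stabiliser of a point. -/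
def St (m : ℕ) (p : Projectivization F (Fin 4 → F)) : Subgroup ↥(Cfsg.Sz F m) where
  carrier := {g | g.1 • p = p}
  mul_mem' := by
    intro a b ha hb
    show (a.1 * b.1) • p = p
    rw [mul_smul]
    exact (congrArg (fun z => a.1 • z) hb).trans ha
  one_mem' := one_smul _ _
  inv_mem' := by
    intro a ha
    show a.1⁻¹ • p = p
    rw [inv_smul_eq_iff]
    exact Eq.symm ha

theorem mem_St {p : Projectivization F (Fin 4 → F)} {g : ↥(Cfsg.Sz F m)} :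
    g ∈ St m p ↔ g.1 • p = p := Iff.rfl

/-! ### number theory -/

theorem r_le_q (hm : 1 ≤ m) : 2 ^ (m + 1) + 4 ≤ 2 ^ (2 * m + 1) := by
  have e : 2 ^ (2 * m + 1) = 2 ^ (m + 1) * 2 ^ m := by rw [← pow_add]; congr 1; omega
  have h1 : 2 ^ 1 ≤ 2 ^ m := Nat.pow_le_pow_right (by norm_num) hm
  have h2 : 2 ^ 2 ≤ 2 ^ (m + 1) := Nat.pow_le_pow_right (by norm_num) (by omega)
  rw [e]
  nlinarith

theorem r_sq (m : ℕ) : 2 ^ (m + 1) * 2 ^ (m + 1) = 2 * 2 ^ (2 * m + 1) := by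
  rw [← pow_add, ← pow_succ']
  congr 1
  omega

theorem tm_mul (hm : 1 ≤ m) :
    (2 ^ (2 * m + 1) + 2 ^ (m + 1) + 1) * (2 ^ (2 * m + 1) - 2 ^ (m + 1) + 1) =
      (2 ^ (2 * m + 1)) ^ 2 + 1 := by
  have h1 := r_le_q hm
  have h2 := r_sq m
  obtain ⟨d, hd⟩ : ∃ d, 2 ^ (2 * m + 1) = d + 2 ^ (m + 1) := ⟨2 ^ (2 * m + 1) - 2 ^ (m + 1), by omega⟩
  rw [hd] at h2 ⊢
  generalize 2 ^ (m + 1) = r at *
  have e : d + r - r = d := by omega
  rw [e]
  nlinarith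

theorem cop1 (m : ℕ) : Nat.Coprime (2 ^ (2 * m + 1) - 1) ((2 ^ (2 * m + 1)) ^ 2 + 1) := by
  apply Nat.Coprime.symm
  apply Nat.coprime_of_dvd
  intro p hp hdvd
  exact (prime_facts hp hdvd).2

theorem tp_odd (m : ℕ) : ¬ 2 ∣ 2 ^ (2 * m + 1) + 2 ^ (m + 1) + 1 := by
  have h1 : 2 ∣ 2 ^ (2 * m + 1) := dvd_pow_self 2 (by omega)
  have h2 : 2 ∣ 2 ^ (m + 1) := dvd_pow_self 2 (by omega)
  omega

theorem cop2 (hm : 1 ≤ m) :
    Nat.Coprime (2 ^ (2 * m + 1) + 2 ^ (m + 1) + 1) (2 ^ (2 * m + 1) - 2 ^ (m + 1) + 1) := by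
  apply Nat.coprime_of_dvd
  intro p hp h1 h2
  have h3 := r_le_q hm
  have h4 : p ∣ (2 ^ (2 * m + 1) + 2 ^ (m + 1) + 1) - (2 ^ (2 * m + 1) - 2 ^ (m + 1) + 1) :=
    Nat.dvd_sub h1 h2
  have e : (2 ^ (2 * m + 1) + 2 ^ (m + 1) + 1) - (2 ^ (2 * m + 1) - 2 ^ (m + 1) + 1) =
      2 ^ (m + 2) := by
    have : 2 ^ (m + 2) = 2 * 2 ^ (m + 1) := by rw [pow_succ']
    omega
  rw [e] at h4
  have hp2 : p = 2 := (Nat.prime_dvd_prime_iff_eq hp Nat.prime_two).mp (hp.dvd_of_dvd_pow h4)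
  rw [hp2] at h1
  exact tp_odd m h1

theorem cop3 (hm : 1 ≤ m) :
    Nat.Coprime (2 ^ (2 * m + 1) - 1) (2 ^ (2 * m + 1) + 2 ^ (m + 1) + 1) :=
  Nat.Coprime.coprime_dvd_right (Dvd.intro _ (tm_mul hm)) (cop1 m)

theorem cop4 (hm : 1 ≤ m) :
    Nat.Coprime (2 ^ (2 * m + 1) - 1) (2 ^ (2 * m + 1) - 2 ^ (m + 1) + 1) :=
  Nat.Coprime.coprime_dvd_right (Dvd.intro_left _ (tm_mul hm)) (cop1 m)

/-! ### derived properties of tori -/

theorem _root_.Cfsg.Agent.Lib.Helper3.SzSol1.Tor.pow_card {hm : 1 ≤ m} {hF : Fintype.card F = 2 ^ (2 * m + 1)}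
    {V : Subgroup ↥(Cfsg.Sz F m)} (hV : Tor hm hF V) {w : ↥(Cfsg.Sz F m)} (hw : w ∈ V) :
    ∃ k, w ^ (2 * k + 1) = 1 := by
  have hfin : Finite (Matrix.SpecialLinearGroup (Fin 4) F) := finite_SL
  obtain ⟨k, hk⟩ := hV.odd
  exact ⟨k, by rw [← hk]; exact Cfsg.Agent.Lib.Helper14.SzPart.pow_card_of_mem hw⟩

theorem _root_.Cfsg.Agent.Lib.Helper3.SzSol1.Tor.odd_mem {hm : 1 ≤ m} {hF : Fintype.card F = 2 ^ (2 * m + 1)}
    {V : Subgroup ↥(Cfsg.Sz F m)} (hV : Tor hm hF V) {n : ↥(Cfsg.Sz F m)}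
    (hn : n ∈ Subgroup.normalizer (V : Set ↥(Cfsg.Sz F m))) {k : ℕ}
    (hk : n ^ (2 * k + 1) = 1) : n ∈ V :=
  mem_of_pow4 (hV.pow4 n hn) hk

theorem _root_.Cfsg.Agent.Lib.Helper3.SzSol1.Tor.no_invol {hm : 1 ≤ m} {hF : Fintype.card F = 2 ^ (2 * m + 1)}
    {V : Subgroup ↥(Cfsg.Sz F m)} (hV : Tor hm hF V) {x : ↥(Cfsg.Sz F m)} (hx : x ∈ V)
    (hx2 : x * x = 1) : x = 1 := by
  obtain ⟨k, hk⟩ := hV.pow_card hx
  have e : x ^ (2 * k + 1) = x := by rw [pow_succ, pow_mul, pow_two, hx2, one_pow, one_mul]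
  rw [← e]
  exact hk

theorem _root_.Cfsg.Agent.Lib.Helper3.SzSol1.Tor.inter {hm : 1 ≤ m} {hF : Fintype.card F = 2 ^ (2 * m + 1)}
    {V V' : Subgroup ↥(Cfsg.Sz F m)} (hV : Tor hm hF V) (hV' : Tor hm hF V') (hne : V ≠ V')
    {w : ↥(Cfsg.Sz F m)} (hw : w ∈ V) (hw' : w ∈ V') : w = 1 := by
  by_contra h1
  exact hne ((hV.cent w hw h1).symm.trans (hV'.cent w hw' h1))

theorem _root_.Cfsg.Agent.Lib.Helper3.SzSol1.Tor.pow4_inter {hm : 1 ≤ m} {hF : Fintype.card F = 2 ^ (2 * m + 1)}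
    {V V' : Subgroup ↥(Cfsg.Sz F m)} (hV : Tor hm hF V) (hV' : Tor hm hF V') (hne : V ≠ V')
    {n : ↥(Cfsg.Sz F m)} (hn : n ∈ Subgroup.normalizer (V : Set ↥(Cfsg.Sz F m)))
    (hn' : n ∈ Subgroup.normalizer (V' : Set ↥(Cfsg.Sz F m))) : n ^ 4 = 1 := by
  have h1 := hV.pow4 n hn
  obtain ⟨k, hk⟩ := hV.pow_card h1
  have h2 : n ^ 4 ∈ V' := hV'.odd_mem (Subgroup.pow_mem _ hn' 4) hk
  exact hV.inter hV' hne h1 h2

/-- an involution normalising a torus inverts it. -/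
theorem _root_.Cfsg.Agent.Lib.Helper3.SzSol1.Tor.inv {hm : 1 ≤ m} {hF : Fintype.card F = 2 ^ (2 * m + 1)}
    {V : Subgroup ↥(Cfsg.Sz F m)} (hV : Tor hm hF V) {x : ↥(Cfsg.Sz F m)}
    (hx : x ∈ Subgroup.normalizer (V : Set ↥(Cfsg.Sz F m))) (hx2 : x * x = 1) (hx1 : x ≠ 1)
    {w : ↥(Cfsg.Sz F m)} (hw : w ∈ V) : x * w * x⁻¹ = w⁻¹ := by
  have hxw : x * w * x⁻¹ ∈ V := (Subgroup.mem_normalizer_iff.mp hx w).mp hw
  have hc : w * (x * w * x⁻¹) ∈ V := V.mul_mem hw hxw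
  have hxinv : x⁻¹ = x := inv_eq_of_mul_eq_one_left hx2
  have hab := hV.comm _ hxw _ hw
  have hcomm : x * (w * (x * w * x⁻¹)) = (w * (x * w * x⁻¹)) * x := by
    calc x * (w * (x * w * x⁻¹)) = (x * w * x⁻¹) * (x * x) * w * x⁻¹ := by group
      _ = (x * w * x⁻¹) * w * x⁻¹ := by rw [hx2, mul_one]
      _ = w * (x * w * x⁻¹) * x⁻¹ := by rw [hab]
      _ = w * (x * w * x⁻¹) * x := by rw [hxinv]
  by_contra hne
  have hc1 : w * (x * w * x⁻¹) ≠ 1 := fun h => hne (eq_inv_of_mul_eq_one_right h)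
  have hxV : x ∈ V := by
    rw [← hV.cent _ hc hc1, mem_cent_iff]
    exact hcomm
  exact hx1 (hV.no_invol hxV hx2)

theorem _root_.Cfsg.Agent.Lib.Helper3.SzSol1.Tor.solv {hm : 1 ≤ m} {hF : Fintype.card F = 2 ^ (2 * m + 1)}
    {V : Subgroup ↥(Cfsg.Sz F m)} (hV : Tor hm hF V) :
    Group.IsSolvable ↥(Subgroup.normalizer (V : Set ↥(Cfsg.Sz F m))) := by
  have hfin : Finite (Matrix.SpecialLinearGroup (Fin 4) F) := finite_SL
  have hp2 : Fact (Nat.Prime 2) := ⟨Nat.prime_two⟩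
  have hnorm : (V.subgroupOf (Subgroup.normalizer (V : Set ↥(Cfsg.Sz F m)))).Normal :=
    Subgroup.normal_in_normalizer
  have hs : Group.IsSolvable ↥(V.subgroupOf (Subgroup.normalizer (V : Set ↥(Cfsg.Sz F m)))) := by
    apply Group.isSolvable_of_comm
    intro a b
    apply Subtype.ext
    apply Subtype.ext
    exact hV.comm _ a.2 _ b.2
  have hq : Group.IsSolvable (↥(Subgroup.normalizer (V : Set ↥(Cfsg.Sz F m))) ⧸
      V.subgroupOf (Subgroup.normalizer (V : Set ↥(Cfsg.Sz F m)))) := by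
    have hp : IsPGroup 2 (↥(Subgroup.normalizer (V : Set ↥(Cfsg.Sz F m))) ⧸
        V.subgroupOf (Subgroup.normalizer (V : Set ↥(Cfsg.Sz F m)))) := by
      intro g
      refine QuotientGroup.induction_on g (fun n => ?_)
      refine ⟨2, ?_⟩
      rw [← QuotientGroup.mk_pow, QuotientGroup.eq_one_iff, Subgroup.mem_subgroupOf]
      exact hV.pow4 n.1 n.2
    have := hp.isNilpotent
    exact IsNilpotent.to_isSolvable
  exact Group.isSolvable_of_ker_le_range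
    (V.subgroupOf (Subgroup.normalizer (V : Set ↥(Cfsg.Sz F m)))).subtype
    (QuotientGroup.mk' (V.subgroupOf (Subgroup.normalizer (V : Set ↥(Cfsg.Sz F m)))))
    (by rw [QuotientGroup.ker_mk', Subgroup.range_subtype])

/-! ### solvability of point stabilisers -/

theorem mem_St_inf (hm : 1 ≤ m) (hF : Fintype.card F = 2 ^ (2 * m + 1)) {b : ↥(Cfsg.Sz F m)}
    (hb : b ∈ St m (Cfsg.suzukiPointInfinity F)) :
    ∃ (a c : F) (k : Fˣ), b = u hm hF a c * DHom hm hF k := by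
  obtain ⟨a, c, k, hk⟩ := stab_one hm hF b.2 hb
  exact ⟨a, c, k, Subtype.ext hk⟩

theorem comm_mem_U (hm : 1 ≤ m) (hF : Fintype.card F = 2 ^ (2 * m + 1)) {b1 b2 : ↥(Cfsg.Sz F m)}
    (h1 : b1 ∈ St m (Cfsg.suzukiPointInfinity F)) (h2 : b2 ∈ St m (Cfsg.suzukiPointInfinity F)) :
    b1 * b2 * b1⁻¹ * b2⁻¹ ∈ U hm hF := by
  obtain ⟨a1, c1, k1, rfl⟩ := mem_St_inf hm hF h1
  obtain ⟨a2, c2, k2, rfl⟩ := mem_St_inf hm hF h2
  have hc : DHom hm hF k1 * DHom hm hF k2 * (DHom hm hF k1)⁻¹ * (DHom hm hF k2)⁻¹ = 1 := by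
    rw [← map_mul, ← map_inv, ← map_mul, ← map_inv, ← map_mul, mul_comm k1 k2]
    have : k2 * k1 * k1⁻¹ * k2⁻¹ = 1 := by group
    rw [this, map_one]
  have e : u hm hF a1 c1 * DHom hm hF k1 * (u hm hF a2 c2 * DHom hm hF k2) *
      (u hm hF a1 c1 * DHom hm hF k1)⁻¹ * (u hm hF a2 c2 * DHom hm hF k2)⁻¹ =
      u hm hF a1 c1 * (DHom hm hF k1 * u hm hF a2 c2 * (DHom hm hF k1)⁻¹) *
        (DHom hm hF k1 * DHom hm hF k2 * (DHom hm hF k1)⁻¹ * (DHom hm hF k2)⁻¹) *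
        (DHom hm hF k2 * u hm hF a1 c1 * (DHom hm hF k2)⁻¹)⁻¹ * (u hm hF a2 c2)⁻¹ := by group
  rw [e, hc, mul_one, D_u, D_u]
  exact (U hm hF).mul_mem ((U hm hF).mul_mem ((U hm hF).mul_mem ⟨_, _, rfl⟩ ⟨_, _, rfl⟩)
    ((U hm hF).inv_mem ⟨_, _, rfl⟩)) ((U hm hF).inv_mem ⟨_, _, rfl⟩)

theorem solv_U (hm : 1 ≤ m) (hF : Fintype.card F = 2 ^ (2 * m + 1)) :
    Group.IsSolvable ↥(U hm hF) := by
  have hfin : Finite (Matrix.SpecialLinearGroup (Fin 4) F) := finite_SL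
  have hp2 : Fact (Nat.Prime 2) := ⟨Nat.prime_two⟩
  have hp : IsPGroup 2 ↥(U hm hF) :=
    IsPGroup.of_card (n := (2 * m + 1) * 2) (by rw [card_U, ← pow_mul])
  have := hp.isNilpotent
  exact IsNilpotent.to_isSolvable

theorem solv_of_fix (hm : 1 ≤ m) (hF : Fintype.card F = 2 ^ (2 * m + 1))
    (H : Subgroup ↥(Cfsg.Sz F m)) {p : Projectivization F (Fin 4 → F)}
    (hp : p ∈ Cfsg.suzukiOvoid F m) (hH : ∀ h ∈ H, h.1 • p = p) : Group.IsSolvable ↥H := by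
  obtain ⟨g, hg, hgp⟩ := move_to_inf hm hF hp
  have := solv_U hm hF
  have hB : Group.IsSolvable ↥(St m (Cfsg.suzukiPointInfinity F)) :=
    solv_of_comm_le (St m (Cfsg.suzukiPointInfinity F)) (U hm hF)
      (fun x hx y hy => comm_mem_U hm hF hx hy)
  have hmem : ∀ h : ↥H, (⟨g, hg⟩ : ↥(Cfsg.Sz F m)) * h.1 * (⟨g, hg⟩ : ↥(Cfsg.Sz F m))⁻¹ ∈
      St m (Cfsg.suzukiPointInfinity F) := by
    intro h
    show (g * h.1.1 * g⁻¹) • _ = _
    rw [mul_smul, mul_smul, inv_smul_eq_iff.mpr hgp.symm, hH h.1 h.2, hgp]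
  let f : ↥H →* ↥(St m (Cfsg.suzukiPointInfinity F)) :=
    { toFun := fun h => ⟨_, hmem h⟩
      map_one' := by
        apply Subtype.ext
        show (⟨g, hg⟩ : ↥(Cfsg.Sz F m)) * 1 * (⟨g, hg⟩ : ↥(Cfsg.Sz F m))⁻¹ = 1
        group
      map_mul' := by
        intro a b
        apply Subtype.ext
        show (⟨g, hg⟩ : ↥(Cfsg.Sz F m)) * (a.1 * b.1) * (⟨g, hg⟩ : ↥(Cfsg.Sz F m))⁻¹ =
          (⟨g, hg⟩ : ↥(Cfsg.Sz F m)) * a.1 * (⟨g, hg⟩ : ↥(Cfsg.Sz F m))⁻¹ *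
            ((⟨g, hg⟩ : ↥(Cfsg.Sz F m)) * b.1 * (⟨g, hg⟩ : ↥(Cfsg.Sz F m))⁻¹)
        group }
  apply Group.isSolvable_of_isSolvable_injective (f := f)
  intro a b hab
  have h' : (⟨g, hg⟩ : ↥(Cfsg.Sz F m)) * a.1 * (⟨g, hg⟩ : ↥(Cfsg.Sz F m))⁻¹ =
      (⟨g, hg⟩ : ↥(Cfsg.Sz F m)) * b.1 * (⟨g, hg⟩ : ↥(Cfsg.Sz F m))⁻¹ :=
    congrArg Subtype.val hab
  apply Subtype.ext
  exact mul_left_cancel (mul_right_cancel h')

/-- the normaliser of a Sylow `2`-subgroup fixes a point. -/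
theorem fix_of_norm (hm : 1 ≤ m) (hF : Fintype.card F = 2 ^ (2 * m + 1))
    (P : Sylow 2 ↥(Cfsg.Sz F m)) (γ : ↥(Cfsg.Sz F m))
    (hγ : ∀ x, x ∈ (P : Subgroup ↥(Cfsg.Sz F m)) ↔ γ⁻¹ * x * γ ∈ U hm hF)
    {n : ↥(Cfsg.Sz F m)}
    (hn : n ∈ Subgroup.normalizer ((P : Subgroup ↥(Cfsg.Sz F m)) : Set ↥(Cfsg.Sz F m))) :
    n.1 • (γ.1 • Cfsg.suzukiPointInfinity F) = γ.1 • Cfsg.suzukiPointInfinity F := by
  have hz : γ * u hm hF 0 1 * γ⁻¹ ∈ (P : Subgroup ↥(Cfsg.Sz F m)) := by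
    rw [hγ]
    have e : γ⁻¹ * (γ * u hm hF 0 1 * γ⁻¹) * γ = u hm hF 0 1 := by group
    rw [e]
    exact ⟨0, 1, rfl⟩
  have h2 := (Subgroup.mem_normalizer_iff.mp hn _).mp hz
  obtain ⟨a, b, hab⟩ := (hγ _).mp h2
  have hab0 : ¬ (a = 0 ∧ b = 0) := by
    rintro ⟨rfl, rfl⟩
    rw [u_zero] at hab
    have e : u hm hF 0 1 = (γ⁻¹ * n⁻¹ * γ) *
        (γ⁻¹ * (n * (γ * u hm hF 0 1 * γ⁻¹) * n⁻¹) * γ) * (γ⁻¹ * n⁻¹ * γ)⁻¹ := by group
    rw [hab] at e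
    have e2 : u hm hF (0 : F) 1 = u hm hF 0 0 := by
      rw [u_zero, e]
      group
    exact one_ne_zero (u_inj hm hF e2).2
  have hfix : T (2 ^ (m + 1)) a b • (γ.1⁻¹ • (n.1 • (γ.1 • Cfsg.suzukiPointInfinity F))) =
      γ.1⁻¹ • (n.1 • (γ.1 • Cfsg.suzukiPointInfinity F)) := by
    have e : T (2 ^ (m + 1)) a b =
        γ.1⁻¹ * (n.1 * (γ.1 * T (2 ^ (m + 1)) 0 1 * γ.1⁻¹) * n.1⁻¹) * γ.1 :=
      (congrArg Subtype.val hab).symm
    rw [e]
    simp only [mul_smul, smul_inv_smul, inv_smul_smul, T_pInf]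
  have h3 := T_fix hm hF hab0 (smul_mem_ovoid (inv_mem γ.2)
    (smul_mem_ovoid n.2 (smul_mem_ovoid γ.2 (pInf_mem m)))) hfix
  exact inv_smul_eq_iff.mp h3

/-- cyclic subgroups of the three orders are tori. -/
theorem tor_of_cyc (hm : 1 ≤ m) (hF : Fintype.card F = 2 ^ (2 * m + 1))
    (V : Subgroup ↥(Cfsg.Sz F m)) (hcyc : IsCyclic ↥V)
    (hcard : Nat.card ↥V ∈ ({2 ^ (2 * m + 1) - 1, 2 ^ (2 * m + 1) + 2 ^ (m + 1) + 1,
      2 ^ (2 * m + 1) - 2 ^ (m + 1) + 1} : Set ℕ)) : Tor hm hF V := by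
  have hfin : Finite (Matrix.SpecialLinearGroup (Fin 4) F) := finite_SL
  have hrq := r_le_q hm
  have hr4 : 2 ^ 2 ≤ 2 ^ (m + 1) := Nat.pow_le_pow_right (by norm_num) (by omega)
  obtain ⟨c, hc⟩ := hcyc.exists_generator
  have hord : orderOf c.1 = Nat.card ↥V := by
    rw [← orderOf_eq_card_of_forall_mem_zpowers hc]
    exact Subgroup.orderOf_coe c
  have hle : V ≤ Subgroup.centralizer ({c.1} : Set ↥(Cfsg.Sz F m)) :=
    Cfsg.Agent.Lib.Helper14.SzPart.cyclic_le_cent hcyc c.2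
  have hdvd := Subgroup.card_dvd_of_le hle
  have h5 : 5 ≤ Nat.card ↥V := by
    rcases hcard with h | h | h
    · rw [h]; omega
    · rw [h]; omega
    · rw [h]; omega
  have hc1 : c.1 ≠ 1 := by
    intro h
    rw [h, orderOf_one] at hord
    omega
  have hnodd : ¬ 2 ∣ Nat.card ↥V := by
    have h1 : 2 ∣ 2 ^ (2 * m + 1) := dvd_pow_self 2 (by omega)
    have h2 : 2 ∣ 2 ^ (m + 1) := dvd_pow_self 2 (by omega)
    rcases hcard with h | h | h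
    · rw [h]; omega
    · rw [h]; omega
    · rw [h]; omega
  rcases tri hm hF c.1 hc1 with ⟨g, k, hk, hv⟩ | ⟨g, a, b, hab, hv⟩ | hfpf
  · have hT := tor_of_Dg hm hF g hk
    have hcC := (Cfsg.Agent.Lib.Helper14.SzPart.typeD_cent hm hF (g * DHom hm hF k * g⁻¹) g⁻¹ k hk
      (by
        show g.1⁻¹ * (g.1 * D (2 ^ (m + 1)) k * g.1⁻¹) * g.1⁻¹⁻¹ = _
        group)).2
    rw [hv] at hle hdvd
    rw [hcC] at hdvd
    have heq : Nat.card ↥V = 2 ^ (2 * m + 1) - 1 := by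
      rcases hcard with h | h | h
      · exact h
      · exfalso
        rw [h] at hdvd h5
        have := Nat.Coprime.eq_one_of_dvd (cop3 hm).symm hdvd
        omega
      · exfalso
        rw [h] at hdvd h5
        have := Nat.Coprime.eq_one_of_dvd (cop4 hm).symm hdvd
        omega
    have hVC : V = Subgroup.centralizer ({g * DHom hm hF k * g⁻¹} : Set ↥(Cfsg.Sz F m)) :=
      Subgroup.eq_of_le_of_card_ge hle (by rw [hcC, heq])
    rw [hVC]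
    exact hT
  · exfalso
    have h4 : c.1 ^ 4 = 1 := by
      rw [hv]
      apply Subtype.ext
      show (g.1 * T (2 ^ (m + 1)) a b * g.1⁻¹) ^ 4 = 1
      rw [conj_pow, T_pow4 hm hF]
      group
    have hd : orderOf c.1 ∣ 4 := orderOf_dvd_of_pow_eq_one h4
    rw [hord] at hd
    have hle4 := Nat.le_of_dvd (by norm_num) hd
    omega
  · have hT := tor_of_fpf hm hF hfpf
    obtain ⟨hmain, _, _⟩ := main hm hF
    obtain ⟨hcA, _⟩ := hmain c.1 hfpf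
    unfold cA at hcA
    have heq : Nat.card ↥V =
        Nat.card ↥(Subgroup.centralizer ({c.1} : Set ↥(Cfsg.Sz F m))) := by
      rcases hcA with hA | hA
      · rw [hA] at hdvd ⊢
        rcases hcard with h | h | h
        · exfalso
          rw [h] at hdvd h5
          have := Nat.Coprime.eq_one_of_dvd (cop3 hm) hdvd
          omega
        · exact h
        · exfalso
          rw [h] at hdvd h5
          have := Nat.Coprime.eq_one_of_dvd (cop2 hm).symm hdvd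
          omega
      · rw [hA] at hdvd ⊢
        rcases hcard with h | h | h
        · exfalso
          rw [h] at hdvd h5
          have := Nat.Coprime.eq_one_of_dvd (cop4 hm) hdvd
          omega
        · exfalso
          rw [h] at hdvd h5
          have := Nat.Coprime.eq_one_of_dvd (cop2 hm) hdvd
          omega
        · exact h
    have hVC : V = Subgroup.centralizer ({c.1} : Set ↥(Cfsg.Sz F m)) :=
      Subgroup.eq_of_le_of_card_ge hle (by rw [heq])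
    rw [hVC]
    exact hT

/-- for `2m+1` prime, the solvable subgroups are the proper subgroups. -/
theorem solv_iff (hm : 1 ≤ m) (hF : Fintype.card F = 2 ^ (2 * m + 1)) (hp : (2 * m + 1).Prime)
    (M : Subgroup ↥(Cfsg.Sz F m)) : Group.IsSolvable ↥M ↔ M ≠ ⊤ := by
  have hs := hyp_of_card hm hF
  have hfin : Finite (Matrix.SpecialLinearGroup (Fin 4) F) := finite_SL
  constructor
  · rintro hsol rfl
    haveI := Cfsg.Agent.S0325.result hm hF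
    have hG : Group.IsSolvable ↥(Cfsg.Sz F m) :=
      Group.isSolvable_of_isSolvable_injective
        (f := (Subgroup.topEquiv (G := ↥(Cfsg.Sz F m))).symm.toMonoidHom)
        (Subgroup.topEquiv (G := ↥(Cfsg.Sz F m))).symm.injective
    have hcomm := IsSimpleGroup.comm_iff_isSolvable.mpr hG
    have h1 := hcomm (wS hm hF) (u hm hF 0 1)
    have h2 := congrArg (fun g : ↥(Cfsg.Sz F m) => g.1 • Cfsg.suzukiPointInfinity F) h1
    have h3 : (W hs * T (2 ^ (m + 1)) 0 1) • Cfsg.suzukiPointInfinity F =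
        (T (2 ^ (m + 1)) 0 1 * W hs) • Cfsg.suzukiPointInfinity F := h2
    rw [mul_smul, mul_smul, T_pInf, W_pInf, T_pZero hs, ← pt_zero hs] at h3
    exact zero_ne_one (pt_inj h3).2
  · intro hM
    rcases Cfsg.Agent.Lib.Helper3.SzMax8.main hm hF M hM with (⟨P, hP⟩ | ⟨V, hcyc, hcard, hle⟩) |
      ⟨K, _, _, k, hk1, hkm, hK, hdiv, _⟩
    · obtain ⟨γ, hγ⟩ := sylow_conj hm hF P
      exact solv_of_fix hm hF M (smul_mem_ovoid γ.2 (pInf_mem m))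
        (fun h hh => fix_of_norm hm hF P γ hγ (hP hh))
    · have hT := tor_of_cyc hm hF V hcyc hcard
      have := hT.solv
      exact Group.isSolvable_of_isSolvable_injective (f := Subgroup.inclusion hle)
        (Subgroup.inclusion_injective hle)
    · exfalso
      rcases (Nat.dvd_prime hp).mp hdiv with h | h <;> omega

/-- the characterisation of pairs generating a proper subgroup. -/
theorem sol_iff (hm : 1 ≤ m) (hF : Fintype.card F = 2 ^ (2 * m + 1)) (hp : (2 * m + 1).Prime)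
    (x y : ↥(Cfsg.Sz F m)) :
    Group.IsSolvable ↥(Subgroup.closure ({x, y} : Set ↥(Cfsg.Sz F m))) ↔
      (∃ p ∈ Cfsg.suzukiOvoid F m, x.1 • p = p ∧ y.1 • p = p) ∨
      (∃ V : Subgroup ↥(Cfsg.Sz F m), Tor hm hF V ∧
        x ∈ Subgroup.normalizer (V : Set ↥(Cfsg.Sz F m)) ∧
        y ∈ Subgroup.normalizer (V : Set ↥(Cfsg.Sz F m))) := by
  have hxM : x ∈ Subgroup.closure ({x, y} : Set ↥(Cfsg.Sz F m)) :=
    Subgroup.subset_closure (Set.mem_insert _ _)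
  have hyM : y ∈ Subgroup.closure ({x, y} : Set ↥(Cfsg.Sz F m)) :=
    Subgroup.subset_closure (Set.mem_insert_of_mem _ rfl)
  constructor
  · intro hsol
    have hM := (solv_iff hm hF hp _).mp hsol
    rcases Cfsg.Agent.Lib.Helper3.SzMax8.main hm hF _ hM with (⟨P, hP⟩ | ⟨V, hcyc, hcard, hle⟩) |
      ⟨K, _, _, k, hk1, hkm, hK, hdiv, _⟩
    · left
      obtain ⟨γ, hγ⟩ := sylow_conj hm hF P
      exact ⟨_, smul_mem_ovoid γ.2 (pInf_mem m), fix_of_norm hm hF P γ hγ (hP hxM),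
        fix_of_norm hm hF P γ hγ (hP hyM)⟩
    · right
      exact ⟨V, tor_of_cyc hm hF V hcyc hcard, hle hxM, hle hyM⟩
    · exfalso
      rcases (Nat.dvd_prime hp).mp hdiv with h | h <;> omega
  · rintro (⟨p, hp', hx, hy⟩ | ⟨V, hV, hx, hy⟩)
    · apply solv_of_fix hm hF _ hp'
      have hle : Subgroup.closure ({x, y} : Set ↥(Cfsg.Sz F m)) ≤ St m p := by
        rw [Subgroup.closure_le]
        rintro z (rfl | rfl)
        · exact hx
        · exact hy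
      exact fun h hh => hle hh
    · have := hV.solv
      have hle : Subgroup.closure ({x, y} : Set ↥(Cfsg.Sz F m)) ≤
          Subgroup.normalizer (V : Set ↥(Cfsg.Sz F m)) := by
        rw [Subgroup.closure_le]
        rintro z (rfl | rfl)
        · exact hx
        · exact hy
      exact Group.isSolvable_of_isSolvable_injective (f := Subgroup.inclusion hle)
        (Subgroup.inclusion_injective hle)

end Cfsg.Agent.Lib.Helper3.SzSol2
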