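import Mathlib
import Cfsg.Prelude.Def_LieExceptional
import Cfsg.Agent.Lib.Helper3.SzSol2

set_option autoImplicit false
set_option linter.unusedSectionVars false

namespace Cfsg.Agent.Lib.Helper3.SzSol3

open Matrix Cfsg.Agent.Lib.Helper3.Sz1 Cfsg.Agent.Lib.Helper3.Sz2 Cfsg.Agent.Lib.Helper3.Sz3
  Cfsg.Agent.Lib.Helper3.Sz4 Cfsg.Agent.Lib.Helper3.Sz5 Cfsg.Agent.Lib.Helper3.Sz6
  Cfsg.Agent.Lib.Helper3.Sz7 Cfsg.Agent.Lib.Helper3.Sz9 Cfsg.Agent.Lib.Helper3.Sz10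
  Cfsg.Agent.Lib.Helper3.Sz11 Cfsg.Agent.Lib.Helper3.Sz15 Cfsg.Agent.Lib.Helper3.SzR
  Cfsg.Agent.Lib.Helper3.SzFix1 Cfsg.Agent.Lib.Helper3.SzFix2 Cfsg.Agent.Lib.Helper3.SzSub2
  Cfsg.Agent.Lib.Helper3.SzMax1 Cfsg.Agent.Lib.Helper3.SzMax2
  Cfsg.Agent.Lib.Helper14.SzTori Cfsg.Agent.Lib.Helper3.SzSol1 Cfsg.Agent.Lib.Helper3.SzSol2

section gen

variable {G G' : Type*} [Group G] [Group G']

theorem solv_map_iff (e : G ≃* G') (S : Subgroup G) :
    Group.IsSolvable ↥(S.map e.toMonoidHom) ↔ Group.IsSolvable ↥S := by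
  obtain ⟨φ⟩ : Nonempty (↥S ≃* ↥(S.map e.toMonoidHom)) :=
    ⟨S.equivMapOfInjective e.toMonoidHom e.injective⟩
  constructor
  · intro h
    exact Group.isSolvable_of_isSolvable_injective (f := φ.toMonoidHom) φ.injective
  · intro h
    exact Group.isSolvable_of_isSolvable_injective (f := φ.symm.toMonoidHom) φ.symm.injective

theorem solv_pair_iff (e : G ≃* G') (x y : G) :
    Group.IsSolvable ↥(Subgroup.closure ({e x, e y} : Set G')) ↔
      Group.IsSolvable ↥(Subgroup.closure ({x, y} : Set G)) := by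
  have h : Subgroup.closure ({e x, e y} : Set G') =
      (Subgroup.closure ({x, y} : Set G)).map e.toMonoidHom := by
    rw [MonoidHom.map_closure, Set.image_pair]
    rfl
  rw [h]
  exact solv_map_iff e _

/-- the size of a solubilizer is invariant under isomorphisms. -/
theorem solC_equiv (e : G ≃* G') (x : G) :
    Nat.card {y' : G' // Group.IsSolvable ↥(Subgroup.closure ({e x, y'} : Set G'))} =
      Nat.card {y : G // Group.IsSolvable ↥(Subgroup.closure ({x, y} : Set G))} := by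
  symm
  apply Nat.card_congr
  exact Equiv.subtypeEquiv e.toEquiv (fun y => (solv_pair_iff e x y).symm)

end gen

variable {F : Type*} [Field F] [Fintype F] {m : ℕ}

/-- the size of the solubilizer. -/
noncomputable def solC (x : ↥(Cfsg.Sz F m)) : ℕ :=
  Nat.card {y : ↥(Cfsg.Sz F m) //
    Group.IsSolvable ↥(Subgroup.closure ({x, y} : Set ↥(Cfsg.Sz F m)))}

theorem solC_conj (g x : ↥(Cfsg.Sz F m)) : solC (g * x * g⁻¹) = solC x :=
  solC_equiv (MulAut.conj g) x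

/-! ### orders -/

theorem Dg_pow (hm : 1 ≤ m) (hF : Fintype.card F = 2 ^ (2 * m + 1)) (g : ↥(Cfsg.Sz F m))
    (k : Fˣ) : (g * DHom hm hF k * g⁻¹) ^ (2 ^ (2 * m + 1) - 1) = 1 := by
  classical
  rw [conj_pow, ← map_pow]
  have h : k ^ (2 ^ (2 * m + 1) - 1) = 1 := by
    rw [← hF, ← Fintype.card_units]
    exact pow_card_eq_one
  rw [h, map_one]
  group

theorem u_pow4 (hm : 1 ≤ m) (hF : Fintype.card F = 2 ^ (2 * m + 1)) (g : ↥(Cfsg.Sz F m))
    (a b : F) : (g * u hm hF a b * g⁻¹) ^ 4 = 1 := by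
  rw [conj_pow]
  have h : u hm hF a b ^ 4 = 1 := Subtype.ext (T_pow4 hm hF a b)
  rw [h]
  group

theorem fpf_pow (hm : 1 ≤ m) (hF : Fintype.card F = 2 ^ (2 * m + 1)) {x : ↥(Cfsg.Sz F m)}
    (hx : Fpf x) : x ^ ((2 ^ (2 * m + 1)) ^ 2 + 1) = 1 := by
  have hfin : Finite (Matrix.SpecialLinearGroup (Fin 4) F) := finite_SL
  obtain ⟨c, hc⟩ := cent_card_dvd hm hF hx
  rw [hc, pow_mul, Cfsg.Agent.Lib.Helper14.SzPart.pow_card_of_mem (self_mem_cent x), one_pow]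

theorem q_odd (m : ℕ) : Odd (2 ^ (2 * m + 1) - 1) := by
  have h1 : 1 ≤ 2 ^ (2 * m + 1) := Nat.one_le_two_pow
  have h2 : Even (2 ^ (2 * m + 1)) := (Nat.even_pow.mpr ⟨even_two, by omega⟩)
  exact Nat.Even.sub_odd h1 h2 odd_one

theorem q2_odd (m : ℕ) : Odd ((2 ^ (2 * m + 1)) ^ 2 + 1) := by
  have h2 : Even ((2 ^ (2 * m + 1)) ^ 2) :=
    Nat.even_pow.mpr ⟨Nat.even_pow.mpr ⟨even_two, by omega⟩, by norm_num⟩
  exact h2.add_one

theorem cop_four {n : ℕ} (hn : Odd n) : Nat.Coprime n 4 := by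
  have h : Nat.Coprime n 2 := (Nat.coprime_two_left.mpr hn).symm
  exact Nat.Coprime.pow_right 2 h

theorem one_of_coprime {x : ↥(Cfsg.Sz F m)} {a b : ℕ} (ha : orderOf x ∣ a) (hb : x ^ b = 1)
    (hab : Nat.Coprime a b) : x = 1 :=
  orderOf_eq_one_iff.mp (Nat.eq_one_of_dvd_coprimes hab ha (orderOf_dvd_of_pow_eq_one hb))

theorem type_zero (hm : 1 ≤ m) (hF : Fintype.card F = 2 ^ (2 * m + 1)) {x : ↥(Cfsg.Sz F m)}
    (hx1 : x ≠ 1) (hord : orderOf x ∣ 2 ^ (2 * m + 1) - 1) : Dg hm hF x := by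
  rcases tri hm hF x hx1 with h | ⟨g, a, b, hab, hv⟩ | hfpf
  · exact h
  · exfalso
    apply hx1
    apply one_of_coprime hord (b := 4) ?_ (cop_four (q_odd m))
    rw [hv]
    exact u_pow4 hm hF g a b
  · exfalso
    exact hx1 (one_of_coprime hord (fpf_pow hm hF hfpf) (cop1 m))

theorem type_pm (hm : 1 ≤ m) (hF : Fintype.card F = 2 ^ (2 * m + 1)) {x : ↥(Cfsg.Sz F m)}
    (hx1 : x ≠ 1) (hord : orderOf x ∣ (2 ^ (2 * m + 1)) ^ 2 + 1) : Fpf x := by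
  rcases tri hm hF x hx1 with ⟨g, k, hk, hv⟩ | ⟨g, a, b, hab, hv⟩ | hfpf
  · exfalso
    apply hx1
    apply one_of_coprime hord (b := 2 ^ (2 * m + 1) - 1) ?_ (cop1 m).symm
    rw [hv]
    exact Dg_pow hm hF g k
  · exfalso
    apply hx1
    apply one_of_coprime hord (b := 4) ?_ (cop_four (q2_odd m))
    rw [hv]
    exact u_pow4 hm hF g a b
  · exact hfpf

theorem type_two (hm : 1 ≤ m) (hF : Fintype.card F = 2 ^ (2 * m + 1)) {x : ↥(Cfsg.Sz F m)}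
    (hx1 : x ≠ 1) (hord : orderOf x ∣ 4) :
    ∃ (g : ↥(Cfsg.Sz F m)) (a b : F), ¬ (a = 0 ∧ b = 0) ∧ x = g * u hm hF a b * g⁻¹ := by
  rcases tri hm hF x hx1 with ⟨g, k, hk, hv⟩ | h | hfpf
  · exfalso
    apply hx1
    apply one_of_coprime hord (b := 2 ^ (2 * m + 1) - 1) ?_ (cop_four (q_odd m)).symm
    rw [hv]
    exact Dg_pow hm hF g k
  · exact h
  · exfalso
    exact hx1 (one_of_coprime hord (fpf_pow hm hF hfpf) (cop_four (q2_odd m)).symm)

/-! ### fixed-point-free elements -/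

theorem sol_fpf (hm : 1 ≤ m) (hF : Fintype.card F = 2 ^ (2 * m + 1)) (hp : (2 * m + 1).Prime)
    {x : ↥(Cfsg.Sz F m)} (hx : Fpf x) (y : ↥(Cfsg.Sz F m)) :
    Group.IsSolvable ↥(Subgroup.closure ({x, y} : Set ↥(Cfsg.Sz F m))) ↔
      y ∈ Subgroup.normalizer ((Subgroup.centralizer ({x} : Set ↥(Cfsg.Sz F m)) :
        Subgroup ↥(Cfsg.Sz F m)) : Set ↥(Cfsg.Sz F m)) := by
  rw [sol_iff hm hF hp]
  constructor
  · rintro (⟨p, hp', hxp, -⟩ | ⟨V, hV, hxN, hyN⟩)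
    · exact absurd hxp (hx p hp')
    · obtain ⟨k, hk⟩ := q2_odd m
      have hxV : x ∈ V := hV.odd_mem hxN (by rw [← hk]; exact fpf_pow hm hF hx)
      rw [hV.cent x hxV (fpf_ne_one hx)]
      exact hyN
  · intro hy
    exact Or.inr ⟨_, tor_of_fpf hm hF hx, Subgroup.le_normalizer (self_mem_cent x), hy⟩

theorem solC_fpf (hm : 1 ≤ m) (hF : Fintype.card F = 2 ^ (2 * m + 1)) (hp : (2 * m + 1).Prime)
    {x : ↥(Cfsg.Sz F m)} (hx : Fpf x) : solC x = 4 * cA x := by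
  obtain ⟨hmain, _, _⟩ := main hm hF
  obtain ⟨_, hcN⟩ := hmain x hx
  rw [← hcN]
  exact card1_eq _ _ (sol_fpf hm hF hp hx)

theorem solC_plus (hm : 1 ≤ m) (hF : Fintype.card F = 2 ^ (2 * m + 1)) (hp : (2 * m + 1).Prime)
    {x : ↥(Cfsg.Sz F m)} (hx1 : x ≠ 1)
    (hord : orderOf x ∣ 2 ^ (2 * m + 1) + 2 ^ (m + 1) + 1) :
    solC x = 4 * (2 ^ (2 * m + 1) + 2 ^ (m + 1) + 1) := by
  have hfin : Finite (Matrix.SpecialLinearGroup (Fin 4) F) := finite_SL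
  have hx : Fpf x := type_pm hm hF hx1 (dvd_trans hord (Dvd.intro _ (tm_mul hm)))
  rw [solC_fpf hm hF hp hx]
  obtain ⟨hmain, _, _⟩ := main hm hF
  obtain ⟨hcA, _⟩ := hmain x hx
  rcases hcA with h | h
  · rw [h]
  · exfalso
    apply hx1
    have h2 : x ^ (2 ^ (2 * m + 1) - 2 ^ (m + 1) + 1) = 1 := by
      rw [← h]
      exact Cfsg.Agent.Lib.Helper14.SzPart.pow_card_of_mem (self_mem_cent x)
    exact one_of_coprime hord h2 (cop2 hm)

theorem solC_minus (hm : 1 ≤ m) (hF : Fintype.card F = 2 ^ (2 * m + 1)) (hp : (2 * m + 1).Prime)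
    {x : ↥(Cfsg.Sz F m)} (hx1 : x ≠ 1)
    (hord : orderOf x ∣ 2 ^ (2 * m + 1) - 2 ^ (m + 1) + 1) :
    solC x = 4 * (2 ^ (2 * m + 1) - 2 ^ (m + 1) + 1) := by
  have hfin : Finite (Matrix.SpecialLinearGroup (Fin 4) F) := finite_SL
  have hx : Fpf x := type_pm hm hF hx1 (dvd_trans hord (Dvd.intro_left _ (tm_mul hm)))
  rw [solC_fpf hm hF hp hx]
  obtain ⟨hmain, _, _⟩ := main hm hF
  obtain ⟨hcA, _⟩ := hmain x hx
  rcases hcA with h | h
  · exfalso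
    apply hx1
    have h2 : x ^ (2 ^ (2 * m + 1) + 2 ^ (m + 1) + 1) = 1 := by
      rw [← h]
      exact Cfsg.Agent.Lib.Helper14.SzPart.pow_card_of_mem (self_mem_cent x)
    exact one_of_coprime hord h2 (cop2 hm).symm
  · rw [h]

/-! ### diagonal elements -/

theorem mem_V_iff (hm : 1 ≤ m) (hF : Fintype.card F = 2 ^ (2 * m + 1)) (g : ↥(Cfsg.Sz F m))
    {k : Fˣ} (hk : k ≠ 1) (h : ↥(Cfsg.Sz F m)) :
    h ∈ Subgroup.centralizer ({g * DHom hm hF k * g⁻¹} : Set ↥(Cfsg.Sz F m)) ↔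
      (h.1 • (g.1 • Cfsg.suzukiPointInfinity F) = g.1 • Cfsg.suzukiPointInfinity F ∧
        h.1 • (g.1 • Cfsg.suzukiPointZero F) = g.1 • Cfsg.suzukiPointZero F) := by
  constructor
  · intro hh
    obtain ⟨k', rfl⟩ := (Dg_cent hm hF g hk h).mp hh
    exact ⟨Dg_fix_inf hm hF g k', Dg_fix_zero hm hF g k'⟩
  · rintro ⟨h1, h2⟩
    exact Dg_mem_of_fix hm hF g hk h1 h2

theorem norm_of_pair (hm : 1 ≤ m) (hF : Fintype.card F = 2 ^ (2 * m + 1)) (g : ↥(Cfsg.Sz F m))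
    {k : Fˣ} (hk : k ≠ 1) {n : ↥(Cfsg.Sz F m)}
    (h : (n.1 • (g.1 • Cfsg.suzukiPointInfinity F) = g.1 • Cfsg.suzukiPointInfinity F ∧
        n.1 • (g.1 • Cfsg.suzukiPointZero F) = g.1 • Cfsg.suzukiPointZero F) ∨
      (n.1 • (g.1 • Cfsg.suzukiPointInfinity F) = g.1 • Cfsg.suzukiPointZero F ∧
        n.1 • (g.1 • Cfsg.suzukiPointZero F) = g.1 • Cfsg.suzukiPointInfinity F)) :
    n ∈ Subgroup.normalizer ((Subgroup.centralizer
      ({g * DHom hm hF k * g⁻¹} : Set ↥(Cfsg.Sz F m)) : Subgroup ↥(Cfsg.Sz F m)) :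
        Set ↥(Cfsg.Sz F m)) := by
  rw [Subgroup.mem_normalizer_iff]
  intro h'
  rw [mem_V_iff hm hF g hk, mem_V_iff hm hF g hk]
  show _ ↔ ((n.1 * h'.1 * n.1⁻¹) • _ = _ ∧ (n.1 * h'.1 * n.1⁻¹) • _ = _)
  rw [mul_smul, mul_smul, mul_smul, mul_smul]
  rcases h with ⟨a1, a2⟩ | ⟨a1, a2⟩
  · have b1 : n.1⁻¹ • (g.1 • Cfsg.suzukiPointInfinity F) = g.1 • Cfsg.suzukiPointInfinity F :=
      inv_smul_eq_iff.mpr a1.symm
    have b2 : n.1⁻¹ • (g.1 • Cfsg.suzukiPointZero F) = g.1 • Cfsg.suzukiPointZero F :=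
      inv_smul_eq_iff.mpr a2.symm
    rw [b1, b2]
    constructor
    · rintro ⟨c1, c2⟩
      rw [c1, c2]
      exact ⟨a1, a2⟩
    · rintro ⟨c1, c2⟩
      exact ⟨((smul_eq_iff_eq_inv_smul _).mp c1).trans b1,
        ((smul_eq_iff_eq_inv_smul _).mp c2).trans b2⟩
  · have b1 : n.1⁻¹ • (g.1 • Cfsg.suzukiPointInfinity F) = g.1 • Cfsg.suzukiPointZero F :=
      inv_smul_eq_iff.mpr a2.symm
    have b2 : n.1⁻¹ • (g.1 • Cfsg.suzukiPointZero F) = g.1 • Cfsg.suzukiPointInfinity F :=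
      inv_smul_eq_iff.mpr a1.symm
    rw [b1, b2]
    constructor
    · rintro ⟨c1, c2⟩
      rw [c1, c2]
      exact ⟨a2, a1⟩
    · rintro ⟨c1, c2⟩
      exact ⟨((smul_eq_iff_eq_inv_smul _).mp c2).trans b2,
        ((smul_eq_iff_eq_inv_smul _).mp c1).trans b1⟩

theorem sol_D (hm : 1 ≤ m) (hF : Fintype.card F = 2 ^ (2 * m + 1)) (hp : (2 * m + 1).Prime)
    {κ : Fˣ} (hκ : κ ≠ 1) (y : ↥(Cfsg.Sz F m)) :
    Group.IsSolvable ↥(Subgroup.closure ({DHom hm hF κ, y} : Set ↥(Cfsg.Sz F m))) ↔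
      (y.1 • Cfsg.suzukiPointInfinity F = Cfsg.suzukiPointInfinity F ∨
        y.1 • Cfsg.suzukiPointZero F = Cfsg.suzukiPointZero F ∨
        (y.1 • Cfsg.suzukiPointInfinity F = Cfsg.suzukiPointZero F ∧
          y.1 • Cfsg.suzukiPointZero F = Cfsg.suzukiPointInfinity F)) := by
  have e : (1 : ↥(Cfsg.Sz F m)) * DHom hm hF κ * 1⁻¹ = DHom hm hF κ := by group
  have e1 : ((1 : ↥(Cfsg.Sz F m)) : Matrix.SpecialLinearGroup (Fin 4) F) = 1 := rfl
  have hx1 : DHom hm hF κ ≠ 1 := by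
    rw [← e]
    exact Dg_ne_one hm hF 1 hκ
  rw [sol_iff hm hF hp]
  constructor
  · rintro (⟨p, hp', hxp, hyp⟩ | ⟨V, hV, hxN, hyN⟩)
    · have h := Dg_fix hm hF 1 hκ hp' (by rw [e]; exact hxp)
      rw [e1, one_smul, one_smul] at h
      rcases h with rfl | rfl
      · exact Or.inl hyp
      · exact Or.inr (Or.inl hyp)
    · obtain ⟨k, hk⟩ := q_odd m
      have hxV : DHom hm hF κ ∈ V := hV.odd_mem hxN (by
        rw [← hk]
        have := Dg_pow hm hF 1 κ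
        rw [e] at this
        exact this)
      rw [← hV.cent _ hxV hx1, ← e] at hyN
      have h := Dg_norm hm hF 1 hκ hyN
      rw [e1, one_smul, one_smul] at h
      rcases h with ⟨a1, a2⟩ | ⟨a1, a2⟩
      · exact Or.inl a1
      · exact Or.inr (Or.inr ⟨a1, a2⟩)
  · rintro (h | h | ⟨h1, h2⟩)
    · exact Or.inl ⟨_, pInf_mem m, D_pInf _ _, h⟩
    · exact Or.inl ⟨_, pZero_mem hm hF, D_pZero _ _, h⟩
    · right
      have hT := tor_of_Dg hm hF 1 hκ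
      have hn := norm_of_pair hm hF 1 hκ (n := y) (by
        rw [e1, one_smul, one_smul]
        exact Or.inr ⟨h1, h2⟩)
      rw [e] at hT hn
      exact ⟨_, hT, Subgroup.le_normalizer (self_mem_cent _), hn⟩

theorem card_B (hm : 1 ≤ m) (hF : Fintype.card F = 2 ^ (2 * m + 1)) :
    Nat.card {y : ↥(Cfsg.Sz F m) //
      y.1 • Cfsg.suzukiPointInfinity F = Cfsg.suzukiPointInfinity F} =
      (2 ^ (2 * m + 1)) ^ 2 * (2 ^ (2 * m + 1) - 1) := by
  rw [← card_stab1 hm hF]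
  rfl

theorem solC_D (hm : 1 ≤ m) (hF : Fintype.card F = 2 ^ (2 * m + 1)) (hp : (2 * m + 1).Prime)
    {κ : Fˣ} (hκ : κ ≠ 1) :
    solC (DHom hm hF κ) = 2 * (2 ^ (2 * m + 1)) ^ 2 * (2 ^ (2 * m + 1) - 1) := by
  have hs := hyp_of_card hm hF
  have hfin : Finite (Matrix.SpecialLinearGroup (Fin 4) F) := finite_SL
  have hw : ∀ y : ↥(Cfsg.Sz F m), ∀ p : Projectivization F (Fin 4 → F),
      (wS hm hF * y).1 • p = W hs • (y.1 • p) := fun y p => mul_smul _ _ _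
  have hw' : ∀ y : ↥(Cfsg.Sz F m), ∀ p : Projectivization F (Fin 4 → F),
      (y * wS hm hF).1 • p = y.1 • (W hs • p) := fun y p => mul_smul _ _ _
  have hWI : ∀ p : Projectivization F (Fin 4 → F),
      W hs • p = Cfsg.suzukiPointInfinity F ↔ p = Cfsg.suzukiPointZero F := by
    intro p
    constructor
    · intro h
      have h2 := congrArg (fun z => W hs • z) h
      simp only [← mul_smul, W_sq hs, one_smul] at h2
      rw [h2, W_pInf]
    · rintro rfl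
      exact W_pZero hs
  have hWZ : ∀ p : Projectivization F (Fin 4 → F),
      W hs • p = Cfsg.suzukiPointZero F ↔ p = Cfsg.suzukiPointInfinity F := by
    intro p
    constructor
    · intro h
      have h2 := congrArg (fun z => W hs • z) h
      simp only [← mul_smul, W_sq hs, one_smul] at h2
      rw [h2, W_pZero]
    · rintro rfl
      exact W_pInf hs
  -- the three pieces
  have hB := card_B hm hF
  have hBsplit := card2_eq
    (fun b : ↥(Cfsg.Sz F m) => b.1 • Cfsg.suzukiPointInfinity F = Cfsg.suzukiPointInfinity F ∧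
      b.1 • Cfsg.suzukiPointZero F ≠ Cfsg.suzukiPointZero F)
    (fun b : ↥(Cfsg.Sz F m) => b.1 • Cfsg.suzukiPointInfinity F = Cfsg.suzukiPointInfinity F ∧
      b.1 • Cfsg.suzukiPointZero F = Cfsg.suzukiPointZero F)
    (fun b : ↥(Cfsg.Sz F m) => b.1 • Cfsg.suzukiPointInfinity F = Cfsg.suzukiPointInfinity F)
    (fun b h => h.1) (fun b h => h.1) (fun b h h' => h.2 h'.2)
    (fun b h => by
      by_cases h0 : b.1 • Cfsg.suzukiPointZero F = Cfsg.suzukiPointZero F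
      · exact Or.inr ⟨h, h0⟩
      · exact Or.inl ⟨h, h0⟩)
  have hPsplit := card2_eq
    (fun y : ↥(Cfsg.Sz F m) => y.1 • Cfsg.suzukiPointInfinity F ≠ Cfsg.suzukiPointInfinity F ∧
      y.1 • Cfsg.suzukiPointZero F = Cfsg.suzukiPointZero F)
    (fun y : ↥(Cfsg.Sz F m) => y.1 • Cfsg.suzukiPointInfinity F = Cfsg.suzukiPointZero F ∧
      y.1 • Cfsg.suzukiPointZero F = Cfsg.suzukiPointInfinity F)
    (fun y : ↥(Cfsg.Sz F m) => y.1 • Cfsg.suzukiPointInfinity F ≠ Cfsg.suzukiPointInfinity F ∧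
      (y.1 • Cfsg.suzukiPointZero F = Cfsg.suzukiPointZero F ∨
        (y.1 • Cfsg.suzukiPointInfinity F = Cfsg.suzukiPointZero F ∧
          y.1 • Cfsg.suzukiPointZero F = Cfsg.suzukiPointInfinity F)))
    (fun y h => ⟨h.1, Or.inl h.2⟩)
    (fun y h => ⟨by rw [h.1]; exact pZero_ne_inf, Or.inr h⟩)
    (fun y h h' => pZero_ne_inf (h.2.symm.trans h'.2))
    (fun y h => by
      rcases h.2 with h0 | h0
      · exact Or.inl ⟨h.1, h0⟩
      · exact Or.inr h0)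
  have ha : Nat.card {y : ↥(Cfsg.Sz F m) //
      y.1 • Cfsg.suzukiPointInfinity F ≠ Cfsg.suzukiPointInfinity F ∧
        y.1 • Cfsg.suzukiPointZero F = Cfsg.suzukiPointZero F} =
      Nat.card {b : ↥(Cfsg.Sz F m) //
        b.1 • Cfsg.suzukiPointInfinity F = Cfsg.suzukiPointInfinity F ∧
          b.1 • Cfsg.suzukiPointZero F ≠ Cfsg.suzukiPointZero F} := by
    apply Nat.card_congr
    refine Equiv.subtypeEquiv ((Equiv.mulLeft (wS hm hF)).trans (Equiv.mulRight (wS hm hF)))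
      (fun y => ?_)
    show _ ↔ ((wS hm hF * y * wS hm hF).1 • _ = _ ∧ (wS hm hF * y * wS hm hF).1 • _ ≠ _)
    rw [hw', hw', hw, hw, W_pInf, W_pZero, hWI]
    constructor
    · rintro ⟨h1, h2⟩
      exact ⟨h2, fun h => h1 ((hWZ _).mp h)⟩
    · rintro ⟨h1, h2⟩
      exact ⟨fun h => h2 ((hWZ _).mpr h), h1⟩
  have hb : Nat.card {y : ↥(Cfsg.Sz F m) //
      y.1 • Cfsg.suzukiPointInfinity F = Cfsg.suzukiPointZero F ∧
        y.1 • Cfsg.suzukiPointZero F = Cfsg.suzukiPointInfinity F} =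
      Nat.card {b : ↥(Cfsg.Sz F m) //
        b.1 • Cfsg.suzukiPointInfinity F = Cfsg.suzukiPointInfinity F ∧
          b.1 • Cfsg.suzukiPointZero F = Cfsg.suzukiPointZero F} := by
    apply Nat.card_congr
    refine Equiv.subtypeEquiv (Equiv.mulLeft (wS hm hF)) (fun y => ?_)
    show _ ↔ ((wS hm hF * y).1 • _ = _ ∧ (wS hm hF * y).1 • _ = _)
    rw [hw, hw, hWI, hWZ]
  have hfinal := card2_eq
    (fun y : ↥(Cfsg.Sz F m) => y.1 • Cfsg.suzukiPointInfinity F = Cfsg.suzukiPointInfinity F)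
    (fun y : ↥(Cfsg.Sz F m) => y.1 • Cfsg.suzukiPointInfinity F ≠ Cfsg.suzukiPointInfinity F ∧
      (y.1 • Cfsg.suzukiPointZero F = Cfsg.suzukiPointZero F ∨
        (y.1 • Cfsg.suzukiPointInfinity F = Cfsg.suzukiPointZero F ∧
          y.1 • Cfsg.suzukiPointZero F = Cfsg.suzukiPointInfinity F)))
    (fun y : ↥(Cfsg.Sz F m) =>
      Group.IsSolvable ↥(Subgroup.closure ({DHom hm hF κ, y} : Set ↥(Cfsg.Sz F m))))
    (fun y h => (sol_D hm hF hp hκ y).mpr (Or.inl h))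
    (fun y h => (sol_D hm hF hp hκ y).mpr (Or.inr h.2))
    (fun y h h' => h'.1 h)
    (fun y h => by
      by_cases h0 : y.1 • Cfsg.suzukiPointInfinity F = Cfsg.suzukiPointInfinity F
      · exact Or.inl h0
      · rcases (sol_D hm hF hp hκ y).mp h with h1 | h1
        · exact absurd h1 h0
        · exact Or.inr ⟨h0, h1⟩)
  unfold solC
  rw [← hfinal, ← hPsplit, ha, hb, hBsplit, hB]
  ring

theorem solC_zero (hm : 1 ≤ m) (hF : Fintype.card F = 2 ^ (2 * m + 1)) (hp : (2 * m + 1).Prime)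
    {x : ↥(Cfsg.Sz F m)} (hx1 : x ≠ 1) (hord : orderOf x ∣ 2 ^ (2 * m + 1) - 1) :
    solC x = 2 * (2 ^ (2 * m + 1)) ^ 2 * (2 ^ (2 * m + 1) - 1) := by
  obtain ⟨g, k, hk, rfl⟩ := type_zero hm hF hx1 hord
  rw [solC_conj]
  exact solC_D hm hF hp hk

end Cfsg.Agent.Lib.Helper3.SzSol3
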