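import Mathlib
import Cfsg.Agent.Lib.Helper3.L2g
import Cfsg.Agent.Lib.Helper3.SzSol3

set_option autoImplicit false
set_option linter.unusedSectionVars false
set_option linter.unusedVariables false
set_option linter.unusedSimpArgs false
set_option linter.style.haveILetI false

namespace Cfsg.Agent.Lib.Helper3.L2

open Matrix

variable {F : Type*} [Field F] [CharP F 2]

theorem comm_sl {a b c : G2 F} (ha : a ≠ 1) (hb : a * b = b * a) (hc : a * c = c * a) :
    b * c = c * b := by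
  apply Subtype.ext
  exact Cfsg.Agent.S4065.comm_of_comm a.1 b.1 c.1 (Cfsg.Agent.S4065.nonscalar a ha)
    (congrArg Subtype.val hb) (congrArg Subtype.val hc)

theorem not_solvable_G2 [Fintype F] (h4 : 4 ≤ Fintype.card F) : ¬ Group.IsSolvable (G2 F) := by
  intro hs
  have hsimp : IsSimpleGroup (Matrix.ProjectiveSpecialLinearGroup (Fin 2) F) :=
    Matrix.ProjectiveSpecialLinearGroup.rank_two_simple
      (by rw [Nat.card_eq_fintype_card]; exact h4)
  have hs' : Group.IsSolvable (Matrix.ProjectiveSpecialLinearGroup (Fin 2) F) :=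
    Group.isSolvable_of_surjective (f := (Cfsg.Agent.S2507.pslEquiv (F := F)).toMonoidHom)
      (Cfsg.Agent.S2507.pslEquiv (F := F)).surjective
  have hcomm := IsSimpleGroup.comm_iff_isSolvable.mpr hs'
  have h1 := hcomm (Cfsg.Agent.S2507.pslEquiv (u (1 : F))) (Cfsg.Agent.S2507.pslEquiv (l (1 : F)))
  rw [← map_mul, ← map_mul] at h1
  have h2 := (Cfsg.Agent.S2507.pslEquiv (F := F)).injective h1
  have h3 := congrArg (fun g : G2 F => g.1 0 0) h2
  simp only [mul00, u00, u01, u10, l00, l10, l01] at h3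
  have h5 : (1 : F) = 0 := by linear_combination h3
  exact one_ne_zero h5

/-- the unipotent radical. -/
def Uni : Subgroup (G2 F) where
  carrier := {g | g.1 1 0 = 0 ∧ g.1 0 0 = 1 ∧ g.1 1 1 = 1}
  one_mem' := ⟨one10, one00, one11⟩
  mul_mem' := by
    rintro a b ⟨ha1, ha2, ha3⟩ ⟨hb1, hb2, hb3⟩
    refine ⟨?_, ?_, ?_⟩
    · show (a * b).1 1 0 = 0
      rw [mul10, ha1, hb1]; ring
    · show (a * b).1 0 0 = 1
      rw [mul00, ha2, hb2, hb1]; ring
    · show (a * b).1 1 1 = 1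
      rw [mul11, ha1, ha3, hb3]; ring
  inv_mem' := by
    rintro a ⟨ha1, ha2, ha3⟩
    refine ⟨?_, ?_, ?_⟩
    · show (a⁻¹).1 1 0 = 0
      rw [inv10, ha1, neg_zero]
    · show (a⁻¹).1 0 0 = 1
      rw [inv00, ha3]
    · show (a⁻¹).1 1 1 = 1
      rw [inv11, ha2]

theorem Uni_form {g : G2 F} (hg : g ∈ Uni) : g = u (g.1 0 1) := by
  obtain ⟨h1, h2, h3⟩ := hg
  apply ext2
  · rw [u00, h2]
  · rw [u01]
  · rw [u10, h1]
  · rw [u11, h3]

theorem solv_Uni : Group.IsSolvable (Uni (F := F)) := by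
  apply Group.isSolvable_of_comm
  intro a b
  apply Subtype.ext
  show a.1 * b.1 = b.1 * a.1
  obtain ⟨x, hx⟩ : ∃ x, a.1 = u x := ⟨_, Uni_form a.2⟩
  obtain ⟨y, hy⟩ : ∃ y, b.1 = u y := ⟨_, Uni_form b.2⟩
  rw [hx, hy, u_mul, u_mul, add_comm]

theorem solv_Bor : Group.IsSolvable (Bor (F := F)) := by
  haveI := solv_Uni (F := F)
  apply Cfsg.Agent.Lib.Helper3.SzSol1.solv_of_comm_le Bor Uni
  intro x hx y hy
  have hx' : x.1 1 0 = 0 := hx
  have hy' : y.1 1 0 = 0 := hy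
  have hdx := det2 x
  have hdy := det2 y
  rw [hx', mul_zero, sub_zero] at hdx
  rw [hy', mul_zero, sub_zero] at hdy
  have hc : x * y * x⁻¹ * y⁻¹ ∈ Bor (F := F) :=
    mul_mem (mul_mem (mul_mem hx hy) (inv_mem hx)) (inv_mem hy)
  have hc10 : (x * y * x⁻¹ * y⁻¹).1 1 0 = 0 := hc
  have h00 : (x * y * x⁻¹ * y⁻¹).1 0 0 = 1 := by
    simp only [mul00, mul01, mul10, mul11, inv00, inv01, inv10, inv11, hx', hy']
    linear_combination (y.1 0 0 * y.1 1 1) * hdx + hdy
  have hd := det2 (x * y * x⁻¹ * y⁻¹)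
  rw [hc10, h00, mul_zero, sub_zero, one_mul] at hd
  exact ⟨hc10, h00, hd⟩

theorem solv_of_le {G : Type*} [Group G] {H K : Subgroup G} (h : H ≤ K)
    [hK : Group.IsSolvable K] : Group.IsSolvable H :=
  Group.isSolvable_of_isSolvable_injective (f := Subgroup.inclusion h)
    (Subgroup.inclusion_injective h)

theorem solv_of_fixpt (H : Subgroup (G2 F)) (h : FixPt H) : Group.IsSolvable H := by
  obtain ⟨γ, hγ⟩ := h
  haveI := solv_Bor (F := F)
  let f : H →* Bor (F := F) :=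
    { toFun := fun h => ⟨γ * h.1 * γ⁻¹, hγ h.1 h.2⟩
      map_one' := by
        apply Subtype.ext
        show γ * 1 * γ⁻¹ = 1
        group
      map_mul' := by
        intro a b
        apply Subtype.ext
        show γ * (a.1 * b.1) * γ⁻¹ = (γ * a.1 * γ⁻¹) * (γ * b.1 * γ⁻¹)
        group }
  apply Group.isSolvable_of_isSolvable_injective (f := f)
  intro a b hab
  have h' : γ * a.1 * γ⁻¹ = γ * b.1 * γ⁻¹ := congrArg Subtype.val hab
  exact Subtype.ext (mul_left_cancel (mul_right_cancel h'))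

omit [CharP F 2] in
theorem mem_cent {z g : G2 F} :
    g ∈ Subgroup.centralizer ({z} : Set (G2 F)) ↔ g * z = z * g := by
  rw [Subgroup.mem_centralizer_iff]
  constructor
  · intro h; exact (h z rfl).symm
  · intro h y hy
    rw [Set.mem_singleton_iff] at hy
    rw [hy]; exact h.symm

section signs

variable {z : G2 F}

omit [CharP F 2] in
theorem sPP {a b : G2 F} (ha : a * z * a⁻¹ = z) (hb : b * z * b⁻¹ = z) :
    (a * b) * z * (a * b)⁻¹ = z := by
  have e : a * b * z * (a * b)⁻¹ = a * (b * z * b⁻¹) * a⁻¹ := by group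
  rw [e, hb, ha]

omit [CharP F 2] in
theorem sPQ {a b : G2 F} (ha : a * z * a⁻¹ = z) (hb : b * z * b⁻¹ = z⁻¹) :
    (a * b) * z * (a * b)⁻¹ = z⁻¹ := by
  have e : a * b * z * (a * b)⁻¹ = a * (b * z * b⁻¹) * a⁻¹ := by group
  have e2 : a * z⁻¹ * a⁻¹ = (a * z * a⁻¹)⁻¹ := by group
  rw [e, hb, e2, ha]

omit [CharP F 2] in
theorem sQP {a b : G2 F} (ha : a * z * a⁻¹ = z⁻¹) (hb : b * z * b⁻¹ = z) :
    (a * b) * z * (a * b)⁻¹ = z⁻¹ := by
  have e : a * b * z * (a * b)⁻¹ = a * (b * z * b⁻¹) * a⁻¹ := by group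
  rw [e, hb, ha]

omit [CharP F 2] in
theorem sQQ {a b : G2 F} (ha : a * z * a⁻¹ = z⁻¹) (hb : b * z * b⁻¹ = z⁻¹) :
    (a * b) * z * (a * b)⁻¹ = z := by
  have e : a * b * z * (a * b)⁻¹ = a * (b * z * b⁻¹) * a⁻¹ := by group
  have e2 : a * z⁻¹ * a⁻¹ = (a * z * a⁻¹)⁻¹ := by group
  rw [e, hb, e2, ha, inv_inv]

omit [CharP F 2] in
theorem sPinv {a : G2 F} (ha : a * z * a⁻¹ = z) : a⁻¹ * z * a⁻¹⁻¹ = z := by
  calc a⁻¹ * z * a⁻¹⁻¹ = a⁻¹ * (a * z * a⁻¹) * a := by rw [ha, inv_inv]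
    _ = z := by group

omit [CharP F 2] in
theorem sQinv {a : G2 F} (ha : a * z * a⁻¹ = z⁻¹) : a⁻¹ * z * a⁻¹⁻¹ = z⁻¹ := by
  have h1 : a * z⁻¹ * a⁻¹ = z := by
    have : a * z⁻¹ * a⁻¹ = (a * z * a⁻¹)⁻¹ := by group
    rw [this, ha, inv_inv]
  calc a⁻¹ * z * a⁻¹⁻¹ = a⁻¹ * (a * z⁻¹ * a⁻¹) * a := by rw [h1, inv_inv]
    _ = z⁻¹ := by group

end signs

theorem solv_Nx [Fintype F] (z : G2 F) (hz1 : z ≠ 1) (hz2 : z * z ≠ 1) :
    Group.IsSolvable (Nx z) := by
  have hcyc : IsCyclic (Subgroup.centralizer ({z} : Set (G2 F))) :=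
    cyclic_of_comm (Subgroup.subtype _) Subtype.val_injective z hz1 hz2
      (fun p => mem_cent.mp p.2)
  haveI : Group.IsSolvable (Subgroup.centralizer ({z} : Set (G2 F))) :=
    Group.isSolvable_of_comm (fun a b => cyc_comm a b)
  apply Cfsg.Agent.Lib.Helper3.SzSol1.solv_of_comm_le (Nx z) (Subgroup.centralizer {z})
  intro x hx y hy
  have key : (x * y * x⁻¹ * y⁻¹) * z * (x * y * x⁻¹ * y⁻¹)⁻¹ = z := by
    rcases hx with hx | hx <;> rcases hy with hy | hy
    · exact sPP (sPP (sPP hx hy) (sPinv hx)) (sPinv hy)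
    · exact sQQ (sQP (sPQ hx hy) (sPinv hx)) (sQinv hy)
    · exact sPP (sQQ (sQP hx hy) (sQinv hx)) (sPinv hy)
    · exact sQQ (sPQ (sQQ hx hy) (sQinv hx)) (sQinv hy)
  rw [mem_cent]
  calc x * y * x⁻¹ * y⁻¹ * z
      = ((x * y * x⁻¹ * y⁻¹) * z * (x * y * x⁻¹ * y⁻¹)⁻¹) * (x * y * x⁻¹ * y⁻¹) := by group
    _ = z * (x * y * x⁻¹ * y⁻¹) := by rw [key]

theorem solv_of_dih [Fintype F] (H : Subgroup (G2 F)) (h : DihType H) : Group.IsSolvable H := by
  obtain ⟨z, hz1, hz2, hz⟩ := h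
  haveI := solv_Nx z hz1 hz2
  have hle : H ≤ Nx z := fun h hh => hz h hh
  exact solv_of_le hle

theorem subtype_top [Fintype F] (p : ℕ) (hp : p.Prime) (hF : Fintype.card F = 2 ^ p)
    (H : Subgroup (G2 F)) (h : SubType H) : H = ⊤ := by
  classical
  obtain ⟨γ, K', hK', hγ⟩ := h
  haveI : Fintype K' := Fintype.ofFinite _
  have hcardF : Fintype.card F = Fintype.card K' ^ Module.finrank K' F :=
    Module.card_eq_pow_finrank
  obtain ⟨r, hr⟩ : ∃ r, r = Module.finrank K' F := ⟨_, rfl⟩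
  obtain ⟨Q, hQ⟩ : ∃ Q, Q = Nat.card K' := ⟨_, rfl⟩
  rw [← hr, ← Nat.card_eq_fintype_card (α := K'), ← hQ] at hcardF
  have h2p : 1 < 2 ^ p := Nat.one_lt_two_pow hp.ne_zero
  have hr0 : r ≠ 0 := by
    intro h0
    rw [h0, pow_zero, hF] at hcardF
    omega
  have hQdvd : Q ∣ 2 ^ p := by
    rw [← hF, hcardF]; exact dvd_pow_self Q hr0
  obtain ⟨e, -, he⟩ := (Nat.dvd_prime_pow Nat.prime_two).mp hQdvd
  have hner : p = e * r := by
    apply Nat.pow_right_injective (le_refl 2)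
    show 2 ^ p = 2 ^ (e * r)
    rw [pow_mul, ← he, ← hcardF, hF]
  have he2 : 2 ≤ e := by
    obtain ⟨b, hb, hb0', hb1'⟩ := hK'
    have hs : ({0, 1, b} : Set F) ⊆ (K' : Set F) := by
      intro y hy
      rcases hy with rfl | rfl | rfl
      · exact zero_mem K'
      · exact one_mem K'
      · exact hb
    have h3 : ({0, 1, b} : Set F).ncard = 3 :=
      Set.ncard_eq_three.mpr ⟨0, 1, b, zero_ne_one, Ne.symm hb0', Ne.symm hb1', rfl⟩
    have h4' := Set.ncard_le_ncard hs (Set.toFinite _)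
    rw [h3, ← Nat.card_coe_set_eq] at h4'
    have h5 : 3 ≤ Q := by rw [hQ]; exact h4'
    rw [he] at h5
    by_contra hlt
    have h01 : e = 0 ∨ e = 1 := by omega
    rcases h01 with h | h <;> rw [h] at h5 <;> norm_num at h5
  have hep : e = p := by
    rcases (Nat.dvd_prime hp).mp ⟨r, hner⟩ with h | h
    · omega
    · exact h
  have htop : K' = ⊤ := subfield_top_of_card (by rw [← hQ, he, hep, hF])
  rw [eq_top_iff]
  intro y _
  rw [hγ, htop, mem_SLsub]
  exact ⟨Subfield.mem_top _, Subfield.mem_top _, Subfield.mem_top _, Subfield.mem_top _⟩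

theorem four_le {p : ℕ} (hp : p.Prime) : 4 ≤ 2 ^ p := by
  calc 4 = 2 ^ 2 := by norm_num
    _ ≤ 2 ^ p := Nat.pow_le_pow_right (by norm_num) hp.two_le

/-- solvable subgroups of `SL₂(2^p)`, `p` prime. -/
theorem solv_iff [Fintype F] (p : ℕ) (hp : p.Prime) (hF : Fintype.card F = 2 ^ p)
    (H : Subgroup (G2 F)) : Group.IsSolvable H ↔ FixPt H ∨ DihType H := by
  have h4 : 4 ≤ Fintype.card F := by rw [hF]; exact four_le hp
  constructor
  · intro hs
    rcases dickson H with h | h | h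
    · exact Or.inl h
    · exact Or.inr h
    · exfalso
      have htop := subtype_top p hp hF H h
      subst htop
      apply not_solvable_G2 h4
      exact Group.isSolvable_of_isSolvable_injective
        (f := (Subgroup.topEquiv (G := G2 F)).symm.toMonoidHom)
        (Subgroup.topEquiv (G := G2 F)).symm.injective
  · rintro (h | h)
    · exact solv_of_fixpt H h
    · exact solv_of_dih H h

theorem fixpt_closure_iff (x y : G2 F) :
    FixPt (Subgroup.closure {x, y}) ↔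
      ∃ γ : G2 F, (γ * x * γ⁻¹).1 1 0 = 0 ∧ (γ * y * γ⁻¹).1 1 0 = 0 := by
  constructor
  · rintro ⟨γ, hγ⟩
    exact ⟨γ, hγ x (Subgroup.subset_closure (by simp)), hγ y (Subgroup.subset_closure (by simp))⟩
  · rintro ⟨γ, hx, hy⟩
    refine ⟨γ, fun h hh => ?_⟩
    have hle : Subgroup.closure {x, y} ≤ cj γ Bor := by
      rw [Subgroup.closure_le]
      intro g hg
      rcases hg with rfl | rfl
      · exact mem_cj.mpr hx
      · exact mem_cj.mpr hy
    exact mem_cj.mp (hle hh)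

theorem dih_closure_iff (x y : G2 F) :
    DihType (Subgroup.closure {x, y}) ↔
      ∃ z : G2 F, z ≠ 1 ∧ z * z ≠ 1 ∧ x ∈ Nx z ∧ y ∈ Nx z := by
  constructor
  · rintro ⟨z, hz1, hz2, hz⟩
    exact ⟨z, hz1, hz2, hz x (Subgroup.subset_closure (by simp)),
      hz y (Subgroup.subset_closure (by simp))⟩
  · rintro ⟨z, hz1, hz2, hx, hy⟩
    refine ⟨z, hz1, hz2, fun h hh => ?_⟩
    have hle : Subgroup.closure {x, y} ≤ Nx z := by
      rw [Subgroup.closure_le]
      intro g hg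
      rcases hg with rfl | rfl
      · exact hx
      · exact hy
    exact hle hh

theorem inv_of_inverts {a z : G2 F} (hz : z * z ≠ 1) (h : a * z * a⁻¹ = z⁻¹) : a * a = 1 := by
  have hτ : z.1 0 0 + z.1 1 1 ≠ 0 := fun h' => hz ((sq_one_iff z).mpr (eq_of_add2 h'))
  have hm : a * z = z⁻¹ * a := by
    calc a * z = (a * z * a⁻¹) * a := by group
      _ = z⁻¹ * a := by rw [h]
  have e00 := congrArg (fun g : G2 F => g.1 0 0) hm
  have e11 := congrArg (fun g : G2 F => g.1 1 1) hm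
  simp only [mul00, mul11, inv00, inv01, inv10, inv11] at e00 e11
  have hp : (a.1 0 0 + a.1 1 1) * (z.1 0 0 + z.1 1 1) = 0 := by
    linear_combination e00 + e11 + (a.1 0 0 * z.1 1 1 + a.1 1 1 * z.1 0 0
      - a.1 0 1 * z.1 1 0 - a.1 1 0 * z.1 0 1) * (two0 : (2 : F) = 0)
  rcases mul_eq_zero.mp hp with h' | h'
  · exact (sq_one_iff a).mpr (eq_of_add2 h')
  · exact absurd h' hτ

theorem Nx_le {x z : G2 F} (hz1 : z ≠ 1) (hz2 : z * z ≠ 1) (hx2 : x * x ≠ 1)
    (hx : x ∈ Nx z) : Nx z ≤ Nx x := by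
  have hxz : x * z = z * x := by
    rcases hx with h | h
    · calc x * z = (x * z * x⁻¹) * x := by group
        _ = z * x := by rw [h]
    · exact absurd (inv_of_inverts hz2 h) hx2
  intro y hy
  have h1 : (y * z * y⁻¹) * (y * x * y⁻¹) = (y * x * y⁻¹) * (y * z * y⁻¹) := by
    calc (y * z * y⁻¹) * (y * x * y⁻¹) = y * (z * x) * y⁻¹ := by group
      _ = y * (x * z) * y⁻¹ := by rw [hxz]
      _ = (y * x * y⁻¹) * (y * z * y⁻¹) := by group
  have h2 : z * (y * x * y⁻¹) = (y * x * y⁻¹) * z := by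
    rcases hy with h | h
    · rw [h] at h1; exact h1
    · rw [h] at h1
      calc z * (y * x * y⁻¹) = z * ((y * x * y⁻¹) * z⁻¹) * z := by group
        _ = z * (z⁻¹ * (y * x * y⁻¹)) * z := by rw [h1]
        _ = (y * x * y⁻¹) * z := by group
  have h3 : x * (y * x * y⁻¹) = (y * x * y⁻¹) * x := comm_sl hz1 hxz.symm h2
  exact comm_same_trace x _ hx2 h3 (tr_conj y x)

theorem dih_iff_of_ss {x : G2 F} (hx1 : x ≠ 1) (hx2 : x * x ≠ 1) (y : G2 F) :
    DihType (Subgroup.closure {x, y}) ↔ y ∈ Nx x := by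
  rw [dih_closure_iff]
  constructor
  · rintro ⟨z, hz1, hz2, hx, hy⟩
    exact Nx_le hz1 hz2 hx2 hx hy
  · intro hy
    exact ⟨x, hx1, hx2, Or.inl (by group), hy⟩

end Cfsg.Agent.Lib.Helper3.L2
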