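import Mathlib
import Cfsg.Agent.Lib.Helper3.L2h

set_option autoImplicit false
set_option linter.unusedSectionVars false
set_option linter.unusedVariables false
set_option linter.unusedSimpArgs false
set_option linter.style.haveILetI false

namespace Cfsg.Agent.Lib.Helper3.L2

open Matrix

variable {F : Type*} [Field F] [CharP F 2]

/-- the solubilizer. -/
def solS (x : G2 F) : Set (G2 F) :=
  {y | Group.IsSolvable (Subgroup.closure ({x, y} : Set (G2 F)))}

omit [CharP F 2] in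
theorem card_solS (x : G2 F) :
    Nat.card {y : G2 F // Group.IsSolvable (Subgroup.closure ({x, y} : Set (G2 F)))}
      = (solS x).ncard := by
  rw [← Nat.card_coe_set_eq]; rfl

theorem card_cent' [Fintype F] (x : G2 F) (hx2 : x * x ≠ 1) :
    ((∃ r : F, r * (x.1 0 0 + x.1 1 1 - r) = 1) →
      Nat.card (Subgroup.centralizer ({x} : Set (G2 F))) = Fintype.card F - 1) ∧
    ((∀ r : F, r * (x.1 0 0 + x.1 1 1 - r) ≠ 1) →
      Nat.card (Subgroup.centralizer ({x} : Set (G2 F))) = Fintype.card F + 1) := by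
  have hτ : x.1 0 0 + x.1 1 1 ≠ 0 := fun h => hx2 ((sq_one_iff x).mpr (eq_of_add2 h))
  have hidx := Cfsg.Agent.S2507.class_ncard_ne_zero x _ rfl hτ
  have h1 := Subgroup.card_mul_index (Subgroup.centralizer ({x} : Set (G2 F)))
  rw [card_G2] at h1
  have hq : 2 ≤ Fintype.card F := Fintype.one_lt_card
  obtain ⟨m, hm⟩ : ∃ m, Fintype.card F = m + 2 := ⟨Fintype.card F - 2, by omega⟩
  rw [hm] at h1 hidx ⊢
  have e1 : m + 2 - 1 = m + 1 := rfl
  rw [e1] at h1 hidx ⊢
  constructor
  · rintro ⟨r, hr⟩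
    rw [Cfsg.Agent.S2507.roots_two _ hτ r hr] at hidx
    rw [hidx] at h1
    have h3 : (2 * (m + 2) + (m + 2) * (m + 1)) *
        Nat.card (Subgroup.centralizer ({x} : Set (G2 F)))
        = (2 * (m + 2) + (m + 2) * (m + 1)) * (m + 1) := by
      rw [mul_comm, h1]; ring
    exact Nat.eq_of_mul_eq_mul_left (by positivity) h3
  · intro hsplit
    rw [Cfsg.Agent.S2507.roots_none _ hsplit, zero_mul, zero_add] at hidx
    rw [hidx] at h1
    have h3 : ((m + 2) * (m + 1)) * Nat.card (Subgroup.centralizer ({x} : Set (G2 F)))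
        = ((m + 2) * (m + 1)) * (m + 2 + 1) := by
      rw [mul_comm, h1]
    exact Nat.eq_of_mul_eq_mul_left (by positivity) h3

theorem card_Nx [Fintype F] (x : G2 F) (hx2 : x * x ≠ 1) :
    Nat.card (Nx x) = 2 * Nat.card (Subgroup.centralizer ({x} : Set (G2 F))) := by
  obtain ⟨C, hC⟩ : ∃ C : Subgroup (G2 F), C = Subgroup.centralizer ({x} : Set (G2 F)) :=
    ⟨_, rfl⟩
  have hCmem : ∀ g, g ∈ C ↔ g * x = x * g := by
    intro g; rw [hC]; exact mem_cent
  rw [← hC]
  obtain ⟨t₀, ht2, htx⟩ := exists_inverter x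
  have ht' : t₀⁻¹ = t₀ := inv_eq_of_mul_eq_one_right ht2
  have htx' : t₀ * x * t₀ = x⁻¹ := by rw [ht'] at htx; exact htx
  have hnc : ¬ (t₀ * x = x * t₀) := by
    intro h
    have hxx : x⁻¹ = x := by
      rw [← htx', h, mul_assoc, ht2, mul_one]
    apply hx2
    calc x * x = x⁻¹ * x := by rw [hxx]
      _ = 1 := inv_mul_cancel x
  have e1 : t₀ * x⁻¹ * t₀ = x := by
    have : t₀ * x⁻¹ * t₀ = (t₀⁻¹ * x * t₀⁻¹)⁻¹ := by group
    rw [this, ht', htx', inv_inv]
  have hset : (Nx x : Set (G2 F)) = (C : Set (G2 F)) ∪ (fun c => t₀ * c) '' (C : Set (G2 F)) := by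
    ext h
    constructor
    · intro hh
      rcases hh with hh | hh
      · left
        apply (hCmem h).mpr
        calc h * x = (h * x * h⁻¹) * h := by group
          _ = x * h := by rw [hh]
      · right
        refine ⟨t₀ * h, (hCmem _).mpr ?_, by
          show t₀ * (t₀ * h) = h
          rw [← mul_assoc, ht2, one_mul]⟩
        calc t₀ * h * x = t₀ * (h * x * h⁻¹) * h := by group
          _ = (t₀ * x⁻¹ * t₀) * (t₀⁻¹ * h) := by rw [hh]; group
          _ = x * (t₀ * h) := by rw [e1, ht']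
    · rintro (hh | ⟨c, hc, rfl⟩)
      · left
        have := (hCmem h).mp hh
        show h * x * h⁻¹ = x
        rw [this]; group
      · right
        have := (hCmem c).mp hc
        show t₀ * c * x * (t₀ * c)⁻¹ = x⁻¹
        calc t₀ * c * x * (t₀ * c)⁻¹ = t₀ * (c * x) * c⁻¹ * t₀⁻¹ := by group
          _ = t₀ * x * t₀⁻¹ := by rw [this]; group
          _ = x⁻¹ := htx
  have hdisj : Disjoint (C : Set (G2 F)) ((fun c => t₀ * c) '' (C : Set (G2 F))) := by
    rw [Set.disjoint_left]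
    rintro _ hc' ⟨c, hc, rfl⟩
    apply hnc
    have : t₀ ∈ C := by
      have e : t₀ = (t₀ * c) * c⁻¹ := by group
      rw [e]; exact mul_mem hc' (inv_mem hc)
    exact (hCmem t₀).mp this
  show Nat.card ((Nx x : Set (G2 F))) = 2 * Nat.card C
  rw [Nat.card_coe_set_eq, hset, Set.ncard_union_eq hdisj (Set.toFinite _) (Set.toFinite _),
    Set.ncard_image_of_injective _ (mul_right_injective t₀), ← Nat.card_coe_set_eq]
  show Nat.card C + Nat.card C = 2 * Nat.card C
  ring

omit [CharP F 2] in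
theorem no_ord_two {x : G2 F} {q : ℕ} (hx1 : x ≠ 1) (hq : 2 ∣ q) (hq4 : 4 ≤ q)
    (h1 : orderOf x ∣ 2) (h2 : orderOf x ∣ q - 1 ∨ orderOf x ∣ q + 1) : False := by
  rcases (Nat.dvd_prime Nat.prime_two).mp h1 with h | h
  · exact hx1 (orderOf_eq_one_iff.mp h)
  · rw [h] at h2
    omega

omit [CharP F 2] in
theorem ss_of_order {x : G2 F} {q : ℕ} (hq : 2 ∣ q) (hq4 : 4 ≤ q) (hx1 : x ≠ 1)
    (h2 : orderOf x ∣ q - 1 ∨ orderOf x ∣ q + 1) : x * x ≠ 1 := by
  intro h
  exact no_ord_two hx1 hq hq4 (orderOf_dvd_of_pow_eq_one (by rw [pow_two]; exact h)) h2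

omit [CharP F 2] in
theorem ord_dvd_cent [Finite F] (x : G2 F) :
    orderOf x ∣ Nat.card (Subgroup.centralizer ({x} : Set (G2 F))) := by
  have hx : x ∈ Subgroup.centralizer ({x} : Set (G2 F)) := mem_cent.mpr rfl
  have h := orderOf_dvd_natCard (⟨x, hx⟩ : Subgroup.centralizer ({x} : Set (G2 F)))
  rw [Subgroup.orderOf_mk] at h
  exact h

theorem split_of_order [Fintype F] {x : G2 F} {q : ℕ} (hF : Fintype.card F = q) (hq : 2 ∣ q)
    (hq4 : 4 ≤ q) (hx1 : x ≠ 1) (h : orderOf x ∣ q - 1) :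
    ∃ r : F, r * (x.1 0 0 + x.1 1 1 - r) = 1 := by
  by_contra hns
  push Not at hns
  have hx2 := ss_of_order hq hq4 hx1 (Or.inl h)
  have hc := (card_cent' x hx2).2 hns
  have hd := ord_dvd_cent x
  rw [hc, hF] at hd
  have h2 : orderOf x ∣ 2 := by
    have h3 := Nat.dvd_sub hd h
    have e : q + 1 - (q - 1) = 2 := by omega
    rw [e] at h3; exact h3
  exact no_ord_two hx1 hq hq4 h2 (Or.inl h)

theorem nonsplit_of_order [Fintype F] {x : G2 F} {q : ℕ} (hF : Fintype.card F = q) (hq : 2 ∣ q)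
    (hq4 : 4 ≤ q) (hx1 : x ≠ 1) (h : orderOf x ∣ q + 1) :
    ∀ r : F, r * (x.1 0 0 + x.1 1 1 - r) ≠ 1 := by
  intro r hr
  have hx2 := ss_of_order hq hq4 hx1 (Or.inr h)
  have hc := (card_cent' x hx2).1 ⟨r, hr⟩
  have hd := ord_dvd_cent x
  rw [hc, hF] at hd
  have h2 : orderOf x ∣ 2 := by
    have h3 := Nat.dvd_sub h hd
    have e : q + 1 - (q - 1) = 2 := by omega
    rw [e] at h3; exact h3
  exact no_ord_two hx1 hq hq4 h2 (Or.inr h)

/-! ### the three solubilizers -/

theorem sol_nonsplit [Fintype F] (p : ℕ) (hp : p.Prime) (hF : Fintype.card F = 2 ^ p)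
    {x : G2 F} (hx1 : x ≠ 1) (hx2 : x * x ≠ 1)
    (hns : ∀ r : F, r * (x.1 0 0 + x.1 1 1 - r) ≠ 1) : solS x = (Nx x : Set (G2 F)) := by
  ext y
  show Group.IsSolvable (Subgroup.closure {x, y}) ↔ y ∈ Nx x
  rw [solv_iff p hp hF, dih_iff_of_ss hx1 hx2]
  constructor
  · rintro (h | h)
    · exfalso
      obtain ⟨γ, hγ, -⟩ := (fixpt_closure_iff x y).mp h
      apply hns ((γ * x * γ⁻¹).1 0 0)
      have hd := det2 (γ * x * γ⁻¹)
      rw [hγ, mul_zero, sub_zero] at hd
      have ht := tr_conj γ x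
      rw [← ht]
      linear_combination hd
    · exact h
  · intro h; exact Or.inr h

omit [CharP F 2] in
theorem conj10 (γ y : G2 F) : (γ * y * γ⁻¹).1 1 0 =
    (γ.1 1 0 * y.1 0 0 + γ.1 1 1 * y.1 1 0) * γ.1 1 1
      - (γ.1 1 0 * y.1 0 1 + γ.1 1 1 * y.1 1 1) * γ.1 1 0 := by
  simp only [mul10, mul11, inv00, inv10]; ring

theorem rho_ne {ρ : Fˣ} (hρ : ρ ≠ 1) : (ρ : F) - (ρ : F)⁻¹ ≠ 0 := by
  intro h0
  apply hρ
  have h1 : (ρ : F) ^ 2 = (1 : F) ^ 2 := by
    have := ρ.ne_zero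
    field_simp at h0
    linear_combination h0
  exact Units.ext (by rw [Units.val_one]; exact sq_inj2 h1)

theorem fixpt_dd {ρ : Fˣ} (hρ : ρ ≠ 1) (y : G2 F) :
    FixPt (Subgroup.closure {dd ρ, y}) ↔ (y.1 1 0 = 0 ∨ y.1 0 1 = 0) := by
  rw [fixpt_closure_iff]
  have hne := rho_ne hρ
  constructor
  · rintro ⟨γ, h1, h2⟩
    rw [conj10] at h1 h2
    rw [dd00, dd01, dd10, dd11] at h1
    have h3 : γ.1 1 0 * γ.1 1 1 * ((ρ : F) - (ρ : F)⁻¹) = 0 := by linear_combination h1
    have hd := det2 γ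
    rcases mul_eq_zero.mp h3 with h | h
    · rcases mul_eq_zero.mp h with h | h
      · left
        rw [h] at h2 hd
        have h4 : γ.1 1 1 ^ 2 * y.1 1 0 = 0 := by linear_combination h2
        have h5 : γ.1 1 1 ≠ 0 := by
          intro h6; rw [h6] at hd; simp at hd
        rcases mul_eq_zero.mp h4 with h | h
        · exact absurd ((pow_eq_zero_iff (by norm_num : (2 : ℕ) ≠ 0)).mp h) h5
        · exact h
      · right
        rw [h] at h2 hd
        have h4 : γ.1 1 0 ^ 2 * y.1 0 1 = 0 := by linear_combination -h2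
        have h5 : γ.1 1 0 ≠ 0 := by
          intro h6; rw [h6] at hd; simp at hd
        rcases mul_eq_zero.mp h4 with h | h
        · exact absurd ((pow_eq_zero_iff (by norm_num : (2 : ℕ) ≠ 0)).mp h) h5
        · exact h
    · exact absurd h hne
  · rintro (h | h)
    · refine ⟨1, ?_, ?_⟩
      · rw [one_mul, inv_one, mul_one, dd10]
      · rw [one_mul, inv_one, mul_one]; exact h
    · refine ⟨ww 1, ?_, ?_⟩
      · rw [conj10, ww10, ww11, dd00, dd01, dd10, dd11]; ring
      · rw [conj10, ww10, ww11, h]; ring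

theorem ww_dd (β ρ : Fˣ) : ww β * dd ρ = ww (β * ρ⁻¹) := by
  have h1 := β.ne_zero
  have h2 := ρ.ne_zero
  apply ext2
  · simp only [mul00, ww00, ww01, ww10, ww11, dd00, dd01, dd10, dd11]; ring
  · simp only [mul01, ww00, ww01, ww10, ww11, dd00, dd01, dd10, dd11, Units.val_mul,
      Units.val_inv_eq_inv_val]; ring
  · simp only [mul10, ww00, ww01, ww10, ww11, dd00, dd01, dd10, dd11, Units.val_mul,
      Units.val_inv_eq_inv_val]
    field_simp
    ring
  · simp only [mul11, ww00, ww01, ww10, ww11, dd00, dd01, dd10, dd11]; ring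

theorem Nx_dd {ρ : Fˣ} (hρ : ρ ≠ 1) (y : G2 F) :
    y ∈ Nx (dd ρ) ↔ (y.1 0 1 = 0 ∧ y.1 1 0 = 0) ∨ (y.1 0 0 = 0 ∧ y.1 1 1 = 0) := by
  have hne := rho_ne hρ
  constructor
  · rintro (h | h)
    · left
      apply cent_dd y ρ hρ
      calc y * dd ρ = (y * dd ρ * y⁻¹) * y := by group
        _ = dd ρ * y := by rw [h]
    · right
      have hm : y * dd ρ = (dd ρ)⁻¹ * y := by
        calc y * dd ρ = (y * dd ρ * y⁻¹) * y := by group
          _ = (dd ρ)⁻¹ * y := by rw [h]
      rw [dd_inv] at hm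
      have e00 := congrArg (fun g : G2 F => g.1 0 0) hm
      have e11 := congrArg (fun g : G2 F => g.1 1 1) hm
      simp only [mul00, mul11, dd00, dd01, dd10, dd11, Units.val_inv_eq_inv_val, inv_inv]
        at e00 e11
      constructor
      · have h3 : y.1 0 0 * ((ρ : F) - (ρ : F)⁻¹) = 0 := by linear_combination e00
        rcases mul_eq_zero.mp h3 with h | h
        · exact h
        · exact absurd h hne
      · have h3 : y.1 1 1 * ((ρ : F) - (ρ : F)⁻¹) = 0 := by linear_combination -e11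
        rcases mul_eq_zero.mp h3 with h | h
        · exact h
        · exact absurd h hne
  · rintro (⟨h1, h2⟩ | ⟨h1, h2⟩)
    · refine mem_Nx.mpr (Or.inl ?_)
      obtain ⟨t, ht⟩ := fix0inf_form y h2 h1
      rw [ht, dd_inv, dd_mul, dd_mul, mul_comm t ρ, mul_assoc, mul_inv_cancel, mul_one]
    · refine mem_Nx.mpr (Or.inr ?_)
      obtain ⟨β, hβ⟩ := swap_form y ((sq_one_iff y).mpr (by rw [h1, h2])) h1
      rw [hβ, ww_inv, ww_dd, ww_mul, dd_inv]
      congr 1
      rw [mul_comm β, mul_assoc, mul_inv_cancel, mul_one]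

theorem sol_dd [Fintype F] (p : ℕ) (hp : p.Prime) (hF : Fintype.card F = 2 ^ p) {ρ : Fˣ}
    (hρ : ρ ≠ 1) :
    solS (dd ρ) = {y : G2 F | y.1 1 0 = 0} ∪ {y | y.1 0 1 = 0 ∧ y.1 1 0 ≠ 0}
      ∪ {y | y.1 0 0 = 0 ∧ y.1 1 1 = 0} := by
  have hd1 : dd ρ ≠ 1 := fun h => hρ (dd_inj (h.trans dd_one.symm))
  have hd2 : dd ρ * dd ρ ≠ 1 := by
    rw [dd_mul]
    intro h
    have h1 := dd_inj (h.trans dd_one.symm)
    apply hρ
    have h2 : (ρ : F) ^ 2 = (1 : F) ^ 2 := by
      rw [one_pow, pow_two, ← Units.val_mul, h1, Units.val_one]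
    exact Units.ext (by rw [Units.val_one]; exact sq_inj2 h2)
  ext y
  show Group.IsSolvable (Subgroup.closure {dd ρ, y}) ↔ _
  rw [solv_iff p hp hF, dih_iff_of_ss hd1 hd2, fixpt_dd hρ, Nx_dd hρ]
  simp only [Set.mem_union, Set.mem_setOf_eq]
  constructor
  · rintro ((h | h) | (⟨h1, h2⟩ | h))
    · left; left; exact h
    · by_cases h10 : y.1 1 0 = 0
      · left; left; exact h10
      · left; right; exact ⟨h, h10⟩
    · left; left; exact h2
    · right; exact h
  · rintro ((h | ⟨h1, h2⟩) | h)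
    · left; left; exact h
    · left; right; exact h1
    · right; right; exact h

theorem sol_u1 [Fintype F] (p : ℕ) (hp : p.Prime) (hF : Fintype.card F = 2 ^ p) :
    solS (u (1 : F)) = {y : G2 F | y.1 1 0 = 0} ∪ {y | y.1 1 0 ≠ 0 ∧ y.1 0 0 = y.1 1 1}
      ∪ {y | y.1 1 0 ≠ 0 ∧ y.1 0 0 + y.1 1 0 = y.1 1 1} := by
  ext y
  show Group.IsSolvable (Subgroup.closure {u 1, y}) ↔ _
  rw [solv_iff p hp hF]
  simp only [Set.mem_union, Set.mem_setOf_eq]
  have hu_cent : ∀ z : G2 F, z * z ≠ 1 → u 1 * z * (u 1)⁻¹ ≠ z := by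
    intro z hz h
    have hc : z * u 1 = u 1 * z := by
      have : u 1 * z = (u 1 * z * (u 1)⁻¹) * u 1 := by group
      rw [this, h]
    exact hz ((sq_one_iff z).mpr (cent_u z 1 one_ne_zero hc).2)
  have e00 : (u 1 * y).1 0 0 = y.1 0 0 + y.1 1 0 := by rw [mul00, u00, u01]; ring
  have e11 : (u 1 * y).1 1 1 = y.1 1 1 := by rw [mul11, u10, u11]; ring
  have e10 : (u 1 * y).1 1 0 = y.1 1 0 := by rw [mul10, u10, u11]; ring
  constructor
  · rintro (h | h)
    · left; left
      obtain ⟨γ, h1, h2⟩ := (fixpt_closure_iff _ _).mp h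
      rw [conj_u_10, one_mul, neg2] at h1
      have hg : γ.1 1 0 = 0 := (pow_eq_zero_iff (by norm_num : (2 : ℕ) ≠ 0)).mp h1
      rw [conj10, hg] at h2
      have hd := det2 γ
      rw [hg, mul_zero, sub_zero] at hd
      have h5 : γ.1 1 1 ≠ 0 := by
        intro h6; rw [h6, mul_zero] at hd; exact zero_ne_one hd
      have h4 : γ.1 1 1 ^ 2 * y.1 1 0 = 0 := by linear_combination h2
      rcases mul_eq_zero.mp h4 with h | h
      · exact absurd ((pow_eq_zero_iff (by norm_num : (2 : ℕ) ≠ 0)).mp h) h5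
      · exact h
    · obtain ⟨z, hz1, hz2, hu, hy⟩ := (dih_closure_iff _ _).mp h
      by_cases h10 : y.1 1 0 = 0
      · left; left; exact h10
      · have hyy : y * y = 1 ∨ (u 1 * y) * (u 1 * y) = 1 := by
          rcases hy with hy | hy
          · by_cases hy2 : y * y = 1
            · exact Or.inl hy2
            · right
              have hle := Nx_le hz1 hz2 hy2 (Or.inl hy)
              rcases hle hu with h' | h'
              · exact absurd h' (hu_cent y hy2)
              · calc (u 1 * y) * (u 1 * y) = (u 1 * y * (u 1)⁻¹) * ((u 1) * (u 1)) * y := by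
                      group
                  _ = 1 := by rw [h', u_sq, mul_one, inv_mul_cancel]
          · exact Or.inl (inv_of_inverts hz2 hy)
        rcases hyy with h' | h'
        · left; right; exact ⟨h10, (sq_one_iff y).mp h'⟩
        · right
          have h3 := (sq_one_iff _).mp h'
          rw [e00, e11] at h3
          exact ⟨h10, h3⟩
  · rintro ((h | ⟨h10, h⟩) | ⟨h10, h⟩)
    · left
      rw [fixpt_closure_iff]
      refine ⟨1, ?_, ?_⟩
      · rw [one_mul, inv_one, mul_one, u10]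
      · rw [one_mul, inv_one, mul_one]; exact h
    · right
      rw [dih_closure_iff]
      have hy2 : y * y = 1 := (sq_one_iff y).mpr h
      have hyinv : y⁻¹ = y := inv_eq_of_mul_eq_one_right hy2
      refine ⟨u 1 * y, ?_, ?_, mem_Nx.mpr (Or.inr ?_), mem_Nx.mpr (Or.inr ?_)⟩
      · intro h1
        have h3 := congrArg (fun g : G2 F => g.1 1 0) h1
        simp only [e10, one10] at h3
        exact h10 h3
      · intro h1
        have h3 := (sq_one_iff _).mp h1
        rw [e00, e11, h] at h3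
        apply h10
        linear_combination h3
      · rw [u_inv2]
        calc u 1 * (u 1 * y) * u 1 = (u 1 * u 1) * y * u 1 := by group
          _ = y⁻¹ * (u 1)⁻¹ := by rw [u_sq, one_mul, hyinv, u_inv2]
          _ = (u 1 * y)⁻¹ := by group
      · calc y * (u 1 * y) * y⁻¹ = y * u 1 * (y * y⁻¹) := by group
          _ = y⁻¹ * (u 1)⁻¹ := by rw [mul_inv_cancel, mul_one, hyinv, u_inv2]
          _ = (u 1 * y)⁻¹ := by group
    · right
      rw [dih_closure_iff]
      have hy2 : y * y ≠ 1 := by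
        intro h1
        have h2 := (sq_one_iff y).mp h1
        apply h10
        rw [h2] at h
        linear_combination h
      have hy1 : y ≠ 1 := by
        intro h1; rw [h1] at hy2; exact hy2 (one_mul 1)
      refine ⟨y, hy1, hy2, mem_Nx.mpr (Or.inr ?_), mem_Nx.mpr (Or.inl (by group))⟩
      apply inverter_of (u_sq 1)
      rw [e00, e11]; exact h

end Cfsg.Agent.Lib.Helper3.L2
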