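import Mathlib
import Cfsg.Agent.Lib.Helper3.L2i

set_option autoImplicit false
set_option linter.unusedSectionVars false
set_option linter.unusedVariables false
set_option linter.unusedSimpArgs false
set_option linter.style.haveILetI false

namespace Cfsg.Agent.Lib.Helper3.L2

open Matrix

variable {F : Type*} [Field F] [CharP F 2]

theorem ncard_S1 [Fintype F] :
    {y : G2 F | y.1 1 0 = 0}.ncard = Fintype.card F * (Fintype.card F - 1) := by
  have h : {y : G2 F | y.1 1 0 = 0} = ((Bor : Subgroup (G2 F)) : Set (G2 F)) := rfl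
  rw [h, ← Nat.card_coe_set_eq]
  exact card_Bor

theorem ncard_S2 [Fintype F] :
    {y : G2 F | y.1 0 1 = 0 ∧ y.1 1 0 ≠ 0}.ncard
      = (Fintype.card F - 1) * (Fintype.card F - 1) := by
  have hdet : ∀ p : Fˣ × Fˣ, (p.1 : F) * (p.1 : F)⁻¹ - 0 * (p.2 : F) = 1 := by
    intro p; rw [mul_inv_cancel₀ p.1.ne_zero]; ring
  have hrange : {y : G2 F | y.1 0 1 = 0 ∧ y.1 1 0 ≠ 0} =
      (fun p : Fˣ × Fˣ => mk2 (p.1 : F) 0 (p.2 : F) (p.1 : F)⁻¹ (hdet p)) '' Set.univ := by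
    ext y
    constructor
    · rintro ⟨h01, h10⟩
      have hd := det2 y
      rw [h01, zero_mul, sub_zero] at hd
      have h00 : y.1 0 0 ≠ 0 := by
        intro h; rw [h, zero_mul] at hd; exact zero_ne_one hd
      refine ⟨(Units.mk0 _ h00, Units.mk0 _ h10), Set.mem_univ _, ?_⟩
      apply ext2
      · rw [mk2_00, Units.val_mk0]
      · rw [mk2_01, h01]
      · rw [mk2_10, Units.val_mk0]
      · rw [mk2_11, Units.val_mk0]
        field_simp
        linear_combination -hd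
    · rintro ⟨p, -, rfl⟩
      exact ⟨mk2_01 _ _ _ _ _, by rw [mk2_10]; exact p.2.ne_zero⟩
  rw [hrange, Set.ncard_image_of_injective, Set.ncard_univ, Nat.card_prod, Nat.card_units,
    Nat.card_eq_fintype_card]
  intro p p' h
  have h1 := congrArg (fun g : G2 F => g.1 0 0) h
  have h2 := congrArg (fun g : G2 F => g.1 1 0) h
  simp only [mk2_00, mk2_10] at h1 h2
  exact Prod.ext (Units.ext h1) (Units.ext h2)

theorem ncard_S3 [Fintype F] :
    {y : G2 F | y.1 0 0 = 0 ∧ y.1 1 1 = 0}.ncard = Fintype.card F - 1 := by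
  have hrange : {y : G2 F | y.1 0 0 = 0 ∧ y.1 1 1 = 0} = (fun β : Fˣ => ww β) '' Set.univ := by
    ext y
    constructor
    · rintro ⟨h1, h2⟩
      obtain ⟨β, hβ⟩ := swap_form y ((sq_one_iff y).mpr (by rw [h1, h2])) h1
      exact ⟨β, Set.mem_univ _, hβ.symm⟩
    · rintro ⟨β, -, rfl⟩
      exact ⟨ww00 β, ww11 β⟩
  rw [hrange, Set.ncard_image_of_injective, Set.ncard_univ, Nat.card_units,
    Nat.card_eq_fintype_card]
  intro β β' h
  exact ww_inj h

theorem det_T2 (c : Fˣ) (a : F) : a * a - (a ^ 2 + 1) / (c : F) * (c : F) = 1 := by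
  rw [div_mul_cancel₀ _ c.ne_zero]
  linear_combination (-1 : F) * (two0 : (2 : F) = 0)

theorem ncard_T2 [Fintype F] :
    {y : G2 F | y.1 1 0 ≠ 0 ∧ y.1 0 0 = y.1 1 1}.ncard
      = (Fintype.card F - 1) * Fintype.card F := by
  have hrange : {y : G2 F | y.1 1 0 ≠ 0 ∧ y.1 0 0 = y.1 1 1} =
      (fun p : Fˣ × F => mk2 p.2 ((p.2 ^ 2 + 1) / (p.1 : F)) (p.1 : F) p.2 (det_T2 p.1 p.2))
        '' Set.univ := by
    ext y
    constructor
    · rintro ⟨h10, h⟩
      have hd := det2 y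
      rw [← h] at hd
      refine ⟨(Units.mk0 _ h10, y.1 0 0), Set.mem_univ _, ?_⟩
      apply ext2
      · rw [mk2_00]
      · rw [mk2_01, Units.val_mk0]
        field_simp
        linear_combination hd + (two0 : (2 : F) = 0)
      · rw [mk2_10, Units.val_mk0]
      · rw [mk2_11]; exact h
    · rintro ⟨p, -, rfl⟩
      exact ⟨by rw [mk2_10]; exact p.1.ne_zero, by rw [mk2_00, mk2_11]⟩
  rw [hrange, Set.ncard_image_of_injective, Set.ncard_univ, Nat.card_prod, Nat.card_units,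
    Nat.card_eq_fintype_card]
  intro p p' h
  have h1 := congrArg (fun g : G2 F => g.1 1 0) h
  have h2 := congrArg (fun g : G2 F => g.1 0 0) h
  simp only [mk2_00, mk2_10] at h1 h2
  exact Prod.ext (Units.ext h1) h2

omit [CharP F 2] in
theorem u1m00 (y : G2 F) : (u 1 * y).1 0 0 = y.1 0 0 + y.1 1 0 := by
  rw [mul00, u00, u01]; ring

omit [CharP F 2] in
theorem u1m11 (y : G2 F) : (u 1 * y).1 1 1 = y.1 1 1 := by
  rw [mul11, u10, u11]; ring

omit [CharP F 2] in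
theorem u1m10 (y : G2 F) : (u 1 * y).1 1 0 = y.1 1 0 := by
  rw [mul10, u10, u11]; ring

theorem ncard_T3 [Fintype F] :
    {y : G2 F | y.1 1 0 ≠ 0 ∧ y.1 0 0 + y.1 1 0 = y.1 1 1}.ncard
      = (Fintype.card F - 1) * Fintype.card F := by
  have himg : {y : G2 F | y.1 1 0 ≠ 0 ∧ y.1 0 0 + y.1 1 0 = y.1 1 1} =
      (fun y => u 1 * y) '' {y : G2 F | y.1 1 0 ≠ 0 ∧ y.1 0 0 = y.1 1 1} := by
    ext y
    constructor
    · rintro ⟨h10, h⟩
      refine ⟨u 1 * y, ⟨by rw [u1m10]; exact h10, by rw [u1m00, u1m11]; exact h⟩, ?_⟩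
      show u 1 * (u 1 * y) = y
      rw [← mul_assoc, u_sq, one_mul]
    · rintro ⟨y', ⟨h10, h⟩, rfl⟩
      refine ⟨?_, ?_⟩
      · show (u 1 * y').1 1 0 ≠ 0
        rw [u1m10]; exact h10
      · show (u 1 * y').1 0 0 + (u 1 * y').1 1 0 = (u 1 * y').1 1 1
        rw [u1m00, u1m10, u1m11, ← h]
        linear_combination y'.1 1 0 * (two0 : (2 : F) = 0)
  rw [himg, Set.ncard_image_of_injective _ (mul_right_injective (u 1)), ncard_T2]

theorem count_dd [Fintype F] (p : ℕ) (hp : p.Prime) (hF : Fintype.card F = 2 ^ p) {ρ : Fˣ}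
    (hρ : ρ ≠ 1) : (solS (dd ρ)).ncard = 2 * 2 ^ p * (2 ^ p - 1) := by
  rw [sol_dd p hp hF hρ]
  have hd1 : Disjoint {y : G2 F | y.1 1 0 = 0} {y | y.1 0 1 = 0 ∧ y.1 1 0 ≠ 0} := by
    rw [Set.disjoint_left]
    intro y h1 h2
    exact h2.2 h1
  have hd2 : Disjoint ({y : G2 F | y.1 1 0 = 0} ∪ {y | y.1 0 1 = 0 ∧ y.1 1 0 ≠ 0})
      {y | y.1 0 0 = 0 ∧ y.1 1 1 = 0} := by
    rw [Set.disjoint_left]
    intro y h1 h2
    have hd := det2 y
    rw [h2.1, h2.2] at hd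
    rcases h1 with h1 | h1
    · have h1' : y.1 1 0 = 0 := h1
      rw [h1'] at hd; simp at hd
    · rw [h1.1] at hd; simp at hd
  rw [Set.ncard_union_eq hd2 (Set.toFinite _) (Set.toFinite _),
    Set.ncard_union_eq hd1 (Set.toFinite _) (Set.toFinite _), ncard_S1, ncard_S2, ncard_S3, hF]
  have h1 : 1 ≤ 2 ^ p := Nat.one_le_two_pow
  obtain ⟨k, hk⟩ : ∃ k, 2 ^ p = k + 1 := ⟨2 ^ p - 1, by omega⟩
  rw [hk]
  simp only [Nat.add_sub_cancel]
  ring

theorem count_u1 [Fintype F] (p : ℕ) (hp : p.Prime) (hF : Fintype.card F = 2 ^ p) :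
    (solS (u (1 : F))).ncard = 3 * 2 ^ p * (2 ^ p - 1) := by
  rw [sol_u1 p hp hF]
  have hd1 : Disjoint {y : G2 F | y.1 1 0 = 0} {y | y.1 1 0 ≠ 0 ∧ y.1 0 0 = y.1 1 1} := by
    rw [Set.disjoint_left]
    intro y h1 h2
    exact h2.1 h1
  have hd2 : Disjoint ({y : G2 F | y.1 1 0 = 0} ∪ {y | y.1 1 0 ≠ 0 ∧ y.1 0 0 = y.1 1 1})
      {y | y.1 1 0 ≠ 0 ∧ y.1 0 0 + y.1 1 0 = y.1 1 1} := by
    rw [Set.disjoint_left]
    intro y h1 h2
    rcases h1 with h1 | h1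
    · exact h2.1 h1
    · apply h2.1
      linear_combination h2.2 - h1.2
  rw [Set.ncard_union_eq hd2 (Set.toFinite _) (Set.toFinite _),
    Set.ncard_union_eq hd1 (Set.toFinite _) (Set.toFinite _), ncard_S1, ncard_T2, ncard_T3, hF]
  have h1 : 1 ≤ 2 ^ p := Nat.one_le_two_pow
  obtain ⟨k, hk⟩ : ∃ k, 2 ^ p = k + 1 := ⟨2 ^ p - 1, by omega⟩
  rw [hk]
  simp only [Nat.add_sub_cancel]
  ring

theorem count_nonsplit [Fintype F] (p : ℕ) (hp : p.Prime) (hF : Fintype.card F = 2 ^ p)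
    {x : G2 F} (hx1 : x ≠ 1) (hx2 : x * x ≠ 1)
    (hns : ∀ r : F, r * (x.1 0 0 + x.1 1 1 - r) ≠ 1) : (solS x).ncard = 2 * (2 ^ p + 1) := by
  rw [sol_nonsplit p hp hF hx1 hx2 hns, ← Nat.card_coe_set_eq]
  show Nat.card (Nx x) = _
  rw [card_Nx x hx2, (card_cent' x hx2).2 hns, hF]

/-- sizes of the solubilizers in `SL₂(2^p)`, `p` prime. -/
theorem sol_count [Fintype F] (p : ℕ) (hp : p.Prime) (hF : Fintype.card F = 2 ^ p) (x : G2 F) :
    (orderOf x = 2 → Nat.card {y : G2 F //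
      Group.IsSolvable (Subgroup.closure ({x, y} : Set (G2 F)))} = 3 * 2 ^ p * (2 ^ p - 1)) ∧
    (x ≠ 1 → orderOf x ∣ 2 ^ p - 1 → Nat.card {y : G2 F //
      Group.IsSolvable (Subgroup.closure ({x, y} : Set (G2 F)))} = 2 * 2 ^ p * (2 ^ p - 1)) ∧
    (x ≠ 1 → orderOf x ∣ 2 ^ p + 1 → Nat.card {y : G2 F //
      Group.IsSolvable (Subgroup.closure ({x, y} : Set (G2 F)))} = 2 * (2 ^ p + 1)) := by
  have hq4 : 4 ≤ 2 ^ p := four_le hp
  have hq2 : 2 ∣ 2 ^ p := dvd_pow_self 2 hp.ne_zero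
  refine ⟨fun h => ?_, fun h1 h => ?_, fun h1 h => ?_⟩
  · have hx1 : x ≠ 1 := by
      intro h'; rw [h', orderOf_one] at h; omega
    have hx2 : x * x = 1 := by
      have h3 := pow_orderOf_eq_one x
      rw [h, pow_two] at h3; exact h3
    have hc : IsConj (u (1 : F)) x := by
      rw [Cfsg.Agent.S2507.conj_iff _ _ (u_ne_one one_ne_zero)]
      refine ⟨hx1, ?_⟩
      rw [(sq_one_iff x).mp hx2, u00, u11, add2, add2]
    obtain ⟨δ, hδ⟩ := isConj_iff.mp hc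
    have key := Cfsg.Agent.Lib.Helper3.SzSol3.solC_equiv (MulAut.conj δ) (u (1 : F))
    rw [MulAut.conj_apply, hδ] at key
    rw [key, card_solS, count_u1 p hp hF]
  · have hx2 := ss_of_order hq2 hq4 h1 (Or.inl h)
    obtain ⟨r, hr⟩ := split_of_order hF hq2 hq4 h1 h
    have hτ : x.1 0 0 + x.1 1 1 ≠ 0 := fun h' => hx2 ((sq_one_iff x).mpr (eq_of_add2 h'))
    have hr0 : r ≠ 0 := by
      intro h'; rw [h', zero_mul] at hr; exact zero_ne_one hr
    have htr : (dd (Units.mk0 r hr0)).1 0 0 + (dd (Units.mk0 r hr0)).1 1 1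
        = x.1 0 0 + x.1 1 1 := by
      rw [dd00, dd11, Units.val_mk0]
      field_simp
      linear_combination -hr
    have hρ1 : Units.mk0 r hr0 ≠ 1 := by
      intro h'
      rw [h', dd00, dd11, Units.val_one, inv_one, add2] at htr
      exact hτ htr.symm
    have hdd1 : dd (Units.mk0 r hr0) ≠ 1 := fun h' => hρ1 (dd_inj (h'.trans dd_one.symm))
    obtain ⟨δ, hδ⟩ := isConj_iff.mp ((Cfsg.Agent.S2507.conj_iff x _ h1).mpr ⟨hdd1, htr⟩)
    have key := Cfsg.Agent.Lib.Helper3.SzSol3.solC_equiv (MulAut.conj δ) x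
    rw [MulAut.conj_apply, hδ] at key
    rw [← key, card_solS, count_dd p hp hF hρ1]
  · have hx2 := ss_of_order hq2 hq4 h1 (Or.inr h)
    have hns := nonsplit_of_order hF hq2 hq4 h1 h
    rw [card_solS, count_nonsplit p hp hF h1 hx2 hns]

end Cfsg.Agent.Lib.Helper3.L2
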