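import Mathlib
import Cfsg.Prelude.Def_Sporadic_a
import Cfsg.Agent.Lib.Helper3.Golay
import Cfsg.Agent.Lib.Helper3.Golay2
import Cfsg.Agent.Lib.Helper3.GolayM24

set_option autoImplicit false

namespace Cfsg.Agent.Lib.Helper3.M24Perm

open Cfsg Cfsg.Agent.Lib.Helper3.Golay Cfsg.Agent.Lib.Helper3.Golay2
open Cfsg.Agent.Lib.Helper3.GolayM24
open scoped Pointwise

/-- the point with index `i` (`i < 23` is the residue `i`, otherwise the extra point) -/
def pt (i : ℕ) : GolayPt := if i < 23 then some ((i : ℕ) : ZMod 23) else none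

theorem idx_pt : ∀ i < 24, idx (pt i) = i := by decide

theorem pt_idx : ∀ p : GolayPt, pt (idx p) = p := by decide

theorem pt_injOn {i j : ℕ} (hi : i < 24) (hj : j < 24) (h : pt i = pt j) : i = j := by
  rw [← idx_pt i hi, ← idx_pt j hj, h]

/-- entry `i` of a packed table (5 bits per entry) -/
def ent (T i : ℕ) : ℕ := Nat.mod (Nat.div T (Nat.pow 32 i)) 32

def tfun (T : ℕ) (p : GolayPt) : GolayPt := pt (ent T (idx p))

/-- image of the mask `n` under the table `T` -/
def apm (T n : ℕ) : ℕ :=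
  (Nat.lor (Nat.lor (Nat.lor (Nat.lor (Nat.lor (Nat.lor (Nat.lor (Nat.lor (Nat.lor (Nat.lor (Nat.lor (Nat.lor (Nat.lor (Nat.lor (Nat.lor (Nat.lor (Nat.lor (Nat.lor (Nat.lor (Nat.lor (Nat.lor (Nat.lor (Nat.lor (Nat.lor 0
    (Nat.mul (Nat.mod (Nat.div n 1) 2) (Nat.pow 2 (Nat.mod (Nat.div T 1) 32))))
    (Nat.mul (Nat.mod (Nat.div n 2) 2) (Nat.pow 2 (Nat.mod (Nat.div T 32) 32))))
    (Nat.mul (Nat.mod (Nat.div n 4) 2) (Nat.pow 2 (Nat.mod (Nat.div T 1024) 32))))
    (Nat.mul (Nat.mod (Nat.div n 8) 2) (Nat.pow 2 (Nat.mod (Nat.div T 32768) 32))))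
    (Nat.mul (Nat.mod (Nat.div n 16) 2) (Nat.pow 2 (Nat.mod (Nat.div T 1048576) 32))))
    (Nat.mul (Nat.mod (Nat.div n 32) 2) (Nat.pow 2 (Nat.mod (Nat.div T 33554432) 32))))
    (Nat.mul (Nat.mod (Nat.div n 64) 2) (Nat.pow 2 (Nat.mod (Nat.div T 1073741824) 32))))
    (Nat.mul (Nat.mod (Nat.div n 128) 2) (Nat.pow 2 (Nat.mod (Nat.div T 34359738368) 32))))
    (Nat.mul (Nat.mod (Nat.div n 256) 2) (Nat.pow 2 (Nat.mod (Nat.div T 1099511627776) 32))))
    (Nat.mul (Nat.mod (Nat.div n 512) 2) (Nat.pow 2 (Nat.mod (Nat.div T 35184372088832) 32))))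
    (Nat.mul (Nat.mod (Nat.div n 1024) 2) (Nat.pow 2 (Nat.mod (Nat.div T 1125899906842624) 32))))
    (Nat.mul (Nat.mod (Nat.div n 2048) 2) (Nat.pow 2 (Nat.mod (Nat.div T 36028797018963968) 32))))
    (Nat.mul (Nat.mod (Nat.div n 4096) 2) (Nat.pow 2 (Nat.mod (Nat.div T 1152921504606846976) 32))))
    (Nat.mul (Nat.mod (Nat.div n 8192) 2) (Nat.pow 2 (Nat.mod (Nat.div T 36893488147419103232) 32))))
    (Nat.mul (Nat.mod (Nat.div n 16384) 2) (Nat.pow 2 (Nat.mod (Nat.div T 1180591620717411303424) 32))))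
    (Nat.mul (Nat.mod (Nat.div n 32768) 2) (Nat.pow 2 (Nat.mod (Nat.div T 37778931862957161709568) 32))))
    (Nat.mul (Nat.mod (Nat.div n 65536) 2) (Nat.pow 2 (Nat.mod (Nat.div T 1208925819614629174706176) 32))))
    (Nat.mul (Nat.mod (Nat.div n 131072) 2) (Nat.pow 2 (Nat.mod (Nat.div T 38685626227668133590597632) 32))))
    (Nat.mul (Nat.mod (Nat.div n 262144) 2) (Nat.pow 2 (Nat.mod (Nat.div T 1237940039285380274899124224) 32))))
    (Nat.mul (Nat.mod (Nat.div n 524288) 2) (Nat.pow 2 (Nat.mod (Nat.div T 39614081257132168796771975168) 32))))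
    (Nat.mul (Nat.mod (Nat.div n 1048576) 2) (Nat.pow 2 (Nat.mod (Nat.div T 1267650600228229401496703205376) 32))))
    (Nat.mul (Nat.mod (Nat.div n 2097152) 2) (Nat.pow 2 (Nat.mod (Nat.div T 40564819207303340847894502572032) 32))))
    (Nat.mul (Nat.mod (Nat.div n 4194304) 2) (Nat.pow 2 (Nat.mod (Nat.div T 1298074214633706907132624082305024) 32))))
    (Nat.mul (Nat.mod (Nat.div n 8388608) 2) (Nat.pow 2 (Nat.mod (Nat.div T 41538374868278621028243970633760768) 32))))

theorem apm_eq (T n : ℕ) : apm T n =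
    (List.range 24).foldl (fun acc i => acc ||| (n / 2 ^ i % 2) * 2 ^ (ent T i)) 0 := rfl

theorem testBit_foldl_or (f : ℕ → ℕ) (L : List ℕ) (a j : ℕ) :
    (L.foldl (fun acc i => acc ||| f i) a).testBit j =
      (a.testBit j || L.any (fun i => (f i).testBit j)) := by
  induction L generalizing a with
  | nil => simp
  | cons x L ih =>
    rw [List.foldl_cons, ih, List.any_cons, Nat.testBit_or, Bool.or_assoc]

theorem testBit_term (n i e j : ℕ) :
    ((n / 2 ^ i % 2) * 2 ^ e).testBit j = (n.testBit i && decide (e = j)) := by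
  rw [← Nat.toNat_testBit]
  cases n.testBit i
  · simp
  · simp [Nat.testBit_two_pow]

theorem testBit_apm (T n j : ℕ) :
    (apm T n).testBit j = (List.range 24).any (fun i => n.testBit i && decide (ent T i = j)) := by
  rw [apm_eq, testBit_foldl_or]
  simp only [Nat.zero_testBit, Bool.false_or, testBit_term]

theorem testBit_apm_iff (T n j : ℕ) :
    (apm T n).testBit j = true ↔ ∃ i < 24, n.testBit i = true ∧ ent T i = j := by
  rw [testBit_apm, List.any_eq_true]
  simp only [List.mem_range, Bool.and_eq_true, decide_eq_true_eq]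

/-- the set of points of a mask -/
def ms (n : ℕ) : Finset GolayPt := Finset.univ.filter (fun p => n.testBit (idx p) = true)

theorem mem_ms {n : ℕ} {p : GolayPt} : p ∈ ms n ↔ n.testBit (idx p) = true := by
  simp [ms]

theorem pt_mem_ms {n i : ℕ} (hi : i < 24) : pt i ∈ ms n ↔ n.testBit i = true := by
  rw [mem_ms, idx_pt i hi]

theorem ms_eq_support (n : ℕ) : ms n = support₂ (dec n) := (support_dec n).symm

theorem card_ms (n : ℕ) : (ms n).card = pc n := card_filter_testBit n

theorem ms_cw (k : ℕ) : ms (cw k) = supp k := ms_eq_support _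

def good (T : ℕ) : Bool := Nat.beq (apm T 16777215) 16777215

theorem testBit_full (j : ℕ) : Nat.testBit 16777215 j = true ↔ j < 24 := by
  rw [show (16777215 : ℕ) = 2 ^ 24 - 1 by norm_num, Nat.testBit_two_pow_sub_one]
  simp

theorem ms_full : ms 16777215 = Finset.univ := by
  ext p
  simp [mem_ms, testBit_full, idx_lt]

theorem good_lt {T : ℕ} (h : good T = true) : ∀ i < 24, ent T i < 24 := by
  intro i hi
  have h1 : apm T 16777215 = 16777215 := Nat.eq_of_beq_eq_true h
  have h2 : (apm T 16777215).testBit (ent T i) = true := by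
    rw [testBit_apm_iff]
    exact ⟨i, hi, (testBit_full i).mpr hi, rfl⟩
  rw [h1] at h2
  exact (testBit_full _).mp h2

theorem good_surj {T : ℕ} (h : good T = true) : Function.Surjective (tfun T) := by
  intro p
  have h1 : apm T 16777215 = 16777215 := Nat.eq_of_beq_eq_true h
  have h2 : (apm T 16777215).testBit (idx p) = true := by
    rw [h1]
    exact (testBit_full _).mpr (idx_lt p)
  rw [testBit_apm_iff] at h2
  obtain ⟨i, hi, _, h3⟩ := h2
  refine ⟨pt i, ?_⟩
  unfold tfun
  rw [idx_pt i hi, h3, pt_idx]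

theorem good_bij {T : ℕ} (h : good T = true) : Function.Bijective (tfun T) :=
  Finite.surjective_iff_bijective.mp (good_surj h)

/-- the permutation of the 24 points given by a packed table -/
noncomputable def tp (T : ℕ) : Equiv.Perm GolayPt :=
  if h : Function.Bijective (tfun T) then Equiv.ofBijective (tfun T) h else 1

theorem tp_apply {T : ℕ} (h : good T = true) (p : GolayPt) : tp T p = tfun T p := by
  unfold tp
  rw [dif_pos (good_bij h)]
  rfl

theorem tp_pt {T : ℕ} (h : good T = true) {i : ℕ} (hi : i < 24) :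
    tp T (pt i) = pt (ent T i) := by
  rw [tp_apply h]
  unfold tfun
  rw [idx_pt i hi]

theorem smul_ms {T : ℕ} (h : good T = true) (n : ℕ) : tp T • ms n = ms (apm T n) := by
  ext p
  rw [Finset.mem_smul_finset, mem_ms, testBit_apm_iff]
  constructor
  · rintro ⟨q, hq, rfl⟩
    rw [mem_ms] at hq
    refine ⟨idx q, idx_lt q, hq, ?_⟩
    rw [Equiv.Perm.smul_def, tp_apply h]
    unfold tfun
    rw [idx_pt _ (good_lt h _ (idx_lt q))]
  · rintro ⟨i, hi, hn, he⟩
    refine ⟨pt i, ?_, ?_⟩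
    · rw [mem_ms, idx_pt i hi]
      exact hn
    · rw [Equiv.Perm.smul_def, tp_pt h hi, he, pt_idx]

def par12 (x : ℕ) : ℕ :=
  Nat.mod (Nat.add (Nat.add (Nat.add (Nat.add (Nat.add (Nat.add (Nat.add (Nat.add (Nat.add (Nat.add (Nat.add (Nat.mod (Nat.div x 1) 2) (Nat.mod (Nat.div x 2) 2)) (Nat.mod (Nat.div x 4) 2)) (Nat.mod (Nat.div x 8) 2)) (Nat.mod (Nat.div x 16) 2)) (Nat.mod (Nat.div x 32) 2)) (Nat.mod (Nat.div x 64) 2)) (Nat.mod (Nat.div x 128) 2)) (Nat.mod (Nat.div x 256) 2)) (Nat.mod (Nat.div x 512) 2)) (Nat.mod (Nat.div x 1024) 2)) (Nat.mod (Nat.div x 2048) 2)) 2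

/-- index of the codeword agreeing with `n` on the first 12 coordinates -/
def kOf (n : ℕ) : ℕ :=
  (Nat.add (Nat.add (Nat.add (Nat.add (Nat.add (Nat.add (Nat.add (Nat.add (Nat.add (Nat.add (Nat.add (Nat.mul (par12 (Nat.land n 3941)) 1)
    (Nat.mul (par12 (Nat.land n 1328)) 2))
    (Nat.mul (par12 (Nat.land n 2656)) 4))
    (Nat.mul (par12 (Nat.land n 95)) 8))
    (Nat.mul (par12 (Nat.land n 190)) 16))
    (Nat.mul (par12 (Nat.land n 3609)) 32))
    (Nat.mul (par12 (Nat.land n 1992)) 64))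
    (Nat.mul (par12 (Nat.land n 245)) 128))
    (Nat.mul (par12 (Nat.land n 490)) 256))
    (Nat.mul (par12 (Nat.land n 3249)) 512))
    (Nat.mul (par12 (Nat.land n 3581)) 1024))
    (Nat.mul (par12 (Nat.land n 3189)) 2048))

def chk (T g : ℕ) : Bool := Nat.beq (cw (kOf (apm T g))) (apm T g)

/-- kernel-checkable sufficient condition for `tp T ∈ M24` -/
def inM (T : ℕ) : Bool := good T && basis.all (chk T)

theorem comb_induction (P : (GolayPt → ZMod 2) → Prop) (h0 : P 0)
    (hadd : ∀ x y, P x → P y → P (x + y)) (L : List ℕ) (hL : ∀ g ∈ L, P (dec g)) (k : ℕ) :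
    P (dec (comb L k)) := by
  induction L generalizing k with
  | nil =>
    simp only [comb]
    rw [dec_zero]
    exact h0
  | cons g L ih =>
    simp only [comb]
    rw [dec_xor]
    apply hadd
    · rcases Nat.mod_two_eq_zero_or_one k with h | h
      · rw [h, zero_mul, dec_zero]
        exact h0
      · rw [h, one_mul]
        exact hL g (by simp)
    · exact ih (fun g' hg' => hL g' (by simp [hg'])) _

theorem dec_comp_tp {T : ℕ} (h : good T = true) (n : ℕ) :
    dec n ∘ (tp T).symm = dec (apm T n) := by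
  apply support_injective
  rw [← smul_support, ← ms_eq_support, ← ms_eq_support, smul_ms h]

theorem inM_good {T : ℕ} (h : inM T = true) : good T = true := by
  simp only [inM, Bool.and_eq_true] at h
  exact h.1

theorem tp_mem_M24 {T : ℕ} (h : inM T = true) : tp T ∈ M24 := by
  simp only [inM, Bool.and_eq_true, List.all_eq_true] at h
  obtain ⟨hg, hb⟩ := h
  apply mem_M24_of_comp
  intro w hw
  obtain ⟨k, _, rfl⟩ := (mem_golayCode_iff w).mp hw
  rw [cw_eq_comb]
  refine comb_induction (fun x => x ∘ (tp T).symm ∈ golayCode) ?_ ?_ basis ?_ k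
  · exact Submodule.zero_mem _
  · intro x y hx hy
    exact Submodule.add_mem _ hx hy
  · intro g hg'
    show dec g ∘ (tp T).symm ∈ golayCode
    rw [dec_comp_tp hg]
    have h1 := hb g hg'
    unfold chk at h1
    rw [← Nat.eq_of_beq_eq_true h1]
    exact dec_cw_mem _

end Cfsg.Agent.Lib.Helper3.M24Perm
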