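import Mathlib
import Cfsg.Prelude.Def_Sporadic_a
import Cfsg.Agent.Lib.Helper3.Golay
import Cfsg.Agent.Lib.Helper3.Golay2
import Cfsg.Agent.Lib.Helper3.GolayM24
import Cfsg.Agent.Lib.Helper3.M24Perm

set_option autoImplicit false

namespace Cfsg.Agent.Lib.Helper3.M24Cert

open Cfsg Cfsg.Agent.Lib.Helper3.Golay Cfsg.Agent.Lib.Helper3.Golay2
open Cfsg.Agent.Lib.Helper3.GolayM24 Cfsg.Agent.Lib.Helper3.M24Perm
open scoped Pointwise

/-- general orbit counting: `H` acts, `K` is the stabiliser of `a` in `H`, `S` is the orbit. -/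
theorem card_eq_ncard_mul {G α : Type*} [Group G] [MulAction G α] (H K : Subgroup G) (a : α)
    (S : Set α) (hK : ∀ g, g ∈ K ↔ g ∈ H ∧ g • a = a) (hsub : ∀ g ∈ H, g • a ∈ S)
    (hsup : ∀ s ∈ S, ∃ g ∈ H, g • a = s) : Nat.card H = S.ncard * Nat.card K := by
  have h1 := Subgroup.card_mul_index (MulAction.stabilizer H a)
  have h2 := MulAction.index_stabilizer H a
  have h3 : MulAction.orbit H a = S := by
    ext s
    constructor
    · rintro ⟨g, rfl⟩
      exact hsub g.1 g.2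
    · intro hs
      obtain ⟨g, hg, rfl⟩ := hsup s hs
      exact ⟨⟨g, hg⟩, rfl⟩
  have h4 : Nat.card (MulAction.stabilizer H a) = Nat.card K := by
    apply Nat.card_congr
    refine ⟨fun x => ⟨x.1.1, (hK _).mpr ⟨x.1.2, x.2⟩⟩,
      fun y => ⟨⟨y.1, ((hK _).mp y.2).1⟩, ((hK _).mp y.2).2⟩, fun x => rfl, fun y => rfl⟩
  rw [h2, h3, h4] at h1
  rw [← h1, mul_comm]

/-- elements of `M24` stabilising each set `ms D` (`D ∈ Ds`) and fixing each point `pt i`
(`i ∈ F`). -/
def fixG (Ds F : List ℕ) : Subgroup (Equiv.Perm GolayPt) where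
  carrier := {σ | σ ∈ M24 ∧ (∀ D ∈ Ds, σ • ms D = ms D) ∧ ∀ i ∈ F, σ (pt i) = pt i}
  one_mem' := ⟨M24.one_mem, fun D _ => one_smul _ _, fun i _ => rfl⟩
  mul_mem' := by
    rintro σ τ ⟨h1, h2, h3⟩ ⟨h1', h2', h3'⟩
    refine ⟨M24.mul_mem h1 h1', fun D hD => ?_, fun i hi => ?_⟩
    · rw [mul_smul, h2' D hD, h2 D hD]
    · rw [Equiv.Perm.mul_apply, h3' i hi, h3 i hi]
  inv_mem' := by
    rintro σ ⟨h1, h2, h3⟩
    refine ⟨M24.inv_mem h1, fun D hD => ?_, fun i hi => ?_⟩
    · rw [inv_smul_eq_iff, h2 D hD]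
    · rw [Equiv.Perm.inv_eq_iff_eq, h3 i hi]

theorem mem_fixG {Ds F : List ℕ} {σ : Equiv.Perm GolayPt} :
    σ ∈ fixG Ds F ↔ σ ∈ M24 ∧ (∀ D ∈ Ds, σ • ms D = ms D) ∧ ∀ i ∈ F, σ (pt i) = pt i :=
  Iff.rfl

theorem fixG_nil : fixG [] [] = M24 := by
  ext σ
  simp [mem_fixG]

theorem mem_fixG_cons {Ds F : List ℕ} {b : ℕ} {σ : Equiv.Perm GolayPt} :
    σ ∈ fixG Ds (b :: F) ↔ σ ∈ fixG Ds F ∧ σ • pt b = pt b := by
  simp only [mem_fixG, List.forall_mem_cons, Equiv.Perm.smul_def]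
  tauto

theorem fixG_le_nil (Ds F : List ℕ) : fixG Ds F ≤ fixG Ds [] := by
  intro σ hσ
  exact ⟨hσ.1, hσ.2.1, fun i hi => by simp at hi⟩

def inFix (Ds F : List ℕ) (T : ℕ) : Bool :=
  inM T && Ds.all (fun D => Nat.beq (apm T D) D) &&
    F.all (fun i => Nat.blt i 24 && Nat.beq (ent T i) i)

theorem tp_mem_fixG {Ds F : List ℕ} {T : ℕ} (h : inFix Ds F T = true) : tp T ∈ fixG Ds F := by
  simp only [inFix, Bool.and_eq_true, List.all_eq_true] at h
  obtain ⟨⟨hM, hD⟩, hF⟩ := h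
  have hg := inM_good hM
  refine ⟨tp_mem_M24 hM, fun D hDs => ?_, fun i hi => ?_⟩
  · rw [smul_ms hg, Nat.eq_of_beq_eq_true (hD D hDs)]
  · obtain ⟨h1, h2⟩ := hF i hi
    have h3 : i < 24 := by simpa using h1
    rw [tp_pt hg h3, Nat.eq_of_beq_eq_true h2]

theorem inFix_good {Ds F : List ℕ} {T : ℕ} (h : inFix Ds F T = true) : good T = true := by
  simp only [inFix, Bool.and_eq_true] at h
  exact inM_good h.1.1

def ubOK (Ds F : List ℕ) (b target : ℕ) : Bool :=
  (List.range 24).all (fun q => F.any (fun i => Nat.beq i q) ||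
    Ds.any (fun D => D.testBit q != D.testBit b) || target.testBit q)

def covOK (Ds F ts : List ℕ) (b target : ℕ) : Bool :=
  (List.range 24).all (fun q => !(target.testBit q) ||
    ts.any (fun T => Nat.beq (ent T b) q && inFix Ds F T))

def levelCheck (Ds F ts : List ℕ) (b target n : ℕ) : Bool :=
  Nat.blt b 24 && ubOK Ds F b target && covOK Ds F ts b target && Nat.beq (pc target) n

/-- the key consequence of `ubOK`. -/
theorem ub_sound {Ds F : List ℕ} {b target : ℕ} (hub : ubOK Ds F b target = true)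
    {p : GolayPt} (h1 : ∀ i ∈ F, i < 24 → pt i ≠ p)
    (h2 : ∀ D ∈ Ds, (p ∈ ms D ↔ D.testBit b = true)) : p ∈ ms target := by
  unfold ubOK at hub
  rw [List.all_eq_true] at hub
  have h3 := hub (idx p) (List.mem_range.mpr (idx_lt p))
  simp only [Bool.or_eq_true, List.any_eq_true] at h3
  rcases h3 with (⟨i, hi, h4⟩ | ⟨D, hD, h4⟩) | h4
  · exfalso
    have h5 : i = idx p := Nat.eq_of_beq_eq_true h4
    apply h1 i hi (by rw [h5]; exact idx_lt p)
    rw [h5, pt_idx]
  · exfalso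
    have h5 := h2 D hD
    rw [mem_ms] at h5
    have h6 : D.testBit (idx p) = D.testBit b := by
      cases hx : D.testBit (idx p) <;> cases hy : D.testBit b <;> simp_all
    rw [h6] at h4
    simp at h4
  · exact mem_ms.mpr h4

theorem level_sub {Ds F ts : List ℕ} {b target n : ℕ} (h : levelCheck Ds F ts b target n = true)
    {g : Equiv.Perm GolayPt} (hg : g ∈ fixG Ds F) (hbF : ∀ i ∈ F, i ≠ b) :
    g (pt b) ∈ ms target := by
  simp only [levelCheck, Bool.and_eq_true] at h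
  obtain ⟨⟨⟨hb, hub⟩, _⟩, _⟩ := h
  have hb' : b < 24 := by simpa using hb
  apply ub_sound hub
  · intro i hi hi24 heq
    have h1 := hg.2.2 i hi
    rw [← h1] at heq
    exact hbF i hi (pt_injOn hi24 hb' (g.injective heq))
  · intro D hD
    have h1 := hg.2.1 D hD
    rw [← pt_mem_ms hb']
    conv_lhs => rw [← h1]
    exact Finset.smul_mem_smul_finset_iff g

theorem level_sup {Ds F ts : List ℕ} {b target n : ℕ} (h : levelCheck Ds F ts b target n = true)
    {p : GolayPt} (hp : p ∈ ms target) : ∃ g ∈ fixG Ds F, g (pt b) = p := by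
  simp only [levelCheck, Bool.and_eq_true] at h
  obtain ⟨⟨⟨hb, _⟩, hcov⟩, _⟩ := h
  have hb' : b < 24 := by simpa using hb
  unfold covOK at hcov
  rw [List.all_eq_true] at hcov
  have h3 := hcov (idx p) (List.mem_range.mpr (idx_lt p))
  rw [mem_ms] at hp
  simp only [hp, Bool.not_true, Bool.false_or, List.any_eq_true, Bool.and_eq_true] at h3
  obtain ⟨T, _, h4, h5⟩ := h3
  refine ⟨tp T, tp_mem_fixG h5, ?_⟩
  rw [tp_pt (inFix_good h5) hb', Nat.eq_of_beq_eq_true h4, pt_idx]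

theorem level_card {Ds F ts : List ℕ} {b target n : ℕ}
    (h : levelCheck Ds F ts b target n = true) (hbF : ∀ i ∈ F, i ≠ b) :
    Nat.card (fixG Ds F) = n * Nat.card (fixG Ds (b :: F)) := by
  have hn : pc target = n := by
    simp only [levelCheck, Bool.and_eq_true] at h
    exact Nat.eq_of_beq_eq_true h.2
  have h1 := card_eq_ncard_mul (fixG Ds F) (fixG Ds (b :: F)) (pt b) (ms target : Set GolayPt)
    (fun g => mem_fixG_cons) (fun g hg => level_sub h hg hbF)
    (fun s hs => level_sup h hs)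
  rw [Set.ncard_coe_finset, card_ms, hn] at h1
  exact h1

/-- extend a partial "base image" by one more point. -/
theorem level_extend {Ds F ts : List ℕ} {b target n : ℕ}
    (h : levelCheck Ds F ts b target n = true)
    {σ : Equiv.Perm GolayPt} (hσ : σ ∈ fixG Ds []) {y : GolayPt}
    (hy1 : ∀ i ∈ F, σ (pt i) ≠ y) (hy2 : ∀ D ∈ Ds, (y ∈ ms D ↔ D.testBit b = true)) :
    ∃ τ ∈ fixG Ds [], τ (pt b) = y ∧ ∀ i ∈ F, τ (pt i) = σ (pt i) := by
  have hub : ubOK Ds F b target = true := by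
    simp only [levelCheck, Bool.and_eq_true] at h
    exact h.1.1.2
  have h1 : σ⁻¹ y ∈ ms target := by
    apply ub_sound hub
    · intro i hi _ heq
      apply hy1 i hi
      rw [heq]
      simp
    · intro D hD
      rw [← hy2 D hD]
      have h2 := hσ.2.1 D hD
      conv_rhs => rw [← h2]
      rw [← Finset.inv_smul_mem_iff]
      rfl
  obtain ⟨g, hg, hgb⟩ := level_sup h h1
  refine ⟨σ * g, (fixG Ds []).mul_mem hσ (fixG_le_nil Ds F hg), ?_, fun i hi => ?_⟩
  · rw [Equiv.Perm.mul_apply, hgb]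
    simp
  · rw [Equiv.Perm.mul_apply, hg.2.2 i hi]

/-- a set of the code on which `σ ∈ M24` fixes many points is stabilised by `σ`. -/
theorem smul_ms_cw_eq {σ : Equiv.Perm GolayPt} (hσ : σ ∈ M24) {Fm : ℕ}
    (hF : ∀ i < 24, Fm.testBit i = true → σ (pt i) = pt i) {k : ℕ}
    (hk : Nat.blt (pc (cw k)) (4 + pc (cw k &&& Fm)) = true) :
    σ • ms (cw k) = ms (cw k) := by
  have hk' : pc (cw k) < 4 + pc (cw k &&& Fm) := by simpa using hk
  have h1 : ms (cw k) ∈ supports (golayCode : Set (GolayPt → ZMod 2)) := by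
    rw [ms_eq_support]
    exact ⟨dec (cw k), dec_cw_mem k, rfl⟩
  have h2 := smul_mem_supports hσ h1
  have h3 : ms (cw k &&& Fm) ⊆ σ • ms (cw k) ∩ ms (cw k) := by
    intro p hp
    rw [mem_ms, Nat.testBit_and, Bool.and_eq_true] at hp
    have h4 : σ p = p := by
      have := hF (idx p) (idx_lt p) hp.2
      rwa [pt_idx] at this
    rw [Finset.mem_inter]
    refine ⟨?_, mem_ms.mpr hp.1⟩
    rw [← h4]
    exact Finset.smul_mem_smul_finset (mem_ms.mpr hp.1)
  have h5 := Finset.card_le_card h3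
  rw [card_ms] at h5
  apply eq_of_mem_supports_of_card_inter h2 h1
  rw [Finset.card_smul_finset, card_ms]
  omega

def stepOK (k1 k2 q Fm : ℕ) : Bool :=
  Nat.blt (pc (cw k1)) (4 + pc (cw k1 &&& Fm)) && Nat.blt (pc (cw k2)) (4 + pc (cw k2 &&& Fm)) &&
    Nat.blt q 24 && (cw k1 &&& cw k2).testBit q &&
    Nat.beq ((cw k1 &&& cw k2) ||| (Fm ||| 2 ^ q)) (Fm ||| 2 ^ q)

def closeCheck : List ℕ → ℕ → Bool
  | [], Fm => Nat.beq (Fm &&& 16777215) 16777215
  | e :: es, Fm =>
    stepOK (e % 4096) (e / 4096 % 4096) (e / 16777216) Fm &&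
      closeCheck es (Fm ||| 2 ^ (e / 16777216))

theorem step_sound {σ : Equiv.Perm GolayPt} (hσ : σ ∈ M24) {Fm k1 k2 q : ℕ}
    (hF : ∀ i < 24, Fm.testBit i = true → σ (pt i) = pt i)
    (h : stepOK k1 k2 q Fm = true) : σ (pt q) = pt q := by
  simp only [stepOK, Bool.and_eq_true] at h
  obtain ⟨⟨⟨⟨h1, h2⟩, h3⟩, h4⟩, h5⟩ := h
  have hq : q < 24 := by simpa using h3
  have e1 := smul_ms_cw_eq hσ hF h1
  have e2 := smul_ms_cw_eq hσ hF h2
  rw [Nat.testBit_and, Bool.and_eq_true] at h4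
  have m1 : σ (pt q) ∈ ms (cw k1) := by
    rw [← e1]
    exact Finset.smul_mem_smul_finset ((pt_mem_ms hq).mpr h4.1)
  have m2 : σ (pt q) ∈ ms (cw k2) := by
    rw [← e2]
    exact Finset.smul_mem_smul_finset ((pt_mem_ms hq).mpr h4.2)
  rw [mem_ms] at m1 m2
  have h6 : ((cw k1 &&& cw k2) ||| (Fm ||| 2 ^ q)).testBit (idx (σ (pt q))) = true := by
    rw [Nat.testBit_or, Nat.testBit_and, m1, m2]
    rfl
  rw [Nat.eq_of_beq_eq_true h5, Nat.testBit_or, Bool.or_eq_true, Nat.testBit_two_pow] at h6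
  rcases h6 with h6 | h6
  · have h7 := hF _ (idx_lt _) h6
    rw [pt_idx] at h7
    exact σ.injective h7
  · have h7 : q = idx (σ (pt q)) := by simpa using h6
    conv_rhs => rw [h7]
    rw [pt_idx]

theorem close_sound {σ : Equiv.Perm GolayPt} (hσ : σ ∈ M24) :
    ∀ (steps : List ℕ) (Fm : ℕ), (∀ i < 24, Fm.testBit i = true → σ (pt i) = pt i) →
      closeCheck steps Fm = true → σ = 1 := by
  intro steps
  induction steps with
  | nil =>
    intro Fm hF h
    simp only [closeCheck] at h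
    have h1 : Fm &&& 16777215 = 16777215 := Nat.eq_of_beq_eq_true h
    ext p
    have h2 : (Fm &&& 16777215).testBit (idx p) = true := by
      rw [h1]
      exact (testBit_full _).mpr (idx_lt p)
    rw [Nat.testBit_and, Bool.and_eq_true] at h2
    have h3 := hF _ (idx_lt p) h2.1
    rw [pt_idx] at h3
    rw [h3]
    rfl
  | cons e es ih =>
    intro Fm hF h
    simp only [closeCheck, Bool.and_eq_true] at h
    obtain ⟨h1, h2⟩ := h
    have h3 := step_sound hσ hF h1
    apply ih _ _ h2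
    intro i hi hi2
    rw [Nat.testBit_or, Bool.or_eq_true, Nat.testBit_two_pow] at hi2
    rcases hi2 with hi2 | hi2
    · exact hF i hi hi2
    · have h4 : e / 16777216 = i := by simpa using hi2
      rw [← h4]
      exact h3

def maskOK (F : List ℕ) (Fm : ℕ) : Bool :=
  (List.range 24).all (fun i => !(Fm.testBit i) || F.any (fun j => Nat.beq j i))

theorem maskOK_sound {F : List ℕ} {Fm : ℕ} (h : maskOK F Fm = true) {σ : Equiv.Perm GolayPt}
    (hσ : ∀ i ∈ F, σ (pt i) = pt i) : ∀ i < 24, Fm.testBit i = true → σ (pt i) = pt i := by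
  intro i hi hi2
  unfold maskOK at h
  rw [List.all_eq_true] at h
  have h1 := h i (List.mem_range.mpr hi)
  simp only [hi2, Bool.not_true, Bool.false_or, List.any_eq_true] at h1
  obtain ⟨j, hj, h2⟩ := h1
  rw [← Nat.eq_of_beq_eq_true h2]
  exact hσ j hj

theorem fixG_eq_bot {Ds F steps : List ℕ} {Fm : ℕ} (h1 : maskOK F Fm = true)
    (h2 : closeCheck steps Fm = true) : fixG Ds F = ⊥ := by
  rw [Subgroup.eq_bot_iff_forall]
  intro σ hσ
  exact close_sound hσ.1 steps Fm (maskOK_sound h1 hσ.2.2) h2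

theorem fixG_add_set {Ds F : List ℕ} {k Fm : ℕ} (h1 : maskOK F Fm = true)
    (h2 : Nat.blt (pc (cw k)) (4 + pc (cw k &&& Fm)) = true) :
    fixG Ds F = fixG (cw k :: Ds) F := by
  ext σ
  simp only [mem_fixG, List.forall_mem_cons]
  constructor
  · rintro ⟨h3, h4, h5⟩
    exact ⟨h3, ⟨smul_ms_cw_eq h3 (maskOK_sound h1 h5) h2, h4⟩, h5⟩
  · rintro ⟨h3, ⟨_, h4⟩, h5⟩
    exact ⟨h3, h4, h5⟩

/-- orbit certificate on codeword indices: step `e = c + 4096 * p + 4096^2 * j` says that generator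
number `j` maps the (already reached) word `p` to the word `c`. Returns the set of reached
indices as a bit set, or `0` on failure. -/
def orbCheck (gs : List ℕ) : List ℕ → ℕ → ℕ
  | [], v => v
  | e :: es, v =>
    bif (v.testBit (e / 4096 % 4096) && Nat.blt (e / 16777216) gs.length &&
        Nat.beq (apm (gs.getD (e / 16777216) 0) (cw (e / 4096 % 4096))) (cw (e % 4096)))
    then orbCheck gs es (v ||| 2 ^ (e % 4096)) else 0

theorem orb_sound (A : Subgroup (Equiv.Perm GolayPt)) (gs : List ℕ)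
    (hgs : ∀ g ∈ gs, good g = true ∧ tp g ∈ A) (k0 : ℕ) :
    ∀ (steps : List ℕ) (v : ℕ),
      (∀ k, v.testBit k = true → ∃ σ ∈ A, σ • ms (cw k0) = ms (cw k)) →
      ∀ k, (orbCheck gs steps v).testBit k = true → ∃ σ ∈ A, σ • ms (cw k0) = ms (cw k) := by
  intro steps
  induction steps with
  | nil =>
    intro v hv k hk
    exact hv k hk
  | cons e es ih =>
    intro v hv k hk
    simp only [orbCheck] at hk
    cases hc : (v.testBit (e / 4096 % 4096) && Nat.blt (e / 16777216) gs.length &&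
        Nat.beq (apm (gs.getD (e / 16777216) 0) (cw (e / 4096 % 4096))) (cw (e % 4096)))
    · rw [hc] at hk
      simp at hk
    · rw [hc] at hk
      simp only [cond_true] at hk
      simp only [Bool.and_eq_true] at hc
      obtain ⟨⟨c1, c2⟩, c3⟩ := hc
      have hlen : e / 16777216 < gs.length := by simpa using c2
      have hmem : gs.getD (e / 16777216) 0 ∈ gs := by
        rw [List.getD_eq_getElem _ _ hlen]
        exact List.getElem_mem hlen
      obtain ⟨hgood, hA⟩ := hgs _ hmem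
      apply ih _ _ k hk
      intro k' hk'
      rw [Nat.testBit_or, Bool.or_eq_true, Nat.testBit_two_pow] at hk'
      rcases hk' with hk' | hk'
      · exact hv k' hk'
      · have h4 : e % 4096 = k' := by simpa using hk'
        obtain ⟨σ, hσ, hσ2⟩ := hv _ c1
        refine ⟨tp (gs.getD (e / 16777216) 0) * σ, A.mul_mem hA hσ, ?_⟩
        rw [mul_smul, hσ2, smul_ms hgood, Nat.eq_of_beq_eq_true c3, h4]

theorem orbit_cert {Ds F gs steps : List ℕ} {k0 W wt : ℕ}
    (hgs : gs.all (inFix Ds F) = true) (hW : orbCheck gs steps (2 ^ k0) = W)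
    (hall : (List.range 4096).all (fun k => !(Nat.beq (pc (cw k)) wt) || W.testBit k) = true) :
    ∀ k < 4096, pc (cw k) = wt → ∃ σ ∈ fixG Ds F, σ • ms (cw k0) = ms (cw k) := by
  intro k hk hwt
  rw [List.all_eq_true] at hgs hall
  have h1 := hall k (List.mem_range.mpr hk)
  rw [hwt] at h1
  simp only [Nat.beq_refl, Bool.not_true, Bool.false_or] at h1
  rw [← hW] at h1
  refine orb_sound (fixG Ds F) gs (fun g hg => ⟨inFix_good (hgs g hg), tp_mem_fixG (hgs g hg)⟩)
    k0 steps (2 ^ k0) ?_ k h1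
  intro k' hk'
  rw [Nat.testBit_two_pow] at hk'
  have h2 : k0 = k' := by simpa using hk'
  rw [← h2]
  exact ⟨1, (fixG Ds F).one_mem, one_smul _ _⟩

end Cfsg.Agent.Lib.Helper3.M24Cert
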