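import Mathlib
import Cfsg.Prelude.Def_Sporadic_a
import Cfsg.Agent.Lib.Helper3.Golay
import Cfsg.Agent.Lib.Helper3.Golay2
import Cfsg.Agent.Lib.Helper3.GolayM24
import Cfsg.Agent.Lib.Helper3.M24Perm
import Cfsg.Agent.Lib.Helper3.M24Cert
import Cfsg.Agent.Lib.Helper3.M24Order

set_option autoImplicit false

namespace Cfsg.Agent.Lib.Helper3.M24Trans

open Cfsg Cfsg.Agent.Lib.Helper3.Golay Cfsg.Agent.Lib.Helper3.Golay2
open Cfsg.Agent.Lib.Helper3.GolayM24 Cfsg.Agent.Lib.Helper3.M24Perm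
open Cfsg.Agent.Lib.Helper3.M24Cert Cfsg.Agent.Lib.Helper3.M24Order
open scoped Pointwise

theorem map1 (y0 : GolayPt) : ∃ τ ∈ fixG [] [], τ (pt 0) = y0 := by
  obtain ⟨τ, hτ, h1, _⟩ := level_extend lvl1 (σ := 1) (fixG [] []).one_mem (y := y0)
    (by simp) (by simp)
  exact ⟨τ, hτ, h1⟩

theorem map2 (y0 y1 : GolayPt) (h01 : y0 ≠ y1) :
    ∃ τ ∈ fixG [] [], τ (pt 0) = y0 ∧ τ (pt 1) = y1 := by
  obtain ⟨σ, hσ, h0⟩ := map1 y0
  obtain ⟨τ, hτ, h1, h2⟩ := level_extend lvl2 hσ (y := y1)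
    (by simp only [List.mem_singleton, forall_eq]; rw [h0]; exact h01) (by simp)
  simp only [List.mem_singleton, forall_eq] at h2
  exact ⟨τ, hτ, by rw [h2, h0], h1⟩

theorem map3 (y0 y1 y2 : GolayPt) (h01 : y0 ≠ y1) (h02 : y0 ≠ y2) (h12 : y1 ≠ y2) :
    ∃ τ ∈ fixG [] [], τ (pt 0) = y0 ∧ τ (pt 1) = y1 ∧ τ (pt 2) = y2 := by
  obtain ⟨σ, hσ, h0, h1⟩ := map2 y0 y1 h01
  obtain ⟨τ, hτ, h3, h4⟩ := level_extend lvl3 hσ (y := y2)
    (by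
      simp only [List.forall_mem_cons, List.not_mem_nil, false_imp_iff, implies_true, and_true]
      rw [h0, h1]
      exact ⟨h12, h02⟩) (by simp)
  simp only [List.forall_mem_cons, List.not_mem_nil, false_imp_iff, implies_true, and_true] at h4
  exact ⟨τ, hτ, by rw [h4.2, h0], by rw [h4.1, h1], h3⟩

theorem map4 (y0 y1 y2 y3 : GolayPt) (h01 : y0 ≠ y1) (h02 : y0 ≠ y2) (h12 : y1 ≠ y2)
    (h03 : y0 ≠ y3) (h13 : y1 ≠ y3) (h23 : y2 ≠ y3) :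
    ∃ τ ∈ fixG [] [], τ (pt 0) = y0 ∧ τ (pt 1) = y1 ∧ τ (pt 2) = y2 ∧ τ (pt 3) = y3 := by
  obtain ⟨σ, hσ, h0, h1, h2⟩ := map3 y0 y1 y2 h01 h02 h12
  obtain ⟨τ, hτ, h3, h4⟩ := level_extend lvl4 hσ (y := y3)
    (by
      simp only [List.forall_mem_cons, List.not_mem_nil, false_imp_iff, implies_true, and_true]
      rw [h0, h1, h2]
      exact ⟨h23, h13, h03⟩) (by simp)
  simp only [List.forall_mem_cons, List.not_mem_nil, false_imp_iff, implies_true, and_true] at h4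
  exact ⟨τ, hτ, by rw [h4.2.2, h0], by rw [h4.2.1, h1], by rw [h4.1, h2], h3⟩

theorem map5 (y0 y1 y2 y3 y4 : GolayPt) (h01 : y0 ≠ y1) (h02 : y0 ≠ y2) (h12 : y1 ≠ y2)
    (h03 : y0 ≠ y3) (h13 : y1 ≠ y3) (h23 : y2 ≠ y3)
    (h04 : y0 ≠ y4) (h14 : y1 ≠ y4) (h24 : y2 ≠ y4) (h34 : y3 ≠ y4) :
    ∃ τ ∈ fixG [] [], τ (pt 0) = y0 ∧ τ (pt 1) = y1 ∧ τ (pt 2) = y2 ∧ τ (pt 3) = y3 ∧
      τ (pt 4) = y4 := by
  obtain ⟨σ, hσ, h0, h1, h2, h3⟩ := map4 y0 y1 y2 y3 h01 h02 h12 h03 h13 h23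
  obtain ⟨τ, hτ, h5, h6⟩ := level_extend lvl5 hσ (y := y4)
    (by
      simp only [List.forall_mem_cons, List.not_mem_nil, false_imp_iff, implies_true, and_true]
      rw [h0, h1, h2, h3]
      exact ⟨h34, h24, h14, h04⟩) (by simp)
  simp only [List.forall_mem_cons, List.not_mem_nil, false_imp_iff, implies_true, and_true] at h6
  exact ⟨τ, hτ, by rw [h6.2.2.2, h0], by rw [h6.2.2.1, h1], by rw [h6.2.1, h2], by rw [h6.1, h3], h5⟩

theorem trans1 (p p' : GolayPt) : ∃ g ∈ M24, g p = p' := by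
  obtain ⟨σ, hσ, h0⟩ := map1 p
  obtain ⟨τ, hτ, h0'⟩ := map1 p'
  rw [fixG_nil] at hσ hτ
  refine ⟨τ * σ⁻¹, M24.mul_mem hτ (M24.inv_mem hσ), ?_⟩
  rw [Equiv.Perm.mul_apply, ← h0, Equiv.Perm.coe_inv, Equiv.symm_apply_apply, h0']

theorem trans2 (p q p' q' : GolayPt) (h : p ≠ q) (h' : p' ≠ q') :
    ∃ g ∈ M24, g p = p' ∧ g q = q' := by
  obtain ⟨σ, hσ, h0, h1⟩ := map2 p q h
  obtain ⟨τ, hτ, h0', h1'⟩ := map2 p' q' h'
  rw [fixG_nil] at hσ hτ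
  refine ⟨τ * σ⁻¹, M24.mul_mem hτ (M24.inv_mem hσ), ?_, ?_⟩
  · rw [Equiv.Perm.mul_apply, ← h0, Equiv.Perm.coe_inv, Equiv.symm_apply_apply, h0']
  · rw [Equiv.Perm.mul_apply, ← h1, Equiv.Perm.coe_inv, Equiv.symm_apply_apply, h1']

theorem trans3 (p q r p' q' r' : GolayPt) (h1 : p ≠ q) (h2 : p ≠ r) (h3 : q ≠ r)
    (h1' : p' ≠ q') (h2' : p' ≠ r') (h3' : q' ≠ r') :
    ∃ g ∈ M24, g p = p' ∧ g q = q' ∧ g r = r' := by
  obtain ⟨σ, hσ, e0, e1, e2⟩ := map3 p q r h1 h2 h3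
  obtain ⟨τ, hτ, e0', e1', e2'⟩ := map3 p' q' r' h1' h2' h3'
  rw [fixG_nil] at hσ hτ
  refine ⟨τ * σ⁻¹, M24.mul_mem hτ (M24.inv_mem hσ), ?_, ?_, ?_⟩
  · rw [Equiv.Perm.mul_apply, ← e0, Equiv.Perm.coe_inv, Equiv.symm_apply_apply, e0']
  · rw [Equiv.Perm.mul_apply, ← e1, Equiv.Perm.coe_inv, Equiv.symm_apply_apply, e1']
  · rw [Equiv.Perm.mul_apply, ← e2, Equiv.Perm.coe_inv, Equiv.symm_apply_apply, e2']

theorem five_trans (x y : Fin 5 ↪ GolayPt) : ∃ g ∈ M24, ∀ i, g (x i) = y i := by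
  have hx : ∀ i j : Fin 5, i ≠ j → x i ≠ x j := fun i j h e => h (x.injective e)
  have hy : ∀ i j : Fin 5, i ≠ j → y i ≠ y j := fun i j h e => h (y.injective e)
  obtain ⟨σ, hσ, e0, e1, e2, e3, e4⟩ := map5 (x 0) (x 1) (x 2) (x 3) (x 4)
    (hx _ _ (by decide)) (hx _ _ (by decide)) (hx _ _ (by decide)) (hx _ _ (by decide))
    (hx _ _ (by decide)) (hx _ _ (by decide)) (hx _ _ (by decide)) (hx _ _ (by decide))
    (hx _ _ (by decide)) (hx _ _ (by decide))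
  obtain ⟨τ, hτ, e0', e1', e2', e3', e4'⟩ := map5 (y 0) (y 1) (y 2) (y 3) (y 4)
    (hy _ _ (by decide)) (hy _ _ (by decide)) (hy _ _ (by decide)) (hy _ _ (by decide))
    (hy _ _ (by decide)) (hy _ _ (by decide)) (hy _ _ (by decide)) (hy _ _ (by decide))
    (hy _ _ (by decide)) (hy _ _ (by decide))
  rw [fixG_nil] at hσ hτ
  refine ⟨τ * σ⁻¹, M24.mul_mem hτ (M24.inv_mem hσ), ?_⟩
  intro i
  fin_cases i
  · show (τ * σ⁻¹) (x 0) = y 0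
    rw [Equiv.Perm.mul_apply, ← e0, Equiv.Perm.coe_inv, Equiv.symm_apply_apply, e0']
  · show (τ * σ⁻¹) (x 1) = y 1
    rw [Equiv.Perm.mul_apply, ← e1, Equiv.Perm.coe_inv, Equiv.symm_apply_apply, e1']
  · show (τ * σ⁻¹) (x 2) = y 2
    rw [Equiv.Perm.mul_apply, ← e2, Equiv.Perm.coe_inv, Equiv.symm_apply_apply, e2']
  · show (τ * σ⁻¹) (x 3) = y 3
    rw [Equiv.Perm.mul_apply, ← e3, Equiv.Perm.coe_inv, Equiv.symm_apply_apply, e3']
  · show (τ * σ⁻¹) (x 4) = y 4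
    rw [Equiv.Perm.mul_apply, ← e4, Equiv.Perm.coe_inv, Equiv.symm_apply_apply, e4']

theorem smul_mem_octads {g : Equiv.Perm GolayPt} (hg : g ∈ M24) {o : Finset GolayPt}
    (ho : o ∈ octads) : g • o ∈ octads :=
  ⟨smul_mem_supports hg ho.1, by rw [Finset.card_smul_finset]; exact ho.2⟩

theorem smul_mem_dodecads {g : Equiv.Perm GolayPt} (hg : g ∈ M24) {d : Finset GolayPt}
    (hd : d ∈ dodecads) : g • d ∈ dodecads :=
  ⟨smul_mem_supports hg hd.1, by rw [Finset.card_smul_finset]; exact hd.2⟩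

theorem octad_trans {o o' : Finset GolayPt} (ho : o ∈ octads) (ho' : o' ∈ octads) :
    ∃ g ∈ M24, g • o = o' := by
  obtain ⟨s, hs, hs5⟩ := Finset.exists_subset_card_eq (s := o) (n := 5) (by rw [ho.2]; norm_num)
  obtain ⟨s', hs', hs5'⟩ := Finset.exists_subset_card_eq (s := o') (n := 5)
    (by rw [ho'.2]; norm_num)
  let e := Finset.equivFinOfCardEq hs5
  let e' := Finset.equivFinOfCardEq hs5'
  let x : Fin 5 ↪ GolayPt := ⟨fun i => (e.symm i : GolayPt), fun i j h =>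
    e.symm.injective (Subtype.ext h)⟩
  let y : Fin 5 ↪ GolayPt := ⟨fun i => (e'.symm i : GolayPt), fun i j h =>
    e'.symm.injective (Subtype.ext h)⟩
  obtain ⟨g, hg, hgxy⟩ := five_trans x y
  refine ⟨g, hg, ?_⟩
  by_contra hne
  have h1 := octads_inter_le (smul_mem_octads hg ho) ho' hne
  have h2 : s' ⊆ g • o ∩ o' := by
    intro p hp
    rw [Finset.mem_inter]
    refine ⟨?_, hs' hp⟩
    have h3 : p = y (e' ⟨p, hp⟩) := by
      show p = ((e'.symm (e' ⟨p, hp⟩) : s') : GolayPt)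
      rw [Equiv.symm_apply_apply]
    rw [h3, ← hgxy]
    apply Finset.smul_mem_smul_finset
    exact hs (e.symm (e' ⟨p, hp⟩)).2
  have h4 := Finset.card_le_card h2
  omega

end Cfsg.Agent.Lib.Helper3.M24Trans
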