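import Mathlib
import Cfsg.Prelude.Def_Sporadic_a
import Cfsg.Agent.Lib.Helper3.Golay
import Cfsg.Agent.Lib.Helper3.Golay2
import Cfsg.Agent.Lib.Helper3.GolayM24
import Cfsg.Agent.Lib.Helper3.M24Perm
import Cfsg.Agent.Lib.Helper3.M24Cert
import Cfsg.Agent.Lib.Helper3.M24Order
import Cfsg.Agent.Lib.Helper3.M24Trans

set_option autoImplicit false

namespace Cfsg.Agent.Lib.Helper3.M24Aut

open Cfsg Cfsg.Agent.Lib.Helper3.Golay Cfsg.Agent.Lib.Helper3.Golay2
open Cfsg.Agent.Lib.Helper3.GolayM24 Cfsg.Agent.Lib.Helper3.M24Perm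
open Cfsg.Agent.Lib.Helper3.M24Cert Cfsg.Agent.Lib.Helper3.M24Order
open Cfsg.Agent.Lib.Helper3.M24Trans
open scoped Pointwise

/-- twelve octads (as masks) spanning the code -/
def octL : List ℕ := [3277413, 6053905, 6554826, 2702848, 3719203, 1337732, 4424227, 545190, 2269481, 4538962, 4336072, 8414120]

def phiL : List ℕ := [46, 7, 54, 30, 43, 33, 105, 152, 280, 537, 1065, 2075]

theorem octL_ok : octL.all (fun g => Nat.beq (cw (kOf g)) g && Nat.beq (pc g) 8) = true := by
  decide +kernel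

theorem span_ok :
    (List.range 4096).all (fun k => Nat.beq (cw k) (comb octL (comb phiL k))) = true := by
  decide +kernel

theorem octL_mem : ∀ g ∈ octL, ms g ∈ octads := by
  intro g hg
  have h := octL_ok
  rw [List.all_eq_true] at h
  have h1 := h g hg
  simp only [Bool.and_eq_true] at h1
  have e1 : cw (kOf g) = g := Nat.eq_of_beq_eq_true h1.1
  have e2 : pc g = 8 := Nat.eq_of_beq_eq_true h1.2
  refine ⟨?_, by rw [card_ms, e2]⟩
  rw [ms_eq_support, ← e1]
  exact ⟨dec (cw (kOf g)), dec_cw_mem _, rfl⟩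

/-- every codeword is a sum of octad words -/
theorem cw_eq_comb_oct {k : ℕ} (hk : k < 4096) : cw k = comb octL (comb phiL k) := by
  have h := span_ok
  rw [List.all_eq_true] at h
  exact Nat.eq_of_beq_eq_true (h k (List.mem_range.mpr hk))

theorem smul_octads_eq {σ : Equiv.Perm GolayPt} (hσ : σ ∈ M24) : σ • octads = octads := by
  apply Set.Subset.antisymm
  · rintro _ ⟨o, ho, rfl⟩
    exact smul_mem_octads hσ ho
  · intro o ho
    refine ⟨σ⁻¹ • o, smul_mem_octads (M24.inv_mem hσ) ho, ?_⟩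
    simp

theorem mem_M24_of_smul_octads {σ : Equiv.Perm GolayPt} (hσ : σ • octads = octads) :
    σ ∈ M24 := by
  apply mem_M24_of_comp
  intro w hw
  obtain ⟨k, hk, rfl⟩ := (mem_golayCode_iff w).mp hw
  rw [cw_eq_comb_oct hk]
  refine comb_induction (fun x => x ∘ σ.symm ∈ golayCode) (Submodule.zero_mem _)
    (fun x y hx hy => Submodule.add_mem _ hx hy) octL ?_ _
  intro g hg
  show dec g ∘ σ.symm ∈ golayCode
  have h1 : σ • ms g ∈ octads := by
    rw [← hσ]
    exact Set.smul_mem_smul_set (octL_mem g hg)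
  obtain ⟨w', hw', h2⟩ := h1.1
  rw [ms_eq_support, smul_support] at h2
  rw [← support_injective h2]
  exact hw'

theorem M24_eq_octadAut : M24 = setSystemAut octads := by
  ext σ
  show σ ∈ M24 ↔ σ • octads = octads
  exact ⟨smul_octads_eq, mem_M24_of_smul_octads⟩

end Cfsg.Agent.Lib.Helper3.M24Aut
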