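import Mathlib
import Cfsg.Prelude.Def_Sporadic_a
import Cfsg.Agent.Lib.Helper3.Golay
import Cfsg.Agent.Lib.Helper3.Golay2
import Cfsg.Agent.Lib.Helper3.GolayM24
import Cfsg.Agent.Lib.Helper3.M24Perm
import Cfsg.Agent.Lib.Helper3.M24Cert

set_option autoImplicit false

namespace Cfsg.Agent.Lib.Helper3.M24Cert2

open Cfsg Cfsg.Agent.Lib.Helper3.Golay Cfsg.Agent.Lib.Helper3.Golay2
open Cfsg.Agent.Lib.Helper3.GolayM24 Cfsg.Agent.Lib.Helper3.M24Perm
open Cfsg.Agent.Lib.Helper3.M24Cert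
open scoped Pointwise

theorem level_strip {Ds F ts : List ℕ} {b target n : ℕ}
    (h : levelCheck Ds F ts b target n = true) (hbF : ∀ i ∈ F, i ≠ b)
    {g : Equiv.Perm GolayPt} (hg : g ∈ fixG Ds F) :
    ∃ T ∈ ts, inFix Ds F T = true ∧ (tp T)⁻¹ * g ∈ fixG Ds (b :: F) := by
  have hp := level_sub h hg hbF
  simp only [levelCheck, Bool.and_eq_true] at h
  obtain ⟨⟨⟨hb, _⟩, hcov⟩, _⟩ := h
  have hb' : b < 24 := by simpa using hb
  unfold covOK at hcov
  rw [List.all_eq_true] at hcov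
  have h3 := hcov (idx (g (pt b))) (List.mem_range.mpr (idx_lt _))
  rw [mem_ms] at hp
  simp only [hp, Bool.not_true, Bool.false_or, List.any_eq_true, Bool.and_eq_true] at h3
  obtain ⟨T, hT, h4, h5⟩ := h3
  refine ⟨T, hT, h5, ?_⟩
  rw [mem_fixG_cons]
  refine ⟨(fixG Ds F).mul_mem ((fixG Ds F).inv_mem (tp_mem_fixG h5)) hg, ?_⟩
  have h6 : tp T (pt b) = g (pt b) := by
    rw [tp_pt (inFix_good h5) hb', Nat.eq_of_beq_eq_true h4, pt_idx]
  rw [Equiv.Perm.smul_def, Equiv.Perm.mul_apply, ← h6, Equiv.Perm.coe_inv, Equiv.symm_apply_apply]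

theorem level_enum {Ds F ts : List ℕ} {b target n : ℕ}
    (h : levelCheck Ds F ts b target n = true) (hbF : ∀ i ∈ F, i ≠ b)
    (hbot : fixG Ds (b :: F) = ⊥) {g : Equiv.Perm GolayPt} (hg : g ∈ fixG Ds F) :
    ∃ T ∈ ts, inFix Ds F T = true ∧ g = tp T := by
  obtain ⟨T, hT, h1, h2⟩ := level_strip h hbF hg
  rw [hbot, Subgroup.mem_bot] at h2
  exact ⟨T, hT, h1, (inv_mul_eq_one.mp h2).symm⟩

/-- conjugating the pointwise stabiliser of a set. -/
theorem card_fixing_smul {h : Equiv.Perm GolayPt} (hh : h ∈ M24) (s : Finset GolayPt) :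
    Nat.card ↥(M24 ⊓ fixingSubgroup (Equiv.Perm GolayPt) ((h • s : Finset GolayPt) : Set GolayPt)) =
      Nat.card ↥(M24 ⊓ fixingSubgroup (Equiv.Perm GolayPt) (s : Set GolayPt)) := by
  apply Nat.card_congr
  refine ⟨fun x => ⟨h⁻¹ * x.1 * h, ?_⟩, fun y => ⟨h * y.1 * h⁻¹, ?_⟩, ?_, ?_⟩
  · obtain ⟨x, hx⟩ := x
    rw [Subgroup.mem_inf, mem_fixingSubgroup_iff] at hx ⊢
    refine ⟨M24.mul_mem (M24.mul_mem (M24.inv_mem hh) hx.1) hh, ?_⟩
    intro p hp
    have h1 : h p ∈ ((h • s : Finset GolayPt) : Set GolayPt) := by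
      rw [Finset.mem_coe]
      exact Finset.smul_mem_smul_finset (Finset.mem_coe.mp hp)
    have h2 := hx.2 (h p) h1
    simp only [Equiv.Perm.smul_def] at h2
    simp only [Equiv.Perm.smul_def, Equiv.Perm.mul_apply, h2, Equiv.Perm.coe_inv,
      Equiv.symm_apply_apply]
  · obtain ⟨y, hy⟩ := y
    rw [Subgroup.mem_inf, mem_fixingSubgroup_iff] at hy ⊢
    refine ⟨M24.mul_mem (M24.mul_mem hh hy.1) (M24.inv_mem hh), ?_⟩
    intro p hp
    rw [Finset.mem_coe, ← Finset.inv_smul_mem_iff] at hp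
    have h2 := hy.2 (h⁻¹ p) (Finset.mem_coe.mpr hp)
    simp only [Equiv.Perm.smul_def] at h2
    rw [Equiv.Perm.smul_def, Equiv.Perm.mul_apply, Equiv.Perm.mul_apply, h2]
    simp only [Equiv.Perm.coe_inv, Equiv.apply_symm_apply]
  · intro x
    apply Subtype.ext
    simp only
    group
  · intro y
    apply Subtype.ext
    simp only
    group

theorem sq_fixing_smul {h : Equiv.Perm GolayPt} (hh : h ∈ M24) (s : Finset GolayPt)
    (hs : ∀ g ∈ M24 ⊓ fixingSubgroup (Equiv.Perm GolayPt) (s : Set GolayPt), g * g = 1) :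
    ∀ g ∈ M24 ⊓ fixingSubgroup (Equiv.Perm GolayPt) ((h • s : Finset GolayPt) : Set GolayPt),
      g * g = 1 := by
  intro x hx
  have h0 : h⁻¹ * x * h ∈ M24 ⊓ fixingSubgroup (Equiv.Perm GolayPt) (s : Set GolayPt) := by
    rw [Subgroup.mem_inf, mem_fixingSubgroup_iff] at hx ⊢
    refine ⟨M24.mul_mem (M24.mul_mem (M24.inv_mem hh) hx.1) hh, ?_⟩
    intro p hp
    have h1 : h p ∈ ((h • s : Finset GolayPt) : Set GolayPt) := by
      rw [Finset.mem_coe]
      exact Finset.smul_mem_smul_finset (Finset.mem_coe.mp hp)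
    have h2 := hx.2 (h p) h1
    simp only [Equiv.Perm.smul_def] at h2
    simp only [Equiv.Perm.smul_def, Equiv.Perm.mul_apply, h2, Equiv.Perm.coe_inv,
      Equiv.symm_apply_apply]
  have h3 := hs _ h0
  have h4 : h⁻¹ * x * h * (h⁻¹ * x * h) = h⁻¹ * (x * x) * h := by group
  rw [h4] at h3
  have h5 : x * x = h * (h⁻¹ * (x * x) * h) * h⁻¹ := by group
  rw [h5, h3]
  group

end Cfsg.Agent.Lib.Helper3.M24Cert2
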