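import Mathlib
import Cfsg.Prelude.Def_Sporadic_a
import Cfsg.Agent.Lib.Helper3.Golay
import Cfsg.Agent.Lib.Helper3.Golay2
import Cfsg.Agent.Lib.Helper3.GolayM24
import Cfsg.Agent.Lib.Helper3.M24Perm
import Cfsg.Agent.Lib.Helper3.M24Cert
import Cfsg.Agent.Lib.Helper3.M24Cert2
import Cfsg.Agent.Lib.Helper3.M24Order
import Cfsg.Agent.Lib.Helper3.M24Trans

set_option autoImplicit false

namespace Cfsg.Agent.Lib.Helper3.M24Oct

open Cfsg Cfsg.Agent.Lib.Helper3.Golay Cfsg.Agent.Lib.Helper3.Golay2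
open Cfsg.Agent.Lib.Helper3.GolayM24 Cfsg.Agent.Lib.Helper3.M24Perm
open Cfsg.Agent.Lib.Helper3.M24Cert Cfsg.Agent.Lib.Helper3.M24Cert2
open Cfsg.Agent.Lib.Helper3.M24Order Cfsg.Agent.Lib.Helper3.M24Trans
open scoped Pointwise

theorem ts7_fix : ts7.all (fun T => (List.range 24).all
    (fun i => !((cw 345).testBit i) || Nat.beq (ent T i) i)) = true := by
  decide +kernel

theorem ts7_inv : ts7.all (fun T => (List.range 24).all
    (fun i => Nat.beq (ent T (ent T i)) i)) = true := by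
  decide +kernel

theorem base_in_o0 : ∀ i ∈ ([7, 4, 3, 2, 1, 0] : List ℕ), (cw 345).testBit i = true := by
  decide +kernel

theorem pc_o0 : pc (cw 345) = 8 := by
  decide +kernel

theorem o0_mem_octads : ms (cw 345) ∈ octads :=
  ⟨(mem_supports_iff _).mpr ⟨345, by norm_num, ms_cw 345⟩, by rw [card_ms, pc_o0]⟩

theorem K0_enum {g : Equiv.Perm GolayPt} (hg : g ∈ fixG [cw 345] [7, 4, 3, 2, 1, 0]) :
    ∃ T ∈ ts7, inFix [cw 345] [7, 4, 3, 2, 1, 0] T = true ∧ g = tp T :=
  level_enum lvl7 (by decide) (fix7_eq_bot _) hg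

theorem smul_eq_of_fix {g : Equiv.Perm GolayPt} {s : Finset GolayPt}
    (h : ∀ p ∈ s, g p = p) : g • s = s := by
  ext p
  rw [← Finset.inv_smul_mem_iff]
  constructor
  · intro hp
    have h1 := h _ hp
    rw [Equiv.Perm.smul_def] at h1 hp
    have h2 : g (g⁻¹ p) = p := by
      simp only [Equiv.Perm.coe_inv, Equiv.apply_symm_apply]
    rw [h2] at h1
    rw [← h1] at hp
    exact hp
  · intro hp
    have h1 := h _ hp
    have h2 : g⁻¹ • p = p := by
      rw [Equiv.Perm.smul_def, Equiv.Perm.inv_eq_iff_eq, h1]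
    rw [h2]
    exact hp

theorem K0_eq : M24 ⊓ fixingSubgroup (Equiv.Perm GolayPt) (ms (cw 345) : Set GolayPt) =
    fixG [cw 345] [7, 4, 3, 2, 1, 0] := by
  ext g
  rw [Subgroup.mem_inf, mem_fixingSubgroup_iff]
  constructor
  · rintro ⟨h1, h2⟩
    have h3 : ∀ p ∈ ms (cw 345), g p = p := fun p hp => h2 p (Finset.mem_coe.mpr hp)
    refine ⟨h1, ?_, ?_⟩
    · intro D hD
      rw [List.mem_singleton] at hD
      rw [hD]
      exact smul_eq_of_fix h3
    · intro i hi
      apply h3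
      have h4 : i < 24 := by
        revert i
        decide
      rw [pt_mem_ms h4]
      exact base_in_o0 i hi
  · intro hg
    refine ⟨hg.1, ?_⟩
    obtain ⟨T, hT, h1, rfl⟩ := K0_enum hg
    intro p hp
    rw [Finset.mem_coe, mem_ms] at hp
    have h2 := ts7_fix
    rw [List.all_eq_true] at h2
    have h3 := h2 T hT
    rw [List.all_eq_true] at h3
    have h4 := h3 (idx p) (List.mem_range.mpr (idx_lt p))
    simp only [hp, Bool.not_true, Bool.false_or] at h4
    have h5 := tp_pt (inFix_good h1) (idx_lt p)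
    rw [pt_idx, Nat.eq_of_beq_eq_true h4, pt_idx] at h5
    exact h5

theorem card_K0 : Nat.card ↥(fixG [cw 345] [7, 4, 3, 2, 1, 0]) = 16 := by
  have h7 := level_card lvl7 (by decide)
  rw [h7, fix7_eq_bot, Subgroup.card_bot]

theorem sq_K0 : ∀ g ∈ fixG [cw 345] [7, 4, 3, 2, 1, 0], g * g = 1 := by
  intro g hg
  obtain ⟨T, hT, h1, rfl⟩ := K0_enum hg
  have hgood := inFix_good h1
  ext p
  have h2 := ts7_inv
  rw [List.all_eq_true] at h2
  have h3 := h2 T hT
  rw [List.all_eq_true] at h3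
  have h4 := h3 (idx p) (List.mem_range.mpr (idx_lt p))
  have h5 := tp_pt hgood (idx_lt p)
  rw [pt_idx] at h5
  rw [Equiv.Perm.mul_apply, h5, tp_pt hgood (good_lt hgood _ (idx_lt p)),
    Nat.eq_of_beq_eq_true h4, pt_idx]
  rfl

theorem octad_pointwise (o : Finset GolayPt) (ho : o ∈ octads) :
    Nat.card ↥(M24 ⊓ fixingSubgroup (Equiv.Perm GolayPt) (o : Set GolayPt)) = 16 ∧
    ∀ g ∈ M24 ⊓ fixingSubgroup (Equiv.Perm GolayPt) (o : Set GolayPt), g * g = 1 := by
  obtain ⟨h, hh, rfl⟩ := octad_trans o0_mem_octads ho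
  constructor
  · rw [card_fixing_smul hh, K0_eq, card_K0]
  · apply sq_fixing_smul hh
    rw [K0_eq]
    exact sq_K0

end Cfsg.Agent.Lib.Helper3.M24Oct
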