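import Mathlib
import Cfsg.Prelude.Def_Sporadic_a
import Cfsg.Agent.Lib.Helper3.Golay
import Cfsg.Agent.Lib.Helper3.Golay2
import Cfsg.Agent.Lib.Helper3.GolayM24
import Cfsg.Agent.Lib.Helper3.M24Perm
import Cfsg.Agent.Lib.Helper3.M24Cert
import Cfsg.Agent.Lib.Helper3.M24Cert2
import Cfsg.Agent.Lib.Helper3.M24Order
import Cfsg.Agent.Lib.Helper3.M24Trans
import Cfsg.Agent.Lib.Helper3.M24Oct
import Cfsg.Agent.Lib.Helper3.M24Dod
import Cfsg.Agent.Lib.Helper3.M24Orb

set_option autoImplicit false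

namespace Cfsg.Agent.Lib.Helper3.M24Cls

open Cfsg Cfsg.Agent.Lib.Helper3.Golay Cfsg.Agent.Lib.Helper3.Golay2
open Cfsg.Agent.Lib.Helper3.GolayM24 Cfsg.Agent.Lib.Helper3.M24Perm
open Cfsg.Agent.Lib.Helper3.M24Cert Cfsg.Agent.Lib.Helper3.M24Cert2
open Cfsg.Agent.Lib.Helper3.M24Order Cfsg.Agent.Lib.Helper3.M24Trans
open Cfsg.Agent.Lib.Helper3.M24Oct Cfsg.Agent.Lib.Helper3.M24Dod
open Cfsg.Agent.Lib.Helper3.M24Orb
open scoped Pointwise

/-- label check: a word index with nonzero label lies in the listed orbit of its label. -/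
def labOK (lab : ℕ → ℕ) (Ws : List (ℕ × ℕ)) (k : ℕ) : Bool :=
  Nat.beq (lab k) 0 || Ws.any (fun p => Nat.beq (lab k) p.1 && p.2.testBit k)

def distOK' (Ws : List (ℕ × ℕ)) : Bool :=
  Ws.all (fun p => Ws.all (fun q => !(Nat.beq p.1 q.1) || Nat.beq p.2 q.2))

theorem lab_trans {Ds F gs : List ℕ} (lab : ℕ → ℕ) (Ws : List (ℕ × ℕ))
    (hgs : gs.all (inFix Ds F) = true)
    (horb : ∀ p ∈ Ws, ∃ steps k0, orbCheck gs steps (2 ^ k0) = p.2)
    (hdist : distOK' Ws = true)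
    (hall : (List.range 4096).all (labOK lab Ws) = true)
    {k k' : ℕ} (hk : k < 4096) (hk' : k' < 4096) (h0 : lab k ≠ 0) (h : lab k = lab k') :
    ∃ σ ∈ fixG Ds F, σ • ms (cw k) = ms (cw k') := by
  rw [List.all_eq_true] at hall
  have key : ∀ j < 4096, lab j ≠ 0 →
      ∃ p ∈ Ws, lab j = p.1 ∧ p.2.testBit j = true := by
    intro j hj hwj
    have h1 := hall j (List.mem_range.mpr hj)
    simp only [labOK, Bool.or_eq_true, List.any_eq_true, Bool.and_eq_true] at h1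
    rcases h1 with h1 | ⟨p, hp, h2, h3⟩
    · exact absurd (Nat.eq_of_beq_eq_true h1) hwj
    · exact ⟨p, hp, Nat.eq_of_beq_eq_true h2, h3⟩
  simp only [distOK', List.all_eq_true, Bool.or_eq_true, Bool.not_eq_true'] at hdist
  have heq : ∀ p ∈ Ws, ∀ q ∈ Ws, p.1 = q.1 → p.2 = q.2 := by
    intro p hp q hq e
    rcases hdist p hp q hq with h1 | h1
    · rw [e] at h1
      simp at h1
    · exact Nat.eq_of_beq_eq_true h1
  obtain ⟨p, hp, e1, b1⟩ := key k hk h0
  obtain ⟨q, hq, e2, b2⟩ := key k' hk' (by rw [← h]; exact h0)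
  have h5 : p.2 = q.2 := heq p hp q hq (by rw [← e1, ← e2, h])
  obtain ⟨steps, k0, hW⟩ := horb p hp
  rw [← h5] at b2
  exact orb_pair hgs hW b1 b2

/-- structured label: words of weight `wt` containing the points `on`, avoiding the points `off`,
labelled by (size of the meet with `cw c`) + 1. -/
def labF (wt c : ℕ) (on off : List ℕ) (k : ℕ) : ℕ :=
  bif Nat.beq (pc (cw k)) wt && on.all (fun i => (cw k).testBit i) &&
      off.all (fun i => !(cw k).testBit i)
  then pc (cw c &&& cw k) + 1 else 0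

theorem labF_eq {wt c : ℕ} {on off : List ℕ} {k : ℕ} (hw : pc (cw k) = wt)
    (hon : ∀ i ∈ on, (cw k).testBit i = true) (hoff : ∀ i ∈ off, (cw k).testBit i = false) :
    labF wt c on off k = pc (cw c &&& cw k) + 1 := by
  have h1 : (Nat.beq (pc (cw k)) wt && on.all (fun i => (cw k).testBit i) &&
      off.all (fun i => !(cw k).testBit i)) = true := by
    simp only [Bool.and_eq_true, List.all_eq_true, Bool.not_eq_true']
    exact ⟨⟨by rw [hw]; exact Nat.beq_refl wt, hon⟩, hoff⟩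
  simp only [labF, h1, cond_true]

theorem labF_ne_zero {wt c : ℕ} {on off : List ℕ} {k : ℕ} (h : labF wt c on off k ≠ 0) :
    pc (cw k) = wt ∧ (∀ i ∈ on, (cw k).testBit i = true) ∧
      (∀ i ∈ off, (cw k).testBit i = false) ∧ labF wt c on off k = pc (cw c &&& cw k) + 1 := by
  cases h1 : (Nat.beq (pc (cw k)) wt && on.all (fun i => (cw k).testBit i) &&
      off.all (fun i => !(cw k).testBit i))
  · simp only [labF, h1, cond_false] at h
    exact absurd rfl h
  · have h2 := h1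
    simp only [Bool.and_eq_true, List.all_eq_true, Bool.not_eq_true'] at h2
    refine ⟨Nat.eq_of_beq_eq_true h2.1.1, h2.1.2, h2.2, ?_⟩
    simp only [labF, h1, cond_true]

theorem labF_trans {Ds F gs : List ℕ} {wt c : ℕ} {on off : List ℕ} (Ws : List (ℕ × ℕ))
    (hgs : gs.all (inFix Ds F) = true)
    (horb : ∀ p ∈ Ws, ∃ steps k0, orbCheck gs steps (2 ^ k0) = p.2)
    (hdist : distOK' Ws = true)
    (hall : (List.range 4096).all (labOK (labF wt c on off) Ws) = true)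
    (hon24 : ∀ i ∈ on, i < 24) (hoff24 : ∀ i ∈ off, i < 24)
    {b b' : Finset GolayPt}
    (hb : b ∈ wordsOfWeight (golayCode : Set (GolayPt → ZMod 2)) wt)
    (hb' : b' ∈ wordsOfWeight (golayCode : Set (GolayPt → ZMod 2)) wt)
    (hon : ∀ i ∈ on, pt i ∈ b) (hoff : ∀ i ∈ off, pt i ∉ b)
    (hon' : ∀ i ∈ on, pt i ∈ b') (hoff' : ∀ i ∈ off, pt i ∉ b')
    (h : (ms (cw c) ∩ b).card = (ms (cw c) ∩ b').card) :
    ∃ σ ∈ fixG Ds F, σ • b = b' := by
  obtain ⟨k, hk, rfl⟩ := (mem_supports_iff b).mp hb.1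
  obtain ⟨k', hk', rfl⟩ := (mem_supports_iff b').mp hb'.1
  have h1 : pc (cw k) = wt := by
    rw [← card_supp]
    exact hb.2
  have h1' : pc (cw k') = wt := by
    rw [← card_supp]
    exact hb'.2
  rw [← ms_cw] at hon hoff h ⊢
  rw [← ms_cw] at hon' hoff' h ⊢
  rw [card_ms_inter, card_ms_inter] at h
  have e1 : labF wt c on off k = pc (cw c &&& cw k) + 1 := labF_eq h1
    (fun i hi => (pt_mem_ms (hon24 i hi)).mp (hon i hi))
    (fun i hi => by
      have := hoff i hi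
      rw [pt_mem_ms (hoff24 i hi)] at this
      simpa using this)
  have e2 : labF wt c on off k' = pc (cw c &&& cw k') + 1 := labF_eq h1'
    (fun i hi => (pt_mem_ms (hon24 i hi)).mp (hon' i hi))
    (fun i hi => by
      have := hoff' i hi
      rw [pt_mem_ms (hoff24 i hi)] at this
      simpa using this)
  exact lab_trans (labF wt c on off) Ws hgs horb hdist hall hk hk' (by rw [e1]; omega)
    (by rw [e1, e2, h])

/-- counting a class of the structured label. -/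
theorem labF_count (wt c : ℕ) (on off : List ℕ) (i : ℕ)
    (hon24 : ∀ j ∈ on, j < 24) (hoff24 : ∀ j ∈ off, j < 24) :
    {b : Finset GolayPt | b ∈ wordsOfWeight (golayCode : Set (GolayPt → ZMod 2)) wt ∧
      (∀ j ∈ on, pt j ∈ b) ∧ (∀ j ∈ off, pt j ∉ b) ∧ (ms (cw c) ∩ b).card = i}.ncard =
      ((Finset.range 4096).filter (fun k => labF wt c on off k = i + 1)).card := by
  have h : {b : Finset GolayPt | b ∈ wordsOfWeight (golayCode : Set (GolayPt → ZMod 2)) wt ∧
      (∀ j ∈ on, pt j ∈ b) ∧ (∀ j ∈ off, pt j ∉ b) ∧ (ms (cw c) ∩ b).card = i} =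
      supp '' {k | k < 4096 ∧ labF wt c on off k = i + 1} := by
    ext b
    rw [wordsOfWeight_eq]
    constructor
    · rintro ⟨⟨k, ⟨hk, hw⟩, rfl⟩, hon, hoff, hi⟩
      refine ⟨k, ⟨hk, ?_⟩, rfl⟩
      rw [← ms_cw] at hon hoff hi
      rw [card_ms_inter] at hi
      rw [labF_eq hw (fun j hj => (pt_mem_ms (hon24 j hj)).mp (hon j hj))
        (fun j hj => by
          have := hoff j hj
          rw [pt_mem_ms (hoff24 j hj)] at this
          simpa using this), hi]
    · rintro ⟨k, ⟨hk, hl⟩, rfl⟩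
      obtain ⟨hw, hon, hoff, e⟩ := labF_ne_zero (wt := wt) (c := c) (on := on) (off := off)
        (k := k) (by rw [hl]; omega)
      rw [← ms_cw]
      refine ⟨⟨k, ⟨hk, hw⟩, (ms_cw k).symm⟩, fun j hj => (pt_mem_ms (hon24 j hj)).mpr (hon j hj),
        fun j hj => ?_, ?_⟩
      · rw [pt_mem_ms (hoff24 j hj), hoff j hj]
        simp
      · rw [card_ms_inter]
        omega
  rw [h, Set.InjOn.ncard_image]
  · rw [← Set.ncard_coe_finset]
    congr 1
    ext k
    simp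
  · intro k hk k' hk' h
    exact supp_injOn k hk.1 k' hk'.1 h

/-- transport of a count along a permutation. -/
theorem ncard_transport (σ : Equiv.Perm GolayPt) (P P' : Finset GolayPt → Prop)
    (h : ∀ b, P' (σ • b) ↔ P b) : {b | P' b}.ncard = {b | P b}.ncard := by
  have e : {b | P' b} = (fun b => σ • b) '' {b | P b} := by
    ext b
    constructor
    · intro hb
      refine ⟨σ⁻¹ • b, ?_, smul_inv_smul σ b⟩
      have := (h (σ⁻¹ • b)).mp (by rw [smul_inv_smul]; exact hb)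
      exact this
    · rintro ⟨b, hb, rfl⟩
      exact (h b).mpr hb
  rw [e, Set.ncard_image_of_injective _ (MulAction.injective σ)]

theorem apply_mem_smul_iff (σ : Equiv.Perm GolayPt) (p : GolayPt) (b : Finset GolayPt) :
    σ p ∈ σ • b ↔ p ∈ b :=
  Finset.smul_mem_smul_finset_iff σ

theorem card_smul_inter_smul (σ : Equiv.Perm GolayPt) (a b : Finset GolayPt) :
    (σ • a ∩ σ • b).card = (a ∩ b).card := by
  rw [← Finset.smul_finset_inter, Finset.card_smul_finset]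

theorem smul_mem_words_iff {σ : Equiv.Perm GolayPt} (hσ : σ ∈ M24) (wt : ℕ)
    (b : Finset GolayPt) :
    σ • b ∈ wordsOfWeight (golayCode : Set (GolayPt → ZMod 2)) wt ↔
      b ∈ wordsOfWeight (golayCode : Set (GolayPt → ZMod 2)) wt := by
  constructor
  · rintro ⟨h1, h2⟩
    refine ⟨?_, by rw [Finset.card_smul_finset] at h2; exact h2⟩
    have := smul_mem_supports (M24.inv_mem hσ) h1
    rwa [inv_smul_smul] at this
  · rintro ⟨h1, h2⟩
    exact ⟨smul_mem_supports hσ h1, by rw [Finset.card_smul_finset]; exact h2⟩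

theorem smul_mem_octads_iff {σ : Equiv.Perm GolayPt} (hσ : σ ∈ M24) (b : Finset GolayPt) :
    σ • b ∈ octads ↔ b ∈ octads := smul_mem_words_iff hσ 8 b

theorem smul_mem_dodecads_iff {σ : Equiv.Perm GolayPt} (hσ : σ ∈ M24) (b : Finset GolayPt) :
    σ • b ∈ dodecads ↔ b ∈ dodecads := smul_mem_words_iff hσ 12 b

/-- conjugating an element of a standard stabiliser by a transport `σ`. -/
theorem conj_std {Ds F : List ℕ} {σ τ : Equiv.Perm GolayPt} (hσ : σ ∈ M24)
    (hτ : τ ∈ fixG Ds F) :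
    σ * τ * σ⁻¹ ∈ M24 ∧ (∀ D ∈ Ds, (σ * τ * σ⁻¹) • (σ • ms D) = σ • ms D) ∧
      (∀ i ∈ F, (σ * τ * σ⁻¹) (σ (pt i)) = σ (pt i)) ∧
      ∀ b b' : Finset GolayPt, τ • b = b' → (σ * τ * σ⁻¹) • (σ • b) = σ • b' := by
  refine ⟨M24.mul_mem (M24.mul_mem hσ hτ.1) (M24.inv_mem hσ), fun D hD => ?_, fun i hi => ?_,
    fun b b' hb => ?_⟩
  · rw [mul_smul, mul_smul, inv_smul_smul, hτ.2.1 D hD]
  · rw [Equiv.Perm.mul_apply, Equiv.Perm.mul_apply, Equiv.Perm.coe_inv, Equiv.symm_apply_apply,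
      hτ.2.2 i hi]
  · rw [mul_smul, mul_smul, inv_smul_smul, hb]

theorem card_inter_inv_smul (σ : Equiv.Perm GolayPt) (a b : Finset GolayPt) :
    (a ∩ σ⁻¹ • b).card = (σ • a ∩ b).card := by
  rw [← card_smul_inter_smul σ, smul_inv_smul]

theorem pt_mem_inv_smul_iff (σ : Equiv.Perm GolayPt) (p : GolayPt) (b : Finset GolayPt) :
    p ∈ σ⁻¹ • b ↔ σ p ∈ b :=
  Finset.mem_inv_smul_finset_iff

/-- pull a standard-configuration orbit statement back along a transport `σ`. -/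
theorem std_pull {Ds F : List ℕ} {σ : Equiv.Perm GolayPt} (hσ : σ ∈ M24) {b b' : Finset GolayPt}
    (h : ∃ τ ∈ fixG Ds F, τ • (σ⁻¹ • b) = σ⁻¹ • b') :
    ∃ g : Equiv.Perm GolayPt, g ∈ M24 ∧ (∀ D ∈ Ds, g • (σ • ms D) = σ • ms D) ∧
      (∀ i ∈ F, g (σ (pt i)) = σ (pt i)) ∧ g • b = b' := by
  obtain ⟨τ, hτ, e⟩ := h
  obtain ⟨h1, h2, h3, h4⟩ := conj_std hσ hτ
  refine ⟨σ * τ * σ⁻¹, h1, h2, h3, ?_⟩
  have := h4 _ _ e
  rwa [smul_inv_smul, smul_inv_smul] at this

end Cfsg.Agent.Lib.Helper3.M24Cls
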