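import Mathlib
import Cfsg.Prelude.Def_Sporadic_a
import Cfsg.Agent.Lib.Helper3.Golay
import Cfsg.Agent.Lib.Helper3.Golay2
import Cfsg.Agent.Lib.Helper3.GolayM24
import Cfsg.Agent.Lib.Helper3.M24Perm
import Cfsg.Agent.Lib.Helper3.M24Cert
import Cfsg.Agent.Lib.Helper3.M24Cert2
import Cfsg.Agent.Lib.Helper3.M24Order
import Cfsg.Agent.Lib.Helper3.M24Trans
import Cfsg.Agent.Lib.Helper3.M24Oct
import Cfsg.Agent.Lib.Helper3.M24Dod
import Cfsg.Agent.Lib.Helper3.M24Orb
import Cfsg.Agent.Lib.Helper3.M24Cls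
import Cfsg.Agent.Lib.Helper3.M24ClsA

set_option autoImplicit false

namespace Cfsg.Agent.Lib.Helper3.M24Frames

open Cfsg Cfsg.Agent.Lib.Helper3.Golay Cfsg.Agent.Lib.Helper3.Golay2
open Cfsg.Agent.Lib.Helper3.GolayM24 Cfsg.Agent.Lib.Helper3.M24Perm
open Cfsg.Agent.Lib.Helper3.M24Cert Cfsg.Agent.Lib.Helper3.M24Cert2
open Cfsg.Agent.Lib.Helper3.M24Order Cfsg.Agent.Lib.Helper3.M24Trans
open Cfsg.Agent.Lib.Helper3.M24Oct Cfsg.Agent.Lib.Helper3.M24Dod
open Cfsg.Agent.Lib.Helper3.M24Orb Cfsg.Agent.Lib.Helper3.M24Cls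
open Cfsg.Agent.Lib.Helper3.M24ClsA
open scoped Pointwise

theorem o0_bits : ∀ i ∈ ([0, 1] : List ℕ), (cw 345).testBit i = true := by
  decide +kernel

theorem o0_bit5 : (cw 345).testBit 5 = false := by
  decide +kernel

theorem pt0_mem_o0 : pt 0 ∈ ms (cw 345) := by
  rw [pt_mem_ms (by norm_num)]
  exact o0_bits 0 (by simp)

theorem pt1_mem_o0 : pt 1 ∈ ms (cw 345) := by
  rw [pt_mem_ms (by norm_num)]
  exact o0_bits 1 (by simp)

theorem pt5_not_mem_o0 : pt 5 ∉ ms (cw 345) := by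
  rw [pt_mem_ms (by norm_num), o0_bit5]
  simp

/-- flag transitivity: an octad with a point on it. -/
theorem octad_flag {o : Finset GolayPt} (ho : o ∈ octads) {x : GolayPt} (hx : x ∈ o) :
    ∃ σ ∈ M24, σ • ms (cw 345) = o ∧ σ (pt 0) = x := by
  obtain ⟨h1, hh1, rfl⟩ := octad_trans o0_mem_octads ho
  have hx' : h1⁻¹ x ∈ ms (cw 345) := by
    rw [← Finset.inv_smul_mem_iff] at hx
    exact hx
  obtain ⟨τ, hτ, a1, -⟩ := level_extend ol0 (σ := 1) (fixG [cw 345] []).one_mem (y := h1⁻¹ x)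
    (by simp) (by
      intro D hD
      rw [List.mem_singleton] at hD
      subst hD
      exact iff_of_true hx' (o0_bits 0 (by simp)))
  refine ⟨h1 * τ, M24.mul_mem hh1 hτ.1, ?_, ?_⟩
  · rw [mul_smul, hτ.2.1 (cw 345) (by simp)]
  · rw [Equiv.Perm.mul_apply, a1]
    simp

/-- an octad with a point off it. -/
theorem octad_antiflag {o : Finset GolayPt} (ho : o ∈ octads) {x : GolayPt} (hx : x ∉ o) :
    ∃ σ ∈ M24, σ • ms (cw 345) = o ∧ σ (pt 5) = x := by
  obtain ⟨h1, hh1, rfl⟩ := octad_trans o0_mem_octads ho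
  have hx' : h1⁻¹ x ∉ ms (cw 345) := by
    rw [← Finset.inv_smul_mem_iff] at hx
    exact hx
  obtain ⟨τ, hτ, a1, -⟩ := level_extend ol5 (σ := 1) (fixG [cw 345] []).one_mem (y := h1⁻¹ x)
    (by simp) (by
      intro D hD
      rw [List.mem_singleton] at hD
      subst hD
      exact iff_of_false hx' (by rw [o0_bit5]; simp))
  refine ⟨h1 * τ, M24.mul_mem hh1 hτ.1, ?_, ?_⟩
  · rw [mul_smul, hτ.2.1 (cw 345) (by simp)]
  · rw [Equiv.Perm.mul_apply, a1]
    simp

/-- an octad with two points on it. -/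
theorem octad_flag2 {o : Finset GolayPt} (ho : o ∈ octads) {p q : GolayPt} (hp : p ∈ o)
    (hq : q ∈ o) (hpq : p ≠ q) :
    ∃ σ ∈ M24, σ • ms (cw 345) = o ∧ σ (pt 0) = p ∧ σ (pt 1) = q := by
  obtain ⟨h1, hh1, rfl, e0⟩ := octad_flag ho hp
  have hq' : h1⁻¹ q ∈ ms (cw 345) := by
    rw [← Finset.inv_smul_mem_iff] at hq
    exact hq
  obtain ⟨τ, hτ, a1, a0⟩ := level_extend ol1 (σ := 1) (fixG [cw 345] []).one_mem (y := h1⁻¹ q)
    (by
      intro i hi
      rw [List.mem_singleton] at hi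
      subst hi
      intro e
      apply hpq
      rw [Equiv.Perm.one_apply] at e
      rw [← e0, e]
      simp) (by
      intro D hD
      rw [List.mem_singleton] at hD
      subst hD
      exact iff_of_true hq' (o0_bits 1 (by simp)))
  refine ⟨h1 * τ, M24.mul_mem hh1 hτ.1, ?_, ?_, ?_⟩
  · rw [mul_smul, hτ.2.1 (cw 345) (by simp)]
  · rw [Equiv.Perm.mul_apply, a0 0 (by simp), Equiv.Perm.one_apply, e0]
  · rw [Equiv.Perm.mul_apply, a1]
    simp

/-- an octad with a point on it and a point off it. -/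
theorem octad_flag_anti {o : Finset GolayPt} (ho : o ∈ octads) {p q : GolayPt} (hp : p ∈ o)
    (hq : q ∉ o) :
    ∃ σ ∈ M24, σ • ms (cw 345) = o ∧ σ (pt 0) = p ∧ σ (pt 5) = q := by
  obtain ⟨h1, hh1, rfl, e0⟩ := octad_flag ho hp
  have hq' : h1⁻¹ q ∉ ms (cw 345) := by
    rw [← Finset.inv_smul_mem_iff] at hq
    exact hq
  obtain ⟨τ, hτ, a1, a0⟩ := level_extend ol05 (σ := 1) (fixG [cw 345] []).one_mem (y := h1⁻¹ q)
    (by
      intro i hi
      rw [List.mem_singleton] at hi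
      subst hi
      intro e
      apply hq'
      rw [← e, Equiv.Perm.one_apply]
      exact pt0_mem_o0) (by
      intro D hD
      rw [List.mem_singleton] at hD
      subst hD
      exact iff_of_false hq' (by rw [o0_bit5]; simp))
  refine ⟨h1 * τ, M24.mul_mem hh1 hτ.1, ?_, ?_, ?_⟩
  · rw [mul_smul, hτ.2.1 (cw 345) (by simp)]
  · rw [Equiv.Perm.mul_apply, a0 0 (by simp), Equiv.Perm.one_apply, e0]
  · rw [Equiv.Perm.mul_apply, a1]
    simp

/-- a dodecad with three points on it. -/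
theorem dodecad_frame3 {d : Finset GolayPt} (hd : d ∈ dodecads) {p q r : GolayPt} (hp : p ∈ d)
    (hq : q ∈ d) (hr : r ∈ d) (hpq : p ≠ q) (hpr : p ≠ r) (hqr : q ≠ r) :
    ∃ σ ∈ M24, σ • ms (cw 1) = d ∧ σ (pt 0) = p ∧ σ (pt 1) = q ∧ σ (pt 2) = r := by
  obtain ⟨h1, hh1, rfl, e0⟩ := exists_std hd hp
  have hq' : h1⁻¹ q ∈ ms (cw 1) := by
    rw [← Finset.inv_smul_mem_iff] at hq
    exact hq
  have hr' : h1⁻¹ r ∈ ms (cw 1) := by
    rw [← Finset.inv_smul_mem_iff] at hr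
    exact hr
  have e0' : h1⁻¹ p = pt 0 := by
    rw [← e0]
    simp
  obtain ⟨τ, hτ, a1, a0⟩ := level_extend dl2 (σ := 1) (fixG [cw 1] []).one_mem (y := h1⁻¹ q)
    (by
      intro i hi
      rw [List.mem_singleton] at hi
      subst hi
      intro e
      apply hpq
      rw [Equiv.Perm.one_apply, ← e0'] at e
      exact (h1⁻¹).injective e) (by
      intro D hD
      rw [List.mem_singleton] at hD
      subst hD
      exact iff_of_true hq' (d0_bits 1 (by simp)))
  obtain ⟨τ', hτ', a2, a01⟩ := level_extend dl3 hτ (y := h1⁻¹ r)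
    (by
      intro i hi
      simp only [List.mem_cons, List.not_mem_nil, or_false] at hi
      rcases hi with rfl | rfl
      · rw [a1]
        intro e
        exact hqr ((h1⁻¹).injective e)
      · rw [a0 0 (by simp), Equiv.Perm.one_apply, ← e0']
        intro e
        exact hpr ((h1⁻¹).injective e)) (by
      intro D hD
      rw [List.mem_singleton] at hD
      subst hD
      exact iff_of_true hr' (d0_bits 2 (by simp)))
  refine ⟨h1 * τ', M24.mul_mem hh1 hτ'.1, ?_, ?_, ?_, ?_⟩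
  · rw [mul_smul, hτ'.2.1 (cw 1) (by simp)]
  · rw [Equiv.Perm.mul_apply, a01 0 (by simp), a0 0 (by simp), Equiv.Perm.one_apply, e0]
  · rw [Equiv.Perm.mul_apply, a01 1 (by simp), a1]
    simp
  · rw [Equiv.Perm.mul_apply, a2]
    simp

theorem card_M10 : Nat.card (fixG [cw 1] [1, 0]) = 720 := by
  have h1 := level_card dl2 (by decide)
  rw [card_M11] at h1
  omega

theorem card_M9 : Nat.card (fixG [cw 1] [2, 1, 0]) = 72 := by
  have h1 := level_card dl3 (by decide)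
  rw [card_M10] at h1
  omega

theorem compl_d0 : ∀ i < 24, (cw 1).testBit i = false → (Nat.testBit 16436384 i) = true := by
  decide +kernel

/-- the three-point stabiliser of the standard dodecad is transitive on the complement. -/
theorem M9_trans {x y : GolayPt} (hx : x ∉ ms (cw 1)) (hy : y ∉ ms (cw 1)) :
    ∃ g ∈ fixG [cw 1] [2, 1, 0], g x = y := by
  have key : ∀ z : GolayPt, z ∉ ms (cw 1) → z ∈ ms 16436384 := by
    intro z hz
    rw [mem_ms] at hz ⊢
    exact compl_d0 (idx z) (idx_lt z) (by simpa using hz)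
  obtain ⟨g1, hg1, e1⟩ := level_sup dl0125 (key x hx)
  obtain ⟨g2, hg2, e2⟩ := level_sup dl0125 (key y hy)
  refine ⟨g2 * g1⁻¹, (fixG [cw 1] [2, 1, 0]).mul_mem hg2 ((fixG [cw 1] [2, 1, 0]).inv_mem hg1), ?_⟩
  rw [Equiv.Perm.mul_apply, ← e1, Equiv.Perm.coe_inv, Equiv.symm_apply_apply, e2]

end Cfsg.Agent.Lib.Helper3.M24Frames
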