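import Mathlib
import Cfsg.Prelude.Def_Sporadic_a
import Cfsg.Agent.Lib.Helper3.Golay
import Cfsg.Agent.Lib.Helper3.Golay2
import Cfsg.Agent.Lib.Helper3.GolayM24
import Cfsg.Agent.Lib.Helper3.M24Perm
import Cfsg.Agent.Lib.Helper3.M24Cert
import Cfsg.Agent.Lib.Helper3.M24Cert2
import Cfsg.Agent.Lib.Helper3.M24Order
import Cfsg.Agent.Lib.Helper3.M24Trans
import Cfsg.Agent.Lib.Helper3.M24Oct
import Cfsg.Agent.Lib.Helper3.M24Cls
import Cfsg.Agent.Lib.Helper3.M24ClsA
import Cfsg.Agent.Lib.Helper3.M24Frames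

set_option autoImplicit false

namespace Cfsg.Agent.Lib.Helper3.M24OctA8

open Cfsg Cfsg.Agent.Lib.Helper3.Golay Cfsg.Agent.Lib.Helper3.Golay2
open Cfsg.Agent.Lib.Helper3.GolayM24 Cfsg.Agent.Lib.Helper3.M24Perm
open Cfsg.Agent.Lib.Helper3.M24Cert Cfsg.Agent.Lib.Helper3.M24Cert2
open Cfsg.Agent.Lib.Helper3.M24Order Cfsg.Agent.Lib.Helper3.M24Trans
open Cfsg.Agent.Lib.Helper3.M24Oct Cfsg.Agent.Lib.Helper3.M24Cls
open Cfsg.Agent.Lib.Helper3.M24ClsA Cfsg.Agent.Lib.Helper3.M24Frames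
open scoped Pointwise

theorem mem_iff_of_smul_eq {g : Equiv.Perm GolayPt} {o : Finset GolayPt} (h : g • o = o) :
    ∀ x, g x ∈ o ↔ x ∈ o := by
  intro x
  conv_lhs => rw [← h]
  exact Finset.smul_mem_smul_finset_iff g

theorem smul_eq_of_mem_iff {g : Equiv.Perm GolayPt} {o : Finset GolayPt}
    (h : ∀ x, g x ∈ o ↔ x ∈ o) : g • o = o := by
  ext x
  rw [← Finset.inv_smul_mem_iff]
  have h1 := h (g⁻¹ x)
  have e : g (g⁻¹ x) = x := by simp
  rw [e] at h1
  exact h1.symm

/-- the stabiliser of a set in the group of the code -/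
def stabO (o : Finset GolayPt) : Subgroup (Equiv.Perm GolayPt) :=
  M24 ⊓ MulAction.stabilizer (Equiv.Perm GolayPt) o

theorem mem_stabO {o : Finset GolayPt} {g : Equiv.Perm GolayPt} :
    g ∈ stabO o ↔ g ∈ M24 ∧ g • o = o :=
  ⟨fun h => ⟨(Subgroup.mem_inf.mp h).1, MulAction.mem_stabilizer_iff.mp (Subgroup.mem_inf.mp h).2⟩,
    fun h => Subgroup.mem_inf.mpr ⟨h.1, MulAction.mem_stabilizer_iff.mpr h.2⟩⟩

/-- restriction of the stabiliser of `o` to `o`. -/
def resHom (o : Finset GolayPt) : ↥(stabO o) →* Equiv.Perm ↥o where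
  toFun g := (g : Equiv.Perm GolayPt).subtypePerm (mem_iff_of_smul_eq (mem_stabO.mp g.2).2)
  map_one' := by
    ext x
    rfl
  map_mul' a b := by
    ext x
    rfl

theorem resHom_apply (o : Finset GolayPt) (g : ↥(stabO o)) (x : ↥o) :
    ((resHom o g) x : GolayPt) = (g : Equiv.Perm GolayPt) x := rfl

theorem induced_eq_range (o : Finset GolayPt) :
    {e : Equiv.Perm ↥o | ∃ g : Equiv.Perm GolayPt, g ∈ M24 ∧
      ∃ h : (∀ x, g x ∈ o ↔ x ∈ o), g.subtypePerm h = e} = ((resHom o).range : Set _) := by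
  ext e
  constructor
  · rintro ⟨g, hg, h, rfl⟩
    exact ⟨⟨g, mem_stabO.mpr ⟨hg, smul_eq_of_mem_iff h⟩⟩, rfl⟩
  · rintro ⟨g, rfl⟩
    exact ⟨g.1, (mem_stabO.mp g.2).1, mem_iff_of_smul_eq (mem_stabO.mp g.2).2, rfl⟩

theorem mem_ker_resHom {o : Finset GolayPt} (g : ↥(stabO o)) :
    g ∈ (resHom o).ker ↔ ∀ x ∈ o, (g : Equiv.Perm GolayPt) x = x := by
  rw [MonoidHom.mem_ker]
  constructor
  · intro h x hx
    have h1 := resHom_apply o g ⟨x, hx⟩
    rw [h] at h1
    exact h1.symm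
  · intro h
    apply Equiv.ext
    intro x
    apply Subtype.ext
    show (g : Equiv.Perm GolayPt) x = x
    exact h x x.2

theorem smul_eq_of_fixes {g : Equiv.Perm GolayPt} {o : Finset GolayPt}
    (h : ∀ x ∈ o, g x = x) : g • o = o := by
  apply smul_eq_of_mem_iff
  intro x
  constructor
  · intro hx
    have h1 := h (g x) hx
    rw [g.injective h1] at hx
    exact hx
  · intro hx
    rw [h x hx]
    exact hx

theorem card_ker_resHom {o : Finset GolayPt} (ho : o ∈ octads) :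
    Nat.card (resHom o).ker = 16 := by
  rw [← (octad_pointwise o ho).1]
  apply Nat.card_congr
  refine ⟨fun x => ⟨x.1.1, ?_⟩, fun y => ⟨⟨y.1, ?_⟩, ?_⟩, fun x => rfl, fun y => rfl⟩
  · rw [Subgroup.mem_inf, mem_fixingSubgroup_iff]
    exact ⟨(mem_stabO.mp x.1.2).1, fun z hz => (mem_ker_resHom x.1).mp x.2 z (Finset.mem_coe.mp hz)⟩
  · have hy := y.2
    rw [Subgroup.mem_inf, mem_fixingSubgroup_iff] at hy
    exact mem_stabO.mpr ⟨hy.1, smul_eq_of_fixes (fun z hz => hy.2 z (Finset.mem_coe.mpr hz))⟩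
  · have hy := y.2
    rw [Subgroup.mem_inf, mem_fixingSubgroup_iff] at hy
    rw [mem_ker_resHom]
    exact fun z hz => hy.2 z (Finset.mem_coe.mpr hz)

theorem card_stabO {o : Finset GolayPt} (ho : o ∈ octads) : Nat.card (stabO o) = 322560 := by
  have h := card_eq_ncard_mul M24 (stabO o) o octads (fun g => mem_stabO)
    (fun g hg => smul_mem_octads hg ho) (fun s hs => octad_trans ho hs)
  rw [card_M24, ncard_octads] at h
  omega

theorem card_range_resHom {o : Finset GolayPt} (ho : o ∈ octads) :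
    Nat.card (resHom o).range = 20160 := by
  have h1 := Subgroup.card_mul_index (resHom o).ker
  rw [Subgroup.index_ker, card_ker_resHom ho, card_stabO ho] at h1
  omega

theorem card_perm_octad {o : Finset GolayPt} (ho : o ∈ octads) :
    Nat.card (Equiv.Perm ↥o) = 40320 := by
  rw [Nat.card_eq_fintype_card, Fintype.card_perm, Fintype.card_coe, ho.2]
  rfl

/-- the stabiliser of an octad induces the alternating group on it. -/
theorem range_resHom {o : Finset GolayPt} (ho : o ∈ octads) :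
    (resHom o).range = alternatingGroup ↥o := by
  apply Equiv.Perm.eq_alternatingGroup_of_index_eq_two
  have h1 := Subgroup.card_mul_index (resHom o).range
  rw [card_range_resHom ho, card_perm_octad ho] at h1
  omega

end Cfsg.Agent.Lib.Helper3.M24OctA8
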