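import Mathlib
import Cfsg.Prelude.Def_Sporadic_a
import Cfsg.Agent.Lib.Helper3.Golay
import Cfsg.Agent.Lib.Helper3.Golay2
import Cfsg.Agent.Lib.Helper3.GolayM24
import Cfsg.Agent.Lib.Helper3.M24Perm
import Cfsg.Agent.Lib.Helper3.M24Cert
import Cfsg.Agent.Lib.Helper3.M24Cert2
import Cfsg.Agent.Lib.Helper3.M24Order
import Cfsg.Agent.Lib.Helper3.M24Trans
import Cfsg.Agent.Lib.Helper3.M24Oct
import Cfsg.Agent.Lib.Helper3.M24Cls
import Cfsg.Agent.Lib.Helper3.M24ClsA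
import Cfsg.Agent.Lib.Helper3.M24Frames
import Cfsg.Agent.Lib.Helper3.M24OctA8

set_option autoImplicit false

namespace Cfsg.Agent.Lib.Helper3.M24OctSplit

open Cfsg Cfsg.Agent.Lib.Helper3.Golay Cfsg.Agent.Lib.Helper3.Golay2
open Cfsg.Agent.Lib.Helper3.GolayM24 Cfsg.Agent.Lib.Helper3.M24Perm
open Cfsg.Agent.Lib.Helper3.M24Cert Cfsg.Agent.Lib.Helper3.M24Cert2
open Cfsg.Agent.Lib.Helper3.M24Order Cfsg.Agent.Lib.Helper3.M24Trans
open Cfsg.Agent.Lib.Helper3.M24Oct Cfsg.Agent.Lib.Helper3.M24Cls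
open Cfsg.Agent.Lib.Helper3.M24ClsA Cfsg.Agent.Lib.Helper3.M24Frames
open Cfsg.Agent.Lib.Helper3.M24OctA8
open scoped Pointwise

theorem compl_o0 : ∀ i < 24, (cw 345).testBit i = false → (Nat.testBit 16771936 i) = true := by
  decide +kernel

theorem mem_K {o : Finset GolayPt} {g : Equiv.Perm GolayPt} :
    g ∈ M24 ⊓ fixingSubgroup (Equiv.Perm GolayPt) (o : Set GolayPt) ↔
      g ∈ M24 ∧ ∀ x ∈ o, g x = x := by
  constructor
  · intro h
    have h1 := Subgroup.mem_inf.mp h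
    exact ⟨h1.1, fun x hx => (mem_fixingSubgroup_iff _).mp h1.2 x (Finset.mem_coe.mpr hx)⟩
  · intro h
    exact Subgroup.mem_inf.mpr ⟨h.1, (mem_fixingSubgroup_iff _).mpr
      (fun x hx => h.2 x (Finset.mem_coe.mp hx))⟩

theorem mem_A {o : Finset GolayPt} {p : GolayPt} {g : Equiv.Perm GolayPt} :
    g ∈ M24 ⊓ MulAction.stabilizer (Equiv.Perm GolayPt) o ⊓
      MulAction.stabilizer (Equiv.Perm GolayPt) p ↔ g ∈ M24 ∧ g • o = o ∧ g p = p := by
  constructor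
  · intro h
    have h1 := Subgroup.mem_inf.mp h
    have h2 := Subgroup.mem_inf.mp h1.1
    exact ⟨h2.1, MulAction.mem_stabilizer_iff.mp h2.2, MulAction.mem_stabilizer_iff.mp h1.2⟩
  · intro h
    exact Subgroup.mem_inf.mpr ⟨Subgroup.mem_inf.mpr ⟨h.1, MulAction.mem_stabilizer_iff.mpr h.2.1⟩,
      MulAction.mem_stabilizer_iff.mpr h.2.2⟩

/-- the pointwise stabiliser of an octad is transitive on the points outside it. -/
theorem K_trans {o : Finset GolayPt} (ho : o ∈ octads) {p q : GolayPt} (hp : p ∉ o)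
    (hq : q ∉ o) :
    ∃ k ∈ M24 ⊓ fixingSubgroup (Equiv.Perm GolayPt) (o : Set GolayPt), k p = q := by
  obtain ⟨σ, hσ, rfl, rfl⟩ := octad_antiflag ho hp
  have hq' : σ⁻¹ q ∈ ms 16771936 := by
    have h1 : σ⁻¹ q ∉ ms (cw 345) := by
      rw [← Finset.inv_smul_mem_iff] at hq
      exact hq
    rw [mem_ms] at h1 ⊢
    exact compl_o0 (idx (σ⁻¹ q)) (idx_lt _) (by simpa using h1)
  obtain ⟨g, hg, e⟩ := level_sup lvl7 hq'
  rw [← K0_eq] at hg
  obtain ⟨hg1, hg2⟩ := mem_K.mp hg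
  refine ⟨σ * g * σ⁻¹, mem_K.mpr ⟨M24.mul_mem (M24.mul_mem hσ hg1) (M24.inv_mem hσ), ?_⟩, ?_⟩
  · intro x hx
    have hx' : σ⁻¹ x ∈ ms (cw 345) := by
      rw [← Finset.inv_smul_mem_iff] at hx
      exact hx
    rw [Equiv.Perm.mul_apply, Equiv.Perm.mul_apply, hg2 _ hx']
    simp
  · rw [Equiv.Perm.mul_apply, Equiv.Perm.mul_apply]
    have e1 : σ⁻¹ (σ (pt 5)) = pt 5 := by simp
    rw [e1, e]
    simp

theorem K_inf_A {o : Finset GolayPt} (ho : o ∈ octads) {p : GolayPt} (hp : p ∉ o) :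
    (M24 ⊓ fixingSubgroup (Equiv.Perm GolayPt) (o : Set GolayPt)) ⊓
      (M24 ⊓ MulAction.stabilizer (Equiv.Perm GolayPt) o ⊓
        MulAction.stabilizer (Equiv.Perm GolayPt) p) = ⊥ := by
  rw [eq_bot_iff]
  intro g hg
  obtain ⟨hK, hA⟩ := Subgroup.mem_inf.mp hg
  obtain ⟨hg1, hg2⟩ := mem_K.mp hK
  obtain ⟨-, -, hg3⟩ := mem_A.mp hA
  obtain ⟨σ, hσ, rfl, rfl⟩ := octad_antiflag ho hp
  have hfix : ∀ x ∈ ms (cw 345), (σ⁻¹ * g * σ) x = x := by
    intro x hx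
    rw [Equiv.Perm.mul_apply, Equiv.Perm.mul_apply, hg2 (σ x) (Finset.smul_mem_smul_finset hx)]
    simp
  have h1 : σ⁻¹ * g * σ ∈ fixG [cw 345] [5, 7, 4, 3, 2, 1, 0] := by
    refine ⟨M24.mul_mem (M24.mul_mem (M24.inv_mem hσ) hg1) hσ, ?_, ?_⟩
    · intro D hD
      rw [List.mem_singleton] at hD
      subst hD
      exact smul_eq_of_fixes hfix
    · intro i hi
      rw [List.mem_cons] at hi
      rcases hi with rfl | hi
      · rw [Equiv.Perm.mul_apply, Equiv.Perm.mul_apply, hg3]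
        simp
      · apply hfix
        have h4 : i < 24 := by
          revert i
          decide
        rw [pt_mem_ms h4]
        exact base_in_o0 i hi
  rw [fix7_eq_bot, Subgroup.mem_bot] at h1
  rw [Subgroup.mem_bot]
  have h2 : g = σ * (σ⁻¹ * g * σ) * σ⁻¹ := by group
  rw [h2, h1]
  group

theorem K_sup_A {o : Finset GolayPt} (ho : o ∈ octads) {p : GolayPt} (hp : p ∉ o) :
    (M24 ⊓ fixingSubgroup (Equiv.Perm GolayPt) (o : Set GolayPt)) ⊔
      (M24 ⊓ MulAction.stabilizer (Equiv.Perm GolayPt) o ⊓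
        MulAction.stabilizer (Equiv.Perm GolayPt) p) =
      M24 ⊓ MulAction.stabilizer (Equiv.Perm GolayPt) o := by
  apply le_antisymm
  · apply sup_le
    · intro g hg
      obtain ⟨hg1, hg2⟩ := mem_K.mp hg
      exact mem_stabO.mpr ⟨hg1, smul_eq_of_fixes hg2⟩
    · exact inf_le_left
  · intro g hg
    obtain ⟨hg1, hg2⟩ := mem_stabO.mp hg
    have hq : g p ∉ o := fun h => hp ((mem_iff_of_smul_eq hg2 p).mp h)
    obtain ⟨k, hk, e⟩ := K_trans ho hp hq
    obtain ⟨hk1, hk2⟩ := mem_K.mp hk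
    have hko : k • o = o := smul_eq_of_fixes hk2
    have hA : k⁻¹ * g ∈ M24 ⊓ MulAction.stabilizer (Equiv.Perm GolayPt) o ⊓
        MulAction.stabilizer (Equiv.Perm GolayPt) p := by
      refine mem_A.mpr ⟨M24.mul_mem (M24.inv_mem hk1) hg1, ?_, ?_⟩
      · rw [mul_smul, hg2, inv_smul_eq_iff, hko]
      · rw [Equiv.Perm.mul_apply, ← e]
        simp
    have h3 : g = k * (k⁻¹ * g) := by group
    rw [h3]
    exact Subgroup.mul_mem_sup hk hA

theorem A_le {o : Finset GolayPt} {p : GolayPt} :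
    M24 ⊓ MulAction.stabilizer (Equiv.Perm GolayPt) o ⊓
      MulAction.stabilizer (Equiv.Perm GolayPt) p ≤ stabO o := inf_le_left

theorem A_iso {o : Finset GolayPt} (ho : o ∈ octads) {p : GolayPt} (hp : p ∉ o) :
    Nonempty (↥(M24 ⊓ MulAction.stabilizer (Equiv.Perm GolayPt) o ⊓
      MulAction.stabilizer (Equiv.Perm GolayPt) p) ≃* alternatingGroup (Fin 8)) := by
  let ρ : ↥(M24 ⊓ MulAction.stabilizer (Equiv.Perm GolayPt) o ⊓
      MulAction.stabilizer (Equiv.Perm GolayPt) p) →* Equiv.Perm ↥o :=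
    (resHom o).comp (Subgroup.inclusion A_le)
  have hinj : Function.Injective ρ := by
    rw [injective_iff_map_eq_one]
    intro a ha
    have h1 : Subgroup.inclusion A_le a ∈ (resHom o).ker := ha
    rw [mem_ker_resHom] at h1
    have h2 : (a : Equiv.Perm GolayPt) ∈
        (M24 ⊓ fixingSubgroup (Equiv.Perm GolayPt) (o : Set GolayPt)) ⊓
        (M24 ⊓ MulAction.stabilizer (Equiv.Perm GolayPt) o ⊓
          MulAction.stabilizer (Equiv.Perm GolayPt) p) :=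
      Subgroup.mem_inf.mpr ⟨mem_K.mpr ⟨(mem_A.mp a.2).1, h1⟩, a.2⟩
    rw [K_inf_A ho hp, Subgroup.mem_bot] at h2
    exact Subtype.ext h2
  have hrange : ρ.range = alternatingGroup ↥o := by
    apply le_antisymm
    · rw [← range_resHom ho]
      rintro e ⟨a, rfl⟩
      exact ⟨Subgroup.inclusion A_le a, rfl⟩
    · rw [← range_resHom ho]
      rintro e ⟨g, rfl⟩
      obtain ⟨hg1, hg2⟩ := mem_stabO.mp g.2
      have hq : (g : Equiv.Perm GolayPt) p ∉ o := fun h => hp ((mem_iff_of_smul_eq hg2 p).mp h)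
      obtain ⟨k, hk, e⟩ := K_trans ho hp hq
      obtain ⟨hk1, hk2⟩ := mem_K.mp hk
      have hko : k • o = o := smul_eq_of_fixes hk2
      have hA : k⁻¹ * (g : Equiv.Perm GolayPt) ∈
          M24 ⊓ MulAction.stabilizer (Equiv.Perm GolayPt) o ⊓
          MulAction.stabilizer (Equiv.Perm GolayPt) p := by
        refine mem_A.mpr ⟨M24.mul_mem (M24.inv_mem hk1) hg1, ?_, ?_⟩
        · rw [mul_smul, hg2, inv_smul_eq_iff, hko]
        · rw [Equiv.Perm.mul_apply, ← e]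
          simp
      refine ⟨⟨k⁻¹ * (g : Equiv.Perm GolayPt), hA⟩, ?_⟩
      apply Equiv.ext
      intro x
      apply Subtype.ext
      show (k⁻¹ * (g : Equiv.Perm GolayPt)) x = (g : Equiv.Perm GolayPt) x
      rw [Equiv.Perm.mul_apply, Equiv.Perm.inv_eq_iff_eq]
      exact (hk2 _ ((mem_iff_of_smul_eq hg2 x).mpr x.2)).symm
  have hc : Fintype.card ↥o = 8 := by rw [Fintype.card_coe, ho.2]
  exact ⟨((MonoidHom.ofInjective hinj).trans (MulEquiv.subgroupCongr hrange)).trans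
    (Equiv.altCongrHom (Fintype.equivFinOfCardEq hc))⟩

end Cfsg.Agent.Lib.Helper3.M24OctSplit
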