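import Mathlib
import Cfsg.Prelude.Def_Sporadic_a
import Cfsg.Prelude.Def_Spor_Mathieu
import Cfsg.Prelude.Def_KGroupFacts
import Cfsg.Agent.Lib.Helper3.M24Aut
import Cfsg.Agent.Lib.Helper3.M24OctSplit

set_option autoImplicit false

namespace Cfsg.Agent.Lib.Helper3.M24Out

open Cfsg Cfsg.Agent.Lib.Helper3.Golay Cfsg.Agent.Lib.Helper3.Golay2
open Cfsg.Agent.Lib.Helper3.GolayM24 Cfsg.Agent.Lib.Helper3.M24Perm
open Cfsg.Agent.Lib.Helper3.M24Cert Cfsg.Agent.Lib.Helper3.M24Order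
open Cfsg.Agent.Lib.Helper3.M24Trans Cfsg.Agent.Lib.Helper3.M24Oct
open Cfsg.Agent.Lib.Helper3.M24OctA8 Cfsg.Agent.Lib.Helper3.M24OctSplit
open Cfsg.Agent.Lib.Helper3.M24Aut
open scoped Pointwise

/-- fixed points of a `p`-element on an invariant finite set, modulo `p`. -/
theorem card_fixed_modEq {β : Type*} [DecidableEq β] (f : Equiv.Perm β) (T : Finset β)
    (hT : ∀ z, f z ∈ T ↔ z ∈ T) (p : ℕ) [hp : Fact p.Prime] (hf : f ^ p = 1) :
    (T.filter (fun z => f z = z)).card ≡ T.card [MOD p] := by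
  have h1 : (f.subtypePerm hT) ^ p ^ 1 = 1 := by
    rw [pow_one, Equiv.Perm.subtypePerm_pow]
    apply Equiv.ext
    intro z
    apply Subtype.ext
    show (f ^ p) z.1 = z.1
    rw [hf]
    rfl
  have h2 := Equiv.Perm.card_compl_support_modEq h1
  rw [Fintype.card_coe] at h2
  have h3 : (f.subtypePerm hT).supportᶜ.card = (T.filter (fun z => f z = z)).card := by
    apply Finset.card_bij (fun a _ => a.1)
    · intro a ha
      rw [Finset.mem_compl, Equiv.Perm.notMem_support] at ha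
      rw [Finset.mem_filter]
      exact ⟨a.2, congrArg Subtype.val ha⟩
    · intro a _ b _ h
      exact Subtype.ext h
    · intro b hb
      rw [Finset.mem_filter] at hb
      refine ⟨⟨b, hb.1⟩, ?_, rfl⟩
      rw [Finset.mem_compl, Equiv.Perm.notMem_support]
      exact Subtype.ext hb.2
  rw [h3] at h2
  exact h2

/-- an element of `M24` of prime-power-free order `p ≥ 5` fixing five points is trivial. -/
theorem fix5_trivial {g : Equiv.Perm GolayPt} (hg : g ∈ M24) (S : Finset GolayPt)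
    (hS : 5 ≤ S.card) (hfix : ∀ z ∈ S, g z = z) {p : ℕ} (hp : p.Prime) (hp5 : 5 ≤ p)
    (hgp : g ^ p = 1) : g = 1 := by
  have : Fact p.Prime := ⟨hp⟩
  obtain ⟨S', hS', hS'5⟩ := Finset.exists_subset_card_eq hS
  obtain ⟨o, ho, hSo⟩ := exists_octad S' hS'5
  have hgo : g • o = o := by
    by_contra hne
    have h1 := octads_inter_le (smul_mem_octads hg ho) ho hne
    have h2 : S' ⊆ g • o ∩ o := by
      intro z hz
      rw [Finset.mem_inter]
      refine ⟨?_, hSo hz⟩
      have h3 : g • z ∈ g • o := Finset.smul_mem_smul_finset (hSo hz)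
      rw [Equiv.Perm.smul_def, hfix z (hS' hz)] at h3
      exact h3
    have h3 := Finset.card_le_card h2
    omega
  have hmem : ∀ z, g z ∈ o ↔ z ∈ o := mem_iff_of_smul_eq hgo
  have hmemS : ∀ z, g z ∈ S' ↔ z ∈ S' := by
    intro z
    constructor
    · intro h
      have h1 := hfix (g z) (hS' h)
      rw [g.injective h1] at h
      exact h
    · intro h
      rw [hfix z (hS' h)]
      exact h
  have hT : ∀ z, g z ∈ o \ S' ↔ z ∈ o \ S' := by
    intro z
    rw [Finset.mem_sdiff, Finset.mem_sdiff, hmem, hmemS]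
  have hc := card_fixed_modEq g (o \ S') hT p hgp
  have hcard : (o \ S').card = 3 := by
    rw [Finset.card_sdiff_of_subset hSo, ho.2, hS'5]
  have hle : ((o \ S').filter (fun z => g z = z)).card ≤ 3 := by
    rw [← hcard]
    exact Finset.card_filter_le _ _
  rw [hcard] at hc
  have heq : ((o \ S').filter (fun z => g z = z)).card = 3 :=
    Nat.ModEq.eq_of_lt_of_lt hc (by omega) (by omega)
  have hfilter : (o \ S').filter (fun z => g z = z) = o \ S' :=
    Finset.eq_of_subset_of_card_le (Finset.filter_subset _ _) (by rw [heq, hcard])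
  have hall : ∀ z ∈ o, g z = z := by
    intro z hz
    by_cases hzS : z ∈ S'
    · exact hfix z (hS' hzS)
    · have h1 : z ∈ (o \ S').filter (fun z => g z = z) := by
        rw [hfilter, Finset.mem_sdiff]
        exact ⟨hz, hzS⟩
      exact (Finset.mem_filter.mp h1).2
  have hsq := (octad_pointwise o ho).2 g (mem_K.mpr ⟨hg, hall⟩)
  have d1 : orderOf g ∣ 2 := orderOf_dvd_of_pow_eq_one (by rw [pow_two]; exact hsq)
  have d2 : orderOf g ∣ p := orderOf_dvd_of_pow_eq_one hgp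
  have hcop : Nat.Coprime 2 p := (Nat.coprime_primes Nat.prime_two hp).mpr (by omega)
  have d3 := Nat.dvd_gcd d1 d2
  rw [hcop] at d3
  exact orderOf_eq_one_iff.mp (Nat.dvd_one.mp d3)

/-- the number of fixed points of an element of prime order `p ≥ 5` of `M24` is the residue
of `24` modulo `p`, at most four. -/
theorem card_fix_lt {g : Equiv.Perm GolayPt} (hg : g ∈ M24) {p : ℕ} (hp : p.Prime) (hp5 : 5 ≤ p)
    (hgp : g ^ p = 1) (hg1 : g ≠ 1) :
    (Finset.univ.filter (fun z => g z = z)).card ≤ 4 ∧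
      (Finset.univ.filter (fun z => g z = z)).card ≡ 24 [MOD p] := by
  have : Fact p.Prime := ⟨hp⟩
  constructor
  · by_contra hlt
    apply hg1
    exact fix5_trivial hg (Finset.univ.filter (fun z => g z = z)) (by omega)
      (fun z hz => (Finset.mem_filter.mp hz).2) hp hp5 hgp
  · have h := card_fixed_modEq g Finset.univ (fun z => by simp) p hgp
    rw [Finset.card_univ, card_golayPt] at h
    exact h

/-- a permutation inducing the automorphism, from a correspondence of point stabilisers. -/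
theorem exists_perm_of_stab {Ω : Type*} [Fintype Ω] [DecidableEq Ω]
    (G : Subgroup (Equiv.Perm Ω)) (α : MulAut ↥G) (Δ : Finset Ω)
    (hΔ : ∀ g ∈ G, ∀ p, p ∉ Δ → g p = p)
    (hinj : ∀ p ∈ Δ, ∀ p' ∈ Δ, (∀ g : ↥G, g.1 p = p → g.1 p' = p') → p = p')
    (hstab : ∀ p ∈ Δ, ∃ p' ∈ Δ, ∀ g : ↥G, g.1 p = p ↔ (α g).1 p' = p') :
    ∃ σ : Equiv.Perm Ω, (∀ p, p ∉ Δ → σ p = p) ∧
      ∀ g : ↥G, ((α g : ↥G) : Equiv.Perm Ω) = σ * g.1 * σ⁻¹ := by
  classical
  have hinv : ∀ g ∈ G, ∀ p ∈ Δ, g p ∈ Δ := by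
    intro g hg p hp
    by_contra h
    have h1 := hΔ g⁻¹ (G.inv_mem hg) (g p) h
    have h2 : g⁻¹ (g p) = p := Equiv.Perm.inv_eq_iff_eq.mpr rfl
    rw [h2] at h1
    rw [← h1] at h
    exact h hp
  choose f hfΔ hf using hstab
  have key : ∀ (g : ↥G) (p : Ω) (hp : p ∈ Δ),
      (α g).1 (f p hp) = f (g.1 p) (hinv g.1 g.2 p hp) := by
    intro g p hp
    apply hinj _ (hinv _ (α g).2 _ (hfΔ p hp)) _ (hfΔ _ _)
    intro k hk
    have h1 : (α (g⁻¹ * α.symm k * g)).1 (f p hp) = f p hp := by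
      rw [map_mul, map_mul, MulEquiv.apply_symm_apply, map_inv]
      show (α g).1⁻¹ (k.1 ((α g).1 (f p hp))) = f p hp
      rw [hk]
      exact Equiv.Perm.inv_eq_iff_eq.mpr rfl
    have h2 := (hf p hp (g⁻¹ * α.symm k * g)).mpr h1
    have h3 : (α.symm k).1 (g.1 p) = g.1 p := by
      have h4 : g.1⁻¹ ((α.symm k).1 (g.1 p)) = p := h2
      rw [Equiv.Perm.inv_eq_iff_eq] at h4
      exact h4
    have h5 := (hf (g.1 p) (hinv g.1 g.2 p hp) (α.symm k)).mp h3
    rw [MulEquiv.apply_symm_apply] at h5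
    exact h5
  let F : ↥Δ → ↥Δ := fun p => ⟨f p.1 p.2, hfΔ p.1 p.2⟩
  have hFinj : Function.Injective F := by
    intro p p' h
    have h1 : f p.1 p.2 = f p'.1 p'.2 := congrArg Subtype.val h
    apply Subtype.ext
    apply hinj p.1 p.2 p'.1 p'.2
    intro g hg
    have h2 := (hf p.1 p.2 g).mp hg
    rw [h1] at h2
    exact (hf p'.1 p'.2 g).mpr h2
  have hFbij : Function.Bijective F := Finite.injective_iff_bijective.mp hFinj
  let e : Equiv.Perm ↥Δ := Equiv.ofBijective F hFbij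
  refine ⟨Equiv.Perm.ofSubtype e, fun p hp => Equiv.Perm.ofSubtype_apply_of_not_mem e hp, ?_⟩
  intro g
  apply Equiv.ext
  intro x
  rw [Equiv.Perm.mul_apply, Equiv.Perm.mul_apply]
  by_cases hx : x ∈ Δ
  · obtain ⟨p, hp⟩ := hFbij.2 ⟨x, hx⟩
    have hpx : f p.1 p.2 = x := congrArg Subtype.val hp
    have h1 : Equiv.Perm.ofSubtype e p.1 = x := by
      rw [Equiv.Perm.ofSubtype_apply_of_mem e p.2]
      exact hpx
    have h2 : (Equiv.Perm.ofSubtype e)⁻¹ x = p.1 := by
      rw [Equiv.Perm.inv_eq_iff_eq, h1]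
    rw [h2, Equiv.Perm.ofSubtype_apply_of_mem e (hinv g.1 g.2 p.1 p.2)]
    show (α g).1 x = f (g.1 p.1) (hinv g.1 g.2 p.1 p.2)
    rw [← key g p.1 p.2, hpx]
  · have h1 : (Equiv.Perm.ofSubtype e)⁻¹ x = x := by
      rw [Equiv.Perm.inv_eq_iff_eq, Equiv.Perm.ofSubtype_apply_of_not_mem e hx]
    rw [h1, hΔ g.1 g.2 x hx, Equiv.Perm.ofSubtype_apply_of_not_mem e hx]
    exact hΔ _ (α g).2 x hx

/-- an automorphism induced by conjugation with an element of the group is inner. -/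
theorem inner_of_conj {Ω : Type*} (G : Subgroup (Equiv.Perm Ω)) (α : MulAut ↥G)
    (σ : Equiv.Perm Ω) (hσ : σ ∈ G)
    (h : ∀ g : ↥G, ((α g : ↥G) : Equiv.Perm Ω) = σ * g.1 * σ⁻¹) : α ∈ Cfsg.Inn ↥G := by
  refine ⟨⟨σ, hσ⟩, ?_⟩
  apply MulEquiv.ext
  intro g
  apply Subtype.ext
  rw [h g]
  rfl

theorem out_card_one {G : Type*} [Group G] (h : ∀ α : MulAut G, α ∈ Cfsg.Inn G) :
    Nat.card (Cfsg.Out G) = 1 := by
  have h1 : Cfsg.Inn G = ⊤ := eq_top_iff.mpr (fun α _ => h α)
  show (Cfsg.Inn G).index = 1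
  rw [h1, Subgroup.index_top]

/-- the image under an automorphism of a point stabiliser, as a permutation group. -/
def imgStab {Ω : Type*} (G : Subgroup (Equiv.Perm Ω)) (α : MulAut ↥G) (p : Ω) :
    Subgroup (Equiv.Perm Ω) :=
  (MulAction.stabilizer ↥G p).map (G.subtype.comp α.toMonoidHom)

theorem mem_imgStab {Ω : Type*} {G : Subgroup (Equiv.Perm Ω)} {α : MulAut ↥G} {p : Ω}
    {k : Equiv.Perm Ω} : k ∈ imgStab G α p ↔ ∃ g : ↥G, g.1 p = p ∧ (α g).1 = k := by
  constructor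
  · rintro ⟨g, hg, rfl⟩
    exact ⟨g, hg, rfl⟩
  · rintro ⟨g, hg, rfl⟩
    exact ⟨g, hg, rfl⟩

theorem imgStab_le {Ω : Type*} (G : Subgroup (Equiv.Perm Ω)) (α : MulAut ↥G) (p : Ω) :
    imgStab G α p ≤ G := by
  intro k hk
  obtain ⟨g, _, rfl⟩ := mem_imgStab.mp hk
  exact (α g).2

theorem card_imgStab {Ω : Type*} (G : Subgroup (Equiv.Perm Ω)) (α : MulAut ↥G) (p : Ω) :
    Nat.card (imgStab G α p) = Nat.card ↥(G ⊓ MulAction.stabilizer (Equiv.Perm Ω) p) := by
  have hinj : Function.Injective (G.subtype.comp α.toMonoidHom) := by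
    intro a b hab
    exact α.injective (Subtype.ext hab)
  rw [imgStab, Subgroup.card_map_of_injective hinj]
  apply Nat.card_congr
  exact ⟨fun x => ⟨x.1.1, Subgroup.mem_inf.mpr ⟨x.1.2, x.2⟩⟩,
    fun y => ⟨⟨y.1, (Subgroup.mem_inf.mp y.2).1⟩, (Subgroup.mem_inf.mp y.2).2⟩,
    fun _ => rfl, fun _ => rfl⟩

theorem stab_of_imgStab {Ω : Type*} {G : Subgroup (Equiv.Perm Ω)} {α : MulAut ↥G} {p p' : Ω}
    (h : imgStab G α p = G ⊓ MulAction.stabilizer (Equiv.Perm Ω) p') :
    ∀ g : ↥G, g.1 p = p ↔ (α g).1 p' = p' := by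
  intro g
  constructor
  · intro hg
    have h1 : (α g).1 ∈ imgStab G α p := mem_imgStab.mpr ⟨g, hg, rfl⟩
    rw [h] at h1
    exact MulAction.mem_stabilizer_iff.mp (Subgroup.mem_inf.mp h1).2
  · intro hg
    have h1 : (α g).1 ∈ imgStab G α p := by
      rw [h]
      exact Subgroup.mem_inf.mpr ⟨(α g).2, MulAction.mem_stabilizer_iff.mpr hg⟩
    obtain ⟨g', hg', e⟩ := mem_imgStab.mp h1
    have h2 : g' = g := α.injective (Subtype.ext e)
    rw [← h2]
    exact hg'

/-- a permutation normalising (a point stabiliser of) `M24` maps octads to octads. -/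
theorem smul_octad_of_normalizes (G : Subgroup (Equiv.Perm GolayPt)) (σ : Equiv.Perm GolayPt)
    (fx : Finset GolayPt) (hfx : fx.card ≤ 5)
    (hG : ∀ g, g ∈ G ↔ g ∈ M24 ∧ ∀ z ∈ fx, g z = z)
    (hσfx : ∀ z ∈ fx, σ z = z)
    (hnorm : ∀ g ∈ G, σ⁻¹ * g * σ ∈ G)
    {o : Finset GolayPt} (ho : o ∈ octads) (hfo : fx ⊆ o) : σ • o ∈ octads := by
  have hB8 : (σ • o).card = 8 := by rw [Finset.card_smul_finset]; exact ho.2
  have hfB : fx ⊆ σ • o := by
    intro z hz
    have h1 : σ • z ∈ σ • o := Finset.smul_mem_smul_finset (hfo hz)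
    rw [Equiv.Perm.smul_def, hσfx z hz] at h1
    exact h1
  obtain ⟨S, hfS, hSB, hS5⟩ := Finset.exists_subsuperset_card_eq hfB hfx
    (by rw [hB8]; norm_num)
  obtain ⟨o', ho', hSo'⟩ := exists_octad S hS5
  have hsub : σ • o ⊆ o' := by
    by_contra hns
    obtain ⟨z, hzB, hzo'⟩ := Finset.not_subset.mp hns
    have hall : ∀ w, w ∉ o' → w ∈ σ • o := by
      intro w hw
      obtain ⟨k, hk, hkz⟩ := K_trans ho' hzo' hw
      obtain ⟨hkM, hkfix⟩ := mem_K.mp hk
      have hkG : k ∈ G := (hG k).mpr ⟨hkM, fun y hy => hkfix y (hSo' (hfS hy))⟩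
      have hg' := hnorm k hkG
      have hg'M : σ⁻¹ * k * σ ∈ M24 := ((hG _).mp hg').1
      have hgo : (σ⁻¹ * k * σ) • o = o := by
        by_contra hne
        have h1 := octads_inter_le (smul_mem_octads hg'M ho) ho hne
        have h2 : σ⁻¹ • S ⊆ (σ⁻¹ * k * σ) • o ∩ o := by
          intro y hy
          obtain ⟨s, hs, rfl⟩ := Finset.mem_smul_finset.mp hy
          have h3 : σ⁻¹ • s ∈ o := by
            have h4 := hSB hs
            rw [← Finset.inv_smul_mem_iff] at h4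
            exact h4
          rw [Finset.mem_inter]
          refine ⟨?_, h3⟩
          have h4 : (σ⁻¹ * k * σ) • (σ⁻¹ • s) = σ⁻¹ • s := by
            rw [mul_smul, mul_smul, smul_inv_smul]
            have h5 : k • s = s := hkfix s (hSo' hs)
            rw [h5]
          rw [← h4]
          exact Finset.smul_mem_smul_finset h3
        have h3 := Finset.card_le_card h2
        rw [Finset.card_smul_finset, hS5] at h3
        omega
      have hkB : k • (σ • o) = σ • o := by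
        have h1 : k • σ • o = σ • ((σ⁻¹ * k * σ) • o) := by
          rw [mul_smul, mul_smul, smul_inv_smul]
        rw [h1, hgo]
      rw [← hkB, ← hkz]
      exact Finset.smul_mem_smul_finset hzB
    have h5 : (Finset.univ \ o') ⊆ σ • o := fun w hw => hall w (Finset.mem_sdiff.mp hw).2
    have h6 := Finset.card_le_card h5
    rw [Finset.card_sdiff_of_subset (Finset.subset_univ _), Finset.card_univ, card_golayPt,
      ho'.2, hB8] at h6
    omega
  have h7 : σ • o = o' := Finset.eq_of_subset_of_card_le hsub (by rw [hB8, ho'.2])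
  rw [h7]
  exact ho'

/-- a permutation normalising `M24` lies in `M24`. -/
theorem mem_M24_of_normalizes (σ : Equiv.Perm GolayPt)
    (hnorm : ∀ g ∈ M24, σ⁻¹ * g * σ ∈ M24) : σ ∈ M24 := by
  apply mem_M24_of_smul_octads
  apply Set.eq_of_subset_of_ncard_le
  · rintro _ ⟨o, ho, rfl⟩
    exact smul_octad_of_normalizes M24 σ ∅ (by simp) (fun g => by simp) (by simp) hnorm ho
      (Finset.empty_subset _)
  · rw [← Set.image_smul, Set.ncard_image_of_injective _ (MulAction.injective σ)]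
  · exact Set.toFinite _

/-- point stabilisers in `M24` have order `10200960`. -/
theorem card_stab_pt (p : GolayPt) :
    Nat.card ↥(M24 ⊓ MulAction.stabilizer (Equiv.Perm GolayPt) p) = 10200960 := by
  have h := card_eq_ncard_mul M24 (M24 ⊓ MulAction.stabilizer (Equiv.Perm GolayPt) p) p Set.univ
    (fun g => ⟨fun h => ⟨(Subgroup.mem_inf.mp h).1,
        MulAction.mem_stabilizer_iff.mp (Subgroup.mem_inf.mp h).2⟩,
      fun h => Subgroup.mem_inf.mpr ⟨h.1, MulAction.mem_stabilizer_iff.mpr h.2⟩⟩)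
    (fun g _ => Set.mem_univ _)
    (fun s _ => by
      obtain ⟨g, hg, e⟩ := trans1 p s
      exact ⟨g, hg, e⟩)
  rw [card_M24, Set.ncard_univ, Nat.card_eq_fintype_card, card_golayPt] at h
  omega

end Cfsg.Agent.Lib.Helper3.M24Out
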