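import Mathlib
import Cfsg.Prelude.Def_Sporadic_a
import Cfsg.Prelude.Def_Spor_Mathieu
import Cfsg.Prelude.Def_KGroupFacts
import Cfsg.Agent.Lib.Helper3.M24Out

set_option autoImplicit false

namespace Cfsg.Agent.Lib.Helper3.M23Out

open Cfsg Cfsg.Agent.Lib.Helper3.Golay Cfsg.Agent.Lib.Helper3.Golay2
open Cfsg.Agent.Lib.Helper3.GolayM24 Cfsg.Agent.Lib.Helper3.M24Perm
open Cfsg.Agent.Lib.Helper3.M24Cert Cfsg.Agent.Lib.Helper3.M24Order
open Cfsg.Agent.Lib.Helper3.M24Trans Cfsg.Agent.Lib.Helper3.M24Oct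
open Cfsg.Agent.Lib.Helper3.M24OctA8 Cfsg.Agent.Lib.Helper3.M24OctSplit
open Cfsg.Agent.Lib.Helper3.M24Aut Cfsg.Agent.Lib.Helper3.M24Out
open scoped Pointwise

/-- twelve octads through the extra point (as masks) spanning the code -/
def octL23 : List ℕ := [8414120, 9045270, 12717187, 8439632, 9701932, 10881097, 11055264, 8464984, 13721920, 14682450, 9835530, 11282452]

def phiL23 : List ℕ := [235, 3, 24, 192, 255, 33, 101, 270, 766, 1085, 2254, 213]

theorem octL23_ok : octL23.all (fun g => Nat.beq (cw (kOf g)) g && Nat.beq (pc g) 8 &&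
    Nat.testBit g 23) = true := by
  decide +kernel

theorem span23_ok :
    (List.range 4096).all (fun k => Nat.beq (cw k) (comb octL23 (comb phiL23 k))) = true := by
  decide +kernel

theorem octL23_mem : ∀ g ∈ octL23, ms g ∈ octads ∧ (none : GolayPt) ∈ ms g := by
  intro g hg
  have h := octL23_ok
  rw [List.all_eq_true] at h
  have h1 := h g hg
  simp only [Bool.and_eq_true] at h1
  have e1 : cw (kOf g) = g := Nat.eq_of_beq_eq_true h1.1.1
  have e2 : pc g = 8 := Nat.eq_of_beq_eq_true h1.1.2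
  refine ⟨⟨?_, by rw [card_ms, e2]⟩, mem_ms.mpr h1.2⟩
  rw [ms_eq_support, ← e1]
  exact ⟨dec (cw (kOf g)), dec_cw_mem _, rfl⟩

theorem cw_eq_comb_oct23 {k : ℕ} (hk : k < 4096) : cw k = comb octL23 (comb phiL23 k) := by
  have h := span23_ok
  rw [List.all_eq_true] at h
  exact Nat.eq_of_beq_eq_true (h k (List.mem_range.mpr hk))

/-- a permutation mapping the octads through the extra point to octads lies in `M24`. -/
theorem mem_M24_of_smul_octads_none {σ : Equiv.Perm GolayPt}
    (hσ : ∀ o ∈ octads, (none : GolayPt) ∈ o → σ • o ∈ octads) : σ ∈ M24 := by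
  apply mem_M24_of_comp
  intro w hw
  obtain ⟨k, hk, rfl⟩ := (mem_golayCode_iff w).mp hw
  rw [cw_eq_comb_oct23 hk]
  refine comb_induction (fun x => x ∘ σ.symm ∈ golayCode) (Submodule.zero_mem _)
    (fun x y hx hy => Submodule.add_mem _ hx hy) octL23 ?_ _
  intro g hg
  show dec g ∘ σ.symm ∈ golayCode
  have h1 : σ • ms g ∈ octads := hσ _ (octL23_mem g hg).1 (octL23_mem g hg).2
  obtain ⟨w', hw', h2⟩ := h1.1
  rw [ms_eq_support, smul_support] at h2
  rw [← support_injective h2]
  exact hw'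

theorem mem_M23 {g : Equiv.Perm GolayPt} :
    g ∈ Cfsg.Spor.M23 ↔ g ∈ M24 ∧ g none = none :=
  ⟨fun h => ⟨(Subgroup.mem_inf.mp h).1, MulAction.mem_stabilizer_iff.mp (Subgroup.mem_inf.mp h).2⟩,
    fun h => Subgroup.mem_inf.mpr ⟨h.1, MulAction.mem_stabilizer_iff.mpr h.2⟩⟩

theorem card_M23 : Nat.card ↥Cfsg.Spor.M23 = 10200960 := card_stab_pt none

theorem card_stab23 {p : GolayPt} (hp : p ≠ none) :
    Nat.card ↥(Cfsg.Spor.M23 ⊓ MulAction.stabilizer (Equiv.Perm GolayPt) p) = 443520 := by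
  classical
  have h := card_eq_ncard_mul Cfsg.Spor.M23
    (Cfsg.Spor.M23 ⊓ MulAction.stabilizer (Equiv.Perm GolayPt) p) p
    ((Finset.univ.erase (none : GolayPt) : Finset GolayPt) : Set GolayPt)
    (fun g => ⟨fun h => ⟨(Subgroup.mem_inf.mp h).1,
        MulAction.mem_stabilizer_iff.mp (Subgroup.mem_inf.mp h).2⟩,
      fun h => Subgroup.mem_inf.mpr ⟨h.1, MulAction.mem_stabilizer_iff.mpr h.2⟩⟩)
    (fun g hg => by
      rw [Finset.mem_coe, Finset.mem_erase]
      refine ⟨fun h => hp ?_, Finset.mem_univ _⟩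
      have h1 := (mem_M23.mp hg).2
      exact g.injective (h.trans h1.symm))
    (fun s hs => by
      rw [Finset.mem_coe, Finset.mem_erase] at hs
      obtain ⟨g, hg, e1, e2⟩ := trans2 none p none s (Ne.symm hp) (Ne.symm hs.1)
      exact ⟨g, mem_M23.mpr ⟨hg, e1⟩, e2⟩)
  rw [card_M23, Set.ncard_coe_finset, Finset.card_erase_of_mem (Finset.mem_univ _),
    Finset.card_univ, card_golayPt] at h
  omega

/-- a subgroup of `M23` of the order of `M22` fixes a second point. -/
theorem fix_of_card23 (H : Subgroup (Equiv.Perm GolayPt)) (hH : H ≤ Cfsg.Spor.M23)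
    (hcard : Nat.card H = 443520) : ∃ b : GolayPt, b ≠ none ∧ ∀ k ∈ H, k b = b := by
  classical
  have hp11 : Fact (Nat.Prime 11) := ⟨by norm_num⟩
  have hp7 : Fact (Nat.Prime 7) := ⟨by norm_num⟩
  obtain ⟨x, hx⟩ := exists_prime_orderOf_dvd_card' (G := ↥H) 11 (by rw [hcard]; norm_num)
  obtain ⟨y, hy⟩ := exists_prime_orderOf_dvd_card' (G := ↥H) 7 (by rw [hcard]; norm_num)
  have hxo : orderOf x.1 = 11 := by rw [Subgroup.orderOf_coe, hx]
  have hyo : orderOf y.1 = 7 := by rw [Subgroup.orderOf_coe, hy]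
  have hx11 : x.1 ^ 11 = 1 := by rw [← hxo]; exact pow_orderOf_eq_one _
  have hy7 : y.1 ^ 7 = 1 := by rw [← hyo]; exact pow_orderOf_eq_one _
  have hx1 : x.1 ≠ 1 := by
    intro h
    rw [h, orderOf_one] at hxo
    norm_num at hxo
  have hy1 : y.1 ≠ 1 := by
    intro h
    rw [h, orderOf_one] at hyo
    norm_num at hyo
  have hxM := mem_M23.mp (hH x.2)
  have hyM := mem_M23.mp (hH y.2)
  obtain ⟨hle, hmod⟩ := card_fix_lt hxM.1 (by norm_num : Nat.Prime 11) (by norm_num) hx11 hx1
  have hc2 : (Finset.univ.filter (fun z => x.1 z = z)).card = 2 := by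
    unfold Nat.ModEq at hmod
    omega
  obtain ⟨u, v, huv, huvs⟩ := Finset.card_eq_two.mp hc2
  have hnone : (none : GolayPt) ∈ Finset.univ.filter (fun z => x.1 z = z) :=
    Finset.mem_filter.mpr ⟨Finset.mem_univ _, hxM.2⟩
  obtain ⟨b, hb, hbfix, hfixes⟩ : ∃ b : GolayPt, b ≠ none ∧ x.1 b = b ∧
      ∀ z, x.1 z = z → z = none ∨ z = b := by
    rw [huvs, Finset.mem_insert, Finset.mem_singleton] at hnone
    have hu : x.1 u = u := by
      have h1 : u ∈ Finset.univ.filter (fun z => x.1 z = z) := by rw [huvs]; simp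
      exact (Finset.mem_filter.mp h1).2
    have hv : x.1 v = v := by
      have h1 : v ∈ Finset.univ.filter (fun z => x.1 z = z) := by rw [huvs]; simp
      exact (Finset.mem_filter.mp h1).2
    have hall : ∀ z, x.1 z = z → z = u ∨ z = v := by
      intro z hz
      have h1 : z ∈ Finset.univ.filter (fun z => x.1 z = z) :=
        Finset.mem_filter.mpr ⟨Finset.mem_univ _, hz⟩
      rw [huvs, Finset.mem_insert, Finset.mem_singleton] at h1
      exact h1
    rcases hnone with h | h
    · refine ⟨v, fun h' => huv (h.symm.trans h'.symm), hv, fun z hz => ?_⟩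
      rcases hall z hz with h1 | h1
      · left; rw [h1, h]
      · right; exact h1
    · refine ⟨u, fun h' => huv (h'.trans h), hu, fun z hz => ?_⟩
      rcases hall z hz with h1 | h1
      · right; exact h1
      · left; rw [h1, h]
  -- the orbit of b
  let Y : Finset GolayPt := Finset.univ.filter (fun z => ∃ k ∈ H, k b = z)
  have hbY : b ∈ Y := Finset.mem_filter.mpr ⟨Finset.mem_univ _, 1, H.one_mem, rfl⟩
  have hnY : (none : GolayPt) ∉ Y := by
    intro h
    obtain ⟨k, hk, e⟩ := (Finset.mem_filter.mp h).2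
    have h1 := (mem_M23.mp (hH hk)).2
    exact hb (k.injective (e.trans h1.symm))
  have hYinv : ∀ k ∈ H, ∀ z, k z ∈ Y ↔ z ∈ Y := by
    intro k hk z
    constructor
    · intro h
      obtain ⟨k', hk', e⟩ := (Finset.mem_filter.mp h).2
      refine Finset.mem_filter.mpr ⟨Finset.mem_univ _, k⁻¹ * k', H.mul_mem (H.inv_mem hk) hk', ?_⟩
      rw [Equiv.Perm.mul_apply, e]
      exact Equiv.Perm.inv_eq_iff_eq.mpr rfl
    · intro h
      obtain ⟨k', hk', e⟩ := (Finset.mem_filter.mp h).2
      refine Finset.mem_filter.mpr ⟨Finset.mem_univ _, k * k', H.mul_mem hk hk', ?_⟩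
      rw [Equiv.Perm.mul_apply, e]
  -- |Y| ≡ 1 mod 11
  have hT : ∀ z, x.1 z ∈ Y.erase b ↔ z ∈ Y.erase b := by
    intro z
    rw [Finset.mem_erase, Finset.mem_erase, hYinv x.1 x.2 z]
    constructor
    · rintro ⟨h1, h2⟩
      refine ⟨fun h => h1 ?_, h2⟩
      rw [h, hbfix]
    · rintro ⟨h1, h2⟩
      refine ⟨fun h => h1 ?_, h2⟩
      exact x.1.injective (h.trans hbfix.symm)
  have hm := card_fixed_modEq x.1 (Y.erase b) hT 11 hx11
  have hempty : (Y.erase b).filter (fun z => x.1 z = z) = ∅ := by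
    rw [Finset.filter_eq_empty_iff]
    intro z hz hfix
    rw [Finset.mem_erase] at hz
    rcases hfixes z hfix with h | h
    · exact hnY (h ▸ hz.2)
    · exact hz.1 h
  rw [hempty, Finset.card_empty, Finset.card_erase_of_mem hbY] at hm
  have hY23 : Y.card ≤ 23 := by
    have h1 : Y ⊆ Finset.univ.erase (none : GolayPt) := by
      intro z hz
      rw [Finset.mem_erase]
      exact ⟨fun h => hnY (h ▸ hz), Finset.mem_univ _⟩
    have h2 := Finset.card_le_card h1
    rw [Finset.card_erase_of_mem (Finset.mem_univ _), Finset.card_univ, card_golayPt] at h2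
    exact h2
  have hYpos : 0 < Y.card := Finset.card_pos.mpr ⟨b, hbY⟩
  have hdvd : Y.card ∣ 443520 := by
    have h := card_eq_ncard_mul H (H ⊓ MulAction.stabilizer (Equiv.Perm GolayPt) b) b
      (Y : Set GolayPt)
      (fun g => ⟨fun h => ⟨(Subgroup.mem_inf.mp h).1,
          MulAction.mem_stabilizer_iff.mp (Subgroup.mem_inf.mp h).2⟩,
        fun h => Subgroup.mem_inf.mpr ⟨h.1, MulAction.mem_stabilizer_iff.mpr h.2⟩⟩)
      (fun g hg => Finset.mem_coe.mpr (Finset.mem_filter.mpr ⟨Finset.mem_univ _, g, hg, rfl⟩))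
      (fun s hs => by
        obtain ⟨k, hk, e⟩ := (Finset.mem_filter.mp (Finset.mem_coe.mp hs)).2
        exact ⟨k, hk, e⟩)
    rw [hcard, Set.ncard_coe_finset] at h
    exact ⟨_, h⟩
  have hYcases : Y.card = 1 ∨ Y.card = 12 := by
    unfold Nat.ModEq at hm
    have h1 : Y.card = 1 ∨ Y.card = 12 ∨ Y.card = 23 := by omega
    rcases h1 with h | h | h
    · left; exact h
    · right; exact h
    · exfalso
      rw [h] at hdvd
      norm_num at hdvd
  rcases hYcases with h1 | h12
  · obtain ⟨c, hc⟩ := Finset.card_eq_one.mp h1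
    have hbc : b = c := by
      rw [hc, Finset.mem_singleton] at hbY
      exact hbY
    refine ⟨b, hb, fun k hk => ?_⟩
    have h2 : k b ∈ Y := Finset.mem_filter.mpr ⟨Finset.mem_univ _, k, hk, rfl⟩
    rw [hc, Finset.mem_singleton] at h2
    rw [h2, hbc]
  · exfalso
    -- the complement of Y ∪ {none} has 11 points and is invariant under y
    let Z : Finset GolayPt := Finset.univ \ insert none Y
    have hZcard : Z.card = 11 := by
      rw [Finset.card_sdiff_of_subset (Finset.subset_univ _), Finset.card_univ, card_golayPt,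
        Finset.card_insert_of_notMem hnY, h12]
    have hZinv : ∀ z, y.1 z ∈ Z ↔ z ∈ Z := by
      intro z
      simp only [Z, Finset.mem_sdiff, Finset.mem_univ, true_and, Finset.mem_insert, not_or]
      rw [hYinv y.1 y.2 z]
      constructor
      · rintro ⟨h1, h2⟩
        refine ⟨fun h => h1 ?_, h2⟩
        rw [h, hyM.2]
      · rintro ⟨h1, h2⟩
        refine ⟨fun h => h1 ?_, h2⟩
        exact y.1.injective (h.trans hyM.2.symm)
    have hm7 := card_fixed_modEq y.1 Z hZinv 7 hy7
    rw [hZcard] at hm7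
    have h4 : 4 ≤ (Z.filter (fun z => y.1 z = z)).card := by
      unfold Nat.ModEq at hm7
      omega
    have hnZ : (none : GolayPt) ∉ Z.filter (fun z => y.1 z = z) := by
      intro h
      have h1 := (Finset.mem_filter.mp h).1
      rw [Finset.mem_sdiff] at h1
      exact h1.2 (Finset.mem_insert_self _ _)
    apply hy1
    apply fix5_trivial hyM.1 (insert none (Z.filter (fun z => y.1 z = z)))
      (by rw [Finset.card_insert_of_notMem hnZ]; omega) ?_ (by norm_num : Nat.Prime 7)
      (by norm_num) hy7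
    intro z hz
    rw [Finset.mem_insert] at hz
    rcases hz with h | h
    · rw [h]; exact hyM.2
    · exact (Finset.mem_filter.mp h).2

/-- `S2063`. -/
theorem out_M23 : Nat.card (Cfsg.Out ↥Cfsg.Spor.M23) = 1 := by
  classical
  apply out_card_one
  intro α
  have hΔ : ∀ g ∈ Cfsg.Spor.M23, ∀ p, p ∉ Finset.univ.erase (none : GolayPt) → g p = p := by
    intro g hg p hp
    have h1 : p = none := by
      by_contra h
      exact hp (Finset.mem_erase.mpr ⟨h, Finset.mem_univ _⟩)
    rw [h1]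
    exact (mem_M23.mp hg).2
  have hinj : ∀ p ∈ Finset.univ.erase (none : GolayPt), ∀ p' ∈ Finset.univ.erase (none : GolayPt),
      (∀ g : ↥Cfsg.Spor.M23, g.1 p = p → g.1 p' = p') → p = p' := by
    intro p hp p' hp' h
    by_contra hne
    have hp0 := (Finset.mem_erase.mp hp).1
    have hp0' := (Finset.mem_erase.mp hp').1
    obtain ⟨r, hr⟩ : ∃ r : GolayPt, r ∉ ({none, p, p'} : Finset GolayPt) := by
      by_contra hcon
      push Not at hcon
      have h1 : (Finset.univ : Finset GolayPt) ⊆ {none, p, p'} := fun z _ => hcon z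
      have h2 := Finset.card_le_card h1
      rw [Finset.card_univ, card_golayPt] at h2
      have h3 : ({none, p, p'} : Finset GolayPt).card ≤ 3 := Finset.card_le_three
      omega
    simp only [Finset.mem_insert, Finset.mem_singleton, not_or] at hr
    obtain ⟨g, hg, e1, e2, e3⟩ := trans3 none p p' none p r (Ne.symm hp0) (Ne.symm hp0') hne
      (Ne.symm hp0) (Ne.symm hr.1) (Ne.symm hr.2.1)
    have h1 := h ⟨g, mem_M23.mpr ⟨hg, e1⟩⟩ e2
    exact hr.2.2 (e3.symm.trans h1)
  have hstab : ∀ p ∈ Finset.univ.erase (none : GolayPt), ∃ p' ∈ Finset.univ.erase (none : GolayPt),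
      ∀ g : ↥Cfsg.Spor.M23, g.1 p = p ↔ (α g).1 p' = p' := by
    intro p hp
    have hp0 := (Finset.mem_erase.mp hp).1
    have hc : Nat.card (imgStab Cfsg.Spor.M23 α p) = 443520 := by
      rw [card_imgStab, card_stab23 hp0]
    obtain ⟨b, hb, hfix⟩ := fix_of_card23 (imgStab Cfsg.Spor.M23 α p) (imgStab_le _ α p) hc
    refine ⟨b, Finset.mem_erase.mpr ⟨hb, Finset.mem_univ _⟩, ?_⟩
    apply stab_of_imgStab
    apply Subgroup.eq_of_le_of_card_ge
    · intro k hk
      exact Subgroup.mem_inf.mpr ⟨imgStab_le _ α p hk, MulAction.mem_stabilizer_iff.mpr (hfix k hk)⟩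
    · rw [hc, card_stab23 hb]
  obtain ⟨σ, hσfix, hσ⟩ := exists_perm_of_stab Cfsg.Spor.M23 α (Finset.univ.erase none)
    hΔ hinj hstab
  have hσnone : σ none = none := hσfix none (by simp)
  have hnorm : ∀ g ∈ Cfsg.Spor.M23, σ⁻¹ * g * σ ∈ Cfsg.Spor.M23 := by
    intro g hg
    have h1 := hσ (α.symm ⟨g, hg⟩)
    rw [MulEquiv.apply_symm_apply] at h1
    have h2 : σ⁻¹ * g * σ = (α.symm ⟨g, hg⟩).1 := by
      have h3 : g = σ * (α.symm ⟨g, hg⟩).1 * σ⁻¹ := h1
      generalize (α.symm ⟨g, hg⟩).1 = t at h3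
      rw [h3]
      group
    rw [h2]
    exact (α.symm ⟨g, hg⟩).2
  have hoct : ∀ o ∈ octads, (none : GolayPt) ∈ o → σ • o ∈ octads := by
    intro o ho hno
    apply smul_octad_of_normalizes Cfsg.Spor.M23 σ {none} (by simp) ?_ ?_ hnorm ho
      (Finset.singleton_subset_iff.mpr hno)
    · intro g
      rw [mem_M23]
      simp
    · intro z hz
      rw [Finset.mem_singleton] at hz
      rw [hz]
      exact hσnone
  have hσM : σ ∈ Cfsg.Spor.M23 := mem_M23.mpr ⟨mem_M24_of_smul_octads_none hoct, hσnone⟩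
  exact inner_of_conj _ α σ hσM hσ

end Cfsg.Agent.Lib.Helper3.M23Out
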