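import Mathlib
import Cfsg.Prelude.Def_Sporadic_a
import Cfsg.Prelude.Def_Spor_Mathieu
import Cfsg.Prelude.Def_KGroupFacts
import Cfsg.Agent.Lib.Helper3.M23Out
import Cfsg.Agent.Lib.Helper3.Golay3

set_option autoImplicit false

namespace Cfsg.Agent.Lib.Helper3.M22Fix

open Cfsg Cfsg.Agent.Lib.Helper3.Golay Cfsg.Agent.Lib.Helper3.Golay2
open Cfsg.Agent.Lib.Helper3.GolayM24 Cfsg.Agent.Lib.Helper3.M24Perm
open Cfsg.Agent.Lib.Helper3.M24Cert Cfsg.Agent.Lib.Helper3.M24Order
open Cfsg.Agent.Lib.Helper3.M24Trans Cfsg.Agent.Lib.Helper3.M24Oct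
open Cfsg.Agent.Lib.Helper3.M24OctA8 Cfsg.Agent.Lib.Helper3.M24OctSplit
open Cfsg.Agent.Lib.Helper3.M24Aut Cfsg.Agent.Lib.Helper3.M24Out
open Cfsg.Agent.Lib.Helper3.Steiner Cfsg.Agent.Lib.Helper3.Steiner2
open Cfsg.Agent.Lib.Helper3.Golay3
open scoped Pointwise

/-- the code built from the squares modulo 23 is its own orthogonal complement. -/
theorem mem_of_orth {v : GolayPt → ZMod 2} (h : ∀ w ∈ golayCode, ∑ i, w i * v i = 0) :
    v ∈ golayCode := by
  classical
  let B : LinearMap.BilinForm (ZMod 2) (GolayPt → ZMod 2) :=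
    Matrix.toBilin' (1 : Matrix GolayPt GolayPt (ZMod 2))
  have hB : B.Nondegenerate :=
    LinearMap.BilinForm.nondegenerate_toBilin'_of_det_ne_zero' _
      (by rw [Matrix.det_one]; exact one_ne_zero)
  have happ : ∀ x y, B x y = ∑ i, x i * y i := by
    intro x y
    show Matrix.toBilin' 1 x y = _
    rw [Matrix.toBilin'_apply', Matrix.one_mulVec]
    rfl
  have hle : golayCode ≤ B.orthogonal golayCode := by
    intro x hx
    rw [LinearMap.BilinForm.mem_orthogonal_iff]
    intro n hn
    show B n x = 0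
    rw [happ]
    exact dot_eq_zero hn hx
  have hfin : Module.finrank (ZMod 2) (B.orthogonal golayCode) = 12 := by
    rw [LinearMap.BilinForm.finrank_orthogonal hB, finrank_golayCode,
      Module.finrank_fintype_fun_eq_card, card_golayPt]
  have heq : golayCode = B.orthogonal golayCode :=
    Submodule.eq_of_le_of_finrank_eq hle (by rw [finrank_golayCode, hfin])
  rw [heq, LinearMap.BilinForm.mem_orthogonal_iff]
  intro n hn
  show B n v = 0
  rw [happ]
  exact h n hn

/-- an involution of `M24` fixing nine points is trivial. -/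
theorem invol_fix9 {z : Equiv.Perm GolayPt} (hz : z ∈ M24) (hzz : z * z = 1)
    (S : Finset GolayPt) (hS : 9 ≤ S.card) (hfix : ∀ x ∈ S, z x = x) : z = 1 := by
  classical
  obtain ⟨S', hS', hS'5⟩ := Finset.exists_subset_card_eq (show 5 ≤ S.card by omega)
  obtain ⟨o, ho, hSo⟩ := exists_octad S' hS'5
  have hzo : z • o = o := by
    by_contra hne
    have h1 := octads_inter_le (smul_mem_octads hz ho) ho hne
    have h2 : S' ⊆ z • o ∩ o := by
      intro x hx
      rw [Finset.mem_inter]
      refine ⟨?_, hSo hx⟩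
      have h3 : z • x ∈ z • o := Finset.smul_mem_smul_finset (hSo hx)
      rw [Equiv.Perm.smul_def, hfix x (hS' hx)] at h3
      exact h3
    have h3 := Finset.card_le_card h2
    omega
  let g : ↥(stabO o) := ⟨z, mem_stabO.mpr ⟨hz, hzo⟩⟩
  have he_alt : resHom o g ∈ alternatingGroup ↥o := by
    rw [← range_resHom ho]
    exact ⟨g, rfl⟩
  have hee : (resHom o g) ^ 2 = 1 := by
    rw [pow_two, ← map_mul]
    have h1 : g * g = 1 := Subtype.ext hzz
    rw [h1, map_one]
  have hsupp : (resHom o g).support.card ≤ 3 := by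
    have h1 : (resHom o g).support.map (Function.Embedding.subtype _) ⊆ o \ S' := by
      intro x hx
      rw [Finset.mem_map] at hx
      obtain ⟨y, hy, rfl⟩ := hx
      rw [Equiv.Perm.mem_support] at hy
      rw [Finset.mem_sdiff]
      refine ⟨y.2, fun hyS => hy ?_⟩
      apply Subtype.ext
      rw [resHom_apply]
      exact hfix y.1 (hS' hyS)
    have h2 := Finset.card_le_card h1
    rw [Finset.card_map, Finset.card_sdiff_of_subset hSo, ho.2, hS'5] at h2
    exact h2
  have hone : resHom o g = 1 := by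
    have h1 := Equiv.Perm.card_support_ne_one (resHom o g)
    have h2 : (resHom o g).support.card = 0 ∨ (resHom o g).support.card = 2 ∨
        (resHom o g).support.card = 3 := by omega
    rcases h2 with h | h | h
    · rw [Finset.card_eq_zero, Equiv.Perm.support_eq_empty_iff] at h
      exact h
    · exfalso
      have h3 := (Equiv.Perm.card_support_eq_two.mp h).sign_eq
      rw [Equiv.Perm.mem_alternatingGroup] at he_alt
      rw [he_alt] at h3
      revert h3
      decide
    · exfalso
      have h3 := (card_support_eq_three_iff.mp h).orderOf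
      have h4 := orderOf_dvd_of_pow_eq_one hee
      rw [h3] at h4
      revert h4
      decide
  have hall : ∀ x ∈ o, z x = x := by
    intro x hx
    have h1 := resHom_apply o g ⟨x, hx⟩
    rw [hone] at h1
    exact h1.symm
  obtain ⟨p, hpS, hpo⟩ : ∃ p ∈ S, p ∉ o := by
    apply Finset.exists_mem_notMem_of_card_lt_card
    rw [ho.2]
    omega
  have h1 : z ∈ (M24 ⊓ fixingSubgroup (Equiv.Perm GolayPt) (o : Set GolayPt)) ⊓
      (M24 ⊓ MulAction.stabilizer (Equiv.Perm GolayPt) o ⊓
        MulAction.stabilizer (Equiv.Perm GolayPt) p) :=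
    Subgroup.mem_inf.mpr ⟨mem_K.mpr ⟨hz, hall⟩, mem_A.mpr ⟨hz, hzo, hfix p hpS⟩⟩
  rw [K_inf_A ho hpo, Subgroup.mem_bot] at h1
  exact h1

/-- an element of order three of `M24` fixing nine points is trivial. -/
theorem ord3_fix9 {z : Equiv.Perm GolayPt} (hz : z ∈ M24) (hz3 : z ^ 3 = 1)
    (S : Finset GolayPt) (hS : 9 ≤ S.card) (hfix : ∀ x ∈ S, z x = x) : z = 1 := by
  classical
  by_contra hne
  have hp3 : Fact (Nat.Prime 3) := ⟨by norm_num⟩
  obtain ⟨F, hFS, hF9⟩ := Finset.exists_subset_card_eq hS
  have hle : ∀ o ∈ blocks octads, (F ∩ o).card ≤ 5 := by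
    intro o ho
    rw [mem_blocks] at ho
    by_contra hgt
    push Not at hgt
    have hzo : z • o = o := by
      by_contra hne'
      have h1 := octads_inter_le (smul_mem_octads hz ho) ho hne'
      have h2 : F ∩ o ⊆ z • o ∩ o := by
        intro x hx
        rw [Finset.mem_inter] at hx ⊢
        refine ⟨?_, hx.2⟩
        have h3 : z • x ∈ z • o := Finset.smul_mem_smul_finset hx.2
        rw [Equiv.Perm.smul_def, hfix x (hFS hx.1)] at h3
        exact h3
      have h3 := Finset.card_le_card h2
      omega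
    have hmem : ∀ x, z x ∈ o ↔ x ∈ o := mem_iff_of_smul_eq hzo
    have hmemF : ∀ x, z x ∈ F ∩ o ↔ x ∈ F ∩ o := by
      intro x
      constructor
      · intro h
        have h1 := hfix (z x) (hFS (Finset.mem_inter.mp h).1)
        rw [z.injective h1] at h
        exact h
      · intro h
        rw [hfix x (hFS (Finset.mem_inter.mp h).1)]
        exact h
    have hT : ∀ x, z x ∈ o \ (F ∩ o) ↔ x ∈ o \ (F ∩ o) := by
      intro x
      rw [Finset.mem_sdiff, Finset.mem_sdiff, hmem, hmemF]
    have hc := card_fixed_modEq z (o \ (F ∩ o)) hT 3 hz3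
    have hcard : (o \ (F ∩ o)).card ≤ 2 := by
      rw [Finset.card_sdiff_of_subset Finset.inter_subset_right, ho.2]
      omega
    have hle' : ((o \ (F ∩ o)).filter (fun x => z x = x)).card ≤ (o \ (F ∩ o)).card :=
      Finset.card_filter_le _ _
    have heq : ((o \ (F ∩ o)).filter (fun x => z x = x)).card = (o \ (F ∩ o)).card :=
      Nat.ModEq.eq_of_lt_of_lt hc (by omega) (by omega)
    have hfilter : (o \ (F ∩ o)).filter (fun x => z x = x) = o \ (F ∩ o) :=
      Finset.eq_of_subset_of_card_le (Finset.filter_subset _ _) (by rw [heq])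
    have hall : ∀ x ∈ o, z x = x := by
      intro x hx
      by_cases hxF : x ∈ F ∩ o
      · exact hfix x (hFS (Finset.mem_inter.mp hxF).1)
      · have h1 : x ∈ (o \ (F ∩ o)).filter (fun x => z x = x) := by
          rw [hfilter, Finset.mem_sdiff]
          exact ⟨hx, hxF⟩
        exact (Finset.mem_filter.mp h1).2
    have hsq := (octad_pointwise o ho).2 z (mem_K.mpr ⟨hz, hall⟩)
    apply hne
    have h1 : z ^ 3 = z * (z * z) := by rw [pow_succ, pow_two, mul_assoc]
    rw [h1, hsq, mul_one] at hz3
    exact hz3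
  have h0 := sum_octads_choose_zero F
  have h1 := sum_octads_choose_one F
  have h2 := sum_octads_choose_two F
  have h3 := sum_octads_choose_three F
  have h4 := sum_octads_choose_four F
  have h5 := sum_octads_choose_five F
  rw [hF9] at h1 h2 h3 h4 h5
  have hpt : ∀ o ∈ blocks octads,
      Nat.choose (F ∩ o).card 1 + Nat.choose (F ∩ o).card 3 + Nat.choose (F ∩ o).card 5 ≤
      Nat.choose (F ∩ o).card 0 + Nat.choose (F ∩ o).card 2 + Nat.choose (F ∩ o).card 4 := by
    intro o ho
    have h := hle o ho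
    generalize (F ∩ o).card = a at h
    interval_cases a <;> decide
  have hsum := Finset.sum_le_sum hpt
  rw [Finset.sum_add_distrib, Finset.sum_add_distrib, Finset.sum_add_distrib,
    Finset.sum_add_distrib, h0, h1, h2, h3, h4, h5] at hsum
  revert hsum
  decide

/-- a nontrivial element of `M24` fixes at most eight points. -/
theorem fix9_trivial {g : Equiv.Perm GolayPt} (hg : g ∈ M24) (S : Finset GolayPt)
    (hS : 9 ≤ S.card) (hfix : ∀ x ∈ S, g x = x) : g = 1 := by
  by_contra hne
  have hord : orderOf g ≠ 1 := fun h => hne (orderOf_eq_one_iff.mp h)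
  obtain ⟨p, hp, hpd⟩ := Nat.exists_prime_and_dvd hord
  obtain ⟨m, hm⟩ := hpd
  have hk : g ^ m ∈ M24 := M24.pow_mem hg m
  have hkp : (g ^ m) ^ p = 1 := by
    rw [← pow_mul, mul_comm, ← hm, pow_orderOf_eq_one]
  have hpos : 0 < orderOf g := orderOf_pos g
  have hmpos : 0 < m := by
    rcases Nat.eq_zero_or_pos m with h0 | h0
    · rw [h0, mul_zero] at hm
      omega
    · exact h0
  have hk1 : g ^ m ≠ 1 := by
    intro h
    have h1 : orderOf g ∣ m := orderOf_dvd_of_pow_eq_one h
    have h2 := Nat.le_of_dvd hmpos h1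
    have h3 := hp.two_le
    nlinarith
  have hkfix : ∀ x ∈ S, (g ^ m) x = x := fun x hx =>
    Equiv.Perm.pow_apply_eq_self_of_apply_eq_self (hfix x hx) m
  have hcases : p = 2 ∨ p = 3 ∨ 5 ≤ p := by
    have h2 := hp.two_le
    rcases Nat.lt_or_ge p 5 with h | h
    · interval_cases p
      · left; rfl
      · right; left; rfl
      · exfalso; revert hp; decide
    · right; right; exact h
  apply hk1
  rcases hcases with h | h | h
  · subst h
    exact invol_fix9 hk (by rw [← pow_two]; exact hkp) S hS hkfix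
  · subst h
    exact ord3_fix9 hk hkp S hS hkfix
  · exact fix5_trivial hk S (by omega) hkfix hp h hkp

end Cfsg.Agent.Lib.Helper3.M22Fix
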