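import Mathlib
import Cfsg.Prelude.Def_Sporadic_a
import Cfsg.Prelude.Def_Spor_Mathieu
import Cfsg.Prelude.Def_KGroupFacts
import Cfsg.Agent.Lib.Helper3.M22Fix
import Cfsg.Agent.Lib.Helper3.M24Dod

set_option autoImplicit false

namespace Cfsg.Agent.Lib.Helper3.M12Data

open Cfsg Cfsg.Agent.Lib.Helper3.Golay Cfsg.Agent.Lib.Helper3.Golay2
open Cfsg.Agent.Lib.Helper3.GolayM24 Cfsg.Agent.Lib.Helper3.M24Perm
open Cfsg.Agent.Lib.Helper3.M24Cert Cfsg.Agent.Lib.Helper3.M24Cert2
open Cfsg.Agent.Lib.Helper3.M24Order
open Cfsg.Agent.Lib.Helper3.M24Trans Cfsg.Agent.Lib.Helper3.M24Oct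
open Cfsg.Agent.Lib.Helper3.M24OctA8 Cfsg.Agent.Lib.Helper3.M24OctSplit
open Cfsg.Agent.Lib.Helper3.M24Aut Cfsg.Agent.Lib.Helper3.M24Out
open Cfsg.Agent.Lib.Helper3.M22Fix Cfsg.Agent.Lib.Helper3.M24Dod
open scoped Pointwise

/-- twelve octads spanning the code, each the fixed-point set of an involution stabilising
the standard dodecad -/
def octL12 : List ℕ := [15777, 18147, 36294, 42232, 84464, 133817, 290352, 535268, 1050548, 2101096, 4202192, 8391797]

def phiL12 : List ℕ := [93, 162, 328, 663, 1342, 608, 1220, 406, 829, 1638, 1246, 4090]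

/-- the involutions (as tables) fixing the octads of `octL12` pointwise -/
def invL12 : List ℕ := [642041783763028730224227993988959360, 721064549862662597311266359538158624, 233063521881238502918052074840524836, 483480087715247111514928717152485762, 803048693414536666626749225330871730, 897915829269799049967667047276061088, 840573392065610304814719585164004624, 604029926289668171748359725720537234, 892735891774019106164213520671967619, 944571122697285497263621287552595088, 735548533734033527546468929854573569, 983553042649537266979977019204733184]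

/-- `T` is a nontrivial involution of the stabiliser of the standard dodecad fixing the points
of the mask `o`. -/
def invOK (T o : ℕ) : Bool :=
  inFix [cw 1] [] T && (List.range 24).all (fun i => Nat.beq (ent T (ent T i)) i) &&
    (List.range 24).all (fun i => !(o.testBit i) || Nat.beq (ent T i) i) &&
    (List.range 24).any (fun i => !(Nat.beq (ent T i) i))

theorem octL12_ok : octL12.all (fun g => Nat.beq (cw (kOf g)) g && Nat.beq (pc g) 8 &&
    invL12.any (fun T => invOK T g)) = true := by
  decide +kernel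

theorem span12_ok :
    (List.range 4096).all (fun k => Nat.beq (cw k) (comb octL12 (comb phiL12 k))) = true := by
  decide +kernel

theorem cw_eq_comb_oct12 {k : ℕ} (hk : k < 4096) : cw k = comb octL12 (comb phiL12 k) := by
  have h := span12_ok
  rw [List.all_eq_true] at h
  exact Nat.eq_of_beq_eq_true (h k (List.mem_range.mpr hk))

theorem tp_invol {T : ℕ} (hg : good T = true)
    (h : (List.range 24).all (fun i => Nat.beq (ent T (ent T i)) i) = true) :
    tp T * tp T = 1 := by
  rw [List.all_eq_true] at h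
  apply Equiv.ext
  intro p
  rw [Equiv.Perm.mul_apply, Equiv.Perm.one_apply]
  have h1 := h (idx p) (List.mem_range.mpr (idx_lt p))
  have h2 : tp T p = pt (ent T (idx p)) := tp_apply hg p
  rw [h2, tp_pt hg (good_lt hg _ (idx_lt p)), Nat.eq_of_beq_eq_true h1, pt_idx]

theorem tp_fix_of_ent {T i : ℕ} (hg : good T = true) (hi : i < 24) (h : ent T i = i) :
    tp T (pt i) = pt i := by
  rw [tp_pt hg hi, h]

theorem tp_ne_one {T : ℕ} (hg : good T = true)
    (h : (List.range 24).any (fun i => !(Nat.beq (ent T i) i)) = true) : tp T ≠ 1 := by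
  rw [List.any_eq_true] at h
  obtain ⟨i, hi, h1⟩ := h
  have hi' : i < 24 := List.mem_range.mp hi
  intro hone
  have h2 : tp T (pt i) = pt i := by rw [hone]; rfl
  rw [tp_pt hg hi'] at h2
  have h3 := pt_injOn (good_lt hg i hi') hi' h2
  rw [h3] at h1
  simp at h1

theorem tp_eq_one {T : ℕ} (hg : good T = true)
    (h : (List.range 24).all (fun i => Nat.beq (ent T i) i) = true) : tp T = 1 := by
  rw [List.all_eq_true] at h
  apply Equiv.ext
  intro p
  have h1 := h (idx p) (List.mem_range.mpr (idx_lt p))
  have h2 : tp T p = pt (ent T (idx p)) := tp_apply hg p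
  rw [h2, Nat.eq_of_beq_eq_true h1, pt_idx]
  rfl

/-- each octad of `octL12` is fixed pointwise by a nontrivial involution of the stabiliser of
the standard dodecad. -/
theorem octL12_spec : ∀ g ∈ octL12, ms g ∈ octads ∧ dec g ∈ golayCode ∧
    ∃ t ∈ fixG [cw 1] [], t * t = 1 ∧ t ≠ 1 ∧ ∀ p ∈ ms g, t p = p := by
  intro g hg
  have h := octL12_ok
  rw [List.all_eq_true] at h
  have h1 := h g hg
  simp only [Bool.and_eq_true, List.any_eq_true] at h1
  obtain ⟨⟨e1, e2⟩, T, _, hT⟩ := h1
  have e1' : cw (kOf g) = g := Nat.eq_of_beq_eq_true e1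
  have e2' : pc g = 8 := Nat.eq_of_beq_eq_true e2
  have hcode : dec g ∈ golayCode := by
    rw [← e1']
    exact dec_cw_mem _
  refine ⟨⟨?_, by rw [card_ms, e2']⟩, hcode, ?_⟩
  · rw [ms_eq_support]
    exact ⟨dec g, hcode, rfl⟩
  · simp only [invOK, Bool.and_eq_true] at hT
    obtain ⟨⟨⟨hfix, hinv⟩, hpt⟩, hne⟩ := hT
    have hg' := inFix_good hfix
    refine ⟨tp T, tp_mem_fixG hfix, tp_invol hg' hinv, tp_ne_one hg' hne, ?_⟩
    intro p hp
    rw [List.all_eq_true] at hpt
    have h2 := hpt (idx p) (List.mem_range.mpr (idx_lt p))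
    rw [mem_ms] at hp
    simp only [hp, Bool.not_true, Bool.false_or] at h2
    have h3 := tp_fix_of_ent hg' (idx_lt p) (Nat.eq_of_beq_eq_true h2)
    rw [pt_idx] at h3
    exact h3

/-- in the quaternion group fixing four points of the standard dodecad, the involution has
fixed points outside the dodecad. -/
theorem q8_ok : dts5.all (fun T =>
    (List.range 24).any (fun i => !(Nat.beq (ent T (ent T i)) i)) ||
    (List.range 24).all (fun i => Nat.beq (ent T i) i) ||
    (List.range 24).any (fun i => !((cw 1).testBit i) && Nat.beq (ent T i) i)) = true := by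
  decide +kernel

theorem q8_invol {g : Equiv.Perm GolayPt} (hg : g ∈ fixG [cw 1] [3, 2, 1, 0])
    (hgg : g * g = 1) (hg1 : g ≠ 1) : ∃ c, c ∉ ms (cw 1) ∧ g c = c := by
  obtain ⟨T, hT, hfix, rfl⟩ := level_enum dl5 (by decide) fixd5_bot hg
  have hgood := inFix_good hfix
  have h := q8_ok
  rw [List.all_eq_true] at h
  have h1 := h T hT
  simp only [Bool.or_eq_true] at h1
  rcases h1 with (h1 | h1) | h1
  · exfalso
    rw [List.any_eq_true] at h1
    obtain ⟨i, hi, h2⟩ := h1
    have hi' : i < 24 := List.mem_range.mp hi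
    have h3 : (tp T * tp T) (pt i) = pt i := by rw [hgg]; rfl
    rw [Equiv.Perm.mul_apply, tp_pt hgood hi', tp_pt hgood (good_lt hgood i hi')] at h3
    have h4 := pt_injOn (good_lt hgood _ (good_lt hgood i hi')) hi' h3
    rw [h4] at h2
    simp at h2
  · exact absurd (tp_eq_one hgood h1) hg1
  · rw [List.any_eq_true] at h1
    obtain ⟨i, hi, h2⟩ := h1
    have hi' : i < 24 := List.mem_range.mp hi
    simp only [Bool.and_eq_true, Bool.not_eq_true'] at h2
    refine ⟨pt i, ?_, tp_fix_of_ent hgood hi' (Nat.eq_of_beq_eq_true h2.2)⟩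
    rw [pt_mem_ms hi', h2.1]
    simp

/-- two elements fixing the base points `0`, `5`, `7` which together move every other point
of the standard dodecad -/
def l4ts : List ℕ := [944293816565412651426207388111472672, 430544258669838663854081153609867392]

theorem l4_mem : l4ts.all (inFix [cw 1] [7, 5, 0]) = true := by
  decide +kernel

theorem l4_ok : (List.range 24).all (fun i => !((cw 1).testBit i) || Nat.beq i 0 ||
    l4ts.any (fun T => !(Nat.beq (ent T i) i))) = true := by
  decide +kernel

theorem l4_move {c : GolayPt} (hc : c ∈ ms (cw 1)) (hc0 : c ≠ pt 0) :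
    ∃ g ∈ fixG [cw 1] [7, 5, 0], g c ≠ c := by
  have h := l4_ok
  rw [List.all_eq_true] at h
  have h1 := h (idx c) (List.mem_range.mpr (idx_lt c))
  rw [mem_ms] at hc
  simp only [hc, Bool.not_true, Bool.false_or, Bool.or_eq_true, List.any_eq_true] at h1
  rcases h1 with h1 | ⟨T, hT, h2⟩
  · exfalso
    apply hc0
    rw [← pt_idx c, Nat.eq_of_beq_eq_true h1]
  · have hm := l4_mem
    rw [List.all_eq_true] at hm
    have hfix := hm T hT
    have hgood := inFix_good hfix
    refine ⟨tp T, tp_mem_fixG hfix, ?_⟩
    intro h3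
    have h4 : tp T (pt (idx c)) = pt (idx c) := by rw [pt_idx]; exact h3
    rw [tp_pt hgood (idx_lt c)] at h4
    have h5 := pt_injOn (good_lt hgood _ (idx_lt c)) (idx_lt c) h4
    rw [h5] at h2
    simp at h2

/-- the map `t ↦ -1/t`, as a table -/
def swapT : ℕ := 1795248432537898728475572672376535

theorem swap_ok : (inM swapT && Nat.beq (apm swapT (cw 1)) 16436384) = true := by
  decide +kernel

theorem compl_bits : ∀ i < 24, Nat.testBit 16436384 i = !(cw 1).testBit i := by
  decide +kernel

theorem ms_compl : ms 16436384 = Finset.univ \ ms (cw 1) := by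
  ext p
  rw [Finset.mem_sdiff, mem_ms, mem_ms, compl_bits _ (idx_lt p)]
  simp

/-- an element of `M24` exchanging the standard dodecad and its complement. -/
theorem exists_swap_dod : ∃ g ∈ M24, g • ms (cw 1) = Finset.univ \ ms (cw 1) := by
  have h := swap_ok
  simp only [Bool.and_eq_true] at h
  refine ⟨tp swapT, tp_mem_M24 h.1, ?_⟩
  rw [smul_ms (inM_good h.1), Nat.eq_of_beq_eq_true h.2, ms_compl]

theorem squareDodecad_eq : Cfsg.Spor.squareDodecad = ms (cw 1) := by
  have h1 : qrWord 0 = dec (cw 1) := by
    rw [qrWord_eq]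
    rfl
  show support₂ (qrWord 0) = ms (cw 1)
  rw [h1, ms_eq_support]

end Cfsg.Agent.Lib.Helper3.M12Data
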