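import Mathlib
import Cfsg.Prelude.Def_Sporadic_a
import Cfsg.Prelude.Def_Spor_Mathieu
import Cfsg.Prelude.Def_KGroupFacts
import Cfsg.Agent.Lib.Helper3.M12Data

set_option autoImplicit false

namespace Cfsg.Agent.Lib.Helper3.M11Data

open Cfsg Cfsg.Agent.Lib.Helper3.Golay Cfsg.Agent.Lib.Helper3.Golay2
open Cfsg.Agent.Lib.Helper3.GolayM24 Cfsg.Agent.Lib.Helper3.M24Perm
open Cfsg.Agent.Lib.Helper3.M24Cert Cfsg.Agent.Lib.Helper3.M24Cert2
open Cfsg.Agent.Lib.Helper3.M24Order
open Cfsg.Agent.Lib.Helper3.M24Trans Cfsg.Agent.Lib.Helper3.M24Oct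
open Cfsg.Agent.Lib.Helper3.M24OctA8 Cfsg.Agent.Lib.Helper3.M24OctSplit
open Cfsg.Agent.Lib.Helper3.M24Aut Cfsg.Agent.Lib.Helper3.M24Out
open Cfsg.Agent.Lib.Helper3.M22Fix Cfsg.Agent.Lib.Helper3.M24Dod
open Cfsg.Agent.Lib.Helper3.M12Data
open scoped Pointwise

/-- twelve octads spanning the code, each the fixed-point set of an involution stabilising
the standard dodecad and fixing its point `0` -/
def octL11 : List ℕ := [15777, 18147, 52005, 118953, 133817, 153797, 298027, 542009, 1075305, 2115979, 4216883, 8391797]

def phiL11 : List ℕ := [121, 163, 371, 650, 1326, 613, 1218, 440, 813, 1635, 1225, 4076]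

/-- the involutions (as tables) fixing the octads of `octL11` pointwise -/
def invL11 : List ℕ := [642041783763028730224227993988959360, 721064549862662597311266359538158624, 899228651922494682346309486665402784, 855866593458267070919526726698637728, 897915829269799049967667047276061088, 858949039613306814270515363285830048, 313674380516085836957177657543472160, 895315753051310065218259353346352704, 435164862652805219953057134465356032, 438309809805128941928441216923451424, 735500604421669808992593446508235808, 983553042649537266979977019204733184]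

/-- `T` is a nontrivial involution of the stabiliser of the standard dodecad and its point `0`
fixing the points of the mask `o`. -/
def invOK11 (T o : ℕ) : Bool :=
  inFix [cw 1] [0] T && (List.range 24).all (fun i => Nat.beq (ent T (ent T i)) i) &&
    (List.range 24).all (fun i => !(o.testBit i) || Nat.beq (ent T i) i) &&
    (List.range 24).any (fun i => !(Nat.beq (ent T i) i))

theorem octL11_ok : octL11.all (fun g => Nat.beq (cw (kOf g)) g && Nat.beq (pc g) 8 &&
    invL11.any (fun T => invOK11 T g)) = true := by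
  decide +kernel

theorem span11_ok :
    (List.range 4096).all (fun k => Nat.beq (cw k) (comb octL11 (comb phiL11 k))) = true := by
  decide +kernel

theorem cw_eq_comb_oct11 {k : ℕ} (hk : k < 4096) : cw k = comb octL11 (comb phiL11 k) := by
  have h := span11_ok
  rw [List.all_eq_true] at h
  exact Nat.eq_of_beq_eq_true (h k (List.mem_range.mpr hk))

/-- each octad of `octL11` is fixed pointwise by a nontrivial involution of the stabiliser of
the standard dodecad and its point `0`. -/
theorem octL11_spec : ∀ g ∈ octL11, ms g ∈ octads ∧ dec g ∈ golayCode ∧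
    ∃ t ∈ fixG [cw 1] [0], t * t = 1 ∧ t ≠ 1 ∧ ∀ p ∈ ms g, t p = p := by
  intro g hg
  have h := octL11_ok
  rw [List.all_eq_true] at h
  have h1 := h g hg
  simp only [Bool.and_eq_true, List.any_eq_true] at h1
  obtain ⟨⟨e1, e2⟩, T, _, hT⟩ := h1
  have e1' : cw (kOf g) = g := Nat.eq_of_beq_eq_true e1
  have e2' : pc g = 8 := Nat.eq_of_beq_eq_true e2
  have hcode : dec g ∈ golayCode := by
    rw [← e1']
    exact dec_cw_mem _
  refine ⟨⟨?_, by rw [card_ms, e2']⟩, hcode, ?_⟩
  · rw [ms_eq_support]
    exact ⟨dec g, hcode, rfl⟩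
  · simp only [invOK11, Bool.and_eq_true] at hT
    obtain ⟨⟨⟨hfix, hinv⟩, hpt⟩, hne⟩ := hT
    have hg' := inFix_good hfix
    refine ⟨tp T, tp_mem_fixG hfix, tp_invol hg' hinv, tp_ne_one hg' hne, ?_⟩
    intro p hp
    rw [List.all_eq_true] at hpt
    have h2 := hpt (idx p) (List.mem_range.mpr (idx_lt p))
    rw [mem_ms] at hp
    simp only [hp, Bool.not_true, Bool.false_or] at h2
    have h3 := tp_fix_of_ent hg' (idx_lt p) (Nat.eq_of_beq_eq_true h2)
    rw [pt_idx] at h3
    exact h3

theorem pt0_eq : pt 0 = (some 0 : GolayPt) := by decide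

theorem pt0_mem : pt 0 ∈ ms (cw 1) := by
  rw [pt_mem_ms (by norm_num)]
  decide +kernel

end Cfsg.Agent.Lib.Helper3.M11Data
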