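import Mathlib
import Cfsg.Prelude.Def_Sporadic_a
import Cfsg.Prelude.Def_Spor_Mathieu
import Cfsg.Prelude.Def_KGroupFacts
import Cfsg.Agent.Lib.Helper3.M24Out

set_option autoImplicit false

namespace Cfsg.Agent.Lib.Helper3.M24Out2

open Cfsg Cfsg.Agent.Lib.Helper3.Golay Cfsg.Agent.Lib.Helper3.Golay2
open Cfsg.Agent.Lib.Helper3.GolayM24 Cfsg.Agent.Lib.Helper3.M24Perm
open Cfsg.Agent.Lib.Helper3.M24Cert Cfsg.Agent.Lib.Helper3.M24Order
open Cfsg.Agent.Lib.Helper3.M24Trans Cfsg.Agent.Lib.Helper3.M24Oct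
open Cfsg.Agent.Lib.Helper3.M24OctA8 Cfsg.Agent.Lib.Helper3.M24OctSplit
open Cfsg.Agent.Lib.Helper3.M24Aut Cfsg.Agent.Lib.Helper3.M24Out
open Cfsg.Agent.Lib.Helper3
open scoped Pointwise

/-- no involution of `M24` has exactly two fixed points. -/
theorem no_invol_two_fix {t : Equiv.Perm GolayPt} (ht : t ∈ M24) (ht2 : t * t = 1)
    (hfix : (Finset.univ.filter (fun z => t z = z)).card = 2) : False := by
  classical
  have hp2 : Fact (Nat.Prime 2) := ⟨Nat.prime_two⟩
  obtain ⟨a, b, hab, hF⟩ := Finset.card_eq_two.mp hfix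
  have hta : t a = a := by
    have h1 : a ∈ Finset.univ.filter (fun z => t z = z) := by rw [hF]; simp
    exact (Finset.mem_filter.mp h1).2
  have hall : ∀ z, t z = z → z = a ∨ z = b := by
    intro z hz
    have h1 : z ∈ Finset.univ.filter (fun z => t z = z) :=
      Finset.mem_filter.mpr ⟨Finset.mem_univ _, hz⟩
    rw [hF, Finset.mem_insert, Finset.mem_singleton] at h1
    exact h1
  let X : Finset (Finset GolayPt) := (Steiner.blocks octads).filter (fun c => {a} ⊆ c)
  have hX : X.card = 253 := by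
    have h := Steiner.card_through octads_steiner {a} (by simp)
    rw [Finset.card_singleton, card_golayPt] at h
    have h1 : Nat.choose (8 - 1) (5 - 1) = 35 := by decide
    have h2 : Nat.choose (24 - 1) (5 - 1) = 8855 := by decide
    rw [h1, h2] at h
    show ((Steiner.blocks octads).filter (fun c => {a} ⊆ c)).card = 253
    omega
  let f : Equiv.Perm (Finset GolayPt) := MulAction.toPerm t
  have hf2 : f ^ 2 = 1 := by
    apply Equiv.ext
    intro o
    show t • t • o = o
    rw [← mul_smul, ht2, one_smul]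
  have hT : ∀ o, f o ∈ X ↔ o ∈ X := by
    intro o
    show t • o ∈ X ↔ o ∈ X
    simp only [X, Finset.mem_filter, Steiner.mem_blocks, Finset.singleton_subset_iff]
    constructor
    · rintro ⟨h1, h2⟩
      have h3 := smul_mem_octads ht h1
      rw [← mul_smul, ht2, one_smul] at h3
      refine ⟨h3, ?_⟩
      have h4 : t • a ∈ t • t • o := Finset.smul_mem_smul_finset h2
      rw [← mul_smul, ht2, one_smul, Equiv.Perm.smul_def, hta] at h4
      exact h4
    · rintro ⟨h1, h2⟩
      refine ⟨smul_mem_octads ht h1, ?_⟩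
      have h4 : t • a ∈ t • o := Finset.smul_mem_smul_finset h2
      rw [Equiv.Perm.smul_def, hta] at h4
      exact h4
  have hm := card_fixed_modEq f X hT 2 hf2
  rw [hX] at hm
  have hne : (X.filter (fun o => f o = o)).Nonempty := by
    rw [← Finset.card_pos]
    unfold Nat.ModEq at hm
    omega
  obtain ⟨o, ho⟩ := hne
  rw [Finset.mem_filter] at ho
  obtain ⟨hoX, hfo⟩ := ho
  have hto : t • o = o := hfo
  simp only [X, Finset.mem_filter, Steiner.mem_blocks, Finset.singleton_subset_iff] at hoX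
  obtain ⟨hoct, hao⟩ := hoX
  have hm2 := card_fixed_modEq t o (mem_iff_of_smul_eq hto) 2 (by rw [pow_two]; exact ht2)
  rw [hoct.2] at hm2
  have hsub : o.filter (fun z => t z = z) ⊆ {a, b} := by
    intro z hz
    rw [Finset.mem_insert, Finset.mem_singleton]
    exact hall z (Finset.mem_filter.mp hz).2
  have hamem : a ∈ o.filter (fun z => t z = z) := Finset.mem_filter.mpr ⟨hao, hta⟩
  have hc2 : (o.filter (fun z => t z = z)).card = 2 := by
    have h1 := Finset.card_le_card hsub
    rw [Finset.card_pair hab] at h1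
    have h2 : 0 < (o.filter (fun z => t z = z)).card := Finset.card_pos.mpr ⟨a, hamem⟩
    unfold Nat.ModEq at hm2
    omega
  have heq : o.filter (fun z => t z = z) = {a, b} :=
    Finset.eq_of_subset_of_card_le hsub (by rw [hc2, Finset.card_pair hab])
  have hbmem : b ∈ o.filter (fun z => t z = z) := by rw [heq]; simp
  have hbo : b ∈ o := (Finset.mem_filter.mp hbmem).1
  have htb : t b = b := (Finset.mem_filter.mp hbmem).2
  let g : ↥(stabO o) := ⟨t, mem_stabO.mpr ⟨ht, hto⟩⟩
  have hmem : resHom o g ∈ alternatingGroup ↥o := by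
    rw [← range_resHom hoct]
    exact ⟨g, rfl⟩
  have hsign := Equiv.Perm.mem_alternatingGroup.mp hmem
  have hg2 : g * g = 1 := Subtype.ext ht2
  have he2 : (resHom o g) ^ 2 = 1 := by
    rw [pow_two, ← map_mul, hg2, map_one]
  have hs := Equiv.Perm.sign_of_pow_two_eq_one he2
  have hfp : Function.fixedPoints ⇑(resHom o g) = {⟨a, hao⟩, ⟨b, hbo⟩} := by
    ext z
    rw [Function.mem_fixedPoints, Function.IsFixedPt, Set.mem_insert_iff, Set.mem_singleton_iff]
    constructor
    · intro h
      have h1 : t z.1 = z.1 := congrArg Subtype.val h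
      rcases hall z.1 h1 with h2 | h2
      · left; exact Subtype.ext h2
      · right; exact Subtype.ext h2
    · rintro (h | h)
      · rw [h]; exact Subtype.ext hta
      · rw [h]; exact Subtype.ext htb
  have hcard : Fintype.card ↑(Function.fixedPoints ⇑(resHom o g)) = 2 := by
    rw [Fintype.card_eq_nat_card, Nat.card_coe_set_eq, hfp, Set.ncard_pair]
    intro h
    exact hab (congrArg Subtype.val h)
  rw [hcard, Fintype.card_coe, hoct.2] at hs
  rw [hs] at hsign
  revert hsign
  decide

/-- an element of prime order centralising an element of order 11 fixing the same point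
has order 11. -/
theorem cent_prime {x e : Equiv.Perm GolayPt} (_hxM : x ∈ M24) (heM : e ∈ M24) {q b : GolayPt}
    (hx11 : x ^ 11 = 1) (hxq : x q = q) (hb : b ≠ q) (hbfix : x b = b)
    (hfixes : ∀ z, x z = z → z = q ∨ z = b)
    (heq : e q = q) (hcomm : x * e = e * x) {r : ℕ} (hr : r.Prime) (her : orderOf e = r) :
    r = 11 := by
  classical
  have hp11 : Fact (Nat.Prime 11) := ⟨by norm_num⟩
  have hpr : Fact (Nat.Prime r) := ⟨hr⟩
  have hc : ∀ z, x (e z) = e (x z) := fun z => congrArg (fun s : Equiv.Perm GolayPt => s z) hcomm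
  have heb : e b = b := by
    have h1 : x (e b) = e b := by rw [hc, hbfix]
    rcases hfixes _ h1 with h | h
    · exact absurd (e.injective (h.trans heq.symm)) hb
    · exact h
  have her' : e ^ r = 1 := by rw [← her]; exact pow_orderOf_eq_one _
  have he1 : e ≠ 1 := by
    intro h
    rw [h, orderOf_one] at her
    exact hr.one_lt.ne her
  let F : Finset GolayPt := Finset.univ.filter (fun z => e z = z)
  have hqF : q ∈ F := Finset.mem_filter.mpr ⟨Finset.mem_univ _, heq⟩
  have hbF : b ∈ F := Finset.mem_filter.mpr ⟨Finset.mem_univ _, heb⟩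
  have hFinv : ∀ z, x z ∈ F ↔ z ∈ F := by
    intro z
    simp only [F, Finset.mem_filter, Finset.mem_univ, true_and]
    constructor
    · intro h
      rw [← hc] at h
      exact x.injective h
    · intro h
      rw [← hc, h]
  have hT : ∀ z, x z ∈ (F.erase q).erase b ↔ z ∈ (F.erase q).erase b := by
    intro z
    rw [Finset.mem_erase, Finset.mem_erase, Finset.mem_erase, Finset.mem_erase, hFinv]
    constructor
    · rintro ⟨h1, h2, h3⟩
      refine ⟨fun h => h1 ?_, fun h => h2 ?_, h3⟩
      · rw [h, hbfix]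
      · rw [h, hxq]
    · rintro ⟨h1, h2, h3⟩
      refine ⟨fun h => h1 ?_, fun h => h2 ?_, h3⟩
      · exact x.injective (h.trans hbfix.symm)
      · exact x.injective (h.trans hxq.symm)
  have hm := card_fixed_modEq x ((F.erase q).erase b) hT 11 hx11
  have hempty : ((F.erase q).erase b).filter (fun z => x z = z) = ∅ := by
    rw [Finset.filter_eq_empty_iff]
    intro z hz hfix
    rw [Finset.mem_erase, Finset.mem_erase] at hz
    rcases hfixes z hfix with h | h
    · exact hz.2.1 h
    · exact hz.1 h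
  have hbFq : b ∈ F.erase q := Finset.mem_erase.mpr ⟨hb, hbF⟩
  rw [hempty, Finset.card_empty, Finset.card_erase_of_mem hbFq, Finset.card_erase_of_mem hqF] at hm
  have hmr := card_fixed_modEq e Finset.univ (fun z => by simp) r her'
  rw [Finset.card_univ, card_golayPt] at hmr
  have hF24 : F.card ≤ 24 := by
    have h1 := Finset.card_le_univ F
    rw [card_golayPt] at h1
    exact h1
  have hFne : F.card ≠ 24 := by
    intro h
    apply he1
    have h1 : F = Finset.univ := by
      apply Finset.eq_univ_of_card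
      rw [h, card_golayPt]
    apply Equiv.ext
    intro z
    have h2 : z ∈ F := by rw [h1]; exact Finset.mem_univ _
    exact (Finset.mem_filter.mp h2).2
  have hF2 : 2 ≤ F.card := by
    have h1 : ({q, b} : Finset GolayPt) ⊆ F := by
      intro z hz
      rw [Finset.mem_insert, Finset.mem_singleton] at hz
      rcases hz with h | h
      · rw [h]; exact hqF
      · rw [h]; exact hbF
    have h2 := Finset.card_le_card h1
    rw [Finset.card_pair (Ne.symm hb)] at h2
    exact h2
  have hcases : F.card = 2 ∨ F.card = 13 := by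
    unfold Nat.ModEq at hm
    omega
  have hmr' : r ∣ 24 - F.card := (Nat.modEq_iff_dvd' hF24).mp hmr
  rcases hcases with h2 | h13
  · rw [h2] at hmr'
    have h22 : r ∣ 2 * 11 := hmr'
    rcases (Nat.Prime.dvd_mul hr).mp h22 with h | h
    · exfalso
      have hr2 : r = 2 := (Nat.prime_dvd_prime_iff_eq hr Nat.prime_two).mp h
      have he2 : e * e = 1 := by
        rw [← pow_two, ← hr2]
        exact her'
      exact no_invol_two_fix heM he2 h2
    · exact (Nat.prime_dvd_prime_iff_eq hr (by norm_num)).mp h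
  · rw [h13] at hmr'
    exact (Nat.prime_dvd_prime_iff_eq hr (by norm_num)).mp hmr'

/-- the normaliser of a subgroup of order 11 with centraliser of order 11. -/
theorem card_normalizer_of_cent {G : Type*} [Group G] [Finite G] (P : Subgroup G)
    (hP : Nat.card P = 11) (hC : Nat.card (Subgroup.centralizer (P : Set G)) = 11) :
    ∃ f, f ∣ 10 ∧ Nat.card (Subgroup.normalizer (P : Set G)) = f * 11 := by
  have hp11 : Fact (Nat.Prime 11) := ⟨by norm_num⟩
  have hcyc : IsCyclic ↥P := isCyclic_of_prime_card hP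
  have key := Subgroup.card_dvd_of_injective _
    (QuotientGroup.kerLift_injective P.normalizerMonoidHom)
  rw [IsCyclic.card_mulAut, hP, Nat.totient_prime hp11.out] at key
  refine ⟨_, key, ?_⟩
  have h1 := Subgroup.card_eq_card_quotient_mul_card_subgroup P.normalizerMonoidHom.ker
  rw [h1]
  congr 1
  rw [Subgroup.normalizerMonoidHom_ker,
    Nat.card_congr (Subgroup.subgroupOfEquivOfLe (Subgroup.centralizer_le_normalizer _)).toEquiv,
    hC]

/-- `M24` has no subgroup of order `425040` fixing a point. -/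
theorem no_sub_425040 (K : Subgroup (Equiv.Perm GolayPt)) (hK : K ≤ M24) (q : GolayPt)
    (hq : ∀ k ∈ K, k q = q) (hcard : Nat.card K = 425040) : False := by
  classical
  have hp11 : Fact (Nat.Prime 11) := ⟨by norm_num⟩
  obtain ⟨P⟩ : Nonempty (Sylow 11 ↥K) := inferInstance
  have hPdvd : Nat.card (P : Subgroup ↥K) ∣ 425040 := by
    rw [← hcard]
    exact Subgroup.card_subgroup_dvd_card _
  have hP11 : 11 ∣ Nat.card (P : Subgroup ↥K) :=
    P.dvd_card_of_dvd_card (by rw [hcard]; norm_num)
  obtain ⟨n, hn⟩ := IsPGroup.iff_card.mp P.isPGroup'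
  have hPcard : Nat.card (P : Subgroup ↥K) = 11 := by
    rw [hn] at hPdvd hP11 ⊢
    have hn1 : n = 1 := by
      rcases Nat.lt_or_ge n 2 with h | h
      · interval_cases n
        · norm_num at hP11
        · rfl
      · exfalso
        have h2 : 11 ^ 2 ∣ 11 ^ n := Nat.pow_dvd_pow 11 h
        have h3 := dvd_trans h2 hPdvd
        norm_num at h3
    rw [hn1]
    norm_num
  obtain ⟨y, hy⟩ := exists_prime_orderOf_dvd_card' (G := ↥(P : Subgroup ↥K)) 11
    (by rw [hPcard])
  obtain ⟨x, hxP, hxo⟩ : ∃ x : ↥K, x ∈ (P : Subgroup ↥K) ∧ orderOf x = 11 :=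
    ⟨y.1, y.2, by rw [Subgroup.orderOf_coe, hy]⟩
  have hzP : Subgroup.zpowers x = (P : Subgroup ↥K) := by
    apply Subgroup.eq_of_le_of_card_ge
    · rw [Subgroup.zpowers_le]
      exact hxP
    · rw [Nat.card_zpowers, hxo, hPcard]
  have hxp : orderOf x.1 = 11 := by rw [Subgroup.orderOf_coe, hxo]
  have hx11 : x.1 ^ 11 = 1 := by rw [← hxp]; exact pow_orderOf_eq_one _
  have hx1 : x.1 ≠ 1 := by
    intro h
    rw [h, orderOf_one] at hxp
    norm_num at hxp
  have hxM : x.1 ∈ M24 := hK x.2
  have hxq : x.1 q = q := hq x.1 x.2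
  obtain ⟨hle, hmod⟩ := card_fix_lt hxM (by norm_num : Nat.Prime 11) (by norm_num) hx11 hx1
  have hc2 : (Finset.univ.filter (fun z => x.1 z = z)).card = 2 := by
    unfold Nat.ModEq at hmod
    omega
  obtain ⟨u, v, huv, huvs⟩ := Finset.card_eq_two.mp hc2
  have hqmem : q ∈ Finset.univ.filter (fun z => x.1 z = z) :=
    Finset.mem_filter.mpr ⟨Finset.mem_univ _, hxq⟩
  obtain ⟨b, hb, hbfix, hfixes⟩ : ∃ b : GolayPt, b ≠ q ∧ x.1 b = b ∧
      ∀ z, x.1 z = z → z = q ∨ z = b := by
    rw [huvs, Finset.mem_insert, Finset.mem_singleton] at hqmem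
    have hu : x.1 u = u := by
      have h1 : u ∈ Finset.univ.filter (fun z => x.1 z = z) := by rw [huvs]; simp
      exact (Finset.mem_filter.mp h1).2
    have hv : x.1 v = v := by
      have h1 : v ∈ Finset.univ.filter (fun z => x.1 z = z) := by rw [huvs]; simp
      exact (Finset.mem_filter.mp h1).2
    have hall : ∀ z, x.1 z = z → z = u ∨ z = v := by
      intro z hz
      have h1 : z ∈ Finset.univ.filter (fun z => x.1 z = z) :=
        Finset.mem_filter.mpr ⟨Finset.mem_univ _, hz⟩
      rw [huvs, Finset.mem_insert, Finset.mem_singleton] at h1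
      exact h1
    rcases hqmem with h | h
    · refine ⟨v, fun h' => huv (h.symm.trans h'.symm), hv, fun z hz => ?_⟩
      rcases hall z hz with h1 | h1
      · left; rw [h1, h]
      · right; exact h1
    · refine ⟨u, fun h' => huv (h'.trans h), hu, fun z hz => ?_⟩
      rcases hall z hz with h1 | h1
      · right; exact h1
      · left; rw [h1, h]
  have hCcard : Nat.card (Subgroup.centralizer ((P : Subgroup ↥K) : Set ↥K)) = 11 := by
    have hPC : (P : Subgroup ↥K) ≤ Subgroup.centralizer ((P : Subgroup ↥K) : Set ↥K) := by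
      intro w hw
      rw [Subgroup.mem_centralizer_iff]
      intro h hh
      have hh' : h ∈ (P : Subgroup ↥K) := hh
      rw [← hzP] at hw hh'
      obtain ⟨i, rfl⟩ := Subgroup.mem_zpowers_iff.mp hw
      obtain ⟨j, rfl⟩ := Subgroup.mem_zpowers_iff.mp hh'
      exact zpow_mul_comm x j i
    obtain ⟨c', hc'⟩ := Subgroup.card_dvd_of_le hPC
    rw [hPcard] at hc'
    by_contra hne
    have hc1 : c' ≠ 1 := by
      rintro rfl
      exact hne hc'
    obtain ⟨r, hr, hrc⟩ := Nat.exists_prime_and_dvd hc1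
    have hrC : r ∣ Nat.card ↥(Subgroup.centralizer ((P : Subgroup ↥K) : Set ↥K)) := by
      rw [hc']
      exact dvd_mul_of_dvd_right hrc 11
    have hpr : Fact (Nat.Prime r) := ⟨hr⟩
    obtain ⟨c, hco⟩ := exists_prime_orderOf_dvd_card'
      (G := ↥(Subgroup.centralizer ((P : Subgroup ↥K) : Set ↥K))) r hrC
    have hco' : orderOf (c.1.1 : Equiv.Perm GolayPt) = r := by
      rw [Subgroup.orderOf_coe, Subgroup.orderOf_coe, hco]
    have hcomm : x.1 * c.1.1 = c.1.1 * x.1 := by
      have h1 := Subgroup.mem_centralizer_iff.mp c.2 x hxP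
      exact congrArg Subtype.val h1
    have hr11 : r = 11 := cent_prime hxM (hK c.1.2) hx11 hxq hb hbfix hfixes (hq _ c.1.2) hcomm
      hr hco'
    have h121 : 11 * 11 ∣ 425040 := by
      have h1 : 11 * 11 ∣ Nat.card ↥(Subgroup.centralizer ((P : Subgroup ↥K) : Set ↥K)) := by
        rw [hc']
        exact mul_dvd_mul_left 11 (hr11 ▸ hrc)
      have h2 := Subgroup.card_subgroup_dvd_card
        (Subgroup.centralizer ((P : Subgroup ↥K) : Set ↥K))
      rw [hcard] at h2
      exact dvd_trans h1 h2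
    norm_num at h121
  obtain ⟨f, hf10, hN⟩ := card_normalizer_of_cent (P : Subgroup ↥K) hPcard hCcard
  have h1 := Subgroup.card_mul_index (Subgroup.normalizer ((P : Subgroup ↥K) : Set ↥K))
  have h3 : Nat.card (Sylow 11 ↥K) =
      (Subgroup.normalizer ((P : Subgroup ↥K) : Set ↥K)).index :=
    Sylow.card_eq_index_normalizer P
  rw [← h3, hN, hcard] at h1
  have h2 := card_sylow_modEq_one 11 ↥K
  have hf : f ≤ 10 := Nat.le_of_dvd (by norm_num) hf10
  generalize Nat.card (Sylow 11 ↥K) = m at h1 h2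
  unfold Nat.ModEq at h2
  interval_cases f <;> omega

/-- a subgroup of `M24` of the order of `M23` fixes a point. -/
theorem fix_of_card24 (H : Subgroup (Equiv.Perm GolayPt)) (hH : H ≤ M24)
    (hcard : Nat.card H = 10200960) : ∃ q : GolayPt, ∀ k ∈ H, k q = q := by
  classical
  have hp23 : Fact (Nat.Prime 23) := ⟨by norm_num⟩
  obtain ⟨x, hx⟩ := exists_prime_orderOf_dvd_card' (G := ↥H) 23 (by rw [hcard]; norm_num)
  have hxo : orderOf x.1 = 23 := by rw [Subgroup.orderOf_coe, hx]
  have hx23 : x.1 ^ 23 = 1 := by rw [← hxo]; exact pow_orderOf_eq_one _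
  have hx1 : x.1 ≠ 1 := by
    intro h
    rw [h, orderOf_one] at hxo
    norm_num at hxo
  have hxM := hH x.2
  obtain ⟨hle, hmod⟩ := card_fix_lt hxM (by norm_num : Nat.Prime 23) (by norm_num) hx23 hx1
  have hc1 : (Finset.univ.filter (fun z => x.1 z = z)).card = 1 := by
    unfold Nat.ModEq at hmod
    omega
  obtain ⟨q, hqs⟩ := Finset.card_eq_one.mp hc1
  have hxq : x.1 q = q := by
    have h1 : q ∈ Finset.univ.filter (fun z => x.1 z = z) := by rw [hqs]; simp
    exact (Finset.mem_filter.mp h1).2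
  have hfixes : ∀ z, x.1 z = z → z = q := by
    intro z hz
    have h1 : z ∈ Finset.univ.filter (fun z => x.1 z = z) :=
      Finset.mem_filter.mpr ⟨Finset.mem_univ _, hz⟩
    rw [hqs, Finset.mem_singleton] at h1
    exact h1
  let Y : Finset GolayPt := Finset.univ.filter (fun z => ∃ k ∈ H, k q = z)
  have hqY : q ∈ Y := Finset.mem_filter.mpr ⟨Finset.mem_univ _, 1, H.one_mem, rfl⟩
  have hYinv : ∀ k ∈ H, ∀ z, k z ∈ Y ↔ z ∈ Y := by
    intro k hk z
    constructor
    · intro h
      obtain ⟨k', hk', e⟩ := (Finset.mem_filter.mp h).2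
      refine Finset.mem_filter.mpr ⟨Finset.mem_univ _, k⁻¹ * k', H.mul_mem (H.inv_mem hk) hk', ?_⟩
      rw [Equiv.Perm.mul_apply, e]
      exact Equiv.Perm.inv_eq_iff_eq.mpr rfl
    · intro h
      obtain ⟨k', hk', e⟩ := (Finset.mem_filter.mp h).2
      refine Finset.mem_filter.mpr ⟨Finset.mem_univ _, k * k', H.mul_mem hk hk', ?_⟩
      rw [Equiv.Perm.mul_apply, e]
  have hT : ∀ z, x.1 z ∈ Y.erase q ↔ z ∈ Y.erase q := by
    intro z
    rw [Finset.mem_erase, Finset.mem_erase, hYinv x.1 x.2 z]
    constructor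
    · rintro ⟨h1, h2⟩
      refine ⟨fun h => h1 ?_, h2⟩
      rw [h, hxq]
    · rintro ⟨h1, h2⟩
      refine ⟨fun h => h1 ?_, h2⟩
      exact x.1.injective (h.trans hxq.symm)
  have hm := card_fixed_modEq x.1 (Y.erase q) hT 23 hx23
  have hempty : (Y.erase q).filter (fun z => x.1 z = z) = ∅ := by
    rw [Finset.filter_eq_empty_iff]
    intro z hz hfix
    rw [Finset.mem_erase] at hz
    exact hz.1 (hfixes z hfix)
  rw [hempty, Finset.card_empty, Finset.card_erase_of_mem hqY] at hm
  have hY24 : Y.card ≤ 24 := by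
    have h1 := Finset.card_le_univ Y
    rw [card_golayPt] at h1
    exact h1
  have hYpos : 0 < Y.card := Finset.card_pos.mpr ⟨q, hqY⟩
  have hmul := card_eq_ncard_mul H (H ⊓ MulAction.stabilizer (Equiv.Perm GolayPt) q) q
      (Y : Set GolayPt)
      (fun g => ⟨fun h => ⟨(Subgroup.mem_inf.mp h).1,
          MulAction.mem_stabilizer_iff.mp (Subgroup.mem_inf.mp h).2⟩,
        fun h => Subgroup.mem_inf.mpr ⟨h.1, MulAction.mem_stabilizer_iff.mpr h.2⟩⟩)
      (fun g hg => Finset.mem_coe.mpr (Finset.mem_filter.mpr ⟨Finset.mem_univ _, g, hg, rfl⟩))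
      (fun s hs => by
        obtain ⟨k, hk, e⟩ := (Finset.mem_filter.mp (Finset.mem_coe.mp hs)).2
        exact ⟨k, hk, e⟩)
  rw [hcard, Set.ncard_coe_finset] at hmul
  have hYcases : Y.card = 1 ∨ Y.card = 24 := by
    unfold Nat.ModEq at hm
    omega
  rcases hYcases with h1 | h24
  · obtain ⟨c, hc⟩ := Finset.card_eq_one.mp h1
    have hqc : q = c := by
      rw [hc, Finset.mem_singleton] at hqY
      exact hqY
    refine ⟨q, fun k hk => ?_⟩
    have h2 : k q ∈ Y := Finset.mem_filter.mpr ⟨Finset.mem_univ _, k, hk, rfl⟩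
    rw [hc, Finset.mem_singleton] at h2
    rw [h2, hqc]
  · exfalso
    rw [h24] at hmul
    apply no_sub_425040 (H ⊓ MulAction.stabilizer (Equiv.Perm GolayPt) q)
      (fun k hk => hH (Subgroup.mem_inf.mp hk).1) q
      (fun k hk => MulAction.mem_stabilizer_iff.mp (Subgroup.mem_inf.mp hk).2)
    omega

/-- `S2064`. -/
theorem out_M24 : Nat.card (Cfsg.Out ↥M24) = 1 := by
  classical
  apply out_card_one
  intro α
  have hΔ : ∀ g ∈ M24, ∀ p, p ∉ (Finset.univ : Finset GolayPt) → g p = p := by
    intro g _ p hp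
    exact absurd (Finset.mem_univ p) hp
  have hinj : ∀ p ∈ (Finset.univ : Finset GolayPt), ∀ p' ∈ (Finset.univ : Finset GolayPt),
      (∀ g : ↥M24, g.1 p = p → g.1 p' = p') → p = p' := by
    intro p _ p' _ h
    by_contra hne
    obtain ⟨r, hr⟩ : ∃ r : GolayPt, r ∉ ({p, p'} : Finset GolayPt) := by
      by_contra hcon
      push Not at hcon
      have h1 : (Finset.univ : Finset GolayPt) ⊆ {p, p'} := fun z _ => hcon z
      have h2 := Finset.card_le_card h1
      rw [Finset.card_univ, card_golayPt] at h2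
      have h3 : ({p, p'} : Finset GolayPt).card ≤ 2 := Finset.card_le_two
      omega
    simp only [Finset.mem_insert, Finset.mem_singleton, not_or] at hr
    obtain ⟨g, hg, e1, e2⟩ := trans2 p p' p r hne (Ne.symm hr.1)
    have h1 := h ⟨g, hg⟩ e1
    exact hr.2 (e2.symm.trans h1)
  have hstab : ∀ p ∈ (Finset.univ : Finset GolayPt), ∃ p' ∈ (Finset.univ : Finset GolayPt),
      ∀ g : ↥M24, g.1 p = p ↔ (α g).1 p' = p' := by
    intro p _
    have hc : Nat.card (imgStab M24 α p) = 10200960 := by
      rw [card_imgStab, card_stab_pt p]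
    obtain ⟨b, hfix⟩ := fix_of_card24 (imgStab M24 α p) (imgStab_le _ α p) hc
    refine ⟨b, Finset.mem_univ _, ?_⟩
    apply stab_of_imgStab
    apply Subgroup.eq_of_le_of_card_ge
    · intro k hk
      exact Subgroup.mem_inf.mpr ⟨imgStab_le _ α p hk, MulAction.mem_stabilizer_iff.mpr (hfix k hk)⟩
    · rw [hc, card_stab_pt b]
  obtain ⟨σ, _, hσ⟩ := exists_perm_of_stab M24 α Finset.univ hΔ hinj hstab
  have hnorm : ∀ g ∈ M24, σ⁻¹ * g * σ ∈ M24 := by
    intro g hg
    have h1 := hσ (α.symm ⟨g, hg⟩)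
    rw [MulEquiv.apply_symm_apply] at h1
    have h2 : σ⁻¹ * g * σ = (α.symm ⟨g, hg⟩).1 := by
      have h3 : g = σ * (α.symm ⟨g, hg⟩).1 * σ⁻¹ := h1
      generalize (α.symm ⟨g, hg⟩).1 = t at h3
      rw [h3]
      group
    rw [h2]
    exact (α.symm ⟨g, hg⟩).2
  exact inner_of_conj _ α σ (mem_M24_of_normalizes σ hnorm) hσ

end Cfsg.Agent.Lib.Helper3.M24Out2
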