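import Mathlib
import Cfsg.Prelude.Def_Sporadic_a
import Cfsg.Prelude.Def_Spor_Mathieu
import Cfsg.Prelude.Def_KGroupFacts
import Cfsg.Agent.Lib.Helper3.M12Data
import Cfsg.Agent.Lib.Helper3.M24Out2

set_option autoImplicit false

namespace Cfsg.Agent.Lib.Helper3.M12Sub

open Cfsg Cfsg.Agent.Lib.Helper3.Golay Cfsg.Agent.Lib.Helper3.Golay2
open Cfsg.Agent.Lib.Helper3.GolayM24 Cfsg.Agent.Lib.Helper3.M24Perm
open Cfsg.Agent.Lib.Helper3.M24Cert Cfsg.Agent.Lib.Helper3.M24Cert2
open Cfsg.Agent.Lib.Helper3.M24Order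
open Cfsg.Agent.Lib.Helper3.M24Trans Cfsg.Agent.Lib.Helper3.M24Oct
open Cfsg.Agent.Lib.Helper3.M24OctA8 Cfsg.Agent.Lib.Helper3.M24OctSplit
open Cfsg.Agent.Lib.Helper3.M24Aut Cfsg.Agent.Lib.Helper3.M24Out
open Cfsg.Agent.Lib.Helper3.M24Out2
open Cfsg.Agent.Lib.Helper3.M22Fix Cfsg.Agent.Lib.Helper3.M24Dod
open Cfsg.Agent.Lib.Helper3.M12Data
open scoped Pointwise

theorem compl_mem_dodecads {d : Finset GolayPt} (hd : d ∈ dodecads) :
    Finset.univ \ d ∈ dodecads := by
  have h := compl_mem_supports hd.1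
  rw [Finset.compl_eq_univ_sdiff] at h
  refine ⟨h, ?_⟩
  rw [Finset.card_sdiff_of_subset (Finset.subset_univ _), Finset.card_univ, card_golayPt, hd.2]

theorem smul_compl {g : Equiv.Perm GolayPt} {d : Finset GolayPt} (h : g • d = d) :
    g • (Finset.univ \ d) = Finset.univ \ d := by
  apply smul_eq_of_mem_iff
  intro x
  rw [Finset.mem_sdiff, Finset.mem_sdiff, mem_iff_of_smul_eq h x]
  simp

theorem smul_of_compl {g : Equiv.Perm GolayPt} {d : Finset GolayPt}
    (h : g • (Finset.univ \ d) = Finset.univ \ d) : g • d = d := by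
  have h1 := smul_compl h
  rwa [Finset.sdiff_sdiff_eq_self (Finset.subset_univ d)] at h1

theorem stabO_compl (d : Finset GolayPt) : stabO (Finset.univ \ d) = stabO d := by
  ext g
  rw [mem_stabO, mem_stabO]
  exact ⟨fun h => ⟨h.1, smul_of_compl h.2⟩, fun h => ⟨h.1, smul_compl h.2⟩⟩

/-- an embedding of three distinct points -/
def emb3 (a b c : GolayPt) (hab : a ≠ b) (hac : a ≠ c) (hbc : b ≠ c) : Fin 3 ↪ GolayPt :=
  ⟨![a, b, c], by
    intro i j h
    fin_cases i <;> fin_cases j <;> simp_all⟩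

theorem exists_two_notin {d : Finset GolayPt} (hd : d.card = 12) (q s : GolayPt) :
    ∃ r1 r2, r1 ∉ d ∧ r2 ∉ d ∧ r1 ≠ q ∧ r1 ≠ s ∧ r2 ≠ q ∧ r2 ≠ s ∧ r1 ≠ r2 := by
  classical
  have h1 : 1 < (Finset.univ \ (d ∪ {q, s})).card := by
    rw [Finset.card_sdiff_of_subset (Finset.subset_univ _), Finset.card_univ, card_golayPt]
    have h2 : (d ∪ {q, s}).card ≤ d.card + ({q, s} : Finset GolayPt).card :=
      Finset.card_union_le _ _
    have h3 : ({q, s} : Finset GolayPt).card ≤ 2 := Finset.card_le_two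
    omega
  obtain ⟨r1, hr1, r2, hr2, hne⟩ := Finset.one_lt_card.mp h1
  simp only [Finset.mem_sdiff, Finset.mem_univ, true_and, Finset.mem_union, Finset.mem_insert,
    Finset.mem_singleton, not_or] at hr1 hr2
  exact ⟨r1, r2, hr1.1, hr2.1, hr1.2.1, hr1.2.2, hr2.2.1, hr2.2.2, hne⟩

/-- the stabiliser of a dodecad and a point of it is transitive on the complement. -/
theorem stab_trans_compl {d : Finset GolayPt} (hd : d ∈ dodecads) {p : GolayPt} (hp : p ∈ d)
    {q s : GolayPt} (hq : q ∉ d) (hs : s ∉ d) :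
    ∃ g ∈ M24, g • d = d ∧ g p = p ∧ g q = s := by
  by_cases hqs : q = s
  · exact ⟨1, M24.one_mem, one_smul _ _, rfl, hqs⟩
  obtain ⟨r1, r2, h1, h2, h3, h4, h5, h6, h7⟩ := exists_two_notin hd.2 q s
  obtain ⟨g, hg, hgd, hgp, hgx⟩ := m11_exists hd hp
    (emb3 q r1 r2 (Ne.symm h3) (Ne.symm h5) h7) (emb3 s r1 r2 (Ne.symm h4) (Ne.symm h6) h7)
    (by
      intro i
      fin_cases i
      · exact hq
      · exact h1
      · exact h2)
    (by
      intro i
      fin_cases i
      · exact hs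
      · exact h1
      · exact h2)
  exact ⟨g, hg, hgd, hgp, hgx 0⟩

theorem card_stabD {d : Finset GolayPt} (hd : d ∈ dodecads) : Nat.card (stabO d) = 95040 := by
  have h := card_eq_ncard_mul M24 (stabO d) d dodecads (fun g => mem_stabO)
    (fun g hg => smul_mem_dodecads hg hd) (fun s hs => dodecad_trans hd hs)
  rw [card_M24, ncard_dodecads] at h
  omega

theorem card_stabD_pt {d : Finset GolayPt} (hd : d ∈ dodecads) {p : GolayPt} (hp : p ∈ d) :
    Nat.card ↥(stabO d ⊓ MulAction.stabilizer (Equiv.Perm GolayPt) p) = 7920 := by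
  have h := card_eq_ncard_mul (stabO d)
    (stabO d ⊓ MulAction.stabilizer (Equiv.Perm GolayPt) p) p (d : Set GolayPt)
    (fun g => ⟨fun h => ⟨(Subgroup.mem_inf.mp h).1,
        MulAction.mem_stabilizer_iff.mp (Subgroup.mem_inf.mp h).2⟩,
      fun h => Subgroup.mem_inf.mpr ⟨h.1, MulAction.mem_stabilizer_iff.mpr h.2⟩⟩)
    (fun g hg => Finset.mem_coe.mpr ((mem_iff_of_smul_eq (mem_stabO.mp hg).2 p).mpr hp))
    (fun s hs => by
      obtain ⟨g, hg, hgd, e⟩ := m12_trans1 hd hp (Finset.mem_coe.mp hs)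
      exact ⟨g, mem_stabO.mpr ⟨hg, hgd⟩, e⟩)
  rw [card_stabD hd, Set.ncard_coe_finset, hd.2] at h
  omega

theorem card_stabD_pt2 {d : Finset GolayPt} (hd : d ∈ dodecads) {p q : GolayPt} (hp : p ∈ d)
    (hq : q ∉ d) :
    Nat.card ↥(stabO d ⊓ MulAction.stabilizer (Equiv.Perm GolayPt) p ⊓
      MulAction.stabilizer (Equiv.Perm GolayPt) q) = 660 := by
  classical
  have h := card_eq_ncard_mul (stabO d ⊓ MulAction.stabilizer (Equiv.Perm GolayPt) p)
    (stabO d ⊓ MulAction.stabilizer (Equiv.Perm GolayPt) p ⊓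
      MulAction.stabilizer (Equiv.Perm GolayPt) q) q
    ((Finset.univ \ d : Finset GolayPt) : Set GolayPt)
    (fun g => ⟨fun h => ⟨(Subgroup.mem_inf.mp h).1,
        MulAction.mem_stabilizer_iff.mp (Subgroup.mem_inf.mp h).2⟩,
      fun h => Subgroup.mem_inf.mpr ⟨h.1, MulAction.mem_stabilizer_iff.mpr h.2⟩⟩)
    (fun g hg => by
      rw [Finset.mem_coe, Finset.mem_sdiff]
      refine ⟨Finset.mem_univ _, fun hc => hq ?_⟩
      exact (mem_iff_of_smul_eq (mem_stabO.mp (Subgroup.mem_inf.mp hg).1).2 q).mp hc)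
    (fun s hs => by
      rw [Finset.mem_coe, Finset.mem_sdiff] at hs
      obtain ⟨g, hg, hgd, hgp, e⟩ := stab_trans_compl hd hp hq hs.2
      exact ⟨g, Subgroup.mem_inf.mpr ⟨mem_stabO.mpr ⟨hg, hgd⟩,
        MulAction.mem_stabilizer_iff.mpr hgp⟩, e⟩)
  rw [card_stabD_pt hd hp, Set.ncard_coe_finset,
    Finset.card_sdiff_of_subset (Finset.subset_univ _), Finset.card_univ, card_golayPt, hd.2] at h
  omega

/-- an element of order 11 stabilising a dodecad fixes exactly one point inside and one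
outside. -/
theorem ord11_fix {d : Finset GolayPt} {x : Equiv.Perm GolayPt} (hx : x ∈ M24)
    (hxd : x • d = d) (hx11 : x ^ 11 = 1) (hx1 : x ≠ 1) (hdc : d.card = 12) :
    ∃ a b, a ∈ d ∧ b ∉ d ∧ x a = a ∧ x b = b ∧ ∀ z, x z = z → z = a ∨ z = b := by
  classical
  have hp11 : Fact (Nat.Prime 11) := ⟨by norm_num⟩
  obtain ⟨hle, hmod⟩ := card_fix_lt hx (by norm_num : Nat.Prime 11) (by norm_num) hx11 hx1
  have hm1 := card_fixed_modEq x d (mem_iff_of_smul_eq hxd) 11 hx11
  have hm2 := card_fixed_modEq x (Finset.univ \ d) (mem_iff_of_smul_eq (smul_compl hxd)) 11 hx11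
  rw [hdc] at hm1
  rw [Finset.card_sdiff_of_subset (Finset.subset_univ _), Finset.card_univ, card_golayPt,
    hdc] at hm2
  have hl1 : (d.filter (fun z => x z = z)).card ≤ (Finset.univ.filter (fun z => x z = z)).card :=
    Finset.card_le_card (Finset.filter_subset_filter _ (Finset.subset_univ _))
  have hl2 : ((Finset.univ \ d).filter (fun z => x z = z)).card ≤
      (Finset.univ.filter (fun z => x z = z)).card :=
    Finset.card_le_card (Finset.filter_subset_filter _ (Finset.subset_univ _))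
  have hc1 : (d.filter (fun z => x z = z)).card = 1 := by
    unfold Nat.ModEq at hm1
    omega
  have hc2 : ((Finset.univ \ d).filter (fun z => x z = z)).card = 1 := by
    unfold Nat.ModEq at hm2
    omega
  obtain ⟨a, ha⟩ := Finset.card_eq_one.mp hc1
  obtain ⟨b, hb⟩ := Finset.card_eq_one.mp hc2
  have ha' : a ∈ d.filter (fun z => x z = z) := by rw [ha]; exact Finset.mem_singleton_self a
  have hb' : b ∈ (Finset.univ \ d).filter (fun z => x z = z) := by
    rw [hb]; exact Finset.mem_singleton_self b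
  rw [Finset.mem_filter] at ha' hb'
  refine ⟨a, b, ha'.1, (Finset.mem_sdiff.mp hb'.1).2, ha'.2, hb'.2, fun z hz => ?_⟩
  by_cases hzd : z ∈ d
  · left
    have h1 : z ∈ d.filter (fun z => x z = z) := Finset.mem_filter.mpr ⟨hzd, hz⟩
    rw [ha, Finset.mem_singleton] at h1
    exact h1
  · right
    have h1 : z ∈ (Finset.univ \ d).filter (fun z => x z = z) :=
      Finset.mem_filter.mpr ⟨Finset.mem_sdiff.mpr ⟨Finset.mem_univ _, hzd⟩, hz⟩
    rw [hb, Finset.mem_singleton] at h1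
    exact h1

/-- for a point `p` of a dodecad and another point `p'`, some element of the stabiliser of
the dodecad fixes `p` and moves `p'`. -/
theorem exists_fix_move {d : Finset GolayPt} (hd : d ∈ dodecads) {p p' : GolayPt} (hp : p ∈ d)
    (hne : p ≠ p') : ∃ g ∈ M24, g • d = d ∧ g p = p ∧ g p' ≠ p' := by
  classical
  by_cases hp' : p' ∈ d
  · have hp11 : Fact (Nat.Prime 11) := ⟨by norm_num⟩
    obtain ⟨x, hx⟩ := exists_prime_orderOf_dvd_card'
      (G := ↥(stabO d ⊓ MulAction.stabilizer (Equiv.Perm GolayPt) p)) 11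
      (by rw [card_stabD_pt hd hp]; norm_num)
    have hxo : orderOf x.1 = 11 := by rw [Subgroup.orderOf_coe, hx]
    have hx11 : x.1 ^ 11 = 1 := by rw [← hxo]; exact pow_orderOf_eq_one _
    have hx1 : x.1 ≠ 1 := by
      intro h
      rw [h, orderOf_one] at hxo
      norm_num at hxo
    have hxM := mem_stabO.mp (Subgroup.mem_inf.mp x.2).1
    have hxp : x.1 p = p := MulAction.mem_stabilizer_iff.mp (Subgroup.mem_inf.mp x.2).2
    obtain ⟨a, b, had, hbd, hxa, hxb, hfixes⟩ := ord11_fix hxM.1 hxM.2 hx11 hx1 hd.2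
    refine ⟨x.1, hxM.1, hxM.2, hxp, fun hxp' => ?_⟩
    have h1 : p = a := by
      rcases hfixes p hxp with h | h
      · exact h
      · exact absurd hp (h ▸ hbd)
    have h2 : p' = a := by
      rcases hfixes p' hxp' with h | h
      · exact h
      · exact absurd hp' (h ▸ hbd)
    exact hne (h1.trans h2.symm)
  · obtain ⟨r1, -, h1, -, h3, -, -, -, -⟩ := exists_two_notin hd.2 p' p'
    obtain ⟨g, hg, hgd, hgp, e⟩ := stab_trans_compl hd hp hp' h1
    exact ⟨g, hg, hgd, hgp, fun h => h3 (e.symm.trans h)⟩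

/-- an involution stabilising a dodecad and fixing four of its points has a fixed point
outside it. -/
theorem l3_gen {d : Finset GolayPt} (hd : d ∈ dodecads) {t : Equiv.Perm GolayPt} (ht : t ∈ M24)
    (htd : t • d = d) (htt : t * t = 1) (ht1 : t ≠ 1) (S : Finset GolayPt) (hSd : S ⊆ d)
    (hS : 4 ≤ S.card) (hfix : ∀ z ∈ S, t z = z) : ∃ c, c ∉ d ∧ t c = c := by
  classical
  obtain ⟨S4, hS4, hc4⟩ := Finset.exists_subset_card_eq hS
  obtain ⟨e, hed, heS⟩ : ∃ e ∈ d, e ∉ S4 :=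
    Finset.exists_mem_notMem_of_card_lt_card (by rw [hc4, hd.2]; norm_num)
  let eq := Finset.equivFinOfCardEq hc4
  let x0 : Fin 4 → GolayPt := fun i => (eq.symm i).1
  have hx0inj : Function.Injective x0 := Subtype.val_injective.comp eq.symm.injective
  have hx0mem : ∀ i, x0 i ∈ S4 := fun i => (eq.symm i).2
  let x : Fin 5 ↪ GolayPt := ⟨Fin.snoc x0 e, Fin.snoc_injective_of_injective hx0inj (by
    rintro ⟨i, hi⟩
    exact heS (hi ▸ hx0mem i))⟩
  have hxc : ∀ j : Fin 4, x j.castSucc = x0 j := by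
    intro j
    show Fin.snoc (α := fun _ => GolayPt) x0 e (Fin.castSucc j) = x0 j
    rw [Fin.snoc_castSucc]
  have hxl : x (Fin.last 4) = e := by
    show Fin.snoc (α := fun _ => GolayPt) x0 e (Fin.last 4) = e
    rw [Fin.snoc_last]
  have hx : ∀ i, x i ∈ d := by
    intro i
    refine Fin.lastCases ?_ (fun j => ?_) i
    · rw [hxl]; exact hed
    · rw [hxc]; exact hSd (hS4 (hx0mem j))
  obtain ⟨u, hu, hud, hux⟩ := exists_frame hd x hx
  have hfixpt : ∀ j : Fin 4, t (u (pt (cs j.castSucc))) = u (pt (cs j.castSucc)) := by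
    intro j
    rw [hux j.castSucc, hxc]
    exact hfix _ (hS4 (hx0mem j))
  have hk : u⁻¹ * t * u ∈ fixG [cw 1] [3, 2, 1, 0] := by
    refine ⟨M24.mul_mem (M24.mul_mem (M24.inv_mem hu) ht) hu, ?_, ?_⟩
    · intro D hD
      rw [List.mem_singleton] at hD
      subst hD
      rw [mul_smul, mul_smul, hud, htd]
      conv_lhs => rw [← hud]
      rw [inv_smul_smul]
    · have h1 : ∀ j : Fin 4, (u⁻¹ * t * u) (pt (cs j.castSucc)) = pt (cs j.castSucc) := by
        intro j
        rw [Equiv.Perm.mul_apply, Equiv.Perm.mul_apply, hfixpt j]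
        simp
      intro i hi
      simp only [List.mem_cons, List.not_mem_nil, or_false] at hi
      rcases hi with rfl | rfl | rfl | rfl
      · exact h1 3
      · exact h1 2
      · exact h1 1
      · exact h1 0
  have hkk : (u⁻¹ * t * u) * (u⁻¹ * t * u) = 1 := by
    have h1 : (u⁻¹ * t * u) * (u⁻¹ * t * u) = u⁻¹ * (t * t) * u := by group
    rw [h1, htt]
    group
  have hk1 : u⁻¹ * t * u ≠ 1 := by
    intro h
    apply ht1
    have h1 : t = u * (u⁻¹ * t * u) * u⁻¹ := by group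
    rw [h1, h]
    group
  obtain ⟨c, hc, hcfix⟩ := q8_invol hk hkk hk1
  refine ⟨u c, ?_, ?_⟩
  · intro hucd
    apply hc
    rw [← hud] at hucd
    exact (Finset.smul_mem_smul_finset_iff u).mp hucd
  · rw [Equiv.Perm.mul_apply, Equiv.Perm.mul_apply, Equiv.Perm.inv_eq_iff_eq] at hcfix
    exact hcfix

/-- an element fixing a point of a dodecad and two points outside, and moving a given further
point of the dodecad. -/
theorem l4_gen {d : Finset GolayPt} (hd : d ∈ dodecads) {a b b2 a2 : GolayPt} (had : a ∈ d)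
    (hbd : b ∉ d) (hb2d : b2 ∉ d) (hbb2 : b ≠ b2) (ha2d : a2 ∈ d) (ha2 : a2 ≠ a) :
    ∃ g ∈ M24, g • d = d ∧ g a = a ∧ g b = b ∧ g b2 = b2 ∧ g a2 ≠ a2 := by
  obtain ⟨b3, -, hb3d, -, hb3b, hb3b2, -, -, -⟩ := exists_two_notin hd.2 b b2
  obtain ⟨u, hu, hud, hua, hux⟩ := exists_frame3 hd had
    (emb3 b b2 b3 hbb2 (Ne.symm hb3b) (Ne.symm hb3b2))
    (by
      intro i
      fin_cases i
      · exact hbd
      · exact hb2d
      · exact hb3d)
  have hu5 : u (pt 5) = b := hux 0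
  have hu7 : u (pt 7) = b2 := hux 1
  have hc : u⁻¹ a2 ∈ ms (cw 1) := by
    have h1 := ha2d
    rw [← hud, ← Finset.inv_smul_mem_iff] at h1
    exact h1
  have hc0 : u⁻¹ a2 ≠ pt 0 := by
    intro h
    apply ha2
    rw [← hua, ← h]
    simp
  obtain ⟨g0, hg0, hmove⟩ := l4_move hc hc0
  have hinv0 : u⁻¹ a = pt 0 := by rw [Equiv.Perm.inv_eq_iff_eq, hua]
  have hinv5 : u⁻¹ b = pt 5 := by rw [Equiv.Perm.inv_eq_iff_eq, hu5]
  have hinv7 : u⁻¹ b2 = pt 7 := by rw [Equiv.Perm.inv_eq_iff_eq, hu7]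
  refine ⟨u * g0 * u⁻¹, M24.mul_mem (M24.mul_mem hu hg0.1) (M24.inv_mem hu), ?_, ?_, ?_, ?_, ?_⟩
  · rw [mul_smul, mul_smul]
    conv_lhs => rw [← hud]
    rw [inv_smul_smul, hg0.2.1 (cw 1) (by simp), hud]
  · rw [Equiv.Perm.mul_apply, Equiv.Perm.mul_apply, hinv0, hg0.2.2 0 (by simp), hua]
  · rw [Equiv.Perm.mul_apply, Equiv.Perm.mul_apply, hinv5, hg0.2.2 5 (by simp), hu5]
  · rw [Equiv.Perm.mul_apply, Equiv.Perm.mul_apply, hinv7, hg0.2.2 7 (by simp), hu7]
  · intro h
    apply hmove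
    rw [Equiv.Perm.mul_apply, Equiv.Perm.mul_apply] at h
    have h6 : u⁻¹ (u (g0 (u⁻¹ a2))) = u⁻¹ a2 := by rw [h]
    have h7 : u⁻¹ (u (g0 (u⁻¹ a2))) = g0 (u⁻¹ a2) := Equiv.Perm.inv_eq_iff_eq.mpr rfl
    rw [h7] at h6
    exact h6

/-- the orbit of a point under a subgroup -/
noncomputable def orb (H : Subgroup (Equiv.Perm GolayPt)) (b : GolayPt) : Finset GolayPt := by
  classical
  exact Finset.univ.filter (fun z => ∃ k ∈ H, k b = z)

theorem mem_orb {H : Subgroup (Equiv.Perm GolayPt)} {b z : GolayPt} :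
    z ∈ orb H b ↔ ∃ k ∈ H, k b = z := by
  classical
  simp [orb]

theorem self_mem_orb (H : Subgroup (Equiv.Perm GolayPt)) (b : GolayPt) : b ∈ orb H b :=
  mem_orb.mpr ⟨1, H.one_mem, rfl⟩

theorem orb_inv {H : Subgroup (Equiv.Perm GolayPt)} {b : GolayPt} {k : Equiv.Perm GolayPt}
    (hk : k ∈ H) (z : GolayPt) : k z ∈ orb H b ↔ z ∈ orb H b := by
  rw [mem_orb, mem_orb]
  constructor
  · rintro ⟨k', hk', e⟩
    refine ⟨k⁻¹ * k', H.mul_mem (H.inv_mem hk) hk', ?_⟩
    rw [Equiv.Perm.mul_apply, e]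
    exact Equiv.Perm.inv_eq_iff_eq.mpr rfl
  · rintro ⟨k', hk', e⟩
    refine ⟨k * k', H.mul_mem hk hk', ?_⟩
    rw [Equiv.Perm.mul_apply, e]

theorem card_orb (H : Subgroup (Equiv.Perm GolayPt)) (b : GolayPt) :
    Nat.card H = (orb H b).card *
      Nat.card ↥(H ⊓ MulAction.stabilizer (Equiv.Perm GolayPt) b) := by
  have h := card_eq_ncard_mul H (H ⊓ MulAction.stabilizer (Equiv.Perm GolayPt) b) b
    (orb H b : Set GolayPt)
    (fun g => ⟨fun h => ⟨(Subgroup.mem_inf.mp h).1,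
        MulAction.mem_stabilizer_iff.mp (Subgroup.mem_inf.mp h).2⟩,
      fun h => Subgroup.mem_inf.mpr ⟨h.1, MulAction.mem_stabilizer_iff.mpr h.2⟩⟩)
    (fun g hg => Finset.mem_coe.mpr (mem_orb.mpr ⟨g, hg, rfl⟩))
    (fun s hs => mem_orb.mp (Finset.mem_coe.mp hs))
  rw [Set.ncard_coe_finset] at h
  exact h

theorem orb_one {H : Subgroup (Equiv.Perm GolayPt)} {b : GolayPt} (h : (orb H b).card = 1)
    {k : Equiv.Perm GolayPt} (hk : k ∈ H) : k b = b := by
  obtain ⟨c, hc⟩ := Finset.card_eq_one.mp h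
  have h1 : b ∈ orb H b := self_mem_orb H b
  have h2 : k b ∈ orb H b := mem_orb.mpr ⟨k, hk, rfl⟩
  rw [hc, Finset.mem_singleton] at h1 h2
  rw [h2]
  exact h1.symm

theorem orb_card_modEq (H : Subgroup (Equiv.Perm GolayPt)) (b : GolayPt)
    {x : Equiv.Perm GolayPt} (hx : x ∈ H) (p : ℕ) [hp : Fact p.Prime] (hxp : x ^ p = 1)
    (hxb : x b = b) (hfree : ∀ z ∈ orb H b, x z = z → z = b) :
    (orb H b).card ≡ 1 [MOD p] := by
  classical
  have hT : ∀ z, x z ∈ (orb H b).erase b ↔ z ∈ (orb H b).erase b := by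
    intro z
    rw [Finset.mem_erase, Finset.mem_erase, orb_inv hx z]
    constructor
    · rintro ⟨h1, h2⟩
      refine ⟨fun h => h1 ?_, h2⟩
      rw [h, hxb]
    · rintro ⟨h1, h2⟩
      refine ⟨fun h => h1 ?_, h2⟩
      exact x.injective (h.trans hxb.symm)
  have hm := card_fixed_modEq x ((orb H b).erase b) hT p hxp
  have hempty : ((orb H b).erase b).filter (fun z => x z = z) = ∅ := by
    rw [Finset.filter_eq_empty_iff]
    intro z hz hfix
    rw [Finset.mem_erase] at hz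
    exact hz.1 (hfree z hz.2 hfix)
  rw [hempty, Finset.card_empty, Finset.card_erase_of_mem (self_mem_orb H b)] at hm
  have hpos : 0 < (orb H b).card := Finset.card_pos.mpr ⟨b, self_mem_orb H b⟩
  have h1 : (orb H b).card - 1 + 1 = (orb H b).card := by omega
  have h2 := (Nat.ModEq.add_right 1 hm).symm
  rw [h1] at h2
  simpa using h2

/-- a subgroup of order 7920 of the stabiliser of a dodecad fixes a point. -/
theorem fix_of_card12 {d : Finset GolayPt} (hd : d ∈ dodecads)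
    (H : Subgroup (Equiv.Perm GolayPt)) (hH : H ≤ stabO d) (hcard : Nat.card H = 7920) :
    ∃ c, ∀ k ∈ H, k c = c := by
  classical
  have hp11 : Fact (Nat.Prime 11) := ⟨by norm_num⟩
  have hp2 : Fact (Nat.Prime 2) := ⟨Nat.prime_two⟩
  obtain ⟨x, hx⟩ := exists_prime_orderOf_dvd_card' (G := ↥H) 11 (by rw [hcard]; norm_num)
  have hxo : orderOf x.1 = 11 := by rw [Subgroup.orderOf_coe, hx]
  have hx11 : x.1 ^ 11 = 1 := by rw [← hxo]; exact pow_orderOf_eq_one _
  have hx1 : x.1 ≠ 1 := by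
    intro h
    rw [h, orderOf_one] at hxo
    norm_num at hxo
  have hxM := mem_stabO.mp (hH x.2)
  obtain ⟨a, b, had, hbd, hxa, hxb, hfixes⟩ := ord11_fix hxM.1 hxM.2 hx11 hx1 hd.2
  have hd' := compl_mem_dodecads hd
  -- the orbit of a
  have hYsub : orb H a ⊆ d := by
    intro z hz
    obtain ⟨k, hk, rfl⟩ := mem_orb.mp hz
    exact (mem_iff_of_smul_eq (mem_stabO.mp (hH hk)).2 a).mpr had
  have hYmod := orb_card_modEq H a x.2 11 hx11 hxa (fun z hz hfz => by
    rcases hfixes z hfz with h | h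
    · exact h
    · exact absurd (hYsub hz) (h ▸ hbd))
  have hYle : (orb H a).card ≤ 12 := by rw [← hd.2]; exact Finset.card_le_card hYsub
  have hYpos : 0 < (orb H a).card := Finset.card_pos.mpr ⟨a, self_mem_orb H a⟩
  have hYc : (orb H a).card = 1 ∨ (orb H a).card = 12 := by
    unfold Nat.ModEq at hYmod
    omega
  rcases hYc with h1 | h12
  · exact ⟨a, fun k hk => orb_one h1 hk⟩
  -- the orbit of b
  have hY'sub : orb H b ⊆ Finset.univ \ d := by
    intro z hz
    obtain ⟨k, hk, rfl⟩ := mem_orb.mp hz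
    rw [Finset.mem_sdiff]
    exact ⟨Finset.mem_univ _, fun hc => hbd ((mem_iff_of_smul_eq (mem_stabO.mp (hH hk)).2 b).mp hc)⟩
  have hY'mod := orb_card_modEq H b x.2 11 hx11 hxb (fun z hz hfz => by
    rcases hfixes z hfz with h | h
    · exact absurd had (h ▸ (Finset.mem_sdiff.mp (hY'sub hz)).2)
    · exact h)
  have hY'le : (orb H b).card ≤ 12 := by rw [← hd'.2]; exact Finset.card_le_card hY'sub
  have hY'pos : 0 < (orb H b).card := Finset.card_pos.mpr ⟨b, self_mem_orb H b⟩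
  have hY'c : (orb H b).card = 1 ∨ (orb H b).card = 12 := by
    unfold Nat.ModEq at hY'mod
    omega
  rcases hY'c with h1' | h12'
  · exact ⟨b, fun k hk => orb_one h1' hk⟩
  exfalso
  have hY'eq : orb H b = Finset.univ \ d :=
    Finset.eq_of_subset_of_card_le hY'sub (by rw [h12', hd'.2])
  have hHa : Nat.card ↥(H ⊓ MulAction.stabilizer (Equiv.Perm GolayPt) a) = 660 := by
    have h := card_orb H a
    rw [hcard, h12] at h
    omega
  have hHb : Nat.card ↥(H ⊓ MulAction.stabilizer (Equiv.Perm GolayPt) b) = 660 := by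
    have h := card_orb H b
    rw [hcard, h12'] at h
    omega
  have hxQ : x.1 ∈ H ⊓ MulAction.stabilizer (Equiv.Perm GolayPt) a :=
    Subgroup.mem_inf.mpr ⟨x.2, MulAction.mem_stabilizer_iff.mpr hxa⟩
  have hQH : H ⊓ MulAction.stabilizer (Equiv.Perm GolayPt) a ≤ H := inf_le_left
  have hQa : ∀ k ∈ H ⊓ MulAction.stabilizer (Equiv.Perm GolayPt) a, k a = a :=
    fun k hk => MulAction.mem_stabilizer_iff.mp (Subgroup.mem_inf.mp hk).2
  -- the orbit of b under the stabiliser of a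
  have hWsub : orb (H ⊓ MulAction.stabilizer (Equiv.Perm GolayPt) a) b ⊆ Finset.univ \ d := by
    intro z hz
    obtain ⟨k, hk, e⟩ := mem_orb.mp hz
    exact hY'sub (mem_orb.mpr ⟨k, hQH hk, e⟩)
  have hWmod := orb_card_modEq (H ⊓ MulAction.stabilizer (Equiv.Perm GolayPt) a) b hxQ 11 hx11
    hxb (fun z hz hfz => by
      rcases hfixes z hfz with h | h
      · exact absurd had (h ▸ (Finset.mem_sdiff.mp (hWsub hz)).2)
      · exact h)
  have hWle : (orb (H ⊓ MulAction.stabilizer (Equiv.Perm GolayPt) a) b).card ≤ 12 := by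
    rw [← hd'.2]; exact Finset.card_le_card hWsub
  have hWpos : 0 < (orb (H ⊓ MulAction.stabilizer (Equiv.Perm GolayPt) a) b).card :=
    Finset.card_pos.mpr ⟨b, self_mem_orb _ b⟩
  have hWc : (orb (H ⊓ MulAction.stabilizer (Equiv.Perm GolayPt) a) b).card = 1 ∨
      (orb (H ⊓ MulAction.stabilizer (Equiv.Perm GolayPt) a) b).card = 12 := by
    unfold Nat.ModEq at hWmod
    omega
  rcases hWc with hW1 | hW12
  · -- the stabiliser of a fixes b
    have hQfix : ∀ k ∈ H ⊓ MulAction.stabilizer (Equiv.Perm GolayPt) a, k b = b :=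
      fun k hk => orb_one hW1 hk
    have hQeq : H ⊓ MulAction.stabilizer (Equiv.Perm GolayPt) a =
        H ⊓ MulAction.stabilizer (Equiv.Perm GolayPt) b := by
      apply Subgroup.eq_of_le_of_card_ge
      · intro k hk
        exact Subgroup.mem_inf.mpr ⟨hQH hk, MulAction.mem_stabilizer_iff.mpr (hQfix k hk)⟩
      · rw [hHa, hHb]
    have hQfull : ∀ g ∈ M24, g • d = d → g a = a → g b = b →
        g ∈ H ⊓ MulAction.stabilizer (Equiv.Perm GolayPt) a := by
      have hle : H ⊓ MulAction.stabilizer (Equiv.Perm GolayPt) a ≤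
          stabO d ⊓ MulAction.stabilizer (Equiv.Perm GolayPt) a ⊓
            MulAction.stabilizer (Equiv.Perm GolayPt) b := by
        intro k hk
        exact Subgroup.mem_inf.mpr ⟨Subgroup.mem_inf.mpr ⟨hH (hQH hk),
          MulAction.mem_stabilizer_iff.mpr (hQa k hk)⟩,
          MulAction.mem_stabilizer_iff.mpr (hQfix k hk)⟩
      have heq := Subgroup.eq_of_le_of_card_ge hle (by rw [card_stabD_pt2 hd had hbd, hHa])
      intro g hg hgd hga hgb
      rw [heq]
      exact Subgroup.mem_inf.mpr ⟨Subgroup.mem_inf.mpr ⟨mem_stabO.mpr ⟨hg, hgd⟩,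
        MulAction.mem_stabilizer_iff.mpr hga⟩, MulAction.mem_stabilizer_iff.mpr hgb⟩
    obtain ⟨b2, -, hb2d, -, hb2b, -, -, -, -⟩ := exists_two_notin hd.2 b b
    have hb2Y : b2 ∈ orb H b := by
      rw [hY'eq]
      exact Finset.mem_sdiff.mpr ⟨Finset.mem_univ _, hb2d⟩
    obtain ⟨h, hh, hhb⟩ := mem_orb.mp hb2Y
    have hhM := mem_stabO.mp (hH hh)
    have ha2d : h a ∈ d := (mem_iff_of_smul_eq hhM.2 a).mpr had
    by_cases ha2 : h a = a
    · have h1 : h ∈ H ⊓ MulAction.stabilizer (Equiv.Perm GolayPt) a :=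
        Subgroup.mem_inf.mpr ⟨hh, MulAction.mem_stabilizer_iff.mpr ha2⟩
      exact hb2b (hhb.symm.trans (hQfix h h1))
    · obtain ⟨g, hg, hgd, hga, hgb, hgb2, hga2⟩ :=
        l4_gen hd had hbd hb2d (Ne.symm hb2b) ha2d ha2
      have hgQ := hQfull g hg hgd hga hgb
      have hconj : h⁻¹ * g * h ∈ H ⊓ MulAction.stabilizer (Equiv.Perm GolayPt) a := by
        rw [hQeq]
        refine Subgroup.mem_inf.mpr ⟨H.mul_mem (H.mul_mem (H.inv_mem hh) (hQH hgQ)) hh,
          MulAction.mem_stabilizer_iff.mpr ?_⟩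
        show (h⁻¹ * g * h) b = b
        rw [Equiv.Perm.mul_apply, Equiv.Perm.mul_apply, hhb, hgb2, ← hhb]
        exact Equiv.Perm.inv_eq_iff_eq.mpr rfl
      have h5 : (h⁻¹ * g * h) a = a := hQa _ hconj
      rw [Equiv.Perm.mul_apply, Equiv.Perm.mul_apply, Equiv.Perm.inv_eq_iff_eq] at h5
      exact hga2 h5
  · -- the stabiliser of a is transitive on the complement
    have hWeq : orb (H ⊓ MulAction.stabilizer (Equiv.Perm GolayPt) a) b = Finset.univ \ d :=
      Finset.eq_of_subset_of_card_le hWsub (by rw [hW12, hd'.2])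
    have hQb : Nat.card ↥(H ⊓ MulAction.stabilizer (Equiv.Perm GolayPt) a ⊓
        MulAction.stabilizer (Equiv.Perm GolayPt) b) = 55 := by
      have h := card_orb (H ⊓ MulAction.stabilizer (Equiv.Perm GolayPt) a) b
      rw [hHa, hW12] at h
      omega
    obtain ⟨t, ht⟩ := exists_prime_orderOf_dvd_card'
      (G := ↥(H ⊓ MulAction.stabilizer (Equiv.Perm GolayPt) a)) 2 (by rw [hHa]; norm_num)
    have hto : orderOf t.1 = 2 := by rw [Subgroup.orderOf_coe, ht]
    have htt : t.1 * t.1 = 1 := by rw [← pow_two, ← hto]; exact pow_orderOf_eq_one _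
    have ht1 : t.1 ≠ 1 := by
      intro h
      rw [h, orderOf_one] at hto
      norm_num at hto
    have htM := mem_stabO.mp (hH (hQH t.2))
    have hta : t.1 a = a := hQa _ t.2
    have hnofix : ∀ c, c ∉ d → t.1 c ≠ c := by
      intro c hc htc
      have hcW : c ∈ orb (H ⊓ MulAction.stabilizer (Equiv.Perm GolayPt) a) b := by
        rw [hWeq]
        exact Finset.mem_sdiff.mpr ⟨Finset.mem_univ _, hc⟩
      obtain ⟨k, hk, hkb⟩ := mem_orb.mp hcW
      have hmem : k⁻¹ * t.1 * k ∈ H ⊓ MulAction.stabilizer (Equiv.Perm GolayPt) a ⊓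
          MulAction.stabilizer (Equiv.Perm GolayPt) b := by
        refine Subgroup.mem_inf.mpr ⟨Subgroup.mul_mem _ (Subgroup.mul_mem _
          (Subgroup.inv_mem _ hk) t.2) hk, MulAction.mem_stabilizer_iff.mpr ?_⟩
        show (k⁻¹ * t.1 * k) b = b
        rw [Equiv.Perm.mul_apply, Equiv.Perm.mul_apply, hkb, htc, ← hkb]
        exact Equiv.Perm.inv_eq_iff_eq.mpr rfl
      have ho : orderOf (⟨_, hmem⟩ : ↥(H ⊓ MulAction.stabilizer (Equiv.Perm GolayPt) a ⊓
          MulAction.stabilizer (Equiv.Perm GolayPt) b)) ∣ 55 := by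
        rw [← hQb]
        exact orderOf_dvd_natCard _
      rw [← Subgroup.orderOf_coe] at ho
      have hsq : (k⁻¹ * t.1 * k) ^ 2 = 1 := by
        have h1 : (k⁻¹ * t.1 * k) ^ 2 = k⁻¹ * (t.1 * t.1) * k := by
          rw [pow_two]
          group
        rw [h1, htt]
        group
      have ho2 : orderOf (k⁻¹ * t.1 * k) ∣ 2 := orderOf_dvd_of_pow_eq_one hsq
      have ho3 : orderOf (k⁻¹ * t.1 * k) ∣ Nat.gcd 55 2 := Nat.dvd_gcd ho ho2
      have ho4 : k⁻¹ * t.1 * k = 1 := by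
        rw [← orderOf_eq_one_iff]
        exact Nat.dvd_one.mp ho3
      apply ht1
      have h2 : t.1 = k * (k⁻¹ * t.1 * k) * k⁻¹ := by group
      rw [h2, ho4]
      group
    have hfixcard : 4 ≤ (Finset.univ.filter (fun z => t.1 z = z)).card := by
      have hm := card_fixed_modEq t.1 Finset.univ (fun z => by simp) 2
        (by rw [pow_two]; exact htt)
      rw [Finset.card_univ, card_golayPt] at hm
      have hpos : 0 < (Finset.univ.filter (fun z => t.1 z = z)).card :=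
        Finset.card_pos.mpr ⟨a, Finset.mem_filter.mpr ⟨Finset.mem_univ _, hta⟩⟩
      have hne2 : (Finset.univ.filter (fun z => t.1 z = z)).card ≠ 2 :=
        fun h => no_invol_two_fix htM.1 htt h
      unfold Nat.ModEq at hm
      omega
    have hsubd : Finset.univ.filter (fun z => t.1 z = z) ⊆ d := by
      intro z hz
      by_contra hzd
      exact hnofix z hzd (Finset.mem_filter.mp hz).2
    obtain ⟨c, hcd, htc⟩ := l3_gen hd htM.1 htM.2 htt ht1
      (Finset.univ.filter (fun z => t.1 z = z)) hsubd hfixcard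
      (fun z hz => (Finset.mem_filter.mp hz).2)
    exact hnofix c hcd htc

end Cfsg.Agent.Lib.Helper3.M12Sub
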