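import Mathlib
import Cfsg.Prelude.Def_Sporadic_a
import Cfsg.Prelude.Def_Spor_Mathieu
import Cfsg.Prelude.Def_KGroupFacts
import Cfsg.Agent.Lib.Helper3.M22Fix

set_option autoImplicit false

namespace Cfsg.Agent.Lib.Helper3.M22Span

open Cfsg Cfsg.Agent.Lib.Helper3.Golay Cfsg.Agent.Lib.Helper3.Golay2
open Cfsg.Agent.Lib.Helper3.GolayM24 Cfsg.Agent.Lib.Helper3.M24Perm
open Cfsg.Agent.Lib.Helper3.M24Cert Cfsg.Agent.Lib.Helper3.M24Order
open Cfsg.Agent.Lib.Helper3.M24Trans Cfsg.Agent.Lib.Helper3.M24Oct
open Cfsg.Agent.Lib.Helper3.M24OctA8 Cfsg.Agent.Lib.Helper3.M24OctSplit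
open Cfsg.Agent.Lib.Helper3.M24Aut Cfsg.Agent.Lib.Helper3.M24Out
open Cfsg.Agent.Lib.Helper3.M23Out Cfsg.Agent.Lib.Helper3.M22Fix
open scoped Pointwise

/-- eleven octads through the extra point and the residue 0 (as masks) -/
def tailL22 : List ℕ := [12717187, 10881097, 8657159, 9465987, 9240913, 9193633, 10666625, 13370381, 14254209, 12587685, 8421811]

/-- an octad through the extra point missing the residue 0, followed by `tailL22`:
together they span the code -/
def octL22 : List ℕ := 8414120 :: tailL22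

def phiL22 : List ℕ := [105, 766, 864, 490, 114, 5, 396, 833, 904, 1916, 2541, 496]

theorem octL22_ok : octL22.all (fun g => Nat.beq (cw (kOf g)) g && Nat.beq (pc g) 8 &&
    Nat.testBit g 23) = true := by
  decide +kernel

theorem tailL22_ok : tailL22.all (fun g => Nat.testBit g 0 &&
    Nat.beq (pc (g &&& 8388609) % 2) 0) = true := by
  decide +kernel

theorem span22_ok :
    (List.range 4096).all (fun k => Nat.beq (cw k) (comb octL22 (comb phiL22 k))) = true := by
  decide +kernel

theorem octL22_code : ∀ g ∈ octL22, dec g ∈ golayCode := by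
  intro g hg
  have h := octL22_ok
  rw [List.all_eq_true] at h
  have h1 := h g hg
  simp only [Bool.and_eq_true] at h1
  have e1 : cw (kOf g) = g := Nat.eq_of_beq_eq_true h1.1.1
  rw [← e1]
  exact dec_cw_mem _

theorem octL22_mem : ∀ g ∈ octL22, ms g ∈ octads ∧ (none : GolayPt) ∈ ms g := by
  intro g hg
  have h := octL22_ok
  rw [List.all_eq_true] at h
  have h1 := h g hg
  simp only [Bool.and_eq_true] at h1
  have e1 : cw (kOf g) = g := Nat.eq_of_beq_eq_true h1.1.1
  have e2 : pc g = 8 := Nat.eq_of_beq_eq_true h1.1.2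
  refine ⟨⟨?_, by rw [card_ms, e2]⟩, mem_ms.mpr h1.2⟩
  rw [ms_eq_support, ← e1]
  exact ⟨dec (cw (kOf g)), dec_cw_mem _, rfl⟩

theorem tailL22_mem : ∀ g ∈ tailL22, (some 0 : GolayPt) ∈ ms g ∧ pc (g &&& 8388609) % 2 = 0 := by
  intro g hg
  have h := tailL22_ok
  rw [List.all_eq_true] at h
  have h1 := h g hg
  simp only [Bool.and_eq_true] at h1
  exact ⟨mem_ms.mpr h1.1, Nat.eq_of_beq_eq_true h1.2⟩

theorem cw_eq_comb_oct22 {k : ℕ} (hk : k < 4096) : cw k = comb octL22 (comb phiL22 k) := by
  have h := span22_ok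
  rw [List.all_eq_true] at h
  exact Nat.eq_of_beq_eq_true (h k (List.mem_range.mpr hk))

theorem e22_apply : ∀ p : GolayPt,
    dec 8388609 p = if p = none ∨ p = some 0 then 1 else 0 := by
  decide +kernel

theorem head_none : dec 8414120 (none : GolayPt) = 1 := by
  decide +kernel

theorem head_zero : dec 8414120 (some 0 : GolayPt) = 0 := by
  decide +kernel

theorem head_dot : pc (8414120 &&& 8388609) = 1 := by
  decide +kernel

theorem comp_swap_same (x : GolayPt → ZMod 2) (h : x none = x (some 0)) :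
    x ∘ ⇑(Equiv.swap (none : GolayPt) (some 0)) = x := by
  funext p
  show x (Equiv.swap (none : GolayPt) (some 0) p) = x p
  by_cases h1 : p = none
  · subst h1
    rw [Equiv.swap_apply_left]
    exact h.symm
  · by_cases h2 : p = some 0
    · subst h2
      rw [Equiv.swap_apply_right]
      exact h
    · rw [Equiv.swap_apply_of_ne_of_ne h1 h2]

theorem comp_swap_diff (x : GolayPt → ZMod 2) (h1 : x none = 1) (h0 : x (some 0) = 0) :
    x ∘ ⇑(Equiv.swap (none : GolayPt) (some 0)) = x + dec 8388609 := by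
  funext p
  show x (Equiv.swap (none : GolayPt) (some 0) p) = x p + dec 8388609 p
  rw [e22_apply]
  by_cases hp1 : p = none
  · subst hp1
    rw [Equiv.swap_apply_left, h0, h1, if_pos (Or.inl rfl)]
    decide
  · by_cases hp2 : p = some 0
    · subst hp2
      rw [Equiv.swap_apply_right, h1, h0, if_pos (Or.inr rfl)]
      decide
    · rw [Equiv.swap_apply_of_ne_of_ne hp1 hp2, if_neg (by simp [hp1, hp2]), add_zero]

/-- a permutation fixing the extra point and the residue 0 and permuting the octads through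
both lies in `M24`, possibly after swapping the two points. -/
theorem mem_M24_or {σ : Equiv.Perm GolayPt} (hn : σ none = none) (h0 : σ (some 0) = some 0)
    (hσ : ∀ o ∈ octads, (none : GolayPt) ∈ o → (some 0 : GolayPt) ∈ o → σ • o ∈ octads)
    (hσ' : ∀ o ∈ octads, (none : GolayPt) ∈ o → (some 0 : GolayPt) ∈ o → σ⁻¹ • o ∈ octads) :
    σ ∈ M24 ∨ Equiv.swap (none : GolayPt) (some 0) * σ ∈ M24 := by
  have hsn : σ.symm none = none := by rw [Equiv.symm_apply_eq, hn]
  have hs0 : σ.symm (some 0) = some 0 := by rw [Equiv.symm_apply_eq, h0]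
  have hhead : dec 8414120 ∈ golayCode := octL22_code _ (List.mem_cons_self)
  have ha : ∀ g ∈ tailL22, dec g ∘ ⇑σ.symm ∈ golayCode := by
    intro g hg
    have hg' : g ∈ octL22 := List.mem_cons_of_mem _ hg
    have h1 : σ • ms g ∈ octads :=
      hσ _ (octL22_mem g hg').1 (octL22_mem g hg').2 (tailL22_mem g hg).1
    obtain ⟨w', hw', h2⟩ := h1.1
    rw [ms_eq_support, smul_support] at h2
    rw [← support_injective h2]
    exact hw'
  have ha' : ∀ g ∈ tailL22, dec g ∘ ⇑σ ∈ golayCode := by
    intro g hg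
    have hg' : g ∈ octL22 := List.mem_cons_of_mem _ hg
    have h1 : σ⁻¹ • ms g ∈ octads :=
      hσ' _ (octL22_mem g hg').1 (octL22_mem g hg').2 (tailL22_mem g hg).1
    obtain ⟨w', hw', h2⟩ := h1.1
    rw [ms_eq_support, smul_support] at h2
    have h3 : dec g ∘ ⇑(σ⁻¹).symm = dec g ∘ ⇑σ := rfl
    rw [h3] at h2
    rw [← support_injective h2]
    exact hw'
  have hb : ∀ g ∈ tailL22, ∑ i, dec g i * dec 8414120 (σ.symm i) = 0 := by
    intro g hg
    have h1 := dot_eq_zero (ha' g hg) hhead
    rw [← Equiv.sum_comp σ]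
    simp only [Equiv.symm_apply_apply]
    exact h1
  have hone : ∀ g ∈ tailL22, dec g (none : GolayPt) = 1 ∧ dec g (some 0 : GolayPt) = 1 := by
    intro g hg
    have hg' : g ∈ octL22 := List.mem_cons_of_mem _ hg
    exact ⟨(dec_eq_one_iff g none).mpr (mem_ms.mp (octL22_mem g hg').2),
      (dec_eq_one_iff g (some 0)).mpr (mem_ms.mp (tailL22_mem g hg).1)⟩
  rcases zmod2_cases (∑ i, dec 8414120 i * dec 8414120 (σ.symm i)) with h | h
  · have hd : dec 8414120 ∘ ⇑σ.symm ∈ golayCode := by
      apply mem_of_orth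
      intro w hw
      obtain ⟨k, hk, rfl⟩ := (mem_golayCode_iff w).mp hw
      rw [cw_eq_comb_oct22 hk]
      refine comb_induction (fun x => ∑ i, x i * dec 8414120 (σ.symm i) = 0) (by simp) ?_
        octL22 ?_ _
      · intro x y hx hy
        simp only [Pi.add_apply, add_mul, Finset.sum_add_distrib, hx, hy, add_zero]
      · intro g hg
        rcases List.mem_cons.mp hg with rfl | hg
        · exact h
        · exact hb g hg
    left
    apply mem_M24_of_comp
    intro w hw
    obtain ⟨k, hk, rfl⟩ := (mem_golayCode_iff w).mp hw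
    rw [cw_eq_comb_oct22 hk]
    refine comb_induction (fun x => x ∘ ⇑σ.symm ∈ golayCode) (Submodule.zero_mem _)
      (fun x y hx hy => Submodule.add_mem _ hx hy) octL22 ?_ _
    intro g hg
    rcases List.mem_cons.mp hg with rfl | hg
    · exact hd
    · exact ha g hg
  · have hd : dec 8414120 ∘ ⇑σ.symm + dec 8388609 ∈ golayCode := by
      apply mem_of_orth
      intro w hw
      obtain ⟨k, hk, rfl⟩ := (mem_golayCode_iff w).mp hw
      rw [cw_eq_comb_oct22 hk]
      refine comb_induction
        (fun x => ∑ i, x i * (dec 8414120 (σ.symm i) + dec 8388609 i) = 0) (by simp) ?_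
        octL22 ?_ _
      · intro x y hx hy
        simp only [Pi.add_apply, add_mul, Finset.sum_add_distrib, hx, hy, add_zero]
      · intro g hg
        show ∑ i, dec g i * (dec 8414120 (σ.symm i) + dec 8388609 i) = 0
        simp only [mul_add, Finset.sum_add_distrib]
        rw [dot_dec]
        rcases List.mem_cons.mp hg with rfl | hg
        · rw [h, head_dot]
          decide
        · rw [hb g hg, zero_add, ZMod.natCast_eq_zero_iff]
          exact Nat.dvd_of_mod_eq_zero (tailL22_mem g hg).2
    right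
    apply mem_M24_of_comp
    intro w hw
    obtain ⟨k, hk, rfl⟩ := (mem_golayCode_iff w).mp hw
    rw [cw_eq_comb_oct22 hk]
    refine comb_induction
      (fun x => x ∘ ⇑(Equiv.swap (none : GolayPt) (some 0) * σ).symm ∈ golayCode)
      (Submodule.zero_mem _) (fun x y hx hy => Submodule.add_mem _ hx hy) octL22 ?_ _
    intro g hg
    have hcomp : ∀ x : GolayPt → ZMod 2,
        x ∘ ⇑(Equiv.swap (none : GolayPt) (some 0) * σ).symm =
          (x ∘ ⇑σ.symm) ∘ ⇑(Equiv.swap (none : GolayPt) (some 0)) := by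
      intro x
      funext p
      show x ((Equiv.swap (none : GolayPt) (some 0) * σ).symm p) =
        x (σ.symm (Equiv.swap (none : GolayPt) (some 0) p))
      congr 1
    show dec g ∘ ⇑(Equiv.swap (none : GolayPt) (some 0) * σ).symm ∈ golayCode
    rw [hcomp]
    rcases List.mem_cons.mp hg with rfl | hg
    · rw [comp_swap_diff _ (by show dec 8414120 (σ.symm none) = 1; rw [hsn]; exact head_none)
        (by show dec 8414120 (σ.symm (some 0)) = 0; rw [hs0]; exact head_zero)]
      exact hd
    · rw [comp_swap_same _ (by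
        show dec g (σ.symm none) = dec g (σ.symm (some 0))
        rw [hsn, hs0, (hone g hg).1, (hone g hg).2])]
      exact ha g hg

end Cfsg.Agent.Lib.Helper3.M22Span
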