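import Mathlib
import Cfsg.Prelude.Def_Sporadic_a
import Cfsg.Prelude.Def_Spor_Mathieu
import Cfsg.Prelude.Def_KGroupFacts
import Cfsg.Agent.Lib.Helper3.M22Span

set_option autoImplicit false

namespace Cfsg.Agent.Lib.Helper3.M22Out

open Cfsg Cfsg.Agent.Lib.Helper3.Golay Cfsg.Agent.Lib.Helper3.Golay2
open Cfsg.Agent.Lib.Helper3.GolayM24 Cfsg.Agent.Lib.Helper3.M24Perm
open Cfsg.Agent.Lib.Helper3.M24Cert Cfsg.Agent.Lib.Helper3.M24Order
open Cfsg.Agent.Lib.Helper3.M24Trans Cfsg.Agent.Lib.Helper3.M24Oct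
open Cfsg.Agent.Lib.Helper3.M24OctA8 Cfsg.Agent.Lib.Helper3.M24OctSplit
open Cfsg.Agent.Lib.Helper3.M24Aut Cfsg.Agent.Lib.Helper3.M24Out
open Cfsg.Agent.Lib.Helper3.M23Out Cfsg.Agent.Lib.Helper3.M22Fix
open Cfsg.Agent.Lib.Helper3.M22Span
open scoped Pointwise

theorem trans4 (p q r s p' q' r' s' : GolayPt) (h1 : p ≠ q) (h2 : p ≠ r) (h3 : q ≠ r)
    (h4 : p ≠ s) (h5 : q ≠ s) (h6 : r ≠ s)
    (h1' : p' ≠ q') (h2' : p' ≠ r') (h3' : q' ≠ r') (h4' : p' ≠ s') (h5' : q' ≠ s')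
    (h6' : r' ≠ s') :
    ∃ g ∈ M24, g p = p' ∧ g q = q' ∧ g r = r' ∧ g s = s' := by
  obtain ⟨σ, hσ, e0, e1, e2, e3⟩ := map4 p q r s h1 h2 h3 h4 h5 h6
  obtain ⟨τ, hτ, e0', e1', e2', e3'⟩ := map4 p' q' r' s' h1' h2' h3' h4' h5' h6'
  rw [fixG_nil] at hσ hτ
  refine ⟨τ * σ⁻¹, M24.mul_mem hτ (M24.inv_mem hσ), ?_, ?_, ?_, ?_⟩
  · rw [Equiv.Perm.mul_apply, ← e0, Equiv.Perm.coe_inv, Equiv.symm_apply_apply, e0']
  · rw [Equiv.Perm.mul_apply, ← e1, Equiv.Perm.coe_inv, Equiv.symm_apply_apply, e1']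
  · rw [Equiv.Perm.mul_apply, ← e2, Equiv.Perm.coe_inv, Equiv.symm_apply_apply, e2']
  · rw [Equiv.Perm.mul_apply, ← e3, Equiv.Perm.coe_inv, Equiv.symm_apply_apply, e3']

theorem mem_M22 {g : Equiv.Perm GolayPt} :
    g ∈ Cfsg.Spor.M22 ↔ g ∈ M24 ∧ g none = none ∧ g (some 0) = some 0 := by
  constructor
  · intro h
    have h1 := Subgroup.mem_inf.mp h
    have h2 := mem_M23.mp h1.1
    exact ⟨h2.1, h2.2, MulAction.mem_stabilizer_iff.mp h1.2⟩
  · intro h
    exact Subgroup.mem_inf.mpr ⟨mem_M23.mpr ⟨h.1, h.2.1⟩, MulAction.mem_stabilizer_iff.mpr h.2.2⟩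

theorem card_M22 : Nat.card ↥Cfsg.Spor.M22 = 443520 :=
  card_stab23 (p := some 0) (by simp)

/-- the 22 points moved by `M22` -/
def pts22 : Finset GolayPt := (Finset.univ.erase (none : GolayPt)).erase (some 0)

theorem mem_pts22 {p : GolayPt} : p ∈ pts22 ↔ p ≠ none ∧ p ≠ some 0 := by
  simp only [pts22, Finset.mem_erase, Finset.mem_univ, and_true]
  tauto

theorem card_pts22 : pts22.card = 22 := by
  rw [pts22, Finset.card_erase_of_mem (by simp), Finset.card_erase_of_mem (Finset.mem_univ _),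
    Finset.card_univ, card_golayPt]

theorem card_stab22 {p : GolayPt} (hp : p ≠ none) (hp0 : p ≠ some 0) :
    Nat.card ↥(Cfsg.Spor.M22 ⊓ MulAction.stabilizer (Equiv.Perm GolayPt) p) = 20160 := by
  classical
  have h := card_eq_ncard_mul Cfsg.Spor.M22
    (Cfsg.Spor.M22 ⊓ MulAction.stabilizer (Equiv.Perm GolayPt) p) p
    ((pts22 : Finset GolayPt) : Set GolayPt)
    (fun g => ⟨fun h => ⟨(Subgroup.mem_inf.mp h).1,
        MulAction.mem_stabilizer_iff.mp (Subgroup.mem_inf.mp h).2⟩,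
      fun h => Subgroup.mem_inf.mpr ⟨h.1, MulAction.mem_stabilizer_iff.mpr h.2⟩⟩)
    (fun g hg => by
      rw [Finset.mem_coe, mem_pts22]
      have h1 := mem_M22.mp hg
      exact ⟨fun h => hp (g.injective (h.trans h1.2.1.symm)),
        fun h => hp0 (g.injective (h.trans h1.2.2.symm))⟩)
    (fun s hs => by
      rw [Finset.mem_coe, mem_pts22] at hs
      obtain ⟨g, hg, e1, e2, e3⟩ := trans3 none (some 0) p none (some 0) s (by simp)
        (Ne.symm hp) (Ne.symm hp0) (by simp) (Ne.symm hs.1) (Ne.symm hs.2)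
      exact ⟨g, mem_M22.mpr ⟨hg, e1, e2⟩, e3⟩)
  rw [card_M22, Set.ncard_coe_finset, card_pts22] at h
  omega

/-- a subgroup of `M22` of the order of a point stabiliser fixes a third point. -/
theorem fix_of_card22 (H : Subgroup (Equiv.Perm GolayPt)) (hH : H ≤ Cfsg.Spor.M22)
    (hcard : Nat.card H = 20160) : ∃ b ∈ pts22, ∀ k ∈ H, k b = b := by
  classical
  have hp7 : Fact (Nat.Prime 7) := ⟨by norm_num⟩
  have hp5 : Fact (Nat.Prime 5) := ⟨by norm_num⟩
  obtain ⟨y, hy⟩ := exists_prime_orderOf_dvd_card' (G := ↥H) 7 (by rw [hcard]; norm_num)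
  obtain ⟨f, hf⟩ := exists_prime_orderOf_dvd_card' (G := ↥H) 5 (by rw [hcard]; norm_num)
  have hyo : orderOf y.1 = 7 := by rw [Subgroup.orderOf_coe, hy]
  have hfo : orderOf f.1 = 5 := by rw [Subgroup.orderOf_coe, hf]
  have hy7 : y.1 ^ 7 = 1 := by rw [← hyo]; exact pow_orderOf_eq_one _
  have hf5 : f.1 ^ 5 = 1 := by rw [← hfo]; exact pow_orderOf_eq_one _
  have hy1 : y.1 ≠ 1 := by
    intro h
    rw [h, orderOf_one] at hyo
    norm_num at hyo
  have hf1 : f.1 ≠ 1 := by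
    intro h
    rw [h, orderOf_one] at hfo
    norm_num at hfo
  have hyM := mem_M22.mp (hH y.2)
  have hfM := mem_M22.mp (hH f.2)
  obtain ⟨hle, hmod⟩ := card_fix_lt hyM.1 (by norm_num : Nat.Prime 7) (by norm_num) hy7 hy1
  have hc3 : (Finset.univ.filter (fun z => y.1 z = z)).card = 3 := by
    unfold Nat.ModEq at hmod
    omega
  have hnone : (none : GolayPt) ∈ Finset.univ.filter (fun z => y.1 z = z) :=
    Finset.mem_filter.mpr ⟨Finset.mem_univ _, hyM.2.1⟩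
  have hzero : (some 0 : GolayPt) ∈ (Finset.univ.filter (fun z => y.1 z = z)).erase none :=
    Finset.mem_erase.mpr ⟨by simp, Finset.mem_filter.mpr ⟨Finset.mem_univ _, hyM.2.2⟩⟩
  have hc1 : (((Finset.univ.filter (fun z => y.1 z = z)).erase none).erase (some 0)).card = 1 := by
    rw [Finset.card_erase_of_mem hzero, Finset.card_erase_of_mem hnone, hc3]
  obtain ⟨b, hbeq⟩ := Finset.card_eq_one.mp hc1
  have hbmem : b ∈ ((Finset.univ.filter (fun z => y.1 z = z)).erase none).erase (some 0) := by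
    rw [hbeq]
    exact Finset.mem_singleton_self b
  have hb0 : b ≠ some 0 := (Finset.mem_erase.mp hbmem).1
  have hbn : b ≠ none := (Finset.mem_erase.mp (Finset.mem_erase.mp hbmem).2).1
  have hbfix : y.1 b = b :=
    (Finset.mem_filter.mp (Finset.mem_erase.mp (Finset.mem_erase.mp hbmem).2).2).2
  have hfixes : ∀ z, y.1 z = z → z = none ∨ z = some 0 ∨ z = b := by
    intro z hz
    by_contra hcon
    push Not at hcon
    have h1 : z ∈ ((Finset.univ.filter (fun z => y.1 z = z)).erase none).erase (some 0) :=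
      Finset.mem_erase.mpr ⟨hcon.2.1, Finset.mem_erase.mpr ⟨hcon.1,
        Finset.mem_filter.mpr ⟨Finset.mem_univ _, hz⟩⟩⟩
    rw [hbeq, Finset.mem_singleton] at h1
    exact hcon.2.2 h1
  -- the orbit of b
  let Y : Finset GolayPt := Finset.univ.filter (fun z => ∃ k ∈ H, k b = z)
  have hbY : b ∈ Y := Finset.mem_filter.mpr ⟨Finset.mem_univ _, 1, H.one_mem, rfl⟩
  have hnY : (none : GolayPt) ∉ Y := by
    intro h
    obtain ⟨k, hk, e⟩ := (Finset.mem_filter.mp h).2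
    have h1 := (mem_M22.mp (hH hk)).2.1
    exact hbn (k.injective (e.trans h1.symm))
  have h0Y : (some 0 : GolayPt) ∉ Y := by
    intro h
    obtain ⟨k, hk, e⟩ := (Finset.mem_filter.mp h).2
    have h1 := (mem_M22.mp (hH hk)).2.2
    exact hb0 (k.injective (e.trans h1.symm))
  have hYinv : ∀ k ∈ H, ∀ z, k z ∈ Y ↔ z ∈ Y := by
    intro k hk z
    constructor
    · intro h
      obtain ⟨k', hk', e⟩ := (Finset.mem_filter.mp h).2
      refine Finset.mem_filter.mpr ⟨Finset.mem_univ _, k⁻¹ * k', H.mul_mem (H.inv_mem hk) hk', ?_⟩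
      rw [Equiv.Perm.mul_apply, e]
      exact Equiv.Perm.inv_eq_iff_eq.mpr rfl
    · intro h
      obtain ⟨k', hk', e⟩ := (Finset.mem_filter.mp h).2
      refine Finset.mem_filter.mpr ⟨Finset.mem_univ _, k * k', H.mul_mem hk hk', ?_⟩
      rw [Equiv.Perm.mul_apply, e]
  -- |Y| ≡ 1 mod 7
  have hT : ∀ z, y.1 z ∈ Y.erase b ↔ z ∈ Y.erase b := by
    intro z
    rw [Finset.mem_erase, Finset.mem_erase, hYinv y.1 y.2 z]
    constructor
    · rintro ⟨h1, h2⟩
      refine ⟨fun h => h1 ?_, h2⟩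
      rw [h, hbfix]
    · rintro ⟨h1, h2⟩
      refine ⟨fun h => h1 ?_, h2⟩
      exact y.1.injective (h.trans hbfix.symm)
  have hm := card_fixed_modEq y.1 (Y.erase b) hT 7 hy7
  have hempty : (Y.erase b).filter (fun z => y.1 z = z) = ∅ := by
    rw [Finset.filter_eq_empty_iff]
    intro z hz hfix
    rw [Finset.mem_erase] at hz
    rcases hfixes z hfix with h | h | h
    · exact hnY (h ▸ hz.2)
    · exact h0Y (h ▸ hz.2)
    · exact hz.1 h
  rw [hempty, Finset.card_empty, Finset.card_erase_of_mem hbY] at hm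
  have hYsub : Y ⊆ pts22 := by
    intro z hz
    rw [mem_pts22]
    exact ⟨fun h => hnY (h ▸ hz), fun h => h0Y (h ▸ hz)⟩
  have hY22 : Y.card ≤ 22 := by
    have h2 := Finset.card_le_card hYsub
    rw [card_pts22] at h2
    exact h2
  have hYpos : 0 < Y.card := Finset.card_pos.mpr ⟨b, hbY⟩
  have hdvd : Y.card ∣ 20160 := by
    have h := card_eq_ncard_mul H (H ⊓ MulAction.stabilizer (Equiv.Perm GolayPt) b) b
      (Y : Set GolayPt)
      (fun g => ⟨fun h => ⟨(Subgroup.mem_inf.mp h).1,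
          MulAction.mem_stabilizer_iff.mp (Subgroup.mem_inf.mp h).2⟩,
        fun h => Subgroup.mem_inf.mpr ⟨h.1, MulAction.mem_stabilizer_iff.mpr h.2⟩⟩)
      (fun g hg => Finset.mem_coe.mpr (Finset.mem_filter.mpr ⟨Finset.mem_univ _, g, hg, rfl⟩))
      (fun s hs => by
        obtain ⟨k, hk, e⟩ := (Finset.mem_filter.mp (Finset.mem_coe.mp hs)).2
        exact ⟨k, hk, e⟩)
    rw [hcard, Set.ncard_coe_finset] at h
    exact ⟨_, h⟩
  have hYcases : Y.card = 1 ∨ Y.card = 8 ∨ Y.card = 15 := by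
    unfold Nat.ModEq at hm
    have h1 : Y.card = 1 ∨ Y.card = 8 ∨ Y.card = 15 ∨ Y.card = 22 := by omega
    rcases h1 with h | h | h | h
    · left; exact h
    · right; left; exact h
    · right; right; exact h
    · exfalso
      rw [h] at hdvd
      norm_num at hdvd
  obtain ⟨hfle, hfmod⟩ := card_fix_lt hfM.1 (by norm_num : Nat.Prime 5) (by norm_num) hf5 hf1
  rcases hYcases with h1 | h8 | h15
  · obtain ⟨c, hc⟩ := Finset.card_eq_one.mp h1
    have hbc : b = c := by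
      rw [hc, Finset.mem_singleton] at hbY
      exact hbY
    refine ⟨b, mem_pts22.mpr ⟨hbn, hb0⟩, fun k hk => ?_⟩
    have h2 : k b ∈ Y := Finset.mem_filter.mpr ⟨Finset.mem_univ _, k, hk, rfl⟩
    rw [hc, Finset.mem_singleton] at h2
    rw [h2, hbc]
  · exfalso
    have hm5 := card_fixed_modEq f.1 Y (hYinv f.1 f.2) 5 hf5
    rw [h8] at hm5
    have h3 : 3 ≤ (Y.filter (fun z => f.1 z = z)).card := by
      unfold Nat.ModEq at hm5
      omega
    have hn' : (none : GolayPt) ∉ insert (some 0) (Y.filter (fun z => f.1 z = z)) := by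
      rw [Finset.mem_insert, not_or]
      exact ⟨by simp, fun h => hnY (Finset.mem_filter.mp h).1⟩
    have h0' : (some 0 : GolayPt) ∉ Y.filter (fun z => f.1 z = z) :=
      fun h => h0Y (Finset.mem_filter.mp h).1
    apply hf1
    apply fix5_trivial hfM.1 (insert none (insert (some 0) (Y.filter (fun z => f.1 z = z))))
      (by rw [Finset.card_insert_of_notMem hn', Finset.card_insert_of_notMem h0']; omega) ?_
      (by norm_num : Nat.Prime 5) (by norm_num) hf5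
    intro z hz
    rw [Finset.mem_insert, Finset.mem_insert] at hz
    rcases hz with h | h | h
    · rw [h]; exact hfM.2.1
    · rw [h]; exact hfM.2.2
    · exact (Finset.mem_filter.mp h).2
  · exfalso
    let Z : Finset GolayPt := Finset.univ \ insert none (insert (some 0) Y)
    have hn' : (none : GolayPt) ∉ insert (some 0) Y := by
      rw [Finset.mem_insert, not_or]
      exact ⟨by simp, hnY⟩
    have hZcard : Z.card = 7 := by
      rw [Finset.card_sdiff_of_subset (Finset.subset_univ _), Finset.card_univ, card_golayPt,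
        Finset.card_insert_of_notMem hn', Finset.card_insert_of_notMem h0Y, h15]
    have hmemZ : ∀ z, z ∈ Z ↔ z ≠ none ∧ z ≠ some 0 ∧ z ∉ Y := by
      intro z
      simp only [Z, Finset.mem_sdiff, Finset.mem_univ, true_and, Finset.mem_insert, not_or]
    have hZinv : ∀ k ∈ H, ∀ z, k z ∈ Z ↔ z ∈ Z := by
      intro k hk z
      have hkM := mem_M22.mp (hH hk)
      rw [hmemZ, hmemZ, hYinv k hk z]
      constructor
      · rintro ⟨h1, h2, h3⟩
        refine ⟨fun h => h1 ?_, fun h => h2 ?_, h3⟩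
        · rw [h, hkM.2.1]
        · rw [h, hkM.2.2]
      · rintro ⟨h1, h2, h3⟩
        refine ⟨fun h => h1 ?_, fun h => h2 ?_, h3⟩
        · exact k.injective (h.trans hkM.2.1.symm)
        · exact k.injective (h.trans hkM.2.2.symm)
    let φ : ↥H → Equiv.Perm ↥Z := fun k => k.1.subtypePerm (hZinv k.1 k.2)
    have hlt : Nat.card (Equiv.Perm ↥Z) < Nat.card ↥H := by
      rw [hcard, Nat.card_eq_fintype_card, Fintype.card_perm, Fintype.card_coe, hZcard]
      decide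
    have hninj : ¬ Function.Injective φ := by
      intro hi
      have := Nat.card_le_card_of_injective φ hi
      omega
    obtain ⟨k1, k2, heq, hne⟩ := Function.not_injective_iff.mp hninj
    have hkey : ∀ z ∈ Z, (k1.1⁻¹ * k2.1) z = z := by
      intro z hz
      have h1 : (φ k1 ⟨z, hz⟩ : GolayPt) = (φ k2 ⟨z, hz⟩ : GolayPt) := by rw [heq]
      have h2 : k1.1 z = k2.1 z := h1
      rw [Equiv.Perm.mul_apply, ← h2]
      exact Equiv.Perm.inv_eq_iff_eq.mpr rfl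
    have hkM := mem_M22.mp (hH (H.mul_mem (H.inv_mem k1.2) k2.2))
    have hnZ : (none : GolayPt) ∉ insert (some 0) Z := by
      rw [Finset.mem_insert, not_or]
      exact ⟨by simp, fun h => ((hmemZ _).mp h).1 rfl⟩
    have h0Z : (some 0 : GolayPt) ∉ Z := fun h => ((hmemZ _).mp h).2.1 rfl
    have hone : k1.1⁻¹ * k2.1 = 1 := by
      apply fix9_trivial hkM.1 (insert none (insert (some 0) Z))
        (by rw [Finset.card_insert_of_notMem hnZ, Finset.card_insert_of_notMem h0Z, hZcard])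
      intro z hz
      rw [Finset.mem_insert, Finset.mem_insert] at hz
      rcases hz with h | h | h
      · rw [h]; exact hkM.2.1
      · rw [h]; exact hkM.2.2
      · exact hkey z h
    apply hne
    apply Subtype.ext
    exact inv_mul_eq_one.mp hone

/-- conjugation by a normalising permutation, as an automorphism. -/
def conjAut {Ω : Type*} (G : Subgroup (Equiv.Perm Ω)) (ρ : Equiv.Perm Ω)
    (h1 : ∀ g ∈ G, ρ * g * ρ⁻¹ ∈ G) (h2 : ∀ g ∈ G, ρ⁻¹ * g * ρ ∈ G) : MulAut ↥G where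
  toFun g := ⟨ρ * g.1 * ρ⁻¹, h1 g.1 g.2⟩
  invFun g := ⟨ρ⁻¹ * g.1 * ρ, h2 g.1 g.2⟩
  left_inv g := by
    apply Subtype.ext
    show ρ⁻¹ * (ρ * g.1 * ρ⁻¹) * ρ = g.1
    group
  right_inv g := by
    apply Subtype.ext
    show ρ * (ρ⁻¹ * g.1 * ρ) * ρ⁻¹ = g.1
    group
  map_mul' a b := by
    apply Subtype.ext
    show ρ * (a.1 * b.1) * ρ⁻¹ = ρ * a.1 * ρ⁻¹ * (ρ * b.1 * ρ⁻¹)
    group

theorem conjAut_apply {Ω : Type*} (G : Subgroup (Equiv.Perm Ω)) (ρ : Equiv.Perm Ω)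
    (h1 : ∀ g ∈ G, ρ * g * ρ⁻¹ ∈ G) (h2 : ∀ g ∈ G, ρ⁻¹ * g * ρ ∈ G) (g : ↥G) :
    ((conjAut G ρ h1 h2 g : ↥G) : Equiv.Perm Ω) = ρ * g.1 * ρ⁻¹ := rfl

theorem hinj22 : ∀ p ∈ pts22, ∀ p' ∈ pts22,
    (∀ g : ↥Cfsg.Spor.M22, g.1 p = p → g.1 p' = p') → p = p' := by
  classical
  intro p hp p' hp' h
  by_contra hne
  obtain ⟨hp1, hp2⟩ := mem_pts22.mp hp
  obtain ⟨hp1', hp2'⟩ := mem_pts22.mp hp'
  obtain ⟨r, hr⟩ : ∃ r : GolayPt, r ∉ ({none, some 0, p, p'} : Finset GolayPt) := by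
    by_contra hcon
    push Not at hcon
    have h1 : (Finset.univ : Finset GolayPt) ⊆ {none, some 0, p, p'} := fun z _ => hcon z
    have h2 := Finset.card_le_card h1
    rw [Finset.card_univ, card_golayPt] at h2
    have h3 : ({none, some 0, p, p'} : Finset GolayPt).card ≤ 4 := Finset.card_le_four
    omega
  simp only [Finset.mem_insert, Finset.mem_singleton, not_or] at hr
  obtain ⟨g, hg, e1, e2, e3, e4⟩ := trans4 none (some 0) p p' none (some 0) p r (by simp)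
    (Ne.symm hp1) (Ne.symm hp2) (Ne.symm hp1') (Ne.symm hp2') hne
    (by simp) (Ne.symm hp1) (Ne.symm hp2) (Ne.symm hr.1) (Ne.symm hr.2.1) (Ne.symm hr.2.2.1)
  have h1 := h ⟨g, mem_M22.mpr ⟨hg, e1, e2⟩⟩ e3
  exact hr.2.2.2 (e4.symm.trans h1)

/-- every automorphism of `M22` is induced by an element of `M24` fixing or swapping the two
fixed points. -/
theorem aut_M22 (α : MulAut ↥Cfsg.Spor.M22) :
    ∃ ρ ∈ M24, ((ρ none = none ∧ ρ (some 0) = some 0) ∨ (ρ none = some 0 ∧ ρ (some 0) = none)) ∧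
      ∀ g : ↥Cfsg.Spor.M22, ((α g : ↥Cfsg.Spor.M22) : Equiv.Perm GolayPt) = ρ * g.1 * ρ⁻¹ := by
  classical
  have hΔ : ∀ g ∈ Cfsg.Spor.M22, ∀ p, p ∉ pts22 → g p = p := by
    intro g hg p hp
    have hgM := mem_M22.mp hg
    rw [mem_pts22] at hp
    by_cases h1 : p = none
    · rw [h1]; exact hgM.2.1
    · have h2 : p = some 0 := by
        by_contra h2
        exact hp ⟨h1, h2⟩
      rw [h2]; exact hgM.2.2
  have hstab : ∀ p ∈ pts22, ∃ p' ∈ pts22,
      ∀ g : ↥Cfsg.Spor.M22, g.1 p = p ↔ (α g).1 p' = p' := by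
    intro p hp
    obtain ⟨hp1, hp2⟩ := mem_pts22.mp hp
    have hc : Nat.card (imgStab Cfsg.Spor.M22 α p) = 20160 := by
      rw [card_imgStab, card_stab22 hp1 hp2]
    obtain ⟨b, hb, hfix⟩ := fix_of_card22 (imgStab Cfsg.Spor.M22 α p) (imgStab_le _ α p) hc
    refine ⟨b, hb, ?_⟩
    apply stab_of_imgStab
    apply Subgroup.eq_of_le_of_card_ge
    · intro k hk
      exact Subgroup.mem_inf.mpr ⟨imgStab_le _ α p hk, MulAction.mem_stabilizer_iff.mpr (hfix k hk)⟩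
    · rw [hc, card_stab22 (mem_pts22.mp hb).1 (mem_pts22.mp hb).2]
  obtain ⟨σ, hσfix, hσ⟩ := exists_perm_of_stab Cfsg.Spor.M22 α pts22 hΔ hinj22 hstab
  have hσnone : σ none = none := hσfix none (by rw [mem_pts22]; simp)
  have hσzero : σ (some 0) = some 0 := hσfix (some 0) (by rw [mem_pts22]; simp)
  have hnorm : ∀ g ∈ Cfsg.Spor.M22, σ⁻¹ * g * σ ∈ Cfsg.Spor.M22 := by
    intro g hg
    have h1 := hσ (α.symm ⟨g, hg⟩)
    rw [MulEquiv.apply_symm_apply] at h1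
    have h2 : σ⁻¹ * g * σ = (α.symm ⟨g, hg⟩).1 := by
      have h3 : g = σ * (α.symm ⟨g, hg⟩).1 * σ⁻¹ := h1
      generalize (α.symm ⟨g, hg⟩).1 = t at h3
      rw [h3]
      group
    rw [h2]
    exact (α.symm ⟨g, hg⟩).2
  have hnorm' : ∀ g ∈ Cfsg.Spor.M22, σ⁻¹⁻¹ * g * σ⁻¹ ∈ Cfsg.Spor.M22 := by
    intro g hg
    rw [inv_inv]
    have h1 := hσ ⟨g, hg⟩
    rw [← h1]
    exact (α ⟨g, hg⟩).2
  have hG : ∀ g, g ∈ Cfsg.Spor.M22 ↔ g ∈ M24 ∧ ∀ z ∈ ({none, some 0} : Finset GolayPt), g z = z := by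
    intro g
    rw [mem_M22]
    simp
  have hσinv_none : σ⁻¹ none = none := by
    rw [Equiv.Perm.inv_eq_iff_eq, hσnone]
  have hσinv_zero : σ⁻¹ (some 0) = some 0 := by
    rw [Equiv.Perm.inv_eq_iff_eq, hσzero]
  have hsub : ∀ o : Finset GolayPt, (none : GolayPt) ∈ o → (some 0 : GolayPt) ∈ o →
      ({none, some 0} : Finset GolayPt) ⊆ o := by
    intro o h1 h2 z hz
    rw [Finset.mem_insert, Finset.mem_singleton] at hz
    rcases hz with h | h
    · rw [h]; exact h1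
    · rw [h]; exact h2
  have hoct : ∀ o ∈ octads, (none : GolayPt) ∈ o → (some 0 : GolayPt) ∈ o → σ • o ∈ octads := by
    intro o ho hno h0o
    apply smul_octad_of_normalizes Cfsg.Spor.M22 σ {none, some 0}
      (le_trans Finset.card_le_two (by norm_num)) hG ?_ hnorm ho (hsub o hno h0o)
    intro z hz
    rw [Finset.mem_insert, Finset.mem_singleton] at hz
    rcases hz with h | h
    · rw [h]; exact hσnone
    · rw [h]; exact hσzero
  have hoct' : ∀ o ∈ octads, (none : GolayPt) ∈ o → (some 0 : GolayPt) ∈ o →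
      σ⁻¹ • o ∈ octads := by
    intro o ho hno h0o
    apply smul_octad_of_normalizes Cfsg.Spor.M22 σ⁻¹ {none, some 0}
      (le_trans Finset.card_le_two (by norm_num)) hG ?_ hnorm' ho (hsub o hno h0o)
    intro z hz
    rw [Finset.mem_insert, Finset.mem_singleton] at hz
    rcases hz with h | h
    · rw [h]; exact hσinv_none
    · rw [h]; exact hσinv_zero
  rcases mem_M24_or hσnone hσzero hoct hoct' with hM | hM
  · exact ⟨σ, hM, Or.inl ⟨hσnone, hσzero⟩, hσ⟩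
  · refine ⟨Equiv.swap (none : GolayPt) (some 0) * σ, hM, Or.inr ⟨?_, ?_⟩, ?_⟩
    · rw [Equiv.Perm.mul_apply, hσnone, Equiv.swap_apply_left]
    · rw [Equiv.Perm.mul_apply, hσzero, Equiv.swap_apply_right]
    · intro g
      have h1 := hσ g
      have h2 := mem_M22.mp (α g).2
      have h3 := Equiv.mul_swap_eq_swap_mul (α g).1 (none : GolayPt) (some 0)
      rw [h2.2.1, h2.2.2] at h3
      have h4 : Equiv.swap (none : GolayPt) (some 0) * σ * g.1 *
          (Equiv.swap (none : GolayPt) (some 0) * σ)⁻¹ =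
          Equiv.swap (none : GolayPt) (some 0) * (σ * g.1 * σ⁻¹) *
            (Equiv.swap (none : GolayPt) (some 0))⁻¹ := by group
      rw [h4, ← h1, ← h3, mul_assoc, Equiv.swap_inv, Equiv.swap_mul_self, mul_one]

/-- `S2062`. -/
theorem out_M22 : Nat.card (Cfsg.Out ↥Cfsg.Spor.M22) = 2 := by
  classical
  show (Cfsg.Inn ↥Cfsg.Spor.M22).index = 2
  obtain ⟨ρ0, hρ0, e1, e2⟩ := trans2 (none : GolayPt) (some 0) (some 0) none (by simp) (by simp)
  have hρ0inv1 : ρ0⁻¹ none = some 0 := by rw [Equiv.Perm.inv_eq_iff_eq, e2]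
  have hρ0inv2 : ρ0⁻¹ (some 0) = none := by rw [Equiv.Perm.inv_eq_iff_eq, e1]
  have hn1 : ∀ g ∈ Cfsg.Spor.M22, ρ0 * g * ρ0⁻¹ ∈ Cfsg.Spor.M22 := by
    intro g hg
    have hgM := mem_M22.mp hg
    refine mem_M22.mpr ⟨M24.mul_mem (M24.mul_mem hρ0 hgM.1) (M24.inv_mem hρ0), ?_, ?_⟩
    · rw [Equiv.Perm.mul_apply, Equiv.Perm.mul_apply, hρ0inv1, hgM.2.2, e2]
    · rw [Equiv.Perm.mul_apply, Equiv.Perm.mul_apply, hρ0inv2, hgM.2.1, e1]
  have hn2 : ∀ g ∈ Cfsg.Spor.M22, ρ0⁻¹ * g * ρ0 ∈ Cfsg.Spor.M22 := by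
    intro g hg
    have hgM := mem_M22.mp hg
    refine mem_M22.mpr ⟨M24.mul_mem (M24.mul_mem (M24.inv_mem hρ0) hgM.1) hρ0, ?_, ?_⟩
    · rw [Equiv.Perm.mul_apply, Equiv.Perm.mul_apply, e1, hgM.2.2, hρ0inv2]
    · rw [Equiv.Perm.mul_apply, Equiv.Perm.mul_apply, e2, hgM.2.1, hρ0inv1]
  let β : MulAut ↥Cfsg.Spor.M22 := conjAut Cfsg.Spor.M22 ρ0 hn1 hn2
  have hβ : β ∉ Cfsg.Inn ↥Cfsg.Spor.M22 := by
    rintro ⟨h, hh⟩
    have hhM := mem_M22.mp h.2
    -- z = h⁻¹ ρ0 centralises M22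
    have hcomm : ∀ g ∈ Cfsg.Spor.M22, (h.1⁻¹ * ρ0) * g = g * (h.1⁻¹ * ρ0) := by
      intro g hg
      have h1 : (MulAut.conj h ⟨g, hg⟩ : ↥Cfsg.Spor.M22) = β ⟨g, hg⟩ := by rw [hh]
      have h2 : h.1 * g * h.1⁻¹ = ρ0 * g * ρ0⁻¹ := congrArg Subtype.val h1
      have h3 : ρ0 * g = h.1 * g * h.1⁻¹ * ρ0 := by
        rw [h2]
        group
      rw [mul_assoc, h3]
      group
    have hzM : h.1⁻¹ * ρ0 ∈ M24 := M24.mul_mem (M24.inv_mem hhM.1) hρ0
    have hhinv0 : h.1⁻¹ (some 0) = some 0 := by rw [Equiv.Perm.inv_eq_iff_eq, hhM.2.2]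
    have hhinvn : h.1⁻¹ none = none := by rw [Equiv.Perm.inv_eq_iff_eq, hhM.2.1]
    have hzn : (h.1⁻¹ * ρ0) none = some 0 := by rw [Equiv.Perm.mul_apply, e1, hhinv0]
    have hz0 : (h.1⁻¹ * ρ0) (some 0) = none := by rw [Equiv.Perm.mul_apply, e2, hhinvn]
    have hzfix : ∀ x ∈ pts22, (h.1⁻¹ * ρ0) x = x := by
      intro x hx
      obtain ⟨hx1, hx2⟩ := mem_pts22.mp hx
      have hzx : (h.1⁻¹ * ρ0) x ∈ pts22 := by
        rw [mem_pts22]
        constructor
        · intro hc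
          exact hx2 ((h.1⁻¹ * ρ0).injective (hc.trans hz0.symm))
        · intro hc
          exact hx1 ((h.1⁻¹ * ρ0).injective (hc.trans hzn.symm))
      symm
      apply hinj22 x hx _ hzx
      intro g hg
      have h1 := hcomm g.1 g.2
      have h2 : g.1 ((h.1⁻¹ * ρ0) x) = (h.1⁻¹ * ρ0) (g.1 x) := by
        rw [← Equiv.Perm.mul_apply, ← Equiv.Perm.mul_apply, h1]
      rw [h2, hg]
    have hone := fix9_trivial hzM pts22 (by rw [card_pts22]; norm_num) hzfix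
    rw [hone] at hzn
    simp at hzn
  rw [Subgroup.index_eq_two_iff]
  refine ⟨β, fun b => ?_⟩
  by_cases hb : b ∈ Cfsg.Inn ↥Cfsg.Spor.M22
  · right
    refine ⟨hb, fun hbb => hβ ?_⟩
    have h1 : β = b⁻¹ * (b * β) := by group
    rw [h1]
    exact (Cfsg.Inn ↥Cfsg.Spor.M22).mul_mem ((Cfsg.Inn ↥Cfsg.Spor.M22).inv_mem hb) hbb
  · left
    refine ⟨?_, hb⟩
    obtain ⟨ρ, hρ, hcase, hρc⟩ := aut_M22 b
    rcases hcase with ⟨c1, c2⟩ | ⟨c1, c2⟩
    · exact absurd (inner_of_conj _ b ρ (mem_M22.mpr ⟨hρ, c1, c2⟩) hρc) hb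
    · apply inner_of_conj _ (b * β) (ρ * ρ0)
        (mem_M22.mpr ⟨M24.mul_mem hρ hρ0, ?_, ?_⟩)
      · intro g
        show ((b (β g) : ↥Cfsg.Spor.M22) : Equiv.Perm GolayPt) = ρ * ρ0 * g.1 * (ρ * ρ0)⁻¹
        rw [hρc (β g)]
        show ρ * (ρ0 * g.1 * ρ0⁻¹) * ρ⁻¹ = ρ * ρ0 * g.1 * (ρ * ρ0)⁻¹
        group
      · rw [Equiv.Perm.mul_apply, e1, c2]
      · rw [Equiv.Perm.mul_apply, e2, c1]

end Cfsg.Agent.Lib.Helper3.M22Out
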