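import Mathlib
import Cfsg.Prelude.Def_Sporadic_a
import Cfsg.Prelude.Def_Spor_Mathieu
import Cfsg.Prelude.Def_KGroupFacts
import Cfsg.Agent.Lib.Helper3.M12Sub
import Cfsg.Agent.Lib.Helper3.M22Out

set_option autoImplicit false

namespace Cfsg.Agent.Lib.Helper3.M12Out

open Cfsg Cfsg.Agent.Lib.Helper3.Golay Cfsg.Agent.Lib.Helper3.Golay2
open Cfsg.Agent.Lib.Helper3.GolayM24 Cfsg.Agent.Lib.Helper3.M24Perm
open Cfsg.Agent.Lib.Helper3.M24Cert Cfsg.Agent.Lib.Helper3.M24Cert2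
open Cfsg.Agent.Lib.Helper3.M24Order
open Cfsg.Agent.Lib.Helper3.M24Trans Cfsg.Agent.Lib.Helper3.M24Oct
open Cfsg.Agent.Lib.Helper3.M24OctA8 Cfsg.Agent.Lib.Helper3.M24OctSplit
open Cfsg.Agent.Lib.Helper3.M24Aut Cfsg.Agent.Lib.Helper3.M24Out
open Cfsg.Agent.Lib.Helper3.M24Out2
open Cfsg.Agent.Lib.Helper3.M22Fix Cfsg.Agent.Lib.Helper3.M24Dod
open Cfsg.Agent.Lib.Helper3.M12Data Cfsg.Agent.Lib.Helper3.M12Sub
open Cfsg.Agent.Lib.Helper3.M22Out
open scoped Pointwise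

/-- an involution of `M24` fixing five points of an octad fixes the octad pointwise. -/
theorem invol_fix_octad {z : Equiv.Perm GolayPt} (hz : z ∈ M24) (hzz : z * z = 1)
    {o : Finset GolayPt} (ho : o ∈ octads) (S' : Finset GolayPt) (hSo : S' ⊆ o)
    (hS'5 : S'.card = 5) (hfix : ∀ x ∈ S', z x = x) : ∀ x ∈ o, z x = x := by
  classical
  have hzo : z • o = o := by
    by_contra hne
    have h1 := octads_inter_le (smul_mem_octads hz ho) ho hne
    have h2 : S' ⊆ z • o ∩ o := by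
      intro x hx
      rw [Finset.mem_inter]
      refine ⟨?_, hSo hx⟩
      have h3 : z • x ∈ z • o := Finset.smul_mem_smul_finset (hSo hx)
      rw [Equiv.Perm.smul_def, hfix x hx] at h3
      exact h3
    have h3 := Finset.card_le_card h2
    omega
  let g : ↥(stabO o) := ⟨z, mem_stabO.mpr ⟨hz, hzo⟩⟩
  have he_alt : resHom o g ∈ alternatingGroup ↥o := by
    rw [← range_resHom ho]
    exact ⟨g, rfl⟩
  have hee : (resHom o g) ^ 2 = 1 := by
    rw [pow_two, ← map_mul]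
    have h1 : g * g = 1 := Subtype.ext hzz
    rw [h1, map_one]
  have hsupp : (resHom o g).support.card ≤ 3 := by
    have h1 : (resHom o g).support.map (Function.Embedding.subtype _) ⊆ o \ S' := by
      intro x hx
      rw [Finset.mem_map] at hx
      obtain ⟨y, hy, rfl⟩ := hx
      rw [Equiv.Perm.mem_support] at hy
      rw [Finset.mem_sdiff]
      refine ⟨y.2, fun hyS => hy ?_⟩
      apply Subtype.ext
      rw [resHom_apply]
      exact hfix y.1 hyS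
    have h2 := Finset.card_le_card h1
    rw [Finset.card_map, Finset.card_sdiff_of_subset hSo, ho.2, hS'5] at h2
    exact h2
  have hone : resHom o g = 1 := by
    have h1 := Equiv.Perm.card_support_ne_one (resHom o g)
    have h2 : (resHom o g).support.card = 0 ∨ (resHom o g).support.card = 2 ∨
        (resHom o g).support.card = 3 := by omega
    rcases h2 with h | h | h
    · rw [Finset.card_eq_zero, Equiv.Perm.support_eq_empty_iff] at h
      exact h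
    · exfalso
      have h3 := (Equiv.Perm.card_support_eq_two.mp h).sign_eq
      rw [Equiv.Perm.mem_alternatingGroup] at he_alt
      rw [he_alt] at h3
      revert h3
      decide
    · exfalso
      have h3 := (card_support_eq_three_iff.mp h).orderOf
      have h4 := orderOf_dvd_of_pow_eq_one hee
      rw [h3] at h4
      revert h4
      decide
  intro x hx
  have h1 := resHom_apply o g ⟨x, hx⟩
  rw [hone] at h1
  exact h1.symm

/-- a set of eight points fixed pointwise by a nontrivial involution of `M24` is an octad. -/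
theorem octad_of_invol {t : Equiv.Perm GolayPt} (ht : t ∈ M24) (htt : t * t = 1) (ht1 : t ≠ 1)
    (S : Finset GolayPt) (hS : S.card = 8) (hfix : ∀ x ∈ S, t x = x) : S ∈ octads := by
  classical
  obtain ⟨S', hS', hS'5⟩ := Finset.exists_subset_card_eq (show 5 ≤ S.card by omega)
  obtain ⟨o, ho, hSo⟩ := exists_octad S' hS'5
  have hall := invol_fix_octad ht htt ho S' hSo hS'5 (fun x hx => hfix x (hS' hx))
  have hsub : S ⊆ o := by
    intro p hp
    by_contra hpo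
    apply ht1
    have h1 : t ∈ (M24 ⊓ fixingSubgroup (Equiv.Perm GolayPt) (o : Set GolayPt)) ⊓
        (M24 ⊓ MulAction.stabilizer (Equiv.Perm GolayPt) o ⊓
          MulAction.stabilizer (Equiv.Perm GolayPt) p) :=
      Subgroup.mem_inf.mpr ⟨mem_K.mpr ⟨ht, hall⟩,
        mem_A.mpr ⟨ht, smul_eq_of_fixes hall, hfix p hp⟩⟩
    rw [K_inf_A ho hpo, Subgroup.mem_bot] at h1
    exact h1
  have heq : S = o := Finset.eq_of_subset_of_card_le hsub (by rw [hS, ho.2])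
  rw [heq]
  exact ho

theorem M12_eq : Cfsg.Spor.M12 = stabO (ms (cw 1)) := by
  show M24 ⊓ MulAction.stabilizer (Equiv.Perm GolayPt) Cfsg.Spor.squareDodecad = _
  rw [squareDodecad_eq]
  rfl

theorem mem_M12 {g : Equiv.Perm GolayPt} :
    g ∈ Cfsg.Spor.M12 ↔ g ∈ M24 ∧ g • ms (cw 1) = ms (cw 1) := by
  rw [M12_eq, mem_stabO]

/-- a permutation normalising `M12` lies in `M24`. -/
theorem norm_M12 {σ : Equiv.Perm GolayPt}
    (hnorm : ∀ g ∈ Cfsg.Spor.M12, σ * g * σ⁻¹ ∈ Cfsg.Spor.M12) : σ ∈ M24 := by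
  apply mem_M24_of_comp
  intro w hw
  obtain ⟨k, hk, rfl⟩ := (mem_golayCode_iff w).mp hw
  rw [cw_eq_comb_oct12 hk]
  refine comb_induction (fun x => x ∘ ⇑σ.symm ∈ golayCode) (Submodule.zero_mem _)
    (fun x y hx hy => Submodule.add_mem _ hx hy) octL12 ?_ _
  intro g hg
  show dec g ∘ ⇑σ.symm ∈ golayCode
  obtain ⟨ho, -, t, ht, htt, ht1, htfix⟩ := octL12_spec g hg
  have htM12 : t ∈ Cfsg.Spor.M12 := mem_M12.mpr ⟨ht.1, ht.2.1 (cw 1) (by simp)⟩
  have h1 := mem_M12.mp (hnorm t htM12)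
  have h2 : (σ * t * σ⁻¹) * (σ * t * σ⁻¹) = 1 := by
    have h3 : (σ * t * σ⁻¹) * (σ * t * σ⁻¹) = σ * (t * t) * σ⁻¹ := by group
    rw [h3, htt]
    group
  have h3 : σ * t * σ⁻¹ ≠ 1 := by
    intro h
    apply ht1
    have h4 : t = σ⁻¹ * (σ * t * σ⁻¹) * σ := by group
    rw [h4, h]
    group
  have h4 : σ • ms g ∈ octads := by
    apply octad_of_invol h1.1 h2 h3 (σ • ms g) (by rw [Finset.card_smul_finset]; exact ho.2)
    intro x hx
    obtain ⟨y, hy, rfl⟩ := Finset.mem_smul_finset.mp hx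
    rw [Equiv.Perm.smul_def, Equiv.Perm.mul_apply, Equiv.Perm.mul_apply]
    have h5 : σ⁻¹ (σ y) = y := Equiv.Perm.inv_eq_iff_eq.mpr rfl
    rw [h5, htfix y hy]
  obtain ⟨w', hw', h5⟩ := h4.1
  rw [ms_eq_support, smul_support] at h5
  rw [← support_injective h5]
  exact hw'

theorem d0_compl_mem : Finset.univ \ ms (cw 1) ∈ dodecads := compl_mem_dodecads d0_mem

theorem card_M12_pt (p : GolayPt) :
    Nat.card ↥(Cfsg.Spor.M12 ⊓ MulAction.stabilizer (Equiv.Perm GolayPt) p) = 7920 := by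
  by_cases hp : p ∈ ms (cw 1)
  · rw [M12_eq]
    exact card_stabD_pt d0_mem hp
  · rw [M12_eq, ← stabO_compl]
    exact card_stabD_pt d0_compl_mem (Finset.mem_sdiff.mpr ⟨Finset.mem_univ _, hp⟩)

theorem hinj12 : ∀ p ∈ (Finset.univ : Finset GolayPt), ∀ p' ∈ (Finset.univ : Finset GolayPt),
    (∀ g : ↥Cfsg.Spor.M12, g.1 p = p → g.1 p' = p') → p = p' := by
  intro p _ p' _ h
  by_contra hne
  by_cases hp : p ∈ ms (cw 1)
  · obtain ⟨g, hg, hgd, hgp, hgp'⟩ := exists_fix_move d0_mem hp hne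
    exact hgp' (h ⟨g, mem_M12.mpr ⟨hg, hgd⟩⟩ hgp)
  · obtain ⟨g, hg, hgd, hgp, hgp'⟩ := exists_fix_move d0_compl_mem
      (Finset.mem_sdiff.mpr ⟨Finset.mem_univ _, hp⟩) hne
    exact hgp' (h ⟨g, mem_M12.mpr ⟨hg, smul_of_compl hgd⟩⟩ hgp)

/-- a permutation in `M24` normalising `M12` fixes or swaps the two dodecads. -/
theorem smul_dodecad_cases {σ : Equiv.Perm GolayPt}
    (hnorm : ∀ g ∈ Cfsg.Spor.M12, σ⁻¹ * g * σ ∈ Cfsg.Spor.M12) :
    σ • ms (cw 1) = ms (cw 1) ∨ σ • ms (cw 1) = Finset.univ \ ms (cw 1) := by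
  classical
  have hinv : ∀ g ∈ Cfsg.Spor.M12, g • (σ • ms (cw 1)) = σ • ms (cw 1) := by
    intro g hg
    have h1 := (mem_M12.mp (hnorm g hg)).2
    have h2 : g • σ • ms (cw 1) = σ • ((σ⁻¹ * g * σ) • ms (cw 1)) := by
      rw [mul_smul, mul_smul, smul_inv_smul]
    rw [h2, h1]
  have hcard : (σ • ms (cw 1)).card = 12 := by
    rw [Finset.card_smul_finset]
    exact d0_mem.2
  obtain ⟨a, ha⟩ : (ms (cw 1)).Nonempty := by
    rw [← Finset.card_pos, d0_mem.2]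
    norm_num
  have ha0 : σ a ∈ σ • ms (cw 1) := Finset.smul_mem_smul_finset ha
  by_cases hc : σ a ∈ ms (cw 1)
  · left
    symm
    apply Finset.eq_of_subset_of_card_le
    · intro s hs
      obtain ⟨g, hg, hgd, e⟩ := m12_trans1 d0_mem hc hs
      have h1 := hinv g (mem_M12.mpr ⟨hg, hgd⟩)
      rw [← h1, ← e]
      exact Finset.smul_mem_smul_finset ha0
    · rw [hcard, d0_mem.2]
  · right
    symm
    apply Finset.eq_of_subset_of_card_le
    · intro s hs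
      obtain ⟨g, hg, hgd, e⟩ := m12_trans1 d0_compl_mem
        (Finset.mem_sdiff.mpr ⟨Finset.mem_univ _, hc⟩) hs
      have h1 := hinv g (mem_M12.mpr ⟨hg, smul_of_compl hgd⟩)
      rw [← h1, ← e]
      exact Finset.smul_mem_smul_finset ha0
    · rw [hcard, d0_compl_mem.2]

/-- every automorphism of `M12` is induced by an element of `M24` fixing or swapping the two
dodecads. -/
theorem aut_M12 (α : MulAut ↥Cfsg.Spor.M12) :
    ∃ ρ ∈ M24, (ρ • ms (cw 1) = ms (cw 1) ∨ ρ • ms (cw 1) = Finset.univ \ ms (cw 1)) ∧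
      ∀ g : ↥Cfsg.Spor.M12, ((α g : ↥Cfsg.Spor.M12) : Equiv.Perm GolayPt) = ρ * g.1 * ρ⁻¹ := by
  classical
  have hΔ : ∀ g ∈ Cfsg.Spor.M12, ∀ p, p ∉ (Finset.univ : Finset GolayPt) → g p = p := by
    intro g _ p hp
    exact absurd (Finset.mem_univ p) hp
  have hstab : ∀ p ∈ (Finset.univ : Finset GolayPt), ∃ p' ∈ (Finset.univ : Finset GolayPt),
      ∀ g : ↥Cfsg.Spor.M12, g.1 p = p ↔ (α g).1 p' = p' := by
    intro p _
    have hc : Nat.card (imgStab Cfsg.Spor.M12 α p) = 7920 := by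
      rw [card_imgStab, card_M12_pt]
    obtain ⟨c, hfix⟩ := fix_of_card12 d0_mem (imgStab Cfsg.Spor.M12 α p)
      (by rw [← M12_eq]; exact imgStab_le _ α p) hc
    refine ⟨c, Finset.mem_univ _, ?_⟩
    apply stab_of_imgStab
    apply Subgroup.eq_of_le_of_card_ge
    · intro k hk
      exact Subgroup.mem_inf.mpr ⟨imgStab_le _ α p hk, MulAction.mem_stabilizer_iff.mpr (hfix k hk)⟩
    · rw [hc, card_M12_pt]
  obtain ⟨σ, -, hσ⟩ := exists_perm_of_stab Cfsg.Spor.M12 α Finset.univ hΔ hinj12 hstab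
  have hnorm : ∀ g ∈ Cfsg.Spor.M12, σ * g * σ⁻¹ ∈ Cfsg.Spor.M12 := by
    intro g hg
    have h1 := hσ ⟨g, hg⟩
    rw [← h1]
    exact (α ⟨g, hg⟩).2
  have hnorm' : ∀ g ∈ Cfsg.Spor.M12, σ⁻¹ * g * σ ∈ Cfsg.Spor.M12 := by
    intro g hg
    have h1 := hσ (α.symm ⟨g, hg⟩)
    rw [MulEquiv.apply_symm_apply] at h1
    have h2 : σ⁻¹ * g * σ = (α.symm ⟨g, hg⟩).1 := by
      have h3 : g = σ * (α.symm ⟨g, hg⟩).1 * σ⁻¹ := h1
      generalize (α.symm ⟨g, hg⟩).1 = t at h3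
      rw [h3]
      group
    rw [h2]
    exact (α.symm ⟨g, hg⟩).2
  exact ⟨σ, norm_M12 hnorm, smul_dodecad_cases hnorm', hσ⟩

/-- `S2061`. -/
theorem out_M12 : Nat.card (Cfsg.Out ↥Cfsg.Spor.M12) = 2 := by
  classical
  show (Cfsg.Inn ↥Cfsg.Spor.M12).index = 2
  obtain ⟨ρ0, hρ0, e1⟩ := exists_swap_dod
  have e2 : ρ0 • (Finset.univ \ ms (cw 1)) = ms (cw 1) := by
    rw [Finset.smul_finset_sdiff, Finset.smul_finset_univ, e1,
      Finset.sdiff_sdiff_eq_self (Finset.subset_univ _)]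
  have e3 : ρ0⁻¹ • ms (cw 1) = Finset.univ \ ms (cw 1) := by
    rw [inv_smul_eq_iff, e2]
  have e4 : ρ0⁻¹ • (Finset.univ \ ms (cw 1)) = ms (cw 1) := by
    rw [inv_smul_eq_iff, e1]
  have hn1 : ∀ g ∈ Cfsg.Spor.M12, ρ0 * g * ρ0⁻¹ ∈ Cfsg.Spor.M12 := by
    intro g hg
    have hgM := mem_M12.mp hg
    refine mem_M12.mpr ⟨M24.mul_mem (M24.mul_mem hρ0 hgM.1) (M24.inv_mem hρ0), ?_⟩
    rw [mul_smul, mul_smul, e3, smul_compl hgM.2, e2]
  have hn2 : ∀ g ∈ Cfsg.Spor.M12, ρ0⁻¹ * g * ρ0 ∈ Cfsg.Spor.M12 := by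
    intro g hg
    have hgM := mem_M12.mp hg
    refine mem_M12.mpr ⟨M24.mul_mem (M24.mul_mem (M24.inv_mem hρ0) hgM.1) hρ0, ?_⟩
    rw [mul_smul, mul_smul, e1, smul_compl hgM.2, e4]
  let β : MulAut ↥Cfsg.Spor.M12 := conjAut Cfsg.Spor.M12 ρ0 hn1 hn2
  have hβ : β ∉ Cfsg.Inn ↥Cfsg.Spor.M12 := by
    rintro ⟨h, hh⟩
    have hhM := mem_M12.mp h.2
    have hcomm : ∀ g ∈ Cfsg.Spor.M12, (h.1⁻¹ * ρ0) * g = g * (h.1⁻¹ * ρ0) := by
      intro g hg
      have h1 : (MulAut.conj h ⟨g, hg⟩ : ↥Cfsg.Spor.M12) = β ⟨g, hg⟩ := by rw [hh]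
      have h2 : h.1 * g * h.1⁻¹ = ρ0 * g * ρ0⁻¹ := congrArg Subtype.val h1
      have h3 : ρ0 * g = h.1 * g * h.1⁻¹ * ρ0 := by
        rw [h2]
        group
      rw [mul_assoc, h3]
      group
    obtain ⟨a, ha⟩ : (ms (cw 1)).Nonempty := by
      rw [← Finset.card_pos, d0_mem.2]
      norm_num
    have hza : (h.1⁻¹ * ρ0) a ∉ ms (cw 1) := by
      intro hc
      have h1 : ρ0 a ∈ ρ0 • ms (cw 1) := Finset.smul_mem_smul_finset ha
      rw [e1, Finset.mem_sdiff] at h1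
      apply h1.2
      have h2 : h.1 ((h.1⁻¹ * ρ0) a) ∈ ms (cw 1) := (mem_iff_of_smul_eq hhM.2 _).mpr hc
      rw [Equiv.Perm.mul_apply] at h2
      have h3 : h.1 (h.1⁻¹ (ρ0 a)) = ρ0 a := by simp
      rw [h3] at h2
      exact h2
    have hne : a ≠ (h.1⁻¹ * ρ0) a := fun hc => hza (hc ▸ ha)
    obtain ⟨g, hg, hgd, hga, hgz⟩ := exists_fix_move d0_mem ha hne
    apply hgz
    have h1 := hcomm g (mem_M12.mpr ⟨hg, hgd⟩)
    have h2 : g ((h.1⁻¹ * ρ0) a) = (h.1⁻¹ * ρ0) (g a) := by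
      rw [← Equiv.Perm.mul_apply, ← Equiv.Perm.mul_apply, h1]
    rw [h2, hga]
  rw [Subgroup.index_eq_two_iff]
  refine ⟨β, fun b => ?_⟩
  by_cases hb : b ∈ Cfsg.Inn ↥Cfsg.Spor.M12
  · right
    refine ⟨hb, fun hbb => hβ ?_⟩
    have h1 : β = b⁻¹ * (b * β) := by group
    rw [h1]
    exact (Cfsg.Inn ↥Cfsg.Spor.M12).mul_mem ((Cfsg.Inn ↥Cfsg.Spor.M12).inv_mem hb) hbb
  · left
    refine ⟨?_, hb⟩
    obtain ⟨ρ, hρ, hcase, hρc⟩ := aut_M12 b
    rcases hcase with c1 | c1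
    · exact absurd (inner_of_conj _ b ρ (mem_M12.mpr ⟨hρ, c1⟩) hρc) hb
    · apply inner_of_conj _ (b * β) (ρ * ρ0) (mem_M12.mpr ⟨M24.mul_mem hρ hρ0, ?_⟩)
      · intro g
        show ((b (β g) : ↥Cfsg.Spor.M12) : Equiv.Perm GolayPt) = ρ * ρ0 * g.1 * (ρ * ρ0)⁻¹
        rw [hρc (β g)]
        show ρ * (ρ0 * g.1 * ρ0⁻¹) * ρ⁻¹ = ρ * ρ0 * g.1 * (ρ * ρ0)⁻¹
        group
      · rw [mul_smul, e1, Finset.smul_finset_sdiff, Finset.smul_finset_univ, c1,
          Finset.sdiff_sdiff_eq_self (Finset.subset_univ _)]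

end Cfsg.Agent.Lib.Helper3.M12Out
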