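import Mathlib
import Cfsg.Prelude.Def_Sporadic_a
import Cfsg.Prelude.Def_Spor_Mathieu
import Cfsg.Prelude.Def_KGroupFacts
import Cfsg.Agent.Lib.Helper3.M11Data
import Cfsg.Agent.Lib.Helper3.M12Out

set_option autoImplicit false

namespace Cfsg.Agent.Lib.Helper3.M11Out

open Cfsg Cfsg.Agent.Lib.Helper3.Golay Cfsg.Agent.Lib.Helper3.Golay2
open Cfsg.Agent.Lib.Helper3.GolayM24 Cfsg.Agent.Lib.Helper3.M24Perm
open Cfsg.Agent.Lib.Helper3.M24Cert Cfsg.Agent.Lib.Helper3.M24Cert2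
open Cfsg.Agent.Lib.Helper3.M24Order
open Cfsg.Agent.Lib.Helper3.M24Trans Cfsg.Agent.Lib.Helper3.M24Oct
open Cfsg.Agent.Lib.Helper3.M24OctA8 Cfsg.Agent.Lib.Helper3.M24OctSplit
open Cfsg.Agent.Lib.Helper3.M24Aut Cfsg.Agent.Lib.Helper3.M24Out
open Cfsg.Agent.Lib.Helper3.M24Out2
open Cfsg.Agent.Lib.Helper3.M22Fix Cfsg.Agent.Lib.Helper3.M24Dod
open Cfsg.Agent.Lib.Helper3.M12Data Cfsg.Agent.Lib.Helper3.M12Sub
open Cfsg.Agent.Lib.Helper3.M22Out Cfsg.Agent.Lib.Helper3.M12Out
open Cfsg.Agent.Lib.Helper3.M11Data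
open scoped Pointwise

theorem M11_eq : Cfsg.Spor.M11 =
    stabO (ms (cw 1)) ⊓ MulAction.stabilizer (Equiv.Perm GolayPt) (pt 0) := by
  show Cfsg.Spor.M12 ⊓ MulAction.stabilizer (Equiv.Perm GolayPt) (some 0 : GolayPt) = _
  rw [M12_eq, pt0_eq]

theorem mem_M11 {g : Equiv.Perm GolayPt} :
    g ∈ Cfsg.Spor.M11 ↔ g ∈ M24 ∧ g • ms (cw 1) = ms (cw 1) ∧ g (pt 0) = pt 0 := by
  rw [M11_eq, Subgroup.mem_inf, mem_stabO, MulAction.mem_stabilizer_iff]
  exact and_assoc

/-- a permutation normalising `M11` lies in `M24`. -/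
theorem norm_M11 {σ : Equiv.Perm GolayPt}
    (hnorm : ∀ g ∈ Cfsg.Spor.M11, σ * g * σ⁻¹ ∈ Cfsg.Spor.M11) : σ ∈ M24 := by
  apply mem_M24_of_comp
  intro w hw
  obtain ⟨k, hk, rfl⟩ := (mem_golayCode_iff w).mp hw
  rw [cw_eq_comb_oct11 hk]
  refine comb_induction (fun x => x ∘ ⇑σ.symm ∈ golayCode) (Submodule.zero_mem _)
    (fun x y hx hy => Submodule.add_mem _ hx hy) octL11 ?_ _
  intro g hg
  show dec g ∘ ⇑σ.symm ∈ golayCode
  obtain ⟨ho, -, t, ht, htt, ht1, htfix⟩ := octL11_spec g hg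
  have htM11 : t ∈ Cfsg.Spor.M11 :=
    mem_M11.mpr ⟨ht.1, ht.2.1 (cw 1) (by simp), ht.2.2 0 (by simp)⟩
  have h1 := mem_M11.mp (hnorm t htM11)
  have h2 : (σ * t * σ⁻¹) * (σ * t * σ⁻¹) = 1 := by
    have h3 : (σ * t * σ⁻¹) * (σ * t * σ⁻¹) = σ * (t * t) * σ⁻¹ := by group
    rw [h3, htt]
    group
  have h3 : σ * t * σ⁻¹ ≠ 1 := by
    intro h
    apply ht1
    have h4 : t = σ⁻¹ * (σ * t * σ⁻¹) * σ := by group
    rw [h4, h]
    group
  have h4 : σ • ms g ∈ octads := by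
    apply octad_of_invol h1.1 h2 h3 (σ • ms g) (by rw [Finset.card_smul_finset]; exact ho.2)
    intro x hx
    obtain ⟨y, hy, rfl⟩ := Finset.mem_smul_finset.mp hx
    rw [Equiv.Perm.smul_def, Equiv.Perm.mul_apply, Equiv.Perm.mul_apply]
    have h5 : σ⁻¹ (σ y) = y := Equiv.Perm.inv_eq_iff_eq.mpr rfl
    rw [h5, htfix y hy]
  obtain ⟨w', hw', h5⟩ := h4.1
  rw [ms_eq_support, smul_support] at h5
  rw [← support_injective h5]
  exact hw'

/-- a subgroup of order 660 of the stabiliser of a dodecad and one of its points fixes a point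
outside the dodecad. -/
theorem fix_of_card660 {d : Finset GolayPt} (hd : d ∈ dodecads) {a : GolayPt} (had : a ∈ d)
    (Q : Subgroup (Equiv.Perm GolayPt)) (hQ : Q ≤ stabO d) (hQa : ∀ k ∈ Q, k a = a)
    (hcard : Nat.card Q = 660) : ∃ b, b ∉ d ∧ ∀ k ∈ Q, k b = b := by
  classical
  have hp11 : Fact (Nat.Prime 11) := ⟨by norm_num⟩
  have hp2 : Fact (Nat.Prime 2) := ⟨Nat.prime_two⟩
  obtain ⟨x, hx⟩ := exists_prime_orderOf_dvd_card' (G := ↥Q) 11 (by rw [hcard]; norm_num)
  have hxo : orderOf x.1 = 11 := by rw [Subgroup.orderOf_coe, hx]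
  have hx11 : x.1 ^ 11 = 1 := by rw [← hxo]; exact pow_orderOf_eq_one _
  have hx1 : x.1 ≠ 1 := by
    intro h
    rw [h, orderOf_one] at hxo
    norm_num at hxo
  have hxM := mem_stabO.mp (hQ x.2)
  obtain ⟨a', b, ha'd, hbd, hxa', hxb, hfixes⟩ := ord11_fix hxM.1 hxM.2 hx11 hx1 hd.2
  have hd' := compl_mem_dodecads hd
  have hWsub : orb Q b ⊆ Finset.univ \ d := by
    intro z hz
    obtain ⟨k, hk, rfl⟩ := mem_orb.mp hz
    rw [Finset.mem_sdiff]
    exact ⟨Finset.mem_univ _, fun hc => hbd ((mem_iff_of_smul_eq (mem_stabO.mp (hQ hk)).2 b).mp hc)⟩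
  have hWmod := orb_card_modEq Q b x.2 11 hx11 hxb (fun z hz hfz => by
    rcases hfixes z hfz with h | h
    · exact absurd ha'd (h ▸ (Finset.mem_sdiff.mp (hWsub hz)).2)
    · exact h)
  have hWle : (orb Q b).card ≤ 12 := by rw [← hd'.2]; exact Finset.card_le_card hWsub
  have hWpos : 0 < (orb Q b).card := Finset.card_pos.mpr ⟨b, self_mem_orb _ b⟩
  have hWc : (orb Q b).card = 1 ∨ (orb Q b).card = 12 := by
    unfold Nat.ModEq at hWmod
    omega
  rcases hWc with hW1 | hW12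
  · exact ⟨b, hbd, fun k hk => orb_one hW1 hk⟩
  · exfalso
    have hWeq : orb Q b = Finset.univ \ d :=
      Finset.eq_of_subset_of_card_le hWsub (by rw [hW12, hd'.2])
    have hQb : Nat.card ↥(Q ⊓ MulAction.stabilizer (Equiv.Perm GolayPt) b) = 55 := by
      have h := card_orb Q b
      rw [hcard, hW12] at h
      omega
    obtain ⟨t, ht⟩ := exists_prime_orderOf_dvd_card' (G := ↥Q) 2 (by rw [hcard]; norm_num)
    have hto : orderOf t.1 = 2 := by rw [Subgroup.orderOf_coe, ht]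
    have htt : t.1 * t.1 = 1 := by rw [← pow_two, ← hto]; exact pow_orderOf_eq_one _
    have ht1 : t.1 ≠ 1 := by
      intro h
      rw [h, orderOf_one] at hto
      norm_num at hto
    have htM := mem_stabO.mp (hQ t.2)
    have hta : t.1 a = a := hQa _ t.2
    have hnofix : ∀ c, c ∉ d → t.1 c ≠ c := by
      intro c hc htc
      have hcW : c ∈ orb Q b := by
        rw [hWeq]
        exact Finset.mem_sdiff.mpr ⟨Finset.mem_univ _, hc⟩
      obtain ⟨k, hk, hkb⟩ := mem_orb.mp hcW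
      have hmem : k⁻¹ * t.1 * k ∈ Q ⊓ MulAction.stabilizer (Equiv.Perm GolayPt) b := by
        refine Subgroup.mem_inf.mpr ⟨Subgroup.mul_mem _ (Subgroup.mul_mem _
          (Subgroup.inv_mem _ hk) t.2) hk, MulAction.mem_stabilizer_iff.mpr ?_⟩
        show (k⁻¹ * t.1 * k) b = b
        rw [Equiv.Perm.mul_apply, Equiv.Perm.mul_apply, hkb, htc, ← hkb]
        exact Equiv.Perm.inv_eq_iff_eq.mpr rfl
      have ho : orderOf (⟨_, hmem⟩ : ↥(Q ⊓ MulAction.stabilizer (Equiv.Perm GolayPt) b)) ∣ 55 := by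
        rw [← hQb]
        exact orderOf_dvd_natCard _
      rw [← Subgroup.orderOf_coe] at ho
      have hsq : (k⁻¹ * t.1 * k) ^ 2 = 1 := by
        have h1 : (k⁻¹ * t.1 * k) ^ 2 = k⁻¹ * (t.1 * t.1) * k := by
          rw [pow_two]
          group
        rw [h1, htt]
        group
      have ho2 : orderOf (k⁻¹ * t.1 * k) ∣ 2 := orderOf_dvd_of_pow_eq_one hsq
      have ho3 : orderOf (k⁻¹ * t.1 * k) ∣ Nat.gcd 55 2 := Nat.dvd_gcd ho ho2
      have ho4 : k⁻¹ * t.1 * k = 1 := by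
        rw [← orderOf_eq_one_iff]
        exact Nat.dvd_one.mp ho3
      apply ht1
      have h2 : t.1 = k * (k⁻¹ * t.1 * k) * k⁻¹ := by group
      rw [h2, ho4]
      group
    have hfixcard : 4 ≤ (Finset.univ.filter (fun z => t.1 z = z)).card := by
      have hm := card_fixed_modEq t.1 Finset.univ (fun z => by simp) 2
        (by rw [pow_two]; exact htt)
      rw [Finset.card_univ, card_golayPt] at hm
      have hpos : 0 < (Finset.univ.filter (fun z => t.1 z = z)).card :=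
        Finset.card_pos.mpr ⟨a, Finset.mem_filter.mpr ⟨Finset.mem_univ _, hta⟩⟩
      have hne2 : (Finset.univ.filter (fun z => t.1 z = z)).card ≠ 2 :=
        fun h => no_invol_two_fix htM.1 htt h
      unfold Nat.ModEq at hm
      omega
    have hsubd : Finset.univ.filter (fun z => t.1 z = z) ⊆ d := by
      intro z hz
      by_contra hzd
      exact hnofix z hzd (Finset.mem_filter.mp hz).2
    obtain ⟨c, hcd, htc⟩ := l3_gen hd htM.1 htM.2 htt ht1
      (Finset.univ.filter (fun z => t.1 z = z)) hsubd hfixcard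
      (fun z hz => (Finset.mem_filter.mp hz).2)
    exact hnofix c hcd htc

/-- an element of order 5 stabilising a dodecad fixes exactly two of its points. -/
theorem ord5_fix {d : Finset GolayPt} {x : Equiv.Perm GolayPt} (hx : x ∈ M24)
    (hxd : x • d = d) (hx5 : x ^ 5 = 1) (hx1 : x ≠ 1) (hdc : d.card = 12) :
    (d.filter (fun z => x z = z)).card = 2 := by
  classical
  have hp5 : Fact (Nat.Prime 5) := ⟨by norm_num⟩
  obtain ⟨hle, -⟩ := card_fix_lt hx (by norm_num : Nat.Prime 5) (by norm_num) hx5 hx1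
  have hm1 := card_fixed_modEq x d (mem_iff_of_smul_eq hxd) 5 hx5
  rw [hdc] at hm1
  have hl1 : (d.filter (fun z => x z = z)).card ≤ (Finset.univ.filter (fun z => x z = z)).card :=
    Finset.card_le_card (Finset.filter_subset_filter _ (Finset.subset_univ _))
  unfold Nat.ModEq at hm1
  omega

/-- a nontrivial element of `M24` stabilising a dodecad cannot fix five of its points. -/
theorem fix5_dod {d : Finset GolayPt} (hd : d ∈ dodecads) {g : Equiv.Perm GolayPt}
    (hg : g ∈ M24) (hgd : g • d = d) (Z : Finset GolayPt) (hZd : Z ⊆ d) (hZ : Z.card = 5)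
    (hfix : ∀ z ∈ Z, g z = z) : g = 1 := by
  classical
  let eq := Finset.equivFinOfCardEq hZ
  let x : Fin 5 ↪ GolayPt := ⟨fun i => (eq.symm i).1, Subtype.val_injective.comp eq.symm.injective⟩
  exact m12_unique hd x (fun i => hZd (eq.symm i).2) hg hgd (fun i => hfix _ (eq.symm i).2)

/-- a subgroup of order 720 of the stabiliser of a dodecad and one of its points fixes a
second point of the dodecad. -/
theorem fix_of_card720 {d : Finset GolayPt} (hd : d ∈ dodecads) {a : GolayPt} (had : a ∈ d)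
    (H : Subgroup (Equiv.Perm GolayPt)) (hH : H ≤ stabO d) (hHa : ∀ k ∈ H, k a = a)
    (hcard : Nat.card H = 720) : ∃ c, c ∈ d ∧ c ≠ a ∧ ∀ k ∈ H, k c = c := by
  classical
  have hp5 : Fact (Nat.Prime 5) := ⟨by norm_num⟩
  obtain ⟨y, hy⟩ := exists_prime_orderOf_dvd_card' (G := ↥H) 5 (by rw [hcard]; norm_num)
  have hyo : orderOf y.1 = 5 := by rw [Subgroup.orderOf_coe, hy]
  have hy5 : y.1 ^ 5 = 1 := by rw [← hyo]; exact pow_orderOf_eq_one _
  have hy1 : y.1 ≠ 1 := by
    intro h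
    rw [h, orderOf_one] at hyo
    norm_num at hyo
  have hyM := mem_stabO.mp (hH y.2)
  have hF := ord5_fix hyM.1 hyM.2 hy5 hy1 hd.2
  have haF : a ∈ d.filter (fun z => y.1 z = z) := Finset.mem_filter.mpr ⟨had, hHa _ y.2⟩
  obtain ⟨a1, ha1F, ha1⟩ := Finset.exists_mem_ne (by rw [hF]; norm_num) a
  have hFeq : ({a, a1} : Finset GolayPt) = d.filter (fun z => y.1 z = z) := by
    apply Finset.eq_of_subset_of_card_le
    · intro z hz
      rw [Finset.mem_insert, Finset.mem_singleton] at hz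
      rcases hz with rfl | rfl
      · exact haF
      · exact ha1F
    · rw [hF, Finset.card_pair (Ne.symm ha1)]
  have ha1d : a1 ∈ d := (Finset.mem_filter.mp ha1F).1
  have hya1 : y.1 a1 = a1 := (Finset.mem_filter.mp ha1F).2
  have hfixes : ∀ z ∈ d, y.1 z = z → z = a ∨ z = a1 := by
    intro z hz hyz
    have h1 : z ∈ d.filter (fun z => y.1 z = z) := Finset.mem_filter.mpr ⟨hz, hyz⟩
    rw [← hFeq, Finset.mem_insert, Finset.mem_singleton] at h1
    exact h1
  -- the orbit of a1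
  have hOsub : orb H a1 ⊆ d.erase a := by
    intro z hz
    obtain ⟨k, hk, rfl⟩ := mem_orb.mp hz
    rw [Finset.mem_erase]
    refine ⟨fun h => ha1 ?_, (mem_iff_of_smul_eq (mem_stabO.mp (hH hk)).2 a1).mpr ha1d⟩
    exact k.injective (h.trans (hHa k hk).symm)
  have hOmod := orb_card_modEq H a1 y.2 5 hy5 hya1 (fun z hz hfz => by
    have h1 := Finset.mem_erase.mp (hOsub hz)
    rcases hfixes z h1.2 hfz with h | h
    · exact absurd h h1.1
    · exact h)
  have hOle : (orb H a1).card ≤ 11 := by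
    have h1 := Finset.card_le_card hOsub
    rw [Finset.card_erase_of_mem had, hd.2] at h1
    exact h1
  have hOpos : 0 < (orb H a1).card := Finset.card_pos.mpr ⟨a1, self_mem_orb _ a1⟩
  have hOdvd := card_orb H a1
  rw [hcard] at hOdvd
  have hOc : (orb H a1).card = 1 ∨ (orb H a1).card = 6 := by
    have h3 : (orb H a1).card = 1 ∨ (orb H a1).card = 6 ∨ (orb H a1).card = 11 := by
      unfold Nat.ModEq at hOmod
      omega
    rcases h3 with h | h | h
    · exact Or.inl h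
    · exact Or.inr h
    · rw [h] at hOdvd
      omega
  rcases hOc with hO1 | hO6
  · exact ⟨a1, ha1d, ha1, fun k hk => orb_one hO1 hk⟩
  · exfalso
    have hZsub : d.erase a \ orb H a1 ⊆ d := fun z hz =>
      Finset.mem_of_mem_erase (Finset.mem_sdiff.mp hz).1
    have hZc : (d.erase a \ orb H a1).card = 5 := by
      rw [Finset.card_sdiff_of_subset hOsub, Finset.card_erase_of_mem had, hd.2, hO6]
    have hZinv : ∀ k ∈ H, ∀ z, k z ∈ d.erase a \ orb H a1 ↔ z ∈ d.erase a \ orb H a1 := by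
      intro k hk z
      rw [Finset.mem_sdiff, Finset.mem_sdiff, Finset.mem_erase, Finset.mem_erase, orb_inv hk z,
        mem_iff_of_smul_eq (mem_stabO.mp (hH hk)).2 z]
      constructor
      · rintro ⟨⟨h1, h2⟩, h3⟩
        refine ⟨⟨fun h => h1 ?_, h2⟩, h3⟩
        rw [h, hHa k hk]
      · rintro ⟨⟨h1, h2⟩, h3⟩
        refine ⟨⟨fun h => h1 ?_, h2⟩, h3⟩
        exact k.injective (h.trans (hHa k hk).symm)
    let φ : ↥H → Equiv.Perm ↥(d.erase a \ orb H a1) :=
      fun k => k.1.subtypePerm (hZinv k.1 k.2)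
    have hφ : ¬ Function.Injective φ := by
      intro hinj
      have h1 := Nat.card_le_card_of_injective φ hinj
      rw [hcard, Nat.card_eq_fintype_card, Fintype.card_perm, Fintype.card_coe, hZc] at h1
      revert h1
      decide
    obtain ⟨k, k', hkk, hne⟩ := Function.not_injective_iff.mp hφ
    have hsame : ∀ z ∈ d.erase a \ orb H a1, k.1 z = k'.1 z := by
      intro z hz
      have h1 := congrArg (fun f : Equiv.Perm ↥(d.erase a \ orb H a1) => (f ⟨z, hz⟩).1) hkk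
      exact h1
    have hg1 : k.1⁻¹ * k'.1 ≠ 1 := by
      intro h
      apply hne
      apply Subtype.ext
      have h2 : k'.1 = k.1 * (k.1⁻¹ * k'.1) := by group
      rw [h2, h, mul_one]
    apply hg1
    have hgH : k.1⁻¹ * k'.1 ∈ H := H.mul_mem (H.inv_mem k.2) k'.2
    apply fix5_dod hd (mem_stabO.mp (hH hgH)).1 (mem_stabO.mp (hH hgH)).2 _ hZsub hZc
    intro z hz
    rw [Equiv.Perm.mul_apply, ← hsame z hz]
    exact Equiv.Perm.inv_eq_iff_eq.mpr rfl

theorem M11_le : Cfsg.Spor.M11 ≤ stabO (ms (cw 1)) := by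
  rw [M11_eq]
  exact inf_le_left

theorem card_M11 : Nat.card ↥Cfsg.Spor.M11 = 7920 := by
  rw [M11_eq]
  exact card_stabD_pt d0_mem pt0_mem

theorem card_M11_out {p : GolayPt} (hp : p ∉ ms (cw 1)) :
    Nat.card ↥(Cfsg.Spor.M11 ⊓ MulAction.stabilizer (Equiv.Perm GolayPt) p) = 660 := by
  rw [M11_eq]
  exact card_stabD_pt2 d0_mem pt0_mem hp

/-- an element of order 11 of a subgroup of `M11`. -/
theorem exists_ord11 (Q : Subgroup (Equiv.Perm GolayPt)) (hQ : Q ≤ Cfsg.Spor.M11)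
    (hdvd : 11 ∣ Nat.card Q) :
    ∃ x ∈ Q, x ^ 11 = 1 ∧ ∃ b, b ∉ ms (cw 1) ∧ x b = b ∧ ∀ z, x z = z → z = pt 0 ∨ z = b := by
  classical
  have hp11 : Fact (Nat.Prime 11) := ⟨by norm_num⟩
  obtain ⟨x, hx⟩ := exists_prime_orderOf_dvd_card' (G := ↥Q) 11 hdvd
  have hxo : orderOf x.1 = 11 := by rw [Subgroup.orderOf_coe, hx]
  have hx11 : x.1 ^ 11 = 1 := by rw [← hxo]; exact pow_orderOf_eq_one _
  have hx1 : x.1 ≠ 1 := by
    intro h
    rw [h, orderOf_one] at hxo
    norm_num at hxo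
  have hxM := mem_M11.mp (hQ x.2)
  obtain ⟨a', b, ha'd, hbd, hxa', hxb, hfixes⟩ :=
    ord11_fix hxM.1 hxM.2.1 hx11 hx1 d0_mem.2
  have h0 : pt 0 = a' := by
    rcases hfixes (pt 0) hxM.2.2 with h | h
    · exact h
    · exact absurd pt0_mem (h ▸ hbd)
  refine ⟨x.1, x.2, hx11, b, hbd, hxb, ?_⟩
  rw [h0]
  exact hfixes

theorem card_M11_in {p : GolayPt} (hp : p ∈ ms (cw 1)) (hp0 : p ≠ pt 0) :
    Nat.card ↥(Cfsg.Spor.M11 ⊓ MulAction.stabilizer (Equiv.Perm GolayPt) p) = 720 := by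
  classical
  have hp11 : Fact (Nat.Prime 11) := ⟨by norm_num⟩
  obtain ⟨x, hxQ, hx11, b, hbd, hxb, hfixes⟩ := exists_ord11 Cfsg.Spor.M11 le_rfl
    (by rw [card_M11]; norm_num)
  have hOsub : orb Cfsg.Spor.M11 p ⊆ (ms (cw 1)).erase (pt 0) := by
    intro z hz
    obtain ⟨k, hk, rfl⟩ := mem_orb.mp hz
    have hkM := mem_M11.mp hk
    rw [Finset.mem_erase]
    refine ⟨fun h => hp0 ?_, (mem_iff_of_smul_eq hkM.2.1 p).mpr hp⟩
    exact k.injective (h.trans hkM.2.2.symm)
  have hm := card_fixed_modEq x (orb Cfsg.Spor.M11 p) (fun z => orb_inv hxQ z) 11 hx11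
  have hempty : (orb Cfsg.Spor.M11 p).filter (fun z => x z = z) = ∅ := by
    rw [Finset.filter_eq_empty_iff]
    intro z hz hfix
    have h1 := Finset.mem_erase.mp (hOsub hz)
    rcases hfixes z hfix with h | h
    · exact h1.1 h
    · exact hbd (h ▸ h1.2)
  rw [hempty, Finset.card_empty] at hm
  have hOle : (orb Cfsg.Spor.M11 p).card ≤ 11 := by
    have h1 := Finset.card_le_card hOsub
    rw [Finset.card_erase_of_mem pt0_mem, d0_mem.2] at h1
    exact h1
  have hOpos : 0 < (orb Cfsg.Spor.M11 p).card := Finset.card_pos.mpr ⟨p, self_mem_orb _ p⟩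
  have hO : (orb Cfsg.Spor.M11 p).card = 11 := by
    unfold Nat.ModEq at hm
    omega
  have h := card_orb Cfsg.Spor.M11 p
  rw [card_M11, hO] at h
  omega

theorem hinj11 : ∀ p ∈ (Finset.univ.erase (pt 0) : Finset GolayPt),
    ∀ p' ∈ (Finset.univ.erase (pt 0) : Finset GolayPt),
    (∀ g : ↥Cfsg.Spor.M11, g.1 p = p → g.1 p' = p') → p = p' := by
  classical
  intro p hp p' hp' h
  have hp0 : p ≠ pt 0 := (Finset.mem_erase.mp hp).1
  have hp'0 : p' ≠ pt 0 := (Finset.mem_erase.mp hp').1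
  by_cases hpd : p ∈ ms (cw 1)
  · by_cases hp'd : p' ∈ ms (cw 1)
    · have hp5 : Fact (Nat.Prime 5) := ⟨by norm_num⟩
      obtain ⟨y, hy⟩ := exists_prime_orderOf_dvd_card'
        (G := ↥(Cfsg.Spor.M11 ⊓ MulAction.stabilizer (Equiv.Perm GolayPt) p)) 5
        (by rw [card_M11_in hpd hp0]; norm_num)
      have hyo : orderOf y.1 = 5 := by rw [Subgroup.orderOf_coe, hy]
      have hy5 : y.1 ^ 5 = 1 := by rw [← hyo]; exact pow_orderOf_eq_one _
      have hy1 : y.1 ≠ 1 := by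
        intro h
        rw [h, orderOf_one] at hyo
        norm_num at hyo
      have hyM11 := (Subgroup.mem_inf.mp y.2).1
      have hyM := mem_M11.mp hyM11
      have hyp : y.1 p = p := MulAction.mem_stabilizer_iff.mp (Subgroup.mem_inf.mp y.2).2
      have hF := ord5_fix hyM.1 hyM.2.1 hy5 hy1 d0_mem.2
      have hyp' : y.1 p' = p' := h ⟨y.1, hyM11⟩ hyp
      by_contra hne
      have hsub : ({pt 0, p, p'} : Finset GolayPt) ⊆ (ms (cw 1)).filter (fun z => y.1 z = z) := by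
        intro z hz
        rw [Finset.mem_insert, Finset.mem_insert, Finset.mem_singleton] at hz
        rcases hz with rfl | rfl | rfl
        · exact Finset.mem_filter.mpr ⟨pt0_mem, hyM.2.2⟩
        · exact Finset.mem_filter.mpr ⟨hpd, hyp⟩
        · exact Finset.mem_filter.mpr ⟨hp'd, hyp'⟩
      have h1 := Finset.card_le_card hsub
      have h2 : ({pt 0, p, p'} : Finset GolayPt).card = 3 := by
        rw [Finset.card_insert_of_notMem, Finset.card_pair hne]
        rw [Finset.mem_insert, Finset.mem_singleton]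
        rintro (h | h)
        · exact hp0 h.symm
        · exact hp'0 h.symm
      omega
    · exfalso
      have hle : Cfsg.Spor.M11 ⊓ MulAction.stabilizer (Equiv.Perm GolayPt) p ≤
          Cfsg.Spor.M11 ⊓ MulAction.stabilizer (Equiv.Perm GolayPt) p' := by
        intro g hg
        have hg' := Subgroup.mem_inf.mp hg
        exact Subgroup.mem_inf.mpr ⟨hg'.1, MulAction.mem_stabilizer_iff.mpr
          (h ⟨g, hg'.1⟩ (MulAction.mem_stabilizer_iff.mp hg'.2))⟩
      have h1 := Subgroup.card_le_of_le hle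
      rw [card_M11_in hpd hp0, card_M11_out hp'd] at h1
      omega
  · obtain ⟨x, hxQ, hx11, b, hbd, hxb, hfixes⟩ := exists_ord11
      (Cfsg.Spor.M11 ⊓ MulAction.stabilizer (Equiv.Perm GolayPt) p) inf_le_left
      (by rw [card_M11_out hpd]; norm_num)
    have hxp : x p = p := MulAction.mem_stabilizer_iff.mp (Subgroup.mem_inf.mp hxQ).2
    have hxp' : x p' = p' := h ⟨x, (Subgroup.mem_inf.mp hxQ).1⟩ hxp
    have e1 : p = b := by
      rcases hfixes p hxp with h | h
      · exact absurd h hp0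
      · exact h
    have e2 : p' = b := by
      rcases hfixes p' hxp' with h | h
      · exact absurd h hp'0
      · exact h
    rw [e1, e2]

/-- every automorphism of `M11` is inner. -/
theorem aut_M11 (α : MulAut ↥Cfsg.Spor.M11) : α ∈ Cfsg.Inn ↥Cfsg.Spor.M11 := by
  classical
  have hΔ : ∀ g ∈ Cfsg.Spor.M11, ∀ p, p ∉ (Finset.univ.erase (pt 0) : Finset GolayPt) →
      g p = p := by
    intro g hg p hp
    have h1 : p = pt 0 := by
      by_contra hne
      exact hp (Finset.mem_erase.mpr ⟨hne, Finset.mem_univ _⟩)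
    rw [h1]
    exact (mem_M11.mp hg).2.2
  have himg0 : ∀ p, ∀ k ∈ imgStab Cfsg.Spor.M11 α p, k (pt 0) = pt 0 := fun p k hk =>
    (mem_M11.mp (imgStab_le _ α p hk)).2.2
  have hstab : ∀ p ∈ (Finset.univ.erase (pt 0) : Finset GolayPt),
      ∃ p' ∈ (Finset.univ.erase (pt 0) : Finset GolayPt),
      ∀ g : ↥Cfsg.Spor.M11, g.1 p = p ↔ (α g).1 p' = p' := by
    intro p hp
    have hp0 : p ≠ pt 0 := (Finset.mem_erase.mp hp).1
    by_cases hpd : p ∈ ms (cw 1)
    · have hc : Nat.card (imgStab Cfsg.Spor.M11 α p) = 720 := by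
        rw [card_imgStab, card_M11_in hpd hp0]
      obtain ⟨c, hcd, hc0, hfix⟩ := fix_of_card720 d0_mem pt0_mem (imgStab Cfsg.Spor.M11 α p)
        ((imgStab_le _ α p).trans M11_le) (himg0 p) hc
      refine ⟨c, Finset.mem_erase.mpr ⟨hc0, Finset.mem_univ _⟩, ?_⟩
      apply stab_of_imgStab
      apply Subgroup.eq_of_le_of_card_ge
      · intro k hk
        exact Subgroup.mem_inf.mpr ⟨imgStab_le _ α p hk,
          MulAction.mem_stabilizer_iff.mpr (hfix k hk)⟩
      · rw [hc, card_M11_in hcd hc0]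
    · have hc : Nat.card (imgStab Cfsg.Spor.M11 α p) = 660 := by
        rw [card_imgStab, card_M11_out hpd]
      obtain ⟨b, hbd, hfix⟩ := fix_of_card660 d0_mem pt0_mem (imgStab Cfsg.Spor.M11 α p)
        ((imgStab_le _ α p).trans M11_le) (himg0 p) hc
      refine ⟨b, Finset.mem_erase.mpr ⟨fun h => hbd (h ▸ pt0_mem), Finset.mem_univ _⟩, ?_⟩
      apply stab_of_imgStab
      apply Subgroup.eq_of_le_of_card_ge
      · intro k hk
        exact Subgroup.mem_inf.mpr ⟨imgStab_le _ α p hk,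
          MulAction.mem_stabilizer_iff.mpr (hfix k hk)⟩
      · rw [hc, card_M11_out hbd]
  obtain ⟨σ, hσ0, hσ⟩ := exists_perm_of_stab Cfsg.Spor.M11 α (Finset.univ.erase (pt 0)) hΔ
    hinj11 hstab
  have hσ0' : σ (pt 0) = pt 0 := hσ0 (pt 0) (by simp)
  have hnorm : ∀ g ∈ Cfsg.Spor.M11, σ * g * σ⁻¹ ∈ Cfsg.Spor.M11 := by
    intro g hg
    have h1 := hσ ⟨g, hg⟩
    rw [← h1]
    exact (α ⟨g, hg⟩).2
  have hnorm' : ∀ g ∈ Cfsg.Spor.M11, σ⁻¹ * g * σ ∈ Cfsg.Spor.M11 := by
    intro g hg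
    have h1 := hσ (α.symm ⟨g, hg⟩)
    rw [MulEquiv.apply_symm_apply] at h1
    have h2 : σ⁻¹ * g * σ = (α.symm ⟨g, hg⟩).1 := by
      have h3 : g = σ * (α.symm ⟨g, hg⟩).1 * σ⁻¹ := h1
      generalize (α.symm ⟨g, hg⟩).1 = t at h3
      rw [h3]
      group
    rw [h2]
    exact (α.symm ⟨g, hg⟩).2
  have hσM : σ ∈ M24 := norm_M11 hnorm
  have hinv : ∀ g ∈ Cfsg.Spor.M11, g • (σ • ms (cw 1)) = σ • ms (cw 1) := by
    intro g hg
    have h1 := (mem_M11.mp (hnorm' g hg)).2.1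
    have h2 : g • σ • ms (cw 1) = σ • ((σ⁻¹ * g * σ) • ms (cw 1)) := by
      rw [mul_smul, mul_smul, smul_inv_smul]
    rw [h2, h1]
  have hcard : (σ • ms (cw 1)).card = 12 := by
    rw [Finset.card_smul_finset]
    exact d0_mem.2
  have h0E : pt 0 ∈ σ • ms (cw 1) := by
    have h1 : σ (pt 0) ∈ σ • ms (cw 1) := Finset.smul_mem_smul_finset pt0_mem
    rw [hσ0'] at h1
    exact h1
  have hsub : σ • ms (cw 1) ⊆ ms (cw 1) := by
    intro s hs
    by_contra hsd
    have h1 : insert (pt 0) (Finset.univ \ ms (cw 1)) ⊆ σ • ms (cw 1) := by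
      intro z hz
      rw [Finset.mem_insert] at hz
      rcases hz with rfl | hz
      · exact h0E
      · obtain ⟨g, hg, hgd, hg0, e⟩ := stab_trans_compl d0_mem pt0_mem hsd
          (Finset.mem_sdiff.mp hz).2
        have h2 := hinv g (mem_M11.mpr ⟨hg, hgd, hg0⟩)
        rw [← h2, ← e]
        exact Finset.smul_mem_smul_finset hs
    have h2 := Finset.card_le_card h1
    rw [Finset.card_insert_of_notMem (by
      rw [Finset.mem_sdiff]
      exact fun h => h.2 pt0_mem), d0_compl_mem.2, hcard] at h2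
    omega
  have hσd : σ • ms (cw 1) = ms (cw 1) :=
    Finset.eq_of_subset_of_card_le hsub (by rw [hcard, d0_mem.2])
  exact inner_of_conj _ α σ (mem_M11.mpr ⟨hσM, hσd, hσ0'⟩) hσ

/-- `S2060`. -/
theorem out_M11 : Nat.card (Cfsg.Out ↥Cfsg.Spor.M11) = 1 := out_card_one aut_M11

end Cfsg.Agent.Lib.Helper3.M11Out
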