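import Mathlib
import Cfsg.Agent.Lib.Helper3.OTa

set_option autoImplicit false
set_option maxRecDepth 100000
set_option maxHeartbeats 4000000

namespace Cfsg.Agent.Lib.Helper3.OT

/-- A block action. -/
def b1 (s : Multiplicative (ZMod 4)) (v : ZMod 1) : ZMod 1 :=
  match (Multiplicative.toAdd s).val, v with
  | 0, x1 => 0
  | 1, x1 => 0
  | 2, x1 => 0
  | 3, x1 => 0
  | _, v => v

instance isAct_b1 : IsAct b1 := ⟨by decide +kernel, by decide +kernel, by decide +kernel⟩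

/-- A block action. -/
def b2 (s : Multiplicative (ZMod 7)) (v : ZMod 1) : ZMod 1 :=
  match (Multiplicative.toAdd s).val, v with
  | 0, x1 => 0
  | 1, x1 => 0
  | 2, x1 => 0
  | 3, x1 => 0
  | 4, x1 => 0
  | 5, x1 => 0
  | 6, x1 => 0
  | _, v => v

instance isAct_b2 : IsAct b2 := ⟨by decide +kernel, by decide +kernel, by decide +kernel⟩

/-- A block action. -/
def b3 (s : Multiplicative (ZMod 4)) (v : ZMod 3) : ZMod 3 :=
  match (Multiplicative.toAdd s).val, v with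
  | 0, x1 => x1
  | 1, x1 => 2 * x1
  | 2, x1 => x1
  | 3, x1 => 2 * x1
  | _, v => v

instance isAct_b3 : IsAct b3 := ⟨by decide +kernel, by decide +kernel, by decide +kernel⟩

/-- A block action. -/
def b4 (s : Multiplicative (ZMod 2)) (v : ZMod 7) : ZMod 7 :=
  match (Multiplicative.toAdd s).val, v with
  | 0, x1 => x1
  | 1, x1 => 6 * x1
  | _, v => v

instance isAct_b4 : IsAct b4 := ⟨by decide +kernel, by decide +kernel, by decide +kernel⟩

/-- A block action. -/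
def b5 (s : Multiplicative (ZMod 6)) (v : ZMod 3) : ZMod 3 :=
  match (Multiplicative.toAdd s).val, v with
  | 0, x1 => x1
  | 1, x1 => 2 * x1
  | 2, x1 => x1
  | 3, x1 => 2 * x1
  | 4, x1 => x1
  | 5, x1 => 2 * x1
  | _, v => v

instance isAct_b5 : IsAct b5 := ⟨by decide +kernel, by decide +kernel, by decide +kernel⟩

/-- A block action. -/
def b6 (s : Multiplicative (ZMod 3)) (v : ZMod 7) : ZMod 7 :=
  match (Multiplicative.toAdd s).val, v with
  | 0, x1 => x1
  | 1, x1 => 2 * x1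
  | 2, x1 => 4 * x1
  | _, v => v

instance isAct_b6 : IsAct b6 := ⟨by decide +kernel, by decide +kernel, by decide +kernel⟩

/-- A block action. -/
def b7 (s : Multiplicative (ZMod 4)) (v : ZMod 7) : ZMod 7 :=
  match (Multiplicative.toAdd s).val, v with
  | 0, x1 => x1
  | 1, x1 => 6 * x1
  | 2, x1 => x1
  | 3, x1 => 6 * x1
  | _, v => v

instance isAct_b7 : IsAct b7 := ⟨by decide +kernel, by decide +kernel, by decide +kernel⟩

/-- A block action. -/
def b8 (s : Multiplicative (ZMod 2)) (v : ZMod 3) : ZMod 3 :=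
  match (Multiplicative.toAdd s).val, v with
  | 0, x1 => x1
  | 1, x1 => 2 * x1
  | _, v => v

instance isAct_b8 : IsAct b8 := ⟨by decide +kernel, by decide +kernel, by decide +kernel⟩

/-- A block action. -/
def b9 (s : Multiplicative (ZMod 3)) (v : ZMod 4 × ZMod 4) : ZMod 4 × ZMod 4 :=
  match (Multiplicative.toAdd s).val, v with
  | 0, (x1, x2) => (x1, x2)
  | 1, (x1, x2) => (x2, 3 * x1 + 3 * x2)
  | 2, (x1, x2) => (3 * x1 + 3 * x2, x1)
  | _, v => v

instance isAct_b9 : IsAct b9 := ⟨by decide +kernel, by decide +kernel, by decide +kernel⟩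

/-- A block action. -/
def b10 (s : Multiplicative (ZMod 12)) (v : ZMod 7) : ZMod 7 :=
  match (Multiplicative.toAdd s).val, v with
  | 0, x1 => x1
  | 1, x1 => 3 * x1
  | 2, x1 => 2 * x1
  | 3, x1 => 6 * x1
  | 4, x1 => 4 * x1
  | 5, x1 => 5 * x1
  | 6, x1 => x1
  | 7, x1 => 3 * x1
  | 8, x1 => 2 * x1
  | 9, x1 => 6 * x1
  | 10, x1 => 4 * x1
  | 11, x1 => 5 * x1
  | _, v => v

instance isAct_b10 : IsAct b10 := ⟨by decide +kernel, by decide +kernel, by decide +kernel⟩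

/-- A block action. -/
def b11 (s : Multiplicative (ZMod 2)) (v : ZMod 7 × ZMod 7) : ZMod 7 × ZMod 7 :=
  match (Multiplicative.toAdd s).val, v with
  | 0, (x1, x2) => (x1, x2)
  | 1, (x1, x2) => (6 * x1, 6 * x2)
  | _, v => v

instance isAct_b11 : IsAct b11 := ⟨by decide +kernel, by decide +kernel, by decide +kernel⟩

/-- A block action. -/
def b12 (s : Multiplicative (ZMod 4)) (v : ZMod 3 × ZMod 3 × ZMod 3) : ZMod 3 × ZMod 3 × ZMod 3 :=
  match (Multiplicative.toAdd s).val, v with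
  | 0, (x1, x2, x3) => (x1, x2, x3)
  | 1, (x1, x2, x3) => (x2 + 2 * x3, 2 * x1 + x2 + x3, x1 + 2 * x2 + x3)
  | 2, (x1, x2, x3) => (x1 + 2 * x2, 2 * x2, 2 * x1 + 2 * x2 + 2 * x3)
  | 3, (x1, x2, x3) => (x1 + x3, x1 + 2 * x2 + 2 * x3, 2 * x2 + 2 * x3)
  | _, v => v

instance isAct_b12 : IsAct b12 := ⟨by decide +kernel, by decide +kernel, by decide +kernel⟩

/-- A block action. -/
def b13 (s : Multiplicative (ZMod 12)) (v : ZMod 3) : ZMod 3 :=
  match (Multiplicative.toAdd s).val, v with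
  | 0, x1 => x1
  | 1, x1 => 2 * x1
  | 2, x1 => x1
  | 3, x1 => 2 * x1
  | 4, x1 => x1
  | 5, x1 => 2 * x1
  | 6, x1 => x1
  | 7, x1 => 2 * x1
  | 8, x1 => x1
  | 9, x1 => 2 * x1
  | 10, x1 => x1
  | 11, x1 => 2 * x1
  | _, v => v

instance isAct_b13 : IsAct b13 := ⟨by decide +kernel, by decide +kernel, by decide +kernel⟩

/-- A block action. -/
def b14 (s : Multiplicative (ZMod 4)) (v : ZMod 3 × ZMod 3) : ZMod 3 × ZMod 3 :=
  match (Multiplicative.toAdd s).val, v with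
  | 0, (x1, x2) => (x1, x2)
  | 1, (x1, x2) => (2 * x1, 2 * x2)
  | 2, (x1, x2) => (x1, x2)
  | 3, (x1, x2) => (2 * x1, 2 * x2)
  | _, v => v

instance isAct_b14 : IsAct b14 := ⟨by decide +kernel, by decide +kernel, by decide +kernel⟩

/-- A block action. -/
def b15 (s : Multiplicative (ZMod 2)) (v : ZMod 2) : ZMod 2 :=
  match (Multiplicative.toAdd s).val, v with
  | 0, x1 => x1
  | 1, x1 => x1
  | _, v => v

instance isAct_b15 : IsAct b15 := ⟨by decide +kernel, by decide +kernel, by decide +kernel⟩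

/-- A block action. -/
def b16 (s : Multiplicative (ZMod 2)) (v : ZMod 3 × ZMod 3) : ZMod 3 × ZMod 3 :=
  match (Multiplicative.toAdd s).val, v with
  | 0, (x1, x2) => (x1, x2)
  | 1, (x1, x2) => (2 * x1, 2 * x2)
  | _, v => v

instance isAct_b16 : IsAct b16 := ⟨by decide +kernel, by decide +kernel, by decide +kernel⟩

/-- A block action. -/
def b17 (s : Multiplicative (ZMod 6)) (v : ZMod 7 × ZMod 7) : ZMod 7 × ZMod 7 :=
  match (Multiplicative.toAdd s).val, v with
  | 0, (x1, x2) => (x1, x2)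
  | 1, (x1, x2) => (x2, 3 * x1 + 2 * x2)
  | 2, (x1, x2) => (3 * x1 + 2 * x2, 6 * x1)
  | 3, (x1, x2) => (6 * x1, 6 * x2)
  | 4, (x1, x2) => (6 * x2, 4 * x1 + 5 * x2)
  | 5, (x1, x2) => (4 * x1 + 5 * x2, x1)
  | _, v => v

instance isAct_b17 : IsAct b17 := ⟨by decide +kernel, by decide +kernel, by decide +kernel⟩

/-- A block action. -/
def b18 (s : Multiplicative (ZMod 3)) (v : ZMod 2 × ZMod 2 × ZMod 2 × ZMod 2) : ZMod 2 × ZMod 2 × ZMod 2 × ZMod 2 :=
  match (Multiplicative.toAdd s).val, v with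
  | 0, (x1, x2, x3, x4) => (x1, x2, x3, x4)
  | 1, (x1, x2, x3, x4) => (x1 + x3, x1 + x2 + x3 + x4, x1, x2 + x3)
  | 2, (x1, x2, x3, x4) => (x3, x1 + x3 + x4, x1 + x3, x2 + x3 + x4)
  | _, v => v

instance isAct_b18 : IsAct b18 := ⟨by decide +kernel, by decide +kernel, by decide +kernel⟩

/-- A block action. -/
def b19 (s : Multiplicative (ZMod 6)) (v : ZMod 2 × ZMod 2 × ZMod 2 × ZMod 2) : ZMod 2 × ZMod 2 × ZMod 2 × ZMod 2 :=
  match (Multiplicative.toAdd s).val, v with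
  | 0, (x1, x2, x3, x4) => (x1, x2, x3, x4)
  | 1, (x1, x2, x3, x4) => (x1 + x4, x4, x1 + x2 + x3, x3)
  | 2, (x1, x2, x3, x4) => (x1 + x3 + x4, x3, x2 + x3, x1 + x2 + x3)
  | 3, (x1, x2, x3, x4) => (x2 + x4, x1 + x2 + x3, x1 + x2 + x3 + x4, x2 + x3)
  | 4, (x1, x2, x3, x4) => (x3 + x4, x2 + x3, x2, x1 + x2 + x3 + x4)
  | 5, (x1, x2, x3, x4) => (x1 + x2, x1 + x2 + x3 + x4, x4, x2)
  | _, v => v

instance isAct_b19 : IsAct b19 := ⟨by decide +kernel, by decide +kernel, by decide +kernel⟩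

/-- A block action. -/
def b20 (s : Multiplicative (ZMod 6)) (v : ZMod 7) : ZMod 7 :=
  match (Multiplicative.toAdd s).val, v with
  | 0, x1 => x1
  | 1, x1 => 2 * x1
  | 2, x1 => 4 * x1
  | 3, x1 => x1
  | 4, x1 => 2 * x1
  | 5, x1 => 4 * x1
  | _, v => v

instance isAct_b20 : IsAct b20 := ⟨by decide +kernel, by decide +kernel, by decide +kernel⟩

/-- A block action. -/
def b21 (s : Multiplicative (ZMod 6)) (v : ZMod 7) : ZMod 7 :=
  match (Multiplicative.toAdd s).val, v with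
  | 0, x1 => x1
  | 1, x1 => 6 * x1
  | 2, x1 => x1
  | 3, x1 => 6 * x1
  | 4, x1 => x1
  | 5, x1 => 6 * x1
  | _, v => v

instance isAct_b21 : IsAct b21 := ⟨by decide +kernel, by decide +kernel, by decide +kernel⟩

end Cfsg.Agent.Lib.Helper3.OT
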