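import Mathlib
import Cfsg.Agent.Lib.Helper3.OTa
import Cfsg.Agent.Lib.Helper3.OTb0

set_option autoImplicit false
set_option maxRecDepth 100000
set_option maxHeartbeats 4000000

namespace Cfsg.Agent.Lib.Helper3.OT

/-- The group `Q1` (order 4). -/
abbrev Q1 : Type := SD (b1)

/-- The table of the group `Q1`. -/
def tQ1 (d : ℕ) : ℕ := if d = 1 then 1 else if d = 2 then 2 else if d = 3 then 1 else if d = 4 then 4 else if d = 6 then 2 else if d = 7 then 1 else if d = 12 then 4 else if d = 14 then 2 else if d = 21 then 1 else if d = 28 then 4 else if d = 42 then 2 else if d = 84 then 4 else 0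

theorem tabQ1 : ∀ d ∈ Nat.divisors 84,
    (Finset.univ.filter (fun x : Q1 => x ^ d = 1)).card = tQ1 d := by
  decide +kernel

theorem cardQ1 : tQ1 84 = Fintype.card Q1 := by
  decide +kernel

theorem FcQ1 : ∀ n, Fc Q1 n = tQ1 (Nat.gcd n 84) := Fc_of_table tQ1 tabQ1 cardQ1

/-- The group `Q2` (order 7). -/
abbrev Q2 : Type := SD (b2)

/-- The table of the group `Q2`. -/
def tQ2 (d : ℕ) : ℕ := if d = 1 then 1 else if d = 2 then 1 else if d = 3 then 1 else if d = 4 then 1 else if d = 6 then 1 else if d = 7 then 7 else if d = 12 then 1 else if d = 14 then 7 else if d = 21 then 7 else if d = 28 then 7 else if d = 42 then 7 else if d = 84 then 7 else 0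

theorem tabQ2 : ∀ d ∈ Nat.divisors 84,
    (Finset.univ.filter (fun x : Q2 => x ^ d = 1)).card = tQ2 d := by
  decide +kernel

theorem cardQ2 : tQ2 84 = Fintype.card Q2 := by
  decide +kernel

theorem FcQ2 : ∀ n, Fc Q2 n = tQ2 (Nat.gcd n 84) := Fc_of_table tQ2 tabQ2 cardQ2

/-- The group `Q3` (order 12). -/
abbrev Q3 : Type := SD (b3)

/-- The table of the group `Q3`. -/
def tQ3 (d : ℕ) : ℕ := if d = 1 then 1 else if d = 2 then 2 else if d = 3 then 3 else if d = 4 then 8 else if d = 6 then 6 else if d = 7 then 1 else if d = 12 then 12 else if d = 14 then 2 else if d = 21 then 3 else if d = 28 then 8 else if d = 42 then 6 else if d = 84 then 12 else 0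

theorem tabQ3 : ∀ d ∈ Nat.divisors 84,
    (Finset.univ.filter (fun x : Q3 => x ^ d = 1)).card = tQ3 d := by
  decide +kernel

theorem cardQ3 : tQ3 84 = Fintype.card Q3 := by
  decide +kernel

theorem FcQ3 : ∀ n, Fc Q3 n = tQ3 (Nat.gcd n 84) := Fc_of_table tQ3 tabQ3 cardQ3

/-- The group `Q4` (order 14). -/
abbrev Q4 : Type := SD (b4)

/-- The table of the group `Q4`. -/
def tQ4 (d : ℕ) : ℕ := if d = 1 then 1 else if d = 2 then 8 else if d = 3 then 1 else if d = 4 then 8 else if d = 6 then 8 else if d = 7 then 7 else if d = 12 then 8 else if d = 14 then 14 else if d = 21 then 7 else if d = 28 then 14 else if d = 42 then 14 else if d = 84 then 14 else 0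

theorem tabQ4 : ∀ d ∈ Nat.divisors 84,
    (Finset.univ.filter (fun x : Q4 => x ^ d = 1)).card = tQ4 d := by
  decide +kernel

theorem cardQ4 : tQ4 84 = Fintype.card Q4 := by
  decide +kernel

theorem FcQ4 : ∀ n, Fc Q4 n = tQ4 (Nat.gcd n 84) := Fc_of_table tQ4 tabQ4 cardQ4

/-- The group `Q5` (order 18). -/
abbrev Q5 : Type := SD (b5)

/-- The table of the group `Q5`. -/
def tQ5 (d : ℕ) : ℕ := if d = 1 then 1 else if d = 2 then 4 else if d = 3 then 9 else if d = 4 then 4 else if d = 6 then 18 else if d = 7 then 1 else if d = 12 then 18 else if d = 14 then 4 else if d = 21 then 9 else if d = 28 then 4 else if d = 42 then 18 else if d = 84 then 18 else 0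

theorem tabQ5 : ∀ d ∈ Nat.divisors 84,
    (Finset.univ.filter (fun x : Q5 => x ^ d = 1)).card = tQ5 d := by
  decide +kernel

theorem cardQ5 : tQ5 84 = Fintype.card Q5 := by
  decide +kernel

theorem FcQ5 : ∀ n, Fc Q5 n = tQ5 (Nat.gcd n 84) := Fc_of_table tQ5 tabQ5 cardQ5

/-- The group `Q6` (order 21). -/
abbrev Q6 : Type := SD (b6)

/-- The table of the group `Q6`. -/
def tQ6 (d : ℕ) : ℕ := if d = 1 then 1 else if d = 2 then 1 else if d = 3 then 15 else if d = 4 then 1 else if d = 6 then 15 else if d = 7 then 7 else if d = 12 then 15 else if d = 14 then 7 else if d = 21 then 21 else if d = 28 then 7 else if d = 42 then 21 else if d = 84 then 21 else 0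

theorem tabQ6 : ∀ d ∈ Nat.divisors 84,
    (Finset.univ.filter (fun x : Q6 => x ^ d = 1)).card = tQ6 d := by
  decide +kernel

theorem cardQ6 : tQ6 84 = Fintype.card Q6 := by
  decide +kernel

theorem FcQ6 : ∀ n, Fc Q6 n = tQ6 (Nat.gcd n 84) := Fc_of_table tQ6 tabQ6 cardQ6

/-- The group `Q7` (order 28). -/
abbrev Q7 : Type := SD (b7)

/-- The table of the group `Q7`. -/
def tQ7 (d : ℕ) : ℕ := if d = 1 then 1 else if d = 2 then 2 else if d = 3 then 1 else if d = 4 then 16 else if d = 6 then 2 else if d = 7 then 7 else if d = 12 then 16 else if d = 14 then 14 else if d = 21 then 7 else if d = 28 then 28 else if d = 42 then 14 else if d = 84 then 28 else 0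

theorem tabQ7 : ∀ d ∈ Nat.divisors 84,
    (Finset.univ.filter (fun x : Q7 => x ^ d = 1)).card = tQ7 d := by
  decide +kernel

theorem cardQ7 : tQ7 84 = Fintype.card Q7 := by
  decide +kernel

theorem FcQ7 : ∀ n, Fc Q7 n = tQ7 (Nat.gcd n 84) := Fc_of_table tQ7 tabQ7 cardQ7

/-- The group `Q8` (order 42). -/
abbrev Q8 : Type := SD (prodAct b8 b4)

/-- The table of the group `Q8`. -/
def tQ8 (d : ℕ) : ℕ := if d = 1 then 1 else if d = 2 then 22 else if d = 3 then 3 else if d = 4 then 22 else if d = 6 then 24 else if d = 7 then 7 else if d = 12 then 24 else if d = 14 then 28 else if d = 21 then 21 else if d = 28 then 28 else if d = 42 then 42 else if d = 84 then 42 else 0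

theorem tabQ8 : ∀ d ∈ Nat.divisors 84,
    (Finset.univ.filter (fun x : Q8 => x ^ d = 1)).card = tQ8 d := by
  decide +kernel

theorem cardQ8 : tQ8 84 = Fintype.card Q8 := by
  decide +kernel

theorem FcQ8 : ∀ n, Fc Q8 n = tQ8 (Nat.gcd n 84) := Fc_of_table tQ8 tabQ8 cardQ8

/-- The group `Q9` (order 48). -/
abbrev Q9 : Type := SD (b9)

/-- The table of the group `Q9`. -/
def tQ9 (d : ℕ) : ℕ := if d = 1 then 1 else if d = 2 then 4 else if d = 3 then 33 else if d = 4 then 16 else if d = 6 then 36 else if d = 7 then 1 else if d = 12 then 48 else if d = 14 then 4 else if d = 21 then 33 else if d = 28 then 16 else if d = 42 then 36 else if d = 84 then 48 else 0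

theorem tabQ9 : ∀ d ∈ Nat.divisors 84,
    (Finset.univ.filter (fun x : Q9 => x ^ d = 1)).card = tQ9 d := by
  decide +kernel

theorem cardQ9 : tQ9 84 = Fintype.card Q9 := by
  decide +kernel

theorem FcQ9 : ∀ n, Fc Q9 n = tQ9 (Nat.gcd n 84) := Fc_of_table tQ9 tabQ9 cardQ9

/-- The group `Q10` (order 84). -/
abbrev Q10 : Type := SD (b10)

/-- The table of the group `Q10`. -/
def tQ10 (d : ℕ) : ℕ := if d = 1 then 1 else if d = 2 then 2 else if d = 3 then 15 else if d = 4 then 16 else if d = 6 then 30 else if d = 7 then 7 else if d = 12 then 72 else if d = 14 then 14 else if d = 21 then 21 else if d = 28 then 28 else if d = 42 then 42 else if d = 84 then 84 else 0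

theorem tabQ10 : ∀ d ∈ Nat.divisors 84,
    (Finset.univ.filter (fun x : Q10 => x ^ d = 1)).card = tQ10 d := by
  decide +kernel

theorem cardQ10 : tQ10 84 = Fintype.card Q10 := by
  decide +kernel

theorem FcQ10 : ∀ n, Fc Q10 n = tQ10 (Nat.gcd n 84) := Fc_of_table tQ10 tabQ10 cardQ10

/-- The group `Q11` (order 98). -/
abbrev Q11 : Type := SD (b11)

/-- The table of the group `Q11`. -/
def tQ11 (d : ℕ) : ℕ := if d = 1 then 1 else if d = 2 then 50 else if d = 3 then 1 else if d = 4 then 50 else if d = 6 then 50 else if d = 7 then 49 else if d = 12 then 50 else if d = 14 then 98 else if d = 21 then 49 else if d = 28 then 98 else if d = 42 then 98 else if d = 84 then 98 else 0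

theorem tabQ11 : ∀ d ∈ Nat.divisors 84,
    (Finset.univ.filter (fun x : Q11 => x ^ d = 1)).card = tQ11 d := by
  decide +kernel

theorem cardQ11 : tQ11 84 = Fintype.card Q11 := by
  decide +kernel

theorem FcQ11 : ∀ n, Fc Q11 n = tQ11 (Nat.gcd n 84) := Fc_of_table tQ11 tabQ11 cardQ11

/-- The group `Q12` (order 108). -/
abbrev Q12 : Type := SD (b12)

/-- The table of the group `Q12`. -/
def tQ12 (d : ℕ) : ℕ := if d = 1 then 1 else if d = 2 then 10 else if d = 3 then 27 else if d = 4 then 64 else if d = 6 then 54 else if d = 7 then 1 else if d = 12 then 108 else if d = 14 then 10 else if d = 21 then 27 else if d = 28 then 64 else if d = 42 then 54 else if d = 84 then 108 else 0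

theorem tabQ12 : ∀ d ∈ Nat.divisors 84,
    (Finset.univ.filter (fun x : Q12 => x ^ d = 1)).card = tQ12 d := by
  decide +kernel

theorem cardQ12 : tQ12 84 = Fintype.card Q12 := by
  decide +kernel

theorem FcQ12 : ∀ n, Fc Q12 n = tQ12 (Nat.gcd n 84) := Fc_of_table tQ12 tabQ12 cardQ12

end Cfsg.Agent.Lib.Helper3.OT
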