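import Mathlib
import Cfsg.Agent.Lib.Helper2.Unitary3

set_option autoImplicit false
set_option linter.unusedSectionVars false

namespace Cfsg.Agent.Lib.Helper3.SuAut1

open Cfsg.Agent.Lib.Helper2.Unitary Cfsg.Agent.Lib.Helper2.HermCount

variable {F : Type*} [Field F] [Fintype F]

theorem sq_inj (h2 : (2 : F) = 0) {x y : F} (h : x * x = y * y) : x = y := by
  have h3 : (x - y) * (x - y) = 0 := by linear_combination h - (x * y - y * y) * h2
  exact sub_eq_zero.mp (mul_self_eq_zero.mp h3)

theorem sqrt_ex (h2 : (2 : F) = 0) (y : F) : ∃ w : F, w * w = y :=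
  Finite.injective_iff_surjective.mp (fun _ _ h => sq_inj h2 h) y

/-- some element is not fixed by the `q`-power map. -/
theorem exists_not_fixed {q : ℕ} (hF : Fintype.card F = q ^ 2) : ∃ ω : F, ω ^ q ≠ ω := by
  classical
  have hq := two_le_q hF
  by_contra hcon
  push Not at hcon
  have hp : (Polynomial.X ^ q - Polynomial.X : Polynomial F) ≠ 0 :=
    FiniteField.X_pow_card_sub_X_ne_zero F (by omega)
  have hdeg : (Polynomial.X ^ q - Polynomial.X : Polynomial F).natDegree = q :=
    FiniteField.X_pow_card_sub_X_natDegree_eq F (by omega)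
  have hsub : (Finset.univ : Finset F).val ≤
      (Polynomial.X ^ q - Polynomial.X : Polynomial F).roots := by
    rw [Multiset.le_iff_subset Finset.univ.nodup]
    intro x _
    rw [Polynomial.mem_roots hp]
    simp [hcon x]
  have h1 := (Multiset.card_le_card hsub).trans (Polynomial.card_roots' _)
  rw [hdeg] at h1
  have h3 : Fintype.card F ≤ q := h1
  rw [hF] at h3
  nlinarith

/-- an additive bijection of `GF(q²)` compatible with the norm form is semilinear of degree
one. -/
theorem semilin {q : ℕ} (hF : Fintype.card F = q ^ 2) (h2 : (2 : F) = 0) (A Bk : F → F)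
    (hAadd : ∀ x y, A (x + y) = A x + A y) (hAinj : Function.Injective A)
    (hBadd : ∀ x y, x ^ q = x → y ^ q = y → Bk (x + y) = Bk x + Bk y)
    (hBinj : ∀ x, x ^ q = x → Bk x = 0 → x = 0)
    (hN : ∀ a, Bk (a ^ q * a) = A a ^ q * A a) :
    ∃ (l : F) (σ : F ≃+* F), l ≠ 0 ∧ (∀ a, A a = l * σ a) ∧
      ∀ z, z ^ q = z → Bk z = l ^ q * l * σ z := by
  have hq := two_le_q hF
  have hqa := pow_q_add hF
  have hqq := pow_q_pow_q hF
  have hK0 : (0 : F) ^ q = 0 := zero_pow (by omega)
  have hKadd : ∀ x y : F, x ^ q = x → y ^ q = y → (x + y) ^ q = x + y := by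
    intro x y hx hy
    rw [hqa, hx, hy]
  have hKmul : ∀ x y : F, x ^ q = x → y ^ q = y → (x * y) ^ q = x * y := by
    intro x y hx hy
    rw [mul_pow, hx, hy]
  have hKdiv : ∀ x y : F, x ^ q = x → y ^ q = y → (x / y) ^ q = x / y := by
    intro x y hx hy
    rw [div_pow, hx, hy]
  have hKN : ∀ a : F, (a ^ q * a) ^ q = a ^ q * a := by
    intro a
    rw [mul_pow, hqq]
    ring
  have hKtr : ∀ a : F, (a + a ^ q) ^ q = a + a ^ q := by
    intro a
    rw [hqa, hqq]
    ring
  have hB0 : Bk 0 = 0 := by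
    have h := hBadd 0 0 hK0 hK0
    rw [add_zero] at h
    linear_combination -h
  have hA0 : A 0 = 0 := by
    have h := hAadd 0 0
    rw [add_zero] at h
    linear_combination -h
  have hAne : ∀ a, a ≠ 0 → A a ≠ 0 := fun a ha h => ha (hAinj (h.trans hA0.symm))
  have hKP : ∀ a c : F, (a * c ^ q + a ^ q * c) ^ q = a * c ^ q + a ^ q * c := by
    intro a c
    rw [hqa, mul_pow, mul_pow, hqq, hqq]
    ring
  have hpol : ∀ a c, Bk (a * c ^ q + a ^ q * c) = A a * A c ^ q + A a ^ q * A c := by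
    intro a c
    have h1 := hN (a + c)
    rw [hAadd, hqa, hqa] at h1
    have e : (a ^ q + c ^ q) * (a + c) =
        a ^ q * a + (c ^ q * c + (a * c ^ q + a ^ q * c)) := by ring
    rw [e, hBadd _ _ (hKN a) (hKadd _ _ (hKN c) (hKP a c)), hBadd _ _ (hKN c) (hKP a c),
      hN, hN] at h1
    linear_combination h1
  have lineq : ∀ a c : F, a ≠ 0 → ((c / a) ^ q = c / a ↔ a * c ^ q + a ^ q * c = 0) := by
    intro a c ha
    rw [div_pow, div_eq_div_iff (pow_ne_zero q ha) ha]
    constructor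
    · intro h
      linear_combination h + (a ^ q * c) * h2
    · intro h
      linear_combination h - (a ^ q * c) * h2
  have hL : ∀ a c : F, a ≠ 0 → ((c / a) ^ q = c / a ↔ (A c / A a) ^ q = A c / A a) := by
    intro a c ha
    rw [lineq a c ha, lineq (A a) (A c) (hAne a ha), ← hpol]
    constructor
    · intro h
      rw [h, hB0]
    · intro h
      exact hBinj _ (hKP a c) h
  have hg : ∀ a μ : F, a ≠ 0 → μ ^ q = μ → (A (μ * a) / A a) ^ q = A (μ * a) / A a := by
    intro a μ ha hμ
    rw [← hL a (μ * a) ha, mul_div_assoc, div_self ha, mul_one, hμ]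
  have hind : ∀ a c μ : F, a ≠ 0 → c ≠ 0 → (c / a) ^ q ≠ c / a → μ ^ q = μ →
      A (μ * a) / A a = A (μ * c) / A c := by
    intro a c μ ha hc hca hμ
    have hac : a + c ≠ 0 := by
      intro h
      apply hca
      have hca' : c = a := by linear_combination h - a * h2
      rw [hca', div_self ha, one_pow]
    have hAa := hAne a ha
    have hAc := hAne c hc
    have hAac : A a + A c ≠ 0 := by
      rw [← hAadd]
      exact hAne _ hac
    obtain ⟨ga, hga⟩ : ∃ g, g = A (μ * a) / A a := ⟨_, rfl⟩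
    obtain ⟨gc, hgc⟩ : ∃ g, g = A (μ * c) / A c := ⟨_, rfl⟩
    obtain ⟨g0, hg0⟩ : ∃ g, g = A (μ * (a + c)) / A (a + c) := ⟨_, rfl⟩
    have kga : ga ^ q = ga := by rw [hga]; exact hg a μ ha hμ
    have kgc : gc ^ q = gc := by rw [hgc]; exact hg c μ hc hμ
    have kg0 : g0 ^ q = g0 := by rw [hg0]; exact hg (a + c) μ hac hμ
    have e1 : A (μ * a) = ga * A a := by rw [hga]; field_simp
    have e2 : A (μ * c) = gc * A c := by rw [hgc]; field_simp
    have e3 : A (μ * (a + c)) = g0 * (A a + A c) := by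
      rw [hg0, hAadd a c]
      field_simp
    have e4 : (g0 + ga) * A a = (gc + g0) * A c := by
      have h := e3
      rw [mul_add, hAadd, e1, e2] at h
      linear_combination h + (g0 * A a - gc * A c) * h2
    rw [← hga, ← hgc]
    by_cases hne : g0 + ga = 0
    · have h5 : (gc + g0) * A c = 0 := by rw [← e4, hne, zero_mul]
      have h6 : gc + g0 = 0 := by
        rcases mul_eq_zero.mp h5 with h | h
        · exact h
        · exact absurd h hAc
      linear_combination hne - h6
    · exfalso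
      apply hca
      rw [hL a c ha]
      have hgc0 : gc + g0 ≠ 0 := by
        intro h
        rw [h, zero_mul] at e4
        rcases mul_eq_zero.mp e4 with h' | h'
        · exact hne h'
        · exact hAa h'
      have e5 : A c / A a = (g0 + ga) / (gc + g0) := by
        rw [div_eq_div_iff hAa hgc0]
        linear_combination (-1 : F) * e4
      rw [e5]
      exact hKdiv _ _ (hKadd _ _ kg0 kga) (hKadd _ _ kgc kg0)
  obtain ⟨ω, hω⟩ := exists_not_fixed hF
  have hω0 : ω ≠ 0 := by
    rintro rfl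
    exact hω hK0
  have hsl : ∀ a μ : F, a ≠ 0 → μ ^ q = μ → A (μ * a) / A a = A μ / A 1 := by
    intro a μ ha hμ
    have key : ∀ a c : F, a ≠ 0 → c ≠ 0 → A (μ * a) / A a = A (μ * c) / A c := by
      intro a c ha hc
      by_cases hca : (c / a) ^ q = c / a
      · have hb : a * ω ≠ 0 := mul_ne_zero ha hω0
        have h1 : ((a * ω) / a) ^ q ≠ (a * ω) / a := by
          rw [mul_div_cancel_left₀ ω ha]
          exact hω
        have h2' : ((a * ω) / c) ^ q ≠ (a * ω) / c := by
          intro h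
          apply hω
          have e : ω = (a * ω / c) * (c / a) := by field_simp
          rw [e]
          exact hKmul _ _ h hca
        rw [hind a (a * ω) μ ha hb h1 hμ, hind c (a * ω) μ hc hb h2' hμ]
      · exact hind a c μ ha hc hca hμ
    have h := key a 1 ha one_ne_zero
    rwa [mul_one] at h
  obtain ⟨l, hl⟩ : ∃ l, l = A 1 := ⟨_, rfl⟩
  have hl0 : l ≠ 0 := by
    rw [hl]
    exact hAne 1 one_ne_zero
  obtain ⟨A1, hA1⟩ : ∃ A1 : F → F, ∀ a, A1 a = A a / l := ⟨fun a => A a / l, fun a => rfl⟩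
  have hAl : ∀ a, A a = l * A1 a := by
    intro a
    rw [hA1]
    field_simp
  have A1add : ∀ x y, A1 (x + y) = A1 x + A1 y := by
    intro x y
    rw [hA1, hA1, hA1, hAadd, add_div]
  have A1zero : A1 0 = 0 := by rw [hA1, hA0, zero_div]
  have A1one : A1 1 = 1 := by rw [hA1, ← hl, div_self hl0]
  have A1K : ∀ μ, μ ^ q = μ → A1 μ ^ q = A1 μ := by
    intro μ hμ
    have h := hg 1 μ one_ne_zero hμ
    rw [mul_one, ← hl] at h
    rw [hA1]
    exact h
  have A1sl : ∀ μ a, μ ^ q = μ → A1 (μ * a) = A1 μ * A1 a := by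
    intro μ a hμ
    by_cases ha : a = 0
    · rw [ha, mul_zero, A1zero, mul_zero]
    have h := hsl a μ ha hμ
    rw [← hl] at h
    have hAa := hAne a ha
    have h' : A (μ * a) = A μ / l * A a := by
      rw [← h]
      field_simp
    rw [hA1, hA1, hA1, h']
    ring
  have hNl : Bk 1 = l ^ q * l := by
    have h := hN 1
    rw [one_pow, one_mul, ← hl] at h
    exact h
  have sqrtK : ∀ y : F, y ^ q = y → ∃ w : F, w ^ q = w ∧ w * w = y := by
    intro y hy
    obtain ⟨w, hw⟩ := sqrt_ex h2 y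
    refine ⟨w, ?_, hw⟩
    apply sq_inj h2
    rw [← mul_pow, hw, hy]
  have hBsl : ∀ μ y : F, μ ^ q = μ → y ^ q = y → Bk (μ * y) = A1 μ * Bk y := by
    intro μ y hμ hy
    obtain ⟨ν, hν, hνμ⟩ := sqrtK μ hμ
    obtain ⟨w, hw, hwy⟩ := sqrtK y hy
    have e1 : μ * y = (ν * w) ^ q * (ν * w) := by
      rw [mul_pow, hν, hw, ← hνμ, ← hwy]
      ring
    have e3 : A (ν * w) = A1 ν * A w := by
      rw [hAl (ν * w), A1sl ν w hν, hAl w]
      ring
    have e4 : A1 μ = A1 ν * A1 ν := by rw [← hνμ, A1sl ν ν hν]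
    have e5 : Bk y = A w ^ q * A w := by
      rw [← hN w, hw, hwy]
    rw [e1, hN, e3, mul_pow, A1K ν hν, e4, e5]
    ring
  have hBk : ∀ y : F, y ^ q = y → Bk y = A1 y * (l ^ q * l) := by
    intro y hy
    have h := hBsl y 1 hy (one_pow q)
    rw [mul_one, hNl] at h
    exact h
  have hll : l ^ q * l ≠ 0 := mul_ne_zero (pow_ne_zero q hl0) hl0
  have A1N : ∀ a, A1 a ^ q * A1 a = A1 (a ^ q * a) := by
    intro a
    have h := hN a
    rw [hBk _ (hKN a), hAl a, mul_pow] at h
    apply mul_right_cancel₀ hll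
    linear_combination -h
  have A1tr : ∀ a, A1 a ^ q + A1 a = A1 (a ^ q + a) := by
    intro a
    have h := A1N (a + 1)
    rw [A1add, A1one, hqa, hqa, one_pow] at h
    have e : (a ^ q + 1) * (a + 1) = a ^ q * a + ((a ^ q + a) + 1) := by ring
    rw [e, A1add, A1add, A1one, ← A1N a] at h
    linear_combination h
  have A1sq : ∀ a, A1 (a * a) = A1 a * A1 a := by
    intro a
    have e : a * a = (a ^ q + a) * a + a ^ q * a := by linear_combination (-(a ^ q * a)) * h2
    have hK : (a ^ q + a) ^ q = a ^ q + a := by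
      rw [add_comm]
      exact hKtr a
    rw [e, A1add, A1sl _ a hK, ← A1tr, ← A1N]
    linear_combination (A1 a ^ q * A1 a) * h2
  have ht : ω + ω ^ q ≠ 0 := by
    intro h
    apply hω
    linear_combination h - ω * h2
  have dec : ∀ a : F, ∃ x y : F, x ^ q = x ∧ y ^ q = y ∧ a = x + y * ω := by
    intro a
    obtain ⟨y, hy⟩ : ∃ y, y = (a + a ^ q) / (ω + ω ^ q) := ⟨_, rfl⟩
    have hyK : y ^ q = y := by
      rw [hy]
      exact hKdiv _ _ (hKtr a) (hKtr ω)
    have hyd : y * (ω + ω ^ q) = a + a ^ q := by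
      rw [hy]
      exact div_mul_cancel₀ _ ht
    refine ⟨a + y * ω, y, ?_, hyK, ?_⟩
    · rw [hqa, mul_pow, hyK]
      linear_combination hyd + (a ^ q - y * ω) * h2
    · linear_combination (-(y * ω)) * h2
  have A1mul : ∀ a b, A1 (a * b) = A1 a * A1 b := by
    intro a b
    obtain ⟨x, y, hx, hy, rfl⟩ := dec a
    obtain ⟨x', y', hx', hy', rfl⟩ := dec b
    have e : (x + y * ω) * (x' + y' * ω) =
        x * x' + ((x * y' + x' * y) * ω + (y * y') * (ω * ω)) := by ring
    have p1 : A1 (x * x') = A1 x * A1 x' := A1sl x x' hx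
    have p2 : A1 ((x * y' + x' * y) * ω) = (A1 x * A1 y' + A1 x' * A1 y) * A1 ω := by
      rw [A1sl _ ω (hKadd _ _ (hKmul _ _ hx hy') (hKmul _ _ hx' hy)), A1add, A1sl x y' hx,
        A1sl x' y hx']
    have p3 : A1 (y * y' * (ω * ω)) = A1 y * A1 y' * (A1 ω * A1 ω) := by
      rw [A1sl _ (ω * ω) (hKmul _ _ hy hy'), A1sl y y' hy, A1sq]
    have p4 : A1 (x + y * ω) = A1 x + A1 y * A1 ω := by rw [A1add, A1sl y ω hy]
    have p5 : A1 (x' + y' * ω) = A1 x' + A1 y' * A1 ω := by rw [A1add, A1sl y' ω hy']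
    rw [e, A1add, A1add, p1, p2, p3, p4, p5]
    ring
  let σ0 : F →+* F :=
    { toFun := A1, map_one' := A1one, map_mul' := A1mul, map_zero' := A1zero, map_add' := A1add }
  have σinj : Function.Injective σ0 := σ0.injective
  let σ : F ≃+* F := RingEquiv.ofBijective σ0 ⟨σinj, Finite.injective_iff_surjective.mp σinj⟩
  refine ⟨l, σ, hl0, fun a => ?_, fun z hz => ?_⟩
  · show A a = l * A1 a
    exact hAl a
  · show Bk z = l ^ q * l * A1 z
    rw [hBk z hz]
    ring

end Cfsg.Agent.Lib.Helper3.SuAut1
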