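import Mathlib
import Cfsg.Prelude.Def_LieExceptional
import Cfsg.Agent.Lib.Helper3.SzSol3

set_option autoImplicit false
set_option linter.unusedSectionVars false

namespace Cfsg.Agent.Lib.Helper3.SzSol4

open Matrix Cfsg.Agent.Lib.Helper3.Sz1 Cfsg.Agent.Lib.Helper3.Sz2 Cfsg.Agent.Lib.Helper3.Sz3
  Cfsg.Agent.Lib.Helper3.Sz4 Cfsg.Agent.Lib.Helper3.Sz5 Cfsg.Agent.Lib.Helper3.Sz6
  Cfsg.Agent.Lib.Helper3.Sz7 Cfsg.Agent.Lib.Helper3.Sz9 Cfsg.Agent.Lib.Helper3.Sz10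
  Cfsg.Agent.Lib.Helper3.Sz11 Cfsg.Agent.Lib.Helper3.Sz15 Cfsg.Agent.Lib.Helper3.SzR
  Cfsg.Agent.Lib.Helper3.SzFix1 Cfsg.Agent.Lib.Helper3.SzFix2 Cfsg.Agent.Lib.Helper3.SzSub2
  Cfsg.Agent.Lib.Helper3.SzMax1 Cfsg.Agent.Lib.Helper3.SzMax2
  Cfsg.Agent.Lib.Helper14.SzTori Cfsg.Agent.Lib.Helper3.SzSol1 Cfsg.Agent.Lib.Helper3.SzSol2
  Cfsg.Agent.Lib.Helper3.SzSol3

section gen

theorem card_fib_sum {α β : Type*} [Fintype α] [Finite β] (P : α × β → Prop) :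
    Nat.card {e : α × β // P e} = ∑ a : α, Nat.card {b : β // P (a, b)} := by
  rw [← Nat.card_sigma]
  apply Nat.card_congr
  exact
    { toFun := fun e => ⟨e.1.1, ⟨e.1.2, e.2⟩⟩
      invFun := fun s => ⟨(s.1, s.2.1), s.2.2⟩
      left_inv := fun e => rfl
      right_inv := fun s => rfl }

theorem card_fib_const {α β : Type*} [Finite α] [Finite β] (P : α × β → Prop) (c : ℕ)
    (h : ∀ a, Nat.card {b : β // P (a, b)} = c) :
    Nat.card {e : α × β // P e} = Nat.card α * c := by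
  classical
  have : Fintype α := Fintype.ofFinite α
  rw [card_fib_sum, Finset.sum_congr rfl (fun a _ => h a), Finset.sum_const, Finset.card_univ,
    Nat.card_eq_fintype_card, smul_eq_mul]

theorem card_fib_const' {α β : Type*} [Finite α] [Finite β] (P : α × β → Prop) (c : ℕ)
    (h : ∀ b, Nat.card {a : α // P (a, b)} = c) :
    Nat.card {e : α × β // P e} = Nat.card β * c := by
  rw [← card_fib_const (fun e : β × α => P (e.2, e.1)) c h]
  apply Nat.card_congr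
  exact (Equiv.prodComm α β).subtypeEquiv (fun e => Iff.rfl)

theorem card_fib_add {α β β' : Type*} [Finite α] [Finite β] [Finite β'] (P : α × β → Prop)
    (P' : α × β' → Prop) (c : ℕ)
    (h : ∀ a, Nat.card {b : β // P (a, b)} + Nat.card {b' : β' // P' (a, b')} = c) :
    Nat.card {e : α × β // P e} + Nat.card {e : α × β' // P' e} = Nat.card α * c := by
  classical
  have : Fintype α := Fintype.ofFinite α
  rw [card_fib_sum, card_fib_sum, ← Finset.sum_add_distrib,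
    Finset.sum_congr rfl (fun a _ => h a), Finset.sum_const, Finset.card_univ,
    Nat.card_eq_fintype_card, smul_eq_mul]

end gen

variable {F : Type*} [Field F] [Fintype F] {m : ℕ}

/-- elements whose only fixed point is `∞`. -/
def OnlyInf (m : ℕ) (x : ↥(Cfsg.Sz F m)) : Prop :=
  x.1 • Cfsg.suzukiPointInfinity F = Cfsg.suzukiPointInfinity F ∧
  ∀ p ∈ Cfsg.suzukiOvoid F m, x.1 • p = p → p = Cfsg.suzukiPointInfinity F

theorem onlyInf_u (hm : 1 ≤ m) (hF : Fintype.card F = 2 ^ (2 * m + 1)) {a b : F}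
    (hab : ¬ (a = 0 ∧ b = 0)) : OnlyInf m (u hm hF a b) :=
  ⟨T_pInf _ _ _, fun _ hp h => T_fix hm hF hab hp h⟩

theorem sol_U (hm : 1 ≤ m) (hF : Fintype.card F = 2 ^ (2 * m + 1)) (hp : (2 * m + 1).Prime)
    {x : ↥(Cfsg.Sz F m)} (hx : OnlyInf m x) (y : ↥(Cfsg.Sz F m)) :
    Group.IsSolvable ↥(Subgroup.closure ({x, y} : Set ↥(Cfsg.Sz F m))) ↔
      (y.1 • Cfsg.suzukiPointInfinity F = Cfsg.suzukiPointInfinity F ∨
        (y.1 • Cfsg.suzukiPointInfinity F ≠ Cfsg.suzukiPointInfinity F ∧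
          ∃ V : Subgroup ↥(Cfsg.Sz F m), Tor hm hF V ∧
            x ∈ Subgroup.normalizer (V : Set ↥(Cfsg.Sz F m)) ∧
            y ∈ Subgroup.normalizer (V : Set ↥(Cfsg.Sz F m)))) := by
  rw [sol_iff hm hF hp]
  constructor
  · rintro (⟨p, hp', hxp, hyp⟩ | h)
    · left
      rw [hx.2 p hp' hxp] at hyp
      exact hyp
    · by_cases h0 : y.1 • Cfsg.suzukiPointInfinity F = Cfsg.suzukiPointInfinity F
      · exact Or.inl h0
      · exact Or.inr ⟨h0, h⟩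
  · rintro (h | ⟨_, h⟩)
    · exact Or.inl ⟨_, pInf_mem m, hx.1, h⟩
    · exact Or.inr h

/-- a torus normalised by `x` meets the stabiliser of `∞` trivially. -/
theorem tor_inter_B (hm : 1 ≤ m) (hF : Fintype.card F = 2 ^ (2 * m + 1))
    {V : Subgroup ↥(Cfsg.Sz F m)} (hV : Tor hm hF V) {x : ↥(Cfsg.Sz F m)} (hx : OnlyInf m x)
    (hxN : x ∈ Subgroup.normalizer (V : Set ↥(Cfsg.Sz F m))) {w : ↥(Cfsg.Sz F m)} (hw : w ∈ V)
    (hwinf : w.1 • Cfsg.suzukiPointInfinity F = Cfsg.suzukiPointInfinity F) : w = 1 := by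
  by_contra hw1
  rcases hV.el w hw hw1 with ⟨g, k, hk, rfl⟩ | hf
  · rw [← hV.cent _ hw hw1] at hxN
    have hne := gpts_ne g
    rcases Dg_fix hm hF g hk (pInf_mem m) hwinf with h | h
    · rcases Dg_norm hm hF g hk hxN with ⟨a1, a2⟩ | ⟨a1, a2⟩
      · have h3 := hx.2 _ (smul_mem_ovoid g.2 (pZero_mem hm hF)) a2
        exact hne (h.symm.trans h3.symm)
      · rw [← h, hx.1] at a1
        exact hne (h.symm.trans a1)
    · rcases Dg_norm hm hF g hk hxN with ⟨a1, a2⟩ | ⟨a1, a2⟩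
      · have h3 := hx.2 _ (smul_mem_ovoid g.2 (pInf_mem m)) a1
        exact hne (h3.trans h)
      · rw [← h, hx.1] at a2
        exact hne (a2.symm.trans h)
  · exact hf _ (pInf_mem m) hwinf

/-- a `2`-subgroup containing `x` fixes `∞`. -/
theorem pgroup_fix (hm : 1 ≤ m) (hF : Fintype.card F = 2 ^ (2 * m + 1))
    (I : Subgroup ↥(Cfsg.Sz F m)) (h4 : ∀ n ∈ I, n ^ 4 = 1) {x : ↥(Cfsg.Sz F m)}
    (hx : OnlyInf m x) (hxI : x ∈ I) {y : ↥(Cfsg.Sz F m)} (hy : y ∈ I) :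
    y.1 • Cfsg.suzukiPointInfinity F = Cfsg.suzukiPointInfinity F := by
  have hfin : Finite (Matrix.SpecialLinearGroup (Fin 4) F) := finite_SL
  have hp2 : Fact (Nat.Prime 2) := ⟨Nat.prime_two⟩
  have hpg : IsPGroup 2 ↥I := by
    intro g
    refine ⟨2, Subtype.ext ?_⟩
    show g.1 ^ (2 ^ 2) = 1
    exact h4 g.1 g.2
  obtain ⟨P, hP⟩ := hpg.exists_le_sylow
  obtain ⟨γ, hγ⟩ := sylow_conj hm hF P
  have key : ∀ z ∈ I, z.1 • (γ.1 • Cfsg.suzukiPointInfinity F) =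
      γ.1 • Cfsg.suzukiPointInfinity F := by
    intro z hz
    obtain ⟨a, b, hab⟩ := (hγ z).mp (hP hz)
    have e : z = γ * u hm hF a b * γ⁻¹ := by
      rw [← hab]
      group
    rw [e]
    show (γ.1 * T (2 ^ (m + 1)) a b * γ.1⁻¹) • (γ.1 • _) = _
    rw [mul_smul, mul_smul, inv_smul_smul, T_pInf]
  have h1 := hx.2 _ (smul_mem_ovoid γ.2 (pInf_mem m)) (key x hxI)
  have h2 := key y hy
  rw [h1] at h2
  exact h2

theorem two_grp_fix (hm : 1 ≤ m) (hF : Fintype.card F = 2 ^ (2 * m + 1))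
    {V V' : Subgroup ↥(Cfsg.Sz F m)} (hV : Tor hm hF V) (hV' : Tor hm hF V') (hne : V ≠ V')
    {x : ↥(Cfsg.Sz F m)} (hx : OnlyInf m x)
    (hxN : x ∈ Subgroup.normalizer (V : Set ↥(Cfsg.Sz F m)))
    (hxN' : x ∈ Subgroup.normalizer (V' : Set ↥(Cfsg.Sz F m))) {y : ↥(Cfsg.Sz F m)}
    (hyN : y ∈ Subgroup.normalizer (V : Set ↥(Cfsg.Sz F m)))
    (hyN' : y ∈ Subgroup.normalizer (V' : Set ↥(Cfsg.Sz F m))) :
    y.1 • Cfsg.suzukiPointInfinity F = Cfsg.suzukiPointInfinity F :=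
  pgroup_fix hm hF (Subgroup.normalizer (V : Set ↥(Cfsg.Sz F m)) ⊓
      Subgroup.normalizer (V' : Set ↥(Cfsg.Sz F m)))
    (fun _ hn => hV.pow4_inter hV' hne (Subgroup.mem_inf.mp hn).1 (Subgroup.mem_inf.mp hn).2) hx
    (Subgroup.mem_inf.mpr ⟨hxN, hxN'⟩) (Subgroup.mem_inf.mpr ⟨hyN, hyN'⟩)

/-- the normaliser of a fixed-point-free torus is the product of the torus with a subgroup of
order `4` in the stabiliser of `∞`. -/
theorem decomp_fpf (hm : 1 ≤ m) (hF : Fintype.card F = 2 ^ (2 * m + 1)) {v : ↥(Cfsg.Sz F m)}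
    (hv : Fpf v) (S' : Subgroup ↥(Cfsg.Sz F m))
    (hS1 : S' ≤ Subgroup.normalizer ((Subgroup.centralizer ({v} : Set ↥(Cfsg.Sz F m)) :
      Subgroup ↥(Cfsg.Sz F m)) : Set ↥(Cfsg.Sz F m)))
    (hS2 : ∀ s ∈ S', s.1 • Cfsg.suzukiPointInfinity F = Cfsg.suzukiPointInfinity F)
    (hcard : Nat.card ↥S' = 4) :
    ∀ y ∈ Subgroup.normalizer ((Subgroup.centralizer ({v} : Set ↥(Cfsg.Sz F m)) :
      Subgroup ↥(Cfsg.Sz F m)) : Set ↥(Cfsg.Sz F m)),
      ∃ w ∈ Subgroup.centralizer ({v} : Set ↥(Cfsg.Sz F m)), ∃ i ∈ S', y = w * i := by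
  have hfin : Finite (Matrix.SpecialLinearGroup (Fin 4) F) := finite_SL
  obtain ⟨hmain, _, _⟩ := main hm hF
  obtain ⟨_, hcN⟩ := hmain v hv
  unfold cN cA at hcN
  have hmem : ∀ e : ↥(Subgroup.centralizer ({v} : Set ↥(Cfsg.Sz F m))) × ↥S',
      e.1.1 * e.2.1 ∈ Subgroup.normalizer ((Subgroup.centralizer ({v} : Set ↥(Cfsg.Sz F m)) :
        Subgroup ↥(Cfsg.Sz F m)) : Set ↥(Cfsg.Sz F m)) := fun e =>
    Subgroup.mul_mem _ (Subgroup.le_normalizer e.1.2) (hS1 e.2.2)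
  have hinj : Function.Injective (fun e : ↥(Subgroup.centralizer ({v} : Set ↥(Cfsg.Sz F m))) × ↥S' =>
      (⟨_, hmem e⟩ : ↥(Subgroup.normalizer ((Subgroup.centralizer ({v} : Set ↥(Cfsg.Sz F m)) :
        Subgroup ↥(Cfsg.Sz F m)) : Set ↥(Cfsg.Sz F m))))) := by
    rintro ⟨w, i⟩ ⟨w', i'⟩ h
    have h' : w.1 * i.1 = w'.1 * i'.1 := congrArg Subtype.val h
    have e : w'.1⁻¹ * w.1 = i'.1 * i.1⁻¹ := by
      calc w'.1⁻¹ * w.1 = w'.1⁻¹ * (w.1 * i.1) * i.1⁻¹ := by group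
        _ = w'.1⁻¹ * (w'.1 * i'.1) * i.1⁻¹ := by rw [h']
        _ = i'.1 * i.1⁻¹ := by group
    have hc : w'.1⁻¹ * w.1 ∈ Subgroup.centralizer ({v} : Set ↥(Cfsg.Sz F m)) :=
      Subgroup.mul_mem _ (Subgroup.inv_mem _ w'.2) w.2
    have hfixinf : (w'.1⁻¹ * w.1).1 • Cfsg.suzukiPointInfinity F =
        Cfsg.suzukiPointInfinity F := by
      rw [e]
      exact hS2 _ (S'.mul_mem i'.2 (S'.inv_mem i.2))
    have h1 : w'.1⁻¹ * w.1 = 1 := by
      by_contra hne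
      exact fpf_of_mem_cent hm hF hv hc hne _ (pInf_mem m) hfixinf
    have hw : w = w' := Subtype.ext (inv_mul_eq_one.mp h1).symm
    have hi : i = i' := by
      rw [h1] at e
      exact Subtype.ext (mul_inv_eq_one.mp e.symm).symm
    rw [hw, hi]
  have hbij := (Nat.bijective_iff_injective_and_card _).mpr ⟨hinj, by
    rw [Nat.card_prod, hcard, hcN]
    ring⟩
  intro y hy
  obtain ⟨⟨w, i⟩, he⟩ := hbij.2 ⟨y, hy⟩
  have he' : w.1 * i.1 = y := congrArg Subtype.val he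
  exact ⟨w.1, w.2, i.1, i.2, he'.symm⟩

theorem IV_eq (hm : 1 ≤ m) (hF : Fintype.card F = 2 ^ (2 * m + 1)) {v : ↥(Cfsg.Sz F m)}
    (hv : Fpf v) (S' : Subgroup ↥(Cfsg.Sz F m))
    (hS1 : S' ≤ Subgroup.normalizer ((Subgroup.centralizer ({v} : Set ↥(Cfsg.Sz F m)) :
      Subgroup ↥(Cfsg.Sz F m)) : Set ↥(Cfsg.Sz F m)))
    (hS2 : ∀ s ∈ S', s.1 • Cfsg.suzukiPointInfinity F = Cfsg.suzukiPointInfinity F)
    (hcard : Nat.card ↥S' = 4) {n : ↥(Cfsg.Sz F m)}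
    (hn : n ∈ Subgroup.normalizer ((Subgroup.centralizer ({v} : Set ↥(Cfsg.Sz F m)) :
      Subgroup ↥(Cfsg.Sz F m)) : Set ↥(Cfsg.Sz F m)))
    (hninf : n.1 • Cfsg.suzukiPointInfinity F = Cfsg.suzukiPointInfinity F) : n ∈ S' := by
  obtain ⟨w, hw, i, hi, rfl⟩ := decomp_fpf hm hF hv S' hS1 hS2 hcard n hn
  have hwinf : w.1 • Cfsg.suzukiPointInfinity F = Cfsg.suzukiPointInfinity F := by
    have e : (w * i).1 • Cfsg.suzukiPointInfinity F = w.1 • (i.1 • Cfsg.suzukiPointInfinity F) :=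
      mul_smul _ _ _
    rw [e, hS2 i hi] at hninf
    exact hninf
  have hw1 : w = 1 := by
    by_contra hne
    exact fpf_of_mem_cent hm hF hv hw hne _ (pInf_mem m) hwinf
  rw [hw1, one_mul]
  exact hi

/-- a Sylow `2`-subgroup of the normaliser of a fixed-point-free torus containing a given
involution. -/
theorem exists_S (hm : 1 ≤ m) (hF : Fintype.card F = 2 ^ (2 * m + 1)) {v : ↥(Cfsg.Sz F m)}
    (hv : Fpf v) {x : ↥(Cfsg.Sz F m)} (hx : OnlyInf m x) (hx2 : x * x = 1) (hx1 : x ≠ 1)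
    (hxN : x ∈ Subgroup.normalizer ((Subgroup.centralizer ({v} : Set ↥(Cfsg.Sz F m)) :
      Subgroup ↥(Cfsg.Sz F m)) : Set ↥(Cfsg.Sz F m))) :
    ∃ S' : Subgroup ↥(Cfsg.Sz F m),
      S' ≤ Subgroup.normalizer ((Subgroup.centralizer ({v} : Set ↥(Cfsg.Sz F m)) :
        Subgroup ↥(Cfsg.Sz F m)) : Set ↥(Cfsg.Sz F m)) ∧
      (∀ s ∈ S', s.1 • Cfsg.suzukiPointInfinity F = Cfsg.suzukiPointInfinity F) ∧
      Nat.card ↥S' = 4 ∧ x ∈ S' := by
  classical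
  have hfin : Finite (Matrix.SpecialLinearGroup (Fin 4) F) := finite_SL
  have hp2 : Fact (Nat.Prime 2) := ⟨Nat.prime_two⟩
  obtain ⟨hmain, _, _⟩ := main hm hF
  obtain ⟨_, hcN⟩ := hmain v hv
  unfold cN cA at hcN
  have hodd := (tor_of_fpf hm hF hv).odd
  obtain ⟨N, hN⟩ : ∃ N : Subgroup ↥(Cfsg.Sz F m), N = Subgroup.normalizer
      ((Subgroup.centralizer ({v} : Set ↥(Cfsg.Sz F m)) : Subgroup ↥(Cfsg.Sz F m)) :
        Set ↥(Cfsg.Sz F m)) := ⟨_, rfl⟩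
  rw [← hN] at hcN hxN ⊢
  have hpg : IsPGroup 2 ↥(Subgroup.zpowers (⟨x, hxN⟩ : ↥N)) := by
    apply IsPGroup.of_card (n := 1)
    rw [Nat.card_zpowers, pow_one]
    exact orderOf_eq_prime (by rw [pow_two]; exact Subtype.ext hx2)
      (fun h => hx1 (congrArg Subtype.val h))
  obtain ⟨Q, hQ⟩ := hpg.exists_le_sylow
  have hQcard : Nat.card ↥(Q : Subgroup ↥N) = 4 := by
    have h1 := Sylow.card_eq_multiplicity Q
    have hc0 : Nat.card ↥(Subgroup.centralizer ({v} : Set ↥(Cfsg.Sz F m))) ≠ 0 :=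
      Nat.card_pos.ne'
    have hnd : ¬ 2 ∣ Nat.card ↥(Subgroup.centralizer ({v} : Set ↥(Cfsg.Sz F m))) := by
      intro h
      exact (Nat.not_even_iff_odd.mpr hodd) (even_iff_two_dvd.mpr h)
    have hf4 : (Nat.factorization 4) 2 = 2 := by
      have e4 : (4 : ℕ) = 2 ^ 2 := by norm_num
      rw [e4, Nat.Prime.factorization_pow Nat.prime_two, Finsupp.single_eq_same]
    rw [hcN, Nat.factorization_mul (by norm_num) hc0, Finsupp.add_apply, hf4,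
      Nat.factorization_eq_zero_of_not_dvd hnd] at h1
    rw [h1]
    norm_num
  have hxS : x ∈ (Q : Subgroup ↥N).map N.subtype :=
    ⟨⟨x, hxN⟩, hQ (Subgroup.mem_zpowers _), rfl⟩
  refine ⟨(Q : Subgroup ↥N).map N.subtype, ?_, ?_, ?_, hxS⟩
  · rintro _ ⟨q, _, rfl⟩
    exact q.2
  · intro s hs
    apply pgroup_fix hm hF _ ?_ hx hxS hs
    rintro _ ⟨q, hq, rfl⟩
    have h4 : (⟨q, hq⟩ : ↥(Q : Subgroup ↥N)) ^ Nat.card ↥(Q : Subgroup ↥N) = 1 :=
      pow_card_eq_one'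
    rw [hQcard] at h4
    have h4' : q ^ 4 = 1 := congrArg Subtype.val h4
    show (q.1) ^ 4 = 1
    exact congrArg Subtype.val h4'
  · rw [Subgroup.card_map_of_injective (Subgroup.subtype_injective _), hQcard]

end Cfsg.Agent.Lib.Helper3.SzSol4
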