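import Mathlib
import Cfsg.Prelude.Def_LieExceptional
import Cfsg.Agent.Lib.Helper3.SzSol4
import Cfsg.Agent.Lib.Helper3.SzFix3
import Cfsg.Agent.Lib.Helper3.SzMax3

set_option autoImplicit false
set_option linter.unusedSectionVars false

namespace Cfsg.Agent.Lib.Helper3.SzSol5

open Matrix Cfsg.Agent.Lib.Helper3.Sz1 Cfsg.Agent.Lib.Helper3.Sz2 Cfsg.Agent.Lib.Helper3.Sz3
  Cfsg.Agent.Lib.Helper3.Sz4 Cfsg.Agent.Lib.Helper3.Sz5 Cfsg.Agent.Lib.Helper3.Sz6
  Cfsg.Agent.Lib.Helper3.Sz7 Cfsg.Agent.Lib.Helper3.Sz9 Cfsg.Agent.Lib.Helper3.Sz10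
  Cfsg.Agent.Lib.Helper3.Sz11 Cfsg.Agent.Lib.Helper3.Sz15 Cfsg.Agent.Lib.Helper3.SzR
  Cfsg.Agent.Lib.Helper3.SzFix1 Cfsg.Agent.Lib.Helper3.SzFix2 Cfsg.Agent.Lib.Helper3.SzSub2
  Cfsg.Agent.Lib.Helper3.SzMax1 Cfsg.Agent.Lib.Helper3.SzMax2
  Cfsg.Agent.Lib.Helper14.SzTori Cfsg.Agent.Lib.Helper3.SzSol1 Cfsg.Agent.Lib.Helper3.SzSol2
  Cfsg.Agent.Lib.Helper3.SzSol3 Cfsg.Agent.Lib.Helper3.SzSol4

section gen

variable {G : Type*} [Group G]

theorem cent_conj_of_inv {x v : G} (h : x * v * x⁻¹ = v⁻¹) {y : G}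
    (hy : y ∈ Subgroup.centralizer ({v} : Set G)) :
    x * y * x⁻¹ ∈ Subgroup.centralizer ({v} : Set G) := by
  rw [mem_cent_iff] at hy ⊢
  have hA : x⁻¹ * v * x = v⁻¹ := by
    have e : v = x⁻¹ * v⁻¹ * x := by rw [← h]; group
    calc x⁻¹ * v * x = (x⁻¹ * v⁻¹ * x)⁻¹ := by group
      _ = v⁻¹ := by rw [← e]
  have hB : x * v⁻¹ * x⁻¹ = v := by
    calc x * v⁻¹ * x⁻¹ = (x * v * x⁻¹)⁻¹ := by group
      _ = v := by rw [h, inv_inv]
  have hc' : y * v⁻¹ = v⁻¹ * y := by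
    calc y * v⁻¹ = v⁻¹ * (v * y) * v⁻¹ := by group
      _ = v⁻¹ * (y * v) * v⁻¹ := by rw [hy]
      _ = v⁻¹ * y := by group
  calc x * y * x⁻¹ * v = x * (y * (x⁻¹ * v * x)) * x⁻¹ := by group
    _ = x * (y * v⁻¹) * x⁻¹ := by rw [hA]
    _ = x * (v⁻¹ * y) * x⁻¹ := by rw [hc']
    _ = (x * v⁻¹ * x⁻¹) * (x * y * x⁻¹) := by group
    _ = v * (x * y * x⁻¹) := by rw [hB]

theorem norm_of_inv {x v : G} (h : x * v * x⁻¹ = v⁻¹) :
    x ∈ Subgroup.normalizer ((Subgroup.centralizer ({v} : Set G) : Subgroup G) : Set G) := by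
  rw [Subgroup.mem_normalizer_iff]
  intro y
  constructor
  · exact fun hy => cent_conj_of_inv h hy
  · intro hy
    have h' : x⁻¹ * v * x⁻¹⁻¹ = v⁻¹ := by
      have e : v = x⁻¹ * v⁻¹ * x := by rw [← h]; group
      calc x⁻¹ * v * x⁻¹⁻¹ = (x⁻¹ * v⁻¹ * x)⁻¹ := by group
        _ = v⁻¹ := by rw [← e]
    have h2 := cent_conj_of_inv h' hy
    have e2 : x⁻¹ * (x * y * x⁻¹) * x⁻¹⁻¹ = y := by group
    rw [e2] at h2
    exact h2

end gen

variable {F : Type*} [Field F] [Fintype F] {m : ℕ}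

theorem conj_u_fix (hm : 1 ≤ m) (hF : Fintype.card F = 2 ^ (2 * m + 1)) {g : ↥(Cfsg.Sz F m)}
    {a b : F} (hab : ¬ (a = 0 ∧ b = 0)) {p : Projectivization F (Fin 4 → F)}
    (hp : p ∈ Cfsg.suzukiOvoid F m) (hfix : (g * u hm hF a b * g⁻¹).1 • p = p) :
    p = g.1 • Cfsg.suzukiPointInfinity F := by
  have h1 : T (2 ^ (m + 1)) a b • (g.1⁻¹ • p) = g.1⁻¹ • p := by
    have e : (g * u hm hF a b * g⁻¹).1 = g.1 * T (2 ^ (m + 1)) a b * g.1⁻¹ := rfl
    rw [e, mul_smul, mul_smul] at hfix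
    exact (smul_eq_iff_eq_inv_smul _).mp hfix
  have h2 := T_fix hm hF hab (smul_mem_ovoid (inv_mem g.2) hp) h1
  exact inv_smul_eq_iff.mp h2

/-- the product of `x` with an involution moving `∞`. -/
theorem xt_type (hm : 1 ≤ m) (hF : Fintype.card F = 2 ^ (2 * m + 1)) {x : ↥(Cfsg.Sz F m)}
    (hx : OnlyInf m x) (hx2 : x * x = 1) {t : ↥(Cfsg.Sz F m)} (ht2 : t * t = 1)
    (htinf : t.1 • Cfsg.suzukiPointInfinity F ≠ Cfsg.suzukiPointInfinity F) :
    (Dg hm hF (x * t) ∨ Fpf (x * t)) ∧ x * (x * t) * x⁻¹ = (x * t)⁻¹ ∧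
      (x * t).1 • Cfsg.suzukiPointInfinity F ≠ Cfsg.suzukiPointInfinity F := by
  have hxinv : x⁻¹ = x := inv_eq_of_mul_eq_one_left hx2
  have htinv : t⁻¹ = t := inv_eq_of_mul_eq_one_left ht2
  have hinv : x * (x * t) * x⁻¹ = (x * t)⁻¹ := by
    rw [_root_.mul_inv_rev, htinv, hxinv, ← mul_assoc, hx2, one_mul]
  have hvinf : (x * t).1 • Cfsg.suzukiPointInfinity F ≠ Cfsg.suzukiPointInfinity F := by
    intro h
    have e : (x * t).1 • Cfsg.suzukiPointInfinity F =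
        x.1 • (t.1 • Cfsg.suzukiPointInfinity F) := mul_smul _ _ _
    rw [e] at h
    apply htinf
    have h2 := congrArg (fun z => x.1⁻¹ • z) h
    simp only [inv_smul_smul] at h2
    rw [h2, inv_smul_eq_iff, hx.1]
  refine ⟨?_, hinv, hvinf⟩
  have hv1 : x * t ≠ 1 := by
    intro h
    rw [h] at hvinf
    exact hvinf (one_smul _ _)
  rcases tri hm hF (x * t) hv1 with h | ⟨g, a, b, hab, hv⟩ | h
  · exact Or.inl h
  · exfalso
    have hfix : (x * t).1 • (g.1 • Cfsg.suzukiPointInfinity F) =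
        g.1 • Cfsg.suzukiPointInfinity F := by
      rw [hv]
      show (g.1 * T (2 ^ (m + 1)) a b * g.1⁻¹) • (g.1 • _) = _
      rw [mul_smul, mul_smul, inv_smul_smul, T_pInf]
    have hfix2 : (x * t).1 • (x.1 • (g.1 • Cfsg.suzukiPointInfinity F)) =
        x.1 • (g.1 • Cfsg.suzukiPointInfinity F) := by
      have e : x * t * x = x * (x * t)⁻¹ := by
        rw [_root_.mul_inv_rev, htinv, hxinv, mul_assoc]
      have e' : ((x * t) * x).1 • (g.1 • Cfsg.suzukiPointInfinity F) =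
          (x * (x * t)⁻¹).1 • (g.1 • Cfsg.suzukiPointInfinity F) := by rw [e]
      have e1 : ((x * t) * x).1 • (g.1 • Cfsg.suzukiPointInfinity F) =
          (x * t).1 • (x.1 • (g.1 • Cfsg.suzukiPointInfinity F)) := mul_smul _ _ _
      have e2 : (x * (x * t)⁻¹).1 • (g.1 • Cfsg.suzukiPointInfinity F) =
          x.1 • ((x * t).1⁻¹ • (g.1 • Cfsg.suzukiPointInfinity F)) := mul_smul _ _ _
      rw [← e1, e', e2, inv_smul_eq_iff.mpr hfix.symm]
    have h3 : x.1 • (g.1 • Cfsg.suzukiPointInfinity F) = g.1 • Cfsg.suzukiPointInfinity F := by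
      have h9 := hfix2
      rw [hv] at h9
      exact conj_u_fix hm hF hab (smul_mem_ovoid x.2 (smul_mem_ovoid g.2 (pInf_mem m))) h9
    have h4 := hx.2 _ (smul_mem_ovoid g.2 (pInf_mem m)) h3
    rw [h4] at hfix
    exact hvinf hfix
  · exact Or.inr h

theorem tor_xt (hm : 1 ≤ m) (hF : Fintype.card F = 2 ^ (2 * m + 1)) {x : ↥(Cfsg.Sz F m)}
    (hx : OnlyInf m x) (hx2 : x * x = 1) {t : ↥(Cfsg.Sz F m)} (ht2 : t * t = 1)
    (htinf : t.1 • Cfsg.suzukiPointInfinity F ≠ Cfsg.suzukiPointInfinity F) :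
    Tor hm hF (Subgroup.centralizer ({x * t} : Set ↥(Cfsg.Sz F m))) ∧
      x ∈ Subgroup.normalizer ((Subgroup.centralizer ({x * t} : Set ↥(Cfsg.Sz F m)) :
        Subgroup ↥(Cfsg.Sz F m)) : Set ↥(Cfsg.Sz F m)) := by
  obtain ⟨htype, hinv, -⟩ := xt_type hm hF hx hx2 ht2 htinf
  refine ⟨?_, norm_of_inv hinv⟩
  rcases htype with ⟨g, k, hk, hv⟩ | h
  · rw [hv]
    exact tor_of_Dg hm hF g hk
  · exact tor_of_fpf hm hF h

theorem fib_card (hm : 1 ≤ m) (hF : Fintype.card F = 2 ^ (2 * m + 1)) {x : ↥(Cfsg.Sz F m)}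
    (hx : OnlyInf m x) (hx2 : x * x = 1) (hx1 : x ≠ 1) {t : ↥(Cfsg.Sz F m)} (ht2 : t * t = 1)
    (htinf : t.1 • Cfsg.suzukiPointInfinity F ≠ Cfsg.suzukiPointInfinity F) :
    (Fpf (x * t) ∧
      Nat.card {i : ↥(Cfsg.Sz F m) // i ∈ Subgroup.normalizer ((Subgroup.centralizer
        ({x * t} : Set ↥(Cfsg.Sz F m)) : Subgroup ↥(Cfsg.Sz F m)) : Set ↥(Cfsg.Sz F m)) ∧
          i.1 • Cfsg.suzukiPointInfinity F = Cfsg.suzukiPointInfinity F} = 4 ∧
      Nat.card {ab : F × F // (x * t).1 • pt (2 ^ (m + 1)) ab.1 ab.2 =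
        pt (2 ^ (m + 1)) ab.1 ab.2} = 0) ∨
    (¬ Fpf (x * t) ∧
      Nat.card {i : ↥(Cfsg.Sz F m) // i ∈ Subgroup.normalizer ((Subgroup.centralizer
        ({x * t} : Set ↥(Cfsg.Sz F m)) : Subgroup ↥(Cfsg.Sz F m)) : Set ↥(Cfsg.Sz F m)) ∧
          i.1 • Cfsg.suzukiPointInfinity F = Cfsg.suzukiPointInfinity F} = 2 ∧
      Nat.card {ab : F × F // (x * t).1 • pt (2 ^ (m + 1)) ab.1 ab.2 =
        pt (2 ^ (m + 1)) ab.1 ab.2} = 2) := by
  have hfin : Finite (Matrix.SpecialLinearGroup (Fin 4) F) := finite_SL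
  obtain ⟨htype, hinv, hvinf⟩ := xt_type hm hF hx hx2 ht2 htinf
  have hxN := norm_of_inv hinv
  have hxinv : x⁻¹ = x := inv_eq_of_mul_eq_one_left hx2
  rcases htype with ⟨g, k, hk, hv⟩ | hfpf
  · right
    rw [hv] at hxN hvinf ⊢
    have hpI : (g.1 • Cfsg.suzukiPointInfinity F) ∈ Cfsg.suzukiOvoid F m :=
      smul_mem_ovoid g.2 (pInf_mem m)
    have hpZ : (g.1 • Cfsg.suzukiPointZero F) ∈ Cfsg.suzukiOvoid F m :=
      smul_mem_ovoid g.2 (pZero_mem hm hF)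
    have hne := gpts_ne g
    have hfI := Dg_fix_inf hm hF g k
    have hfZ := Dg_fix_zero hm hF g k
    have hI_ne : g.1 • Cfsg.suzukiPointInfinity F ≠ Cfsg.suzukiPointInfinity F := by
      intro h
      rw [h] at hfI
      exact hvinf hfI
    have hZ_ne : g.1 • Cfsg.suzukiPointZero F ≠ Cfsg.suzukiPointInfinity F := by
      intro h
      rw [h] at hfZ
      exact hvinf hfZ
    have hxsw : x.1 • (g.1 • Cfsg.suzukiPointInfinity F) = g.1 • Cfsg.suzukiPointZero F ∧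
        x.1 • (g.1 • Cfsg.suzukiPointZero F) = g.1 • Cfsg.suzukiPointInfinity F := by
      rcases Dg_norm hm hF g hk hxN with ⟨a1, a2⟩ | h
      · exact absurd (hx.2 _ hpI a1) hI_ne
      · exact h
    refine ⟨?_, ?_, ?_⟩
    · intro hf
      exact hf _ hpI hfI
    · rw [Nat.card_eq_two_iff]
      refine ⟨⟨1, Subgroup.one_mem _, one_smul _ _⟩, ⟨x, hxN, hx.1⟩, ?_, ?_⟩
      · intro h
        exact hx1 (congrArg Subtype.val h).symm
      · rw [Set.eq_univ_iff_forall]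
        rintro ⟨i, hiN, hiinf⟩
        rw [Set.mem_insert_iff, Set.mem_singleton_iff]
        rcases Dg_norm hm hF g hk hiN with ⟨a1, a2⟩ | ⟨a1, a2⟩
        · left
          apply Subtype.ext
          show i = 1
          apply Subtype.ext
          exact three_fix hm hF i.2 (pInf_mem m) hpI hpZ (Ne.symm hI_ne) hne (Ne.symm hZ_ne)
            hiinf a1 a2
        · right
          apply Subtype.ext
          show i = x
          have h1 : x * i = 1 := by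
            apply Subtype.ext
            apply three_fix hm hF (x * i).2 (pInf_mem m) hpI hpZ (Ne.symm hI_ne) hne
              (Ne.symm hZ_ne)
            · show (x.1 * i.1) • _ = _
              rw [mul_smul, hiinf, hx.1]
            · show (x.1 * i.1) • _ = _
              rw [mul_smul, a1, hxsw.2]
            · show (x.1 * i.1) • _ = _
              rw [mul_smul, a2, hxsw.1]
          calc i = x⁻¹ * (x * i) := by group
            _ = x := by rw [h1, mul_one, hxinv]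
    · obtain ⟨a1, b1, h1⟩ : ∃ a b, g.1 • Cfsg.suzukiPointInfinity F = pt (2 ^ (m + 1)) a b := by
        rcases ovoid_cases hpI with h | h
        · exact absurd h hI_ne
        · exact h
      obtain ⟨a2, b2, h2⟩ : ∃ a b, g.1 • Cfsg.suzukiPointZero F = pt (2 ^ (m + 1)) a b := by
        rcases ovoid_cases hpZ with h | h
        · exact absurd h hZ_ne
        · exact h
      rw [Nat.card_eq_two_iff]
      refine ⟨⟨(a1, b1), by rw [← h1]; exact hfI⟩, ⟨(a2, b2), by rw [← h2]; exact hfZ⟩, ?_, ?_⟩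
      · intro h
        have h' : ((a1, b1) : F × F) = (a2, b2) := congrArg Subtype.val h
        apply hne
        rw [h1, h2, (Prod.mk.inj h').1, (Prod.mk.inj h').2]
      · rw [Set.eq_univ_iff_forall]
        rintro ⟨⟨a, b⟩, hab⟩
        rw [Set.mem_insert_iff, Set.mem_singleton_iff]
        rcases Dg_fix hm hF g hk (pt_mem m a b) hab with h | h
        · left
          apply Subtype.ext
          show (a, b) = (a1, b1)
          rw [h1] at h
          rw [(pt_inj h).1, (pt_inj h).2]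
        · right
          apply Subtype.ext
          show (a, b) = (a2, b2)
          rw [h2] at h
          rw [(pt_inj h).1, (pt_inj h).2]
  · left
    refine ⟨hfpf, ?_, ?_⟩
    · obtain ⟨S', hS1, hS2, hcard, hxS⟩ := exists_S hm hF hfpf hx hx2 hx1 hxN
      refine Eq.trans ?_ hcard
      apply card1_eq
      intro i
      constructor
      · rintro ⟨hiN, hiinf⟩
        exact IV_eq hm hF hfpf S' hS1 hS2 hcard hiN hiinf
      · intro hi
        exact ⟨hS1 hi, hS2 i hi⟩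
    · rw [Nat.card_eq_zero]
      left
      constructor
      rintro ⟨⟨a, b⟩, hab⟩
      exact hfpf _ (pt_mem m a b) hab

theorem decomp (hm : 1 ≤ m) (hF : Fintype.card F = 2 ^ (2 * m + 1)) {x : ↥(Cfsg.Sz F m)}
    (hx : OnlyInf m x) (hx2 : x * x = 1) (hx1 : x ≠ 1) {V : Subgroup ↥(Cfsg.Sz F m)}
    (hV : Tor hm hF V) (hxN : x ∈ Subgroup.normalizer (V : Set ↥(Cfsg.Sz F m)))
    {y : ↥(Cfsg.Sz F m)} (hyN : y ∈ Subgroup.normalizer (V : Set ↥(Cfsg.Sz F m))) :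
    ∃ w ∈ V, ∃ i ∈ Subgroup.normalizer (V : Set ↥(Cfsg.Sz F m)),
      i.1 • Cfsg.suzukiPointInfinity F = Cfsg.suzukiPointInfinity F ∧ y = w * i := by
  have hxinv : x⁻¹ = x := inv_eq_of_mul_eq_one_left hx2
  obtain ⟨w0, hw0, hw01⟩ := hV.ne
  have hcent := hV.cent w0 hw0 hw01
  rcases hV.el w0 hw0 hw01 with ⟨g, k, hk, hv⟩ | hfpf
  · subst hcent
    subst hv
    have hne := gpts_ne g
    have hxsw : x.1 • (g.1 • Cfsg.suzukiPointInfinity F) = g.1 • Cfsg.suzukiPointZero F ∧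
        x.1 • (g.1 • Cfsg.suzukiPointZero F) = g.1 • Cfsg.suzukiPointInfinity F := by
      rcases Dg_norm hm hF g hk hxN with ⟨a1, a2⟩ | h
      · exfalso
        have b1 := hx.2 _ (smul_mem_ovoid g.2 (pInf_mem m)) a1
        have b2 := hx.2 _ (smul_mem_ovoid g.2 (pZero_mem hm hF)) a2
        exact hne (b1.trans b2.symm)
      · exact h
    rcases Dg_norm hm hF g hk hyN with ⟨a1, a2⟩ | ⟨a1, a2⟩
    · exact ⟨y, Dg_mem_of_fix hm hF g hk a1 a2, 1, Subgroup.one_mem _, one_smul _ _,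
        (mul_one y).symm⟩
    · refine ⟨y * x, Dg_mem_of_fix hm hF g hk ?_ ?_, x, hxN, hx.1, ?_⟩
      · show (y.1 * x.1) • _ = _
        rw [mul_smul, hxsw.1, a2]
      · show (y.1 * x.1) • _ = _
        rw [mul_smul, hxsw.2, a1]
      · rw [mul_assoc, hx2, mul_one]
  · subst hcent
    obtain ⟨S', hS1, hS2, hcard, hxS⟩ := exists_S hm hF hfpf hx hx2 hx1 hxN
    obtain ⟨w, hw, i, hi, rfl⟩ := decomp_fpf hm hF hfpf S' hS1 hS2 hcard y hyN
    exact ⟨w, hw, i, hS1 hi, hS2 i hi, rfl⟩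

theorem card_Y (hm : 1 ≤ m) (hF : Fintype.card F = 2 ^ (2 * m + 1)) {x : ↥(Cfsg.Sz F m)}
    (hx : OnlyInf m x) (hx2 : x * x = 1) (hx1 : x ≠ 1) :
    Nat.card {e : {t : ↥(Cfsg.Sz F m) // t * t = 1 ∧
        t.1 • Cfsg.suzukiPointInfinity F ≠ Cfsg.suzukiPointInfinity F} × ↥(Cfsg.Sz F m) //
      e.2 ∈ Subgroup.normalizer ((Subgroup.centralizer
        ({x * e.1.1} : Set ↥(Cfsg.Sz F m)) : Subgroup ↥(Cfsg.Sz F m)) : Set ↥(Cfsg.Sz F m)) ∧
        e.2.1 • Cfsg.suzukiPointInfinity F = Cfsg.suzukiPointInfinity F} =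
    Nat.card {y : ↥(Cfsg.Sz F m) //
      y.1 • Cfsg.suzukiPointInfinity F ≠ Cfsg.suzukiPointInfinity F ∧
        ∃ V : Subgroup ↥(Cfsg.Sz F m), Tor hm hF V ∧
          x ∈ Subgroup.normalizer (V : Set ↥(Cfsg.Sz F m)) ∧
          y ∈ Subgroup.normalizer (V : Set ↥(Cfsg.Sz F m))} := by
  have hxinv : x⁻¹ = x := inv_eq_of_mul_eq_one_left hx2
  have hmem : ∀ e : {e : {t : ↥(Cfsg.Sz F m) // t * t = 1 ∧
        t.1 • Cfsg.suzukiPointInfinity F ≠ Cfsg.suzukiPointInfinity F} × ↥(Cfsg.Sz F m) //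
      e.2 ∈ Subgroup.normalizer ((Subgroup.centralizer
        ({x * e.1.1} : Set ↥(Cfsg.Sz F m)) : Subgroup ↥(Cfsg.Sz F m)) : Set ↥(Cfsg.Sz F m)) ∧
        e.2.1 • Cfsg.suzukiPointInfinity F = Cfsg.suzukiPointInfinity F},
      (x * e.1.1.1 * e.1.2).1 • Cfsg.suzukiPointInfinity F ≠ Cfsg.suzukiPointInfinity F ∧
        ∃ V : Subgroup ↥(Cfsg.Sz F m), Tor hm hF V ∧
          x ∈ Subgroup.normalizer (V : Set ↥(Cfsg.Sz F m)) ∧
          x * e.1.1.1 * e.1.2 ∈ Subgroup.normalizer (V : Set ↥(Cfsg.Sz F m)) := by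
    rintro ⟨⟨⟨t, ht2, htinf⟩, i⟩, hiN, hiinf⟩
    obtain ⟨-, -, hvinf⟩ := xt_type hm hF hx hx2 ht2 htinf
    obtain ⟨hT, hxN⟩ := tor_xt hm hF hx hx2 ht2 htinf
    refine ⟨?_, _, hT, hxN, Subgroup.mul_mem _ (Subgroup.le_normalizer (self_mem_cent _)) hiN⟩
    show ((x * t).1 * i.1) • _ ≠ _
    rw [mul_smul, hiinf]
    exact hvinf
  apply Nat.card_eq_of_bijective (fun e => ⟨x * e.1.1.1 * e.1.2, hmem e⟩)
  constructor
  · rintro ⟨⟨⟨t, ht2, htinf⟩, i⟩, hiN, hiinf⟩ ⟨⟨⟨t', ht2', htinf'⟩, i'⟩, hiN', hiinf'⟩ h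
    have h' : x * t * i = x * t' * i' := congrArg Subtype.val h
    obtain ⟨-, -, hvinf⟩ := xt_type hm hF hx hx2 ht2 htinf
    obtain ⟨hT, hxN⟩ := tor_xt hm hF hx hx2 ht2 htinf
    obtain ⟨hT', hxN'⟩ := tor_xt hm hF hx hx2 ht2' htinf'
    have hyN : x * t * i ∈ Subgroup.normalizer ((Subgroup.centralizer
        ({x * t} : Set ↥(Cfsg.Sz F m)) : Subgroup ↥(Cfsg.Sz F m)) : Set ↥(Cfsg.Sz F m)) :=
      Subgroup.mul_mem _ (Subgroup.le_normalizer (self_mem_cent _)) hiN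
    have hyN' : x * t * i ∈ Subgroup.normalizer ((Subgroup.centralizer
        ({x * t'} : Set ↥(Cfsg.Sz F m)) : Subgroup ↥(Cfsg.Sz F m)) : Set ↥(Cfsg.Sz F m)) := by
      rw [h']
      exact Subgroup.mul_mem _ (Subgroup.le_normalizer (self_mem_cent _)) hiN'
    have hyinf : (x * t * i).1 • Cfsg.suzukiPointInfinity F ≠ Cfsg.suzukiPointInfinity F := by
      show ((x * t).1 * i.1) • _ ≠ _
      rw [mul_smul, hiinf]
      exact hvinf
    have hVV : Subgroup.centralizer ({x * t} : Set ↥(Cfsg.Sz F m)) =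
        Subgroup.centralizer ({x * t'} : Set ↥(Cfsg.Sz F m)) := by
      by_contra hne
      exact hyinf (two_grp_fix hm hF hT hT' hne hx hxN hxN' hyN hyN')
    have hw : (x * t')⁻¹ * (x * t) = 1 := by
      apply tor_inter_B hm hF hT' hx hxN'
      · exact Subgroup.mul_mem _ (Subgroup.inv_mem _ (self_mem_cent _)) (by
          rw [← hVV]; exact self_mem_cent _)
      · have e : (x * t')⁻¹ * (x * t) = i' * i⁻¹ := by
          calc (x * t')⁻¹ * (x * t) = (x * t')⁻¹ * (x * t * i) * i⁻¹ := by group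
            _ = (x * t')⁻¹ * (x * t' * i') * i⁻¹ := by rw [h']
            _ = i' * i⁻¹ := by group
        rw [e]
        show (i'.1 * i.1⁻¹) • _ = _
        rw [mul_smul, inv_smul_eq_iff.mpr hiinf.symm, hiinf']
    have hxt : x * t = x * t' := (inv_mul_eq_one.mp hw).symm
    have htt : t = t' := mul_left_cancel hxt
    subst htt
    have hii : i = i' := mul_left_cancel h'
    subst hii
    rfl
  · rintro ⟨y, hyinf, V, hV, hxN, hyN⟩
    obtain ⟨w, hw, i, hiN, hiinf, rfl⟩ := decomp hm hF hx hx2 hx1 hV hxN hyN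
    have hw1 : w ≠ 1 := by
      rintro rfl
      apply hyinf
      show ((1 : ↥(Cfsg.Sz F m)).1 * i.1) • _ = _
      rw [mul_smul, hiinf]
      exact one_smul _ _
    have hwinf : w.1 • Cfsg.suzukiPointInfinity F ≠ Cfsg.suzukiPointInfinity F := fun h =>
      hw1 (tor_inter_B hm hF hV hx hxN hw h)
    have hinv := hV.inv hxN hx2 hx1 hw
    have ht2 : (x * w) * (x * w) = 1 := by
      calc (x * w) * (x * w) = (x * w * x⁻¹) * (x * x) * w := by group
        _ = 1 := by rw [hinv, hx2, mul_one, inv_mul_cancel]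
    have htinf : (x * w).1 • Cfsg.suzukiPointInfinity F ≠ Cfsg.suzukiPointInfinity F := by
      intro h
      have e : (x * w).1 • Cfsg.suzukiPointInfinity F =
          x.1 • (w.1 • Cfsg.suzukiPointInfinity F) := mul_smul _ _ _
      rw [e] at h
      apply hwinf
      have h2 := congrArg (fun z => x.1⁻¹ • z) h
      simp only [inv_smul_smul] at h2
      rw [h2, inv_smul_eq_iff, hx.1]
    have hxxw : x * (x * w) = w := by rw [← mul_assoc, hx2, one_mul]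
    refine ⟨⟨(⟨x * w, ht2, htinf⟩, i), ?_, hiinf⟩, ?_⟩
    · show i ∈ Subgroup.normalizer ((Subgroup.centralizer
        ({x * (x * w)} : Set ↥(Cfsg.Sz F m)) : Subgroup ↥(Cfsg.Sz F m)) : Set ↥(Cfsg.Sz F m))
      rw [hxxw, hV.cent w hw hw1]
      exact hiN
    · apply Subtype.ext
      show x * (x * w) * i = w * i
      rw [hxxw]

end Cfsg.Agent.Lib.Helper3.SzSol5
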