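import Mathlib
import Cfsg.Prelude.Def_LieExceptional
import Cfsg.Agent.Lib.Helper3.SzSol5

set_option autoImplicit false
set_option linter.unusedSectionVars false

namespace Cfsg.Agent.Lib.Helper3.SzSol6

open Matrix Cfsg.Agent.Lib.Helper3.Sz1 Cfsg.Agent.Lib.Helper3.Sz2 Cfsg.Agent.Lib.Helper3.Sz3
  Cfsg.Agent.Lib.Helper3.Sz4 Cfsg.Agent.Lib.Helper3.Sz5 Cfsg.Agent.Lib.Helper3.Sz6
  Cfsg.Agent.Lib.Helper3.Sz7 Cfsg.Agent.Lib.Helper3.Sz9 Cfsg.Agent.Lib.Helper3.Sz10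
  Cfsg.Agent.Lib.Helper3.Sz11 Cfsg.Agent.Lib.Helper3.Sz15 Cfsg.Agent.Lib.Helper3.SzR
  Cfsg.Agent.Lib.Helper3.SzFix1 Cfsg.Agent.Lib.Helper3.SzFix2 Cfsg.Agent.Lib.Helper3.SzSub2
  Cfsg.Agent.Lib.Helper3.SzMax1 Cfsg.Agent.Lib.Helper3.SzMax2
  Cfsg.Agent.Lib.Helper14.SzTori Cfsg.Agent.Lib.Helper3.SzSol1 Cfsg.Agent.Lib.Helper3.SzSol2
  Cfsg.Agent.Lib.Helper3.SzSol3 Cfsg.Agent.Lib.Helper3.SzSol4 Cfsg.Agent.Lib.Helper3.SzSol5
  Cfsg.Agent.Lib.Helper3.SzFix3 Cfsg.Agent.Lib.Helper3.SzMax3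

variable {F : Type*} [Field F] [Fintype F] {m : ℕ}

/-- involutions fixing `∞` are central elements of `U`. -/
theorem invol_inf (hm : 1 ≤ m) (hF : Fintype.card F = 2 ^ (2 * m + 1)) {i : ↥(Cfsg.Sz F m)}
    (hi1 : i ≠ 1) (hi2 : i * i = 1)
    (hiinf : i.1 • Cfsg.suzukiPointInfinity F = Cfsg.suzukiPointInfinity F) :
    ∃ β : F, β ≠ 0 ∧ i = u hm hF 0 β := by
  obtain ⟨γ, b, hb, rfl⟩ := inv_conj hm hF i hi1 hi2
  have h1 := conj_u0_fix hm hF hb (pInf_mem m) hiinf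
  have hγ : γ ∈ St m (Cfsg.suzukiPointInfinity F) := h1.symm
  obtain ⟨a, c, k, rfl⟩ := mem_St_inf hm hF hγ
  refine ⟨(k : F) ^ (2 ^ (m + 1) + 2) * b, mul_ne_zero (pow_ne_zero _ k.ne_zero) hb, ?_⟩
  have e : u hm hF a c * DHom hm hF k * u hm hF 0 b * (u hm hF a c * DHom hm hF k)⁻¹ =
      u hm hF a c * (DHom hm hF k * u hm hF 0 b * (DHom hm hF k)⁻¹) * (u hm hF a c)⁻¹ := by
    group
  rw [e, D_u, mul_zero, ← u0_comm, mul_assoc, mul_inv_cancel, mul_one]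

/-- the number of involutions mapping a point to another one. -/
theorem card_Sw (hm : 1 ≤ m) (hF : Fintype.card F = 2 ^ (2 * m + 1))
    {p p' : Projectivization F (Fin 4 → F)} (hp : p ∈ Cfsg.suzukiOvoid F m)
    (hp' : p' ∈ Cfsg.suzukiOvoid F m) (hne : p ≠ p') :
    Nat.card {t : ↥(Cfsg.Sz F m) // t * t = 1 ∧ t.1 • p = p'} = 2 ^ (2 * m + 1) - 1 := by
  classical
  have hs := hyp_of_card hm hF
  obtain ⟨γ0, hγ0, e1, e2⟩ := two_trans hm hF hp hp' hne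
  obtain ⟨γ, hγ⟩ : ∃ γ : ↥(Cfsg.Sz F m), γ = ⟨γ0, hγ0⟩ := ⟨_, rfl⟩
  have e1' : γ.1 • p = Cfsg.suzukiPointInfinity F := by rw [hγ]; exact e1
  have e2' : γ.1 • p' = Cfsg.suzukiPointZero F := by rw [hγ]; exact e2
  have e1i : γ.1⁻¹ • Cfsg.suzukiPointInfinity F = p := inv_smul_eq_iff.mpr e1'.symm
  have e2i : γ.1⁻¹ • Cfsg.suzukiPointZero F = p' := inv_smul_eq_iff.mpr e2'.symm
  have hwD : ∀ k : Fˣ, (wS hm hF * DHom hm hF k) * (wS hm hF * DHom hm hF k) = 1 := by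
    intro k
    calc (wS hm hF * DHom hm hF k) * (wS hm hF * DHom hm hF k)
        = (wS hm hF * DHom hm hF k) * wS hm hF * DHom hm hF k := by group
      _ = (DHom hm hF k⁻¹ * wS hm hF) * wS hm hF * DHom hm hF k := by rw [wS_D]
      _ = DHom hm hF k⁻¹ * (wS hm hF * wS hm hF) * DHom hm hF k := by group
      _ = 1 := by rw [wS_sq, mul_one, ← map_mul, inv_mul_cancel, map_one]
  have hmem : ∀ k : Fˣ, (γ⁻¹ * (wS hm hF * DHom hm hF k) * γ) *
      (γ⁻¹ * (wS hm hF * DHom hm hF k) * γ) = 1 ∧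
      (γ⁻¹ * (wS hm hF * DHom hm hF k) * γ).1 • p = p' := by
    intro k
    constructor
    · calc (γ⁻¹ * (wS hm hF * DHom hm hF k) * γ) * (γ⁻¹ * (wS hm hF * DHom hm hF k) * γ)
          = γ⁻¹ * ((wS hm hF * DHom hm hF k) * (wS hm hF * DHom hm hF k)) * γ := by group
        _ = 1 := by rw [hwD]; group
    · show (γ.1⁻¹ * (W hs * D (2 ^ (m + 1)) k) * γ.1) • p = p'
      rw [mul_smul, mul_smul, mul_smul, e1', D_pInf, W_pInf, e2i]
  have hcard : Nat.card Fˣ = 2 ^ (2 * m + 1) - 1 := by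
    rw [Nat.card_eq_fintype_card, Fintype.card_units, hF]
  rw [← hcard]
  symm
  apply Nat.card_eq_of_bijective (fun k : Fˣ =>
    (⟨_, hmem k⟩ : {t : ↥(Cfsg.Sz F m) // t * t = 1 ∧ t.1 • p = p'}))
  constructor
  · intro k k' h
    have h' : γ⁻¹ * (wS hm hF * DHom hm hF k) * γ = γ⁻¹ * (wS hm hF * DHom hm hF k') * γ :=
      congrArg Subtype.val h
    exact DHom_inj hm hF (mul_left_cancel (mul_left_cancel (mul_right_cancel h')))
  · rintro ⟨t, ht2, htp⟩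
    have h1 : (wS hm hF * (γ * t * γ⁻¹)).1 • Cfsg.suzukiPointInfinity F =
        Cfsg.suzukiPointInfinity F := by
      show (W hs * (γ.1 * t.1 * γ.1⁻¹)) • _ = _
      rw [mul_smul, mul_smul, mul_smul, e1i, htp, e2', W_pZero]
    have htp' : t.1 • p' = p := by
      have e : t.1 • (t.1 • p) = p := by
        rw [← mul_smul]
        have h9 : t.1 * t.1 = 1 := congrArg Subtype.val ht2
        rw [h9, one_smul]
      rw [htp] at e
      exact e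
    have h2 : (wS hm hF * (γ * t * γ⁻¹)).1 • Cfsg.suzukiPointZero F =
        Cfsg.suzukiPointZero F := by
      show (W hs * (γ.1 * t.1 * γ.1⁻¹)) • _ = _
      rw [mul_smul, mul_smul, mul_smul, e2i, htp', e1', W_pInf]
    obtain ⟨k, hk⟩ := stab_two hm hF (wS hm hF * (γ * t * γ⁻¹)).2 h1 h2
    have hk' : wS hm hF * (γ * t * γ⁻¹) = DHom hm hF k := Subtype.ext hk
    refine ⟨k, Subtype.ext ?_⟩
    show γ⁻¹ * (wS hm hF * DHom hm hF k) * γ = t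
    have e : γ⁻¹ * (wS hm hF * (wS hm hF * (γ * t * γ⁻¹))) * γ =
        γ⁻¹ * ((wS hm hF * wS hm hF) * (γ * t * γ⁻¹)) * γ := by group
    rw [← hk', e, wS_sq]
    group

/-- the number of involutions moving `∞`. -/
theorem card_T (hm : 1 ≤ m) (hF : Fintype.card F = 2 ^ (2 * m + 1)) :
    Nat.card {t : ↥(Cfsg.Sz F m) // t * t = 1 ∧
      t.1 • Cfsg.suzukiPointInfinity F ≠ Cfsg.suzukiPointInfinity F} =
      (2 ^ (2 * m + 1)) ^ 2 * (2 ^ (2 * m + 1) - 1) := by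
  have hfin : Finite (Matrix.SpecialLinearGroup (Fin 4) F) := finite_SL
  have hFF : Nat.card (F × F) = 2 ^ (2 * m + 1) * 2 ^ (2 * m + 1) := by
    rw [Nat.card_prod, Nat.card_eq_fintype_card, hF]
  have h1 := card_fib_const' (fun e : ↥(Cfsg.Sz F m) × (F × F) =>
      e.1 * e.1 = 1 ∧ e.1.1 • Cfsg.suzukiPointInfinity F = pt (2 ^ (m + 1)) e.2.1 e.2.2)
    (2 ^ (2 * m + 1) - 1)
    (fun ab => card_Sw hm hF (pInf_mem m) (pt_mem m ab.1 ab.2) (pt_ne_inf _ _ _).symm)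
  rw [hFF] at h1
  rw [pow_two, ← h1]
  symm
  apply Nat.card_eq_of_bijective (fun e : {e : ↥(Cfsg.Sz F m) × (F × F) //
      e.1 * e.1 = 1 ∧ e.1.1 • Cfsg.suzukiPointInfinity F = pt (2 ^ (m + 1)) e.2.1 e.2.2} =>
    (⟨e.1.1, e.2.1, by rw [e.2.2]; exact pt_ne_inf _ _ _⟩ :
      {t : ↥(Cfsg.Sz F m) // t * t = 1 ∧
        t.1 • Cfsg.suzukiPointInfinity F ≠ Cfsg.suzukiPointInfinity F}))
  constructor
  · rintro ⟨⟨t, a, b⟩, ht2, htp⟩ ⟨⟨t', a', b'⟩, ht2', htp'⟩ h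
    have h' : t = t' := congrArg Subtype.val h
    subst h'
    have h2 : pt (2 ^ (m + 1)) a b = pt (2 ^ (m + 1)) a' b' := htp.symm.trans htp'
    obtain ⟨rfl, rfl⟩ := pt_inj h2
    rfl
  · rintro ⟨t, ht2, htinf⟩
    rcases ovoid_cases (smul_mem_ovoid t.2 (pInf_mem m)) with h | ⟨a, b, h⟩
    · exact absurd h htinf
    · exact ⟨⟨(t, (a, b)), ht2, h⟩, rfl⟩

theorem card_E (hm : 1 ≤ m) (hF : Fintype.card F = 2 ^ (2 * m + 1)) {x : ↥(Cfsg.Sz F m)}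
    (hx : OnlyInf m x) (hx2 : x * x = 1) (hx1 : x ≠ 1) :
    Nat.card {e : {t : ↥(Cfsg.Sz F m) // t * t = 1 ∧
        t.1 • Cfsg.suzukiPointInfinity F ≠ Cfsg.suzukiPointInfinity F} × (F × F) //
      (x * e.1.1).1 • pt (2 ^ (m + 1)) e.2.1 e.2.2 = pt (2 ^ (m + 1)) e.2.1 e.2.2} =
      (2 ^ (2 * m + 1)) ^ 2 * (2 ^ (2 * m + 1) - 2) := by
  have hfin : Finite (Matrix.SpecialLinearGroup (Fin 4) F) := finite_SL
  have hxinv : x⁻¹ = x := inv_eq_of_mul_eq_one_left hx2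
  have hFF : Nat.card (F × F) = 2 ^ (2 * m + 1) * 2 ^ (2 * m + 1) := by
    rw [Nat.card_prod, Nat.card_eq_fintype_card, hF]
  rw [card_fib_const' _ (2 ^ (2 * m + 1) - 2), hFF, pow_two]
  rintro ⟨a, b⟩
  have hpx : x.1 • pt (2 ^ (m + 1)) a b ≠ pt (2 ^ (m + 1)) a b := fun h =>
    pt_ne_inf _ _ _ (hx.2 _ (pt_mem m a b) h)
  have hSw := card_Sw hm hF (pt_mem m a b) (smul_mem_ovoid x.2 (pt_mem m a b)) hpx.symm
  have hsplit := card2_eq
    (fun t : ↥(Cfsg.Sz F m) => (t * t = 1 ∧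
      t.1 • Cfsg.suzukiPointInfinity F ≠ Cfsg.suzukiPointInfinity F) ∧
      (x * t).1 • pt (2 ^ (m + 1)) a b = pt (2 ^ (m + 1)) a b)
    (fun t : ↥(Cfsg.Sz F m) => t = x)
    (fun t : ↥(Cfsg.Sz F m) => t * t = 1 ∧
      t.1 • pt (2 ^ (m + 1)) a b = x.1 • pt (2 ^ (m + 1)) a b)
    (fun t h => ⟨h.1.1, by
      have e : (x * t).1 • pt (2 ^ (m + 1)) a b = x.1 • (t.1 • pt (2 ^ (m + 1)) a b) :=
        mul_smul _ _ _
      have h2 := h.2
      rw [e] at h2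
      have h3 := congrArg (fun z => x.1⁻¹ • z) h2
      simp only [inv_smul_smul] at h3
      rw [h3]
      have h9 : x.1⁻¹ = x.1 := congrArg Subtype.val hxinv
      rw [h9]⟩)
    (fun t h => by rw [h]; exact ⟨hx2, rfl⟩)
    (fun t h h' => h.1.2 (by rw [h']; exact hx.1))
    (fun t h => by
      by_cases htx : t = x
      · exact Or.inr htx
      · left
        have hfix : (x * t).1 • pt (2 ^ (m + 1)) a b = pt (2 ^ (m + 1)) a b := by
          have e : (x * t).1 • pt (2 ^ (m + 1)) a b = x.1 • (t.1 • pt (2 ^ (m + 1)) a b) :=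
            mul_smul _ _ _
          rw [e, h.2, ← mul_smul]
          have h9 : x.1 * x.1 = 1 := congrArg Subtype.val hx2
          rw [h9, one_smul]
        refine ⟨⟨h.1, ?_⟩, hfix⟩
        intro htinf
        have ht1 : t ≠ 1 := by
          rintro rfl
          apply hpx
          have h9 := h.2
          rw [show ((1 : ↥(Cfsg.Sz F m)).1) = 1 from rfl, one_smul] at h9
          exact h9.symm
        obtain ⟨β, hβ, rfl⟩ := invol_inf hm hF ht1 h.1 htinf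
        obtain ⟨β', hβ', rfl⟩ := invol_inf hm hF hx1 hx2 hx.1
        rw [u0_mul] at hfix
        have h5 := T_fix hm hF (a := 0) (b := β + β') ?_ (pt_mem m a b) hfix
        · exact pt_ne_inf _ _ _ h5
        · rintro ⟨-, h6⟩
          apply htx
          have h7 : β = β' := by
            have hs := hyp_of_card hm hF
            linear_combination h6 - β' * hs.two
          rw [h7])
  have hx' : Nat.card {t : ↥(Cfsg.Sz F m) // t = x} = 1 := by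
    rw [Nat.card_eq_one_iff_unique]
    exact ⟨⟨fun a b => Subtype.ext (a.2.trans b.2.symm)⟩, ⟨⟨x, rfl⟩⟩⟩
  rw [hx', hSw] at hsplit
  have hnest := Nat.card_congr (Equiv.subtypeSubtypeEquivSubtypeInter
    (fun t : ↥(Cfsg.Sz F m) => t * t = 1 ∧
      t.1 • Cfsg.suzukiPointInfinity F ≠ Cfsg.suzukiPointInfinity F)
    (fun t : ↥(Cfsg.Sz F m) => (x * t).1 • pt (2 ^ (m + 1)) a b = pt (2 ^ (m + 1)) a b))
  refine Eq.trans hnest ?_
  omega

/-- the solubilizer of an involution. -/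
theorem solC_invol (hm : 1 ≤ m) (hF : Fintype.card F = 2 ^ (2 * m + 1)) (hp : (2 * m + 1).Prime)
    {x : ↥(Cfsg.Sz F m)} (hx : OnlyInf m x) (hx2 : x * x = 1) (hx1 : x ≠ 1) :
    solC x = (2 ^ (2 * m + 1)) ^ 2 * (4 * 2 ^ (2 * m + 1) - 3) := by
  have hfin : Finite (Matrix.SpecialLinearGroup (Fin 4) F) := finite_SL
  have hB := card_B hm hF (F := F)
  have hsplit := card2_eq
    (fun y : ↥(Cfsg.Sz F m) => y.1 • Cfsg.suzukiPointInfinity F = Cfsg.suzukiPointInfinity F)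
    (fun y : ↥(Cfsg.Sz F m) => y.1 • Cfsg.suzukiPointInfinity F ≠ Cfsg.suzukiPointInfinity F ∧
      ∃ V : Subgroup ↥(Cfsg.Sz F m), Tor hm hF V ∧
        x ∈ Subgroup.normalizer (V : Set ↥(Cfsg.Sz F m)) ∧
        y ∈ Subgroup.normalizer (V : Set ↥(Cfsg.Sz F m)))
    (fun y : ↥(Cfsg.Sz F m) =>
      Group.IsSolvable ↥(Subgroup.closure ({x, y} : Set ↥(Cfsg.Sz F m))))
    (fun y h => (sol_U hm hF hp hx y).mpr (Or.inl h))
    (fun y h => (sol_U hm hF hp hx y).mpr (Or.inr h))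
    (fun y h h' => h'.1 h)
    (fun y h => (sol_U hm hF hp hx y).mp h)
  have hY := card_Y hm hF hx hx2 hx1
  have hE := card_E hm hF hx hx2 hx1
  have hT := card_T hm hF (F := F)
  have hadd := card_fib_add
    (fun e : {t : ↥(Cfsg.Sz F m) // t * t = 1 ∧
        t.1 • Cfsg.suzukiPointInfinity F ≠ Cfsg.suzukiPointInfinity F} × ↥(Cfsg.Sz F m) =>
      e.2 ∈ Subgroup.normalizer ((Subgroup.centralizer
        ({x * e.1.1} : Set ↥(Cfsg.Sz F m)) : Subgroup ↥(Cfsg.Sz F m)) : Set ↥(Cfsg.Sz F m)) ∧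
        e.2.1 • Cfsg.suzukiPointInfinity F = Cfsg.suzukiPointInfinity F)
    (fun e : {t : ↥(Cfsg.Sz F m) // t * t = 1 ∧
        t.1 • Cfsg.suzukiPointInfinity F ≠ Cfsg.suzukiPointInfinity F} × (F × F) =>
      (x * e.1.1).1 • pt (2 ^ (m + 1)) e.2.1 e.2.2 = pt (2 ^ (m + 1)) e.2.1 e.2.2) 4
    (fun t => by
      rcases fib_card hm hF hx hx2 hx1 t.2.1 t.2.2 with ⟨-, h1, h2⟩ | ⟨-, h1, h2⟩
      · exact (congrArg₂ (fun a b : ℕ => a + b) h1 h2 : _)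
      · exact (congrArg₂ (fun a b : ℕ => a + b) h1 h2 : _))
  rw [hT, hE] at hadd
  unfold solC
  rw [← hsplit, hB, ← hY]
  have h8 : 8 ≤ 2 ^ (2 * m + 1) := by
    have h9 : 2 ^ 3 ≤ 2 ^ (2 * m + 1) := Nat.pow_le_pow_right (by norm_num) (by omega)
    omega
  obtain ⟨Q, hQ⟩ : ∃ Q, 2 ^ (2 * m + 1) = Q + 2 := ⟨2 ^ (2 * m + 1) - 2, by omega⟩
  rw [hQ] at hadd ⊢
  have e1 : Q + 2 - 1 = Q + 1 := by omega
  have e2 : Q + 2 - 2 = Q := by omega
  have e3 : 4 * (Q + 2) - 3 = 4 * Q + 5 := by omega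
  rw [e1, e2] at hadd
  rw [e1, e3]
  nlinarith [hadd]

/-- the number of involutions `t` moving `∞` such that `x * t` is fixed-point-free. -/
theorem card_Tfpf (hm : 1 ≤ m) (hF : Fintype.card F = 2 ^ (2 * m + 1)) {x : ↥(Cfsg.Sz F m)}
    (hx : OnlyInf m x) (hx2 : x * x = 1) (hx1 : x ≠ 1) :
    2 * Nat.card {t : {t : ↥(Cfsg.Sz F m) // t * t = 1 ∧
        t.1 • Cfsg.suzukiPointInfinity F ≠ Cfsg.suzukiPointInfinity F} // Fpf (x * t.1)} =
      (2 ^ (2 * m + 1)) ^ 3 := by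
  have hfin : Finite (Matrix.SpecialLinearGroup (Fin 4) F) := finite_SL
  have hE := card_E hm hF hx hx2 hx1
  have hT := card_T hm hF (F := F)
  have hadd := card_fib_add
    (fun e : {t : ↥(Cfsg.Sz F m) // t * t = 1 ∧
        t.1 • Cfsg.suzukiPointInfinity F ≠ Cfsg.suzukiPointInfinity F} × (F × F) =>
      (x * e.1.1).1 • pt (2 ^ (m + 1)) e.2.1 e.2.2 = pt (2 ^ (m + 1)) e.2.1 e.2.2)
    (fun e : {t : ↥(Cfsg.Sz F m) // t * t = 1 ∧
        t.1 • Cfsg.suzukiPointInfinity F ≠ Cfsg.suzukiPointInfinity F} × Fin 2 =>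
      Fpf (x * e.1.1)) 2
    (fun t => by
      rcases fib_card hm hF hx hx2 hx1 t.2.1 t.2.2 with ⟨hf, -, h2⟩ | ⟨hf, -, h2⟩
      · have h3 : Nat.card {j : Fin 2 // Fpf (x * t.1)} = 2 := by
          rw [Nat.card_congr (Equiv.subtypeUnivEquiv (fun _ => hf)), Nat.card_fin]
        exact (congrArg₂ (fun a b : ℕ => a + b) h2 h3 : _)
      · have h3 : Nat.card {j : Fin 2 // Fpf (x * t.1)} = 0 := by
          rw [Nat.card_eq_zero]
          left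
          exact ⟨fun j => hf j.2⟩
        exact (congrArg₂ (fun a b : ℕ => a + b) h2 h3 : _))
  have hconst := card_fib_const'
    (fun e : {t : ↥(Cfsg.Sz F m) // t * t = 1 ∧
        t.1 • Cfsg.suzukiPointInfinity F ≠ Cfsg.suzukiPointInfinity F} × Fin 2 =>
      Fpf (x * e.1.1))
    (Nat.card {t : {t : ↥(Cfsg.Sz F m) // t * t = 1 ∧
        t.1 • Cfsg.suzukiPointInfinity F ≠ Cfsg.suzukiPointInfinity F} // Fpf (x * t.1)})
    (fun j => rfl)
  rw [hconst, hE, hT, Nat.card_fin] at hadd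
  have h8 : 8 ≤ 2 ^ (2 * m + 1) := by
    have h9 : 2 ^ 3 ≤ 2 ^ (2 * m + 1) := Nat.pow_le_pow_right (by norm_num) (by omega)
    omega
  obtain ⟨Q, hQ⟩ : ∃ Q, 2 ^ (2 * m + 1) = Q + 2 := ⟨2 ^ (2 * m + 1) - 2, by omega⟩
  rw [hQ] at hadd ⊢
  have e1 : Q + 2 - 1 = Q + 1 := by omega
  have e2 : Q + 2 - 2 = Q := by omega
  rw [e1, e2] at hadd
  nlinarith [hadd]

end Cfsg.Agent.Lib.Helper3.SzSol6
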