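import Mathlib
import Cfsg.Prelude.Def_LieExceptional
import Cfsg.Agent.Lib.Helper3.SzSol6

set_option autoImplicit false
set_option linter.unusedSectionVars false

namespace Cfsg.Agent.Lib.Helper3.SzSol7

open Matrix Cfsg.Agent.Lib.Helper3.Sz1 Cfsg.Agent.Lib.Helper3.Sz2 Cfsg.Agent.Lib.Helper3.Sz3
  Cfsg.Agent.Lib.Helper3.Sz4 Cfsg.Agent.Lib.Helper3.Sz5 Cfsg.Agent.Lib.Helper3.Sz6
  Cfsg.Agent.Lib.Helper3.Sz7 Cfsg.Agent.Lib.Helper3.Sz9 Cfsg.Agent.Lib.Helper3.Sz10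
  Cfsg.Agent.Lib.Helper3.Sz11 Cfsg.Agent.Lib.Helper3.Sz15 Cfsg.Agent.Lib.Helper3.SzR
  Cfsg.Agent.Lib.Helper3.SzFix1 Cfsg.Agent.Lib.Helper3.SzFix2 Cfsg.Agent.Lib.Helper3.SzSub2
  Cfsg.Agent.Lib.Helper3.SzMax1 Cfsg.Agent.Lib.Helper3.SzMax2
  Cfsg.Agent.Lib.Helper14.SzTori Cfsg.Agent.Lib.Helper3.SzSol1 Cfsg.Agent.Lib.Helper3.SzSol2
  Cfsg.Agent.Lib.Helper3.SzSol3 Cfsg.Agent.Lib.Helper3.SzSol4 Cfsg.Agent.Lib.Helper3.SzSol5
  Cfsg.Agent.Lib.Helper3.SzFix3 Cfsg.Agent.Lib.Helper3.SzMax3 Cfsg.Agent.Lib.Helper3.SzSol6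

theorem pow4_eq {G : Type*} [Monoid G] (c : G) : c ^ 4 = (c * c) * (c * c) := by
  rw [show (4 : ℕ) = 2 + 2 from rfl, pow_add, pow_two]

variable {F : Type*} [Field F] [Fintype F] {m : ℕ}

/-- tori normalised by an element of order `4` consist of fixed-point-free elements. -/
theorem fpf_of_norm4 (hm : 1 ≤ m) (hF : Fintype.card F = 2 ^ (2 * m + 1)) {a b : F} (ha : a ≠ 0)
    {V : Subgroup ↥(Cfsg.Sz F m)} (hV : Tor hm hF V)
    (hxN : u hm hF a b ∈ Subgroup.normalizer (V : Set ↥(Cfsg.Sz F m))) {w : ↥(Cfsg.Sz F m)}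
    (hw : w ∈ V) (hw1 : w ≠ 1) : Fpf w := by
  rcases hV.el w hw hw1 with ⟨g, k, hk, hv⟩ | h
  · exfalso
    have hcent := hV.cent w hw hw1
    subst hcent
    subst hv
    have hz0 : a ^ (2 ^ (m + 1)) * a ≠ 0 := mul_ne_zero (pow_ne_zero _ ha) ha
    have hzO : OnlyInf m (u hm hF 0 (a ^ (2 ^ (m + 1)) * a)) :=
      onlyInf_u hm hF (fun h => hz0 h.2)
    have hsq : ∀ P : Projectivization F (Fin 4 → F),
        (u hm hF 0 (a ^ (2 ^ (m + 1)) * a)).1 • P =
          (u hm hF a b).1 • ((u hm hF a b).1 • P) := by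
      intro P
      rw [← u_sq' hm hF a b]
      exact mul_smul _ _ _
    have h1 : (u hm hF 0 (a ^ (2 ^ (m + 1)) * a)).1 • (g.1 • Cfsg.suzukiPointInfinity F) =
        g.1 • Cfsg.suzukiPointInfinity F := by
      rw [hsq]
      rcases Dg_norm hm hF g hk hxN with ⟨a1, a2⟩ | ⟨a1, a2⟩
      · rw [a1, a1]
      · rw [a1, a2]
    have h2 : (u hm hF 0 (a ^ (2 ^ (m + 1)) * a)).1 • (g.1 • Cfsg.suzukiPointZero F) =
        g.1 • Cfsg.suzukiPointZero F := by
      rw [hsq]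
      rcases Dg_norm hm hF g hk hxN with ⟨a1, a2⟩ | ⟨a1, a2⟩
      · rw [a2, a2]
      · rw [a2, a1]
    exact gpts_ne g ((hzO.2 _ (smul_mem_ovoid g.2 (pInf_mem m)) h1).trans
      (hzO.2 _ (smul_mem_ovoid g.2 (pZero_mem hm hF)) h2).symm)
  · exact h

theorem zp_facts (hm : 1 ≤ m) (hF : Fintype.card F = 2 ^ (2 * m + 1)) {a : F} (ha : a ≠ 0)
    (b : F) :
    Nat.card ↥(Subgroup.zpowers (u hm hF a b)) = 4 ∧
    ∀ s ∈ Subgroup.zpowers (u hm hF a b),
      s.1 • Cfsg.suzukiPointInfinity F = Cfsg.suzukiPointInfinity F := by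
  have hp2 : Fact (Nat.Prime 2) := ⟨Nat.prime_two⟩
  constructor
  · rw [Nat.card_zpowers]
    have h1 : ¬ (u hm hF a b) ^ 2 ^ 1 = 1 := by
      rw [pow_one, pow_two, u_sq']
      intro h
      exact mul_ne_zero (pow_ne_zero _ ha) ha (u_eq_one hm hF h).2
    have h4 : u hm hF a b ^ 4 = 1 := Subtype.ext (T_pow4 hm hF a b)
    have h2 : (u hm hF a b) ^ 2 ^ (1 + 1) = 1 := h4
    exact (orderOf_eq_prime_pow h1 h2).trans (by norm_num)
  · intro s hs
    have hle : Subgroup.zpowers (u hm hF a b) ≤ St m (Cfsg.suzukiPointInfinity F) := by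
      rw [Subgroup.zpowers_le]
      exact T_pInf _ _ _
    exact hle hs

theorem card_Y4 (hm : 1 ≤ m) (hF : Fintype.card F = 2 ^ (2 * m + 1)) {a : F} (ha : a ≠ 0)
    (b : F) :
    Nat.card {y : ↥(Cfsg.Sz F m) //
      y.1 • Cfsg.suzukiPointInfinity F ≠ Cfsg.suzukiPointInfinity F ∧
        ∃ V : Subgroup ↥(Cfsg.Sz F m), Tor hm hF V ∧
          u hm hF a b ∈ Subgroup.normalizer (V : Set ↥(Cfsg.Sz F m)) ∧
          y ∈ Subgroup.normalizer (V : Set ↥(Cfsg.Sz F m))} =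
    Nat.card {w : ↥(Cfsg.Sz F m) // Fpf w ∧ u hm hF a b ∈ Subgroup.normalizer
      ((Subgroup.centralizer ({w} : Set ↥(Cfsg.Sz F m)) : Subgroup ↥(Cfsg.Sz F m)) :
        Set ↥(Cfsg.Sz F m))} * 4 := by
  have hfin : Finite (Matrix.SpecialLinearGroup (Fin 4) F) := finite_SL
  obtain ⟨hc4, hfixS⟩ := zp_facts hm hF ha b
  have hxO : OnlyInf m (u hm hF a b) := onlyInf_u hm hF (fun h => ha h.1)
  have hmem : ∀ e : {w : ↥(Cfsg.Sz F m) // Fpf w ∧ u hm hF a b ∈ Subgroup.normalizer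
      ((Subgroup.centralizer ({w} : Set ↥(Cfsg.Sz F m)) : Subgroup ↥(Cfsg.Sz F m)) :
        Set ↥(Cfsg.Sz F m))} × ↥(Subgroup.zpowers (u hm hF a b)),
      (e.1.1 * e.2.1).1 • Cfsg.suzukiPointInfinity F ≠ Cfsg.suzukiPointInfinity F ∧
        ∃ V : Subgroup ↥(Cfsg.Sz F m), Tor hm hF V ∧
          u hm hF a b ∈ Subgroup.normalizer (V : Set ↥(Cfsg.Sz F m)) ∧
          e.1.1 * e.2.1 ∈ Subgroup.normalizer (V : Set ↥(Cfsg.Sz F m)) := by
    rintro ⟨⟨w, hwf, hxN⟩, ⟨s, hs⟩⟩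
    refine ⟨?_, _, tor_of_fpf hm hF hwf, hxN,
      Subgroup.mul_mem _ (Subgroup.le_normalizer (self_mem_cent _))
        (Subgroup.zpowers_le.mpr hxN hs)⟩
    show (w.1 * s.1) • _ ≠ _
    rw [mul_smul, hfixS s hs]
    exact hwf _ (pInf_mem m)
  have key : Nat.card ({w : ↥(Cfsg.Sz F m) // Fpf w ∧ u hm hF a b ∈ Subgroup.normalizer
      ((Subgroup.centralizer ({w} : Set ↥(Cfsg.Sz F m)) : Subgroup ↥(Cfsg.Sz F m)) :
        Set ↥(Cfsg.Sz F m))} × ↥(Subgroup.zpowers (u hm hF a b))) =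
      Nat.card {y : ↥(Cfsg.Sz F m) //
        y.1 • Cfsg.suzukiPointInfinity F ≠ Cfsg.suzukiPointInfinity F ∧
          ∃ V : Subgroup ↥(Cfsg.Sz F m), Tor hm hF V ∧
            u hm hF a b ∈ Subgroup.normalizer (V : Set ↥(Cfsg.Sz F m)) ∧
            y ∈ Subgroup.normalizer (V : Set ↥(Cfsg.Sz F m))} := by
    apply Nat.card_eq_of_bijective (fun e => ⟨e.1.1 * e.2.1, hmem e⟩)
    constructor
    · rintro ⟨⟨w, hwf, hxN⟩, ⟨s, hs⟩⟩ ⟨⟨w', hwf', hxN'⟩, ⟨s', hs'⟩⟩ h
      have h' : w * s = w' * s' := congrArg Subtype.val h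
      have hT := tor_of_fpf hm hF hwf
      have hT' := tor_of_fpf hm hF hwf'
      have hsN := Subgroup.zpowers_le.mpr hxN hs
      have hsN' := Subgroup.zpowers_le.mpr hxN' hs'
      have hyN : w * s ∈ Subgroup.normalizer ((Subgroup.centralizer
          ({w} : Set ↥(Cfsg.Sz F m)) : Subgroup ↥(Cfsg.Sz F m)) : Set ↥(Cfsg.Sz F m)) :=
        Subgroup.mul_mem _ (Subgroup.le_normalizer (self_mem_cent _)) hsN
      have hyN' : w * s ∈ Subgroup.normalizer ((Subgroup.centralizer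
          ({w'} : Set ↥(Cfsg.Sz F m)) : Subgroup ↥(Cfsg.Sz F m)) : Set ↥(Cfsg.Sz F m)) := by
        rw [h']
        exact Subgroup.mul_mem _ (Subgroup.le_normalizer (self_mem_cent _)) hsN'
      have hyinf : (w * s).1 • Cfsg.suzukiPointInfinity F ≠ Cfsg.suzukiPointInfinity F := by
        show (w.1 * s.1) • _ ≠ _
        rw [mul_smul, hfixS s hs]
        exact hwf _ (pInf_mem m)
      have hVV : Subgroup.centralizer ({w} : Set ↥(Cfsg.Sz F m)) =
          Subgroup.centralizer ({w'} : Set ↥(Cfsg.Sz F m)) := by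
        by_contra hne
        exact hyinf (two_grp_fix hm hF hT hT' hne hxO hxN hxN' hyN hyN')
      have hw : w'⁻¹ * w = 1 := by
        apply tor_inter_B hm hF hT' hxO hxN'
        · exact Subgroup.mul_mem _ (Subgroup.inv_mem _ (self_mem_cent _)) (by
            rw [← hVV]; exact self_mem_cent _)
        · have e : w'⁻¹ * w = s' * s⁻¹ := by
            calc w'⁻¹ * w = w'⁻¹ * (w * s) * s⁻¹ := by group
              _ = w'⁻¹ * (w' * s') * s⁻¹ := by rw [h']
              _ = s' * s⁻¹ := by group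
          rw [e]
          show (s'.1 * s.1⁻¹) • _ = _
          rw [mul_smul, inv_smul_eq_iff.mpr (hfixS s hs).symm, hfixS s' hs']
      have hww : w = w' := (inv_mul_eq_one.mp hw).symm
      subst hww
      have hss : s = s' := mul_left_cancel h'
      subst hss
      rfl
    · rintro ⟨y, hyinf, V, hV, hxN, hyN⟩
      obtain ⟨w0, hw0, hw01⟩ := hV.ne
      have hf0 : Fpf w0 := fpf_of_norm4 hm hF ha hV hxN hw0 hw01
      have hcent := hV.cent w0 hw0 hw01
      subst hcent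
      obtain ⟨w, hw, i, hi, rfl⟩ := decomp_fpf hm hF hf0 (Subgroup.zpowers (u hm hF a b))
        (Subgroup.zpowers_le.mpr hxN) hfixS hc4 y hyN
      have hw1 : w ≠ 1 := by
        rintro rfl
        apply hyinf
        show ((1 : ↥(Cfsg.Sz F m)).1 * i.1) • _ = _
        rw [mul_smul, hfixS i hi]
        exact one_smul _ _
      have hwf : Fpf w := fpf_of_mem_cent hm hF hf0 hw hw1
      have hcw := cent_eq_of_mem hm hF hf0 hw hw1
      exact ⟨(⟨w, hwf, by rw [hcw]; exact hxN⟩, ⟨i, hi⟩), rfl⟩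
  rw [← key, Nat.card_prod, hc4]

/-- the fixed-point-free elements whose torus is normalised by an involution. -/
theorem card_W2 (hm : 1 ≤ m) (hF : Fintype.card F = 2 ^ (2 * m + 1)) {z : ↥(Cfsg.Sz F m)}
    (hz : OnlyInf m z) (hz2 : z * z = 1) (hz1 : z ≠ 1) :
    2 * Nat.card {w : ↥(Cfsg.Sz F m) // Fpf w ∧ z ∈ Subgroup.normalizer
      ((Subgroup.centralizer ({w} : Set ↥(Cfsg.Sz F m)) : Subgroup ↥(Cfsg.Sz F m)) :
        Set ↥(Cfsg.Sz F m))} = (2 ^ (2 * m + 1)) ^ 3 := by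
  rw [← card_Tfpf hm hF hz hz2 hz1]
  congr 1
  have hmem : ∀ w : {w : ↥(Cfsg.Sz F m) // Fpf w ∧ z ∈ Subgroup.normalizer
      ((Subgroup.centralizer ({w} : Set ↥(Cfsg.Sz F m)) : Subgroup ↥(Cfsg.Sz F m)) :
        Set ↥(Cfsg.Sz F m))}, (z * w.1) * (z * w.1) = 1 ∧
      (z * w.1).1 • Cfsg.suzukiPointInfinity F ≠ Cfsg.suzukiPointInfinity F := by
    rintro ⟨w, hwf, hzN⟩
    have hinv := (tor_of_fpf hm hF hwf).inv hzN hz2 hz1 (self_mem_cent w)
    constructor
    · calc (z * w) * (z * w) = (z * w * z⁻¹) * (z * z) * w := by group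
        _ = 1 := by rw [hinv, hz2, mul_one, inv_mul_cancel]
    · intro h
      have e : (z * w).1 • Cfsg.suzukiPointInfinity F =
          z.1 • (w.1 • Cfsg.suzukiPointInfinity F) := mul_smul _ _ _
      rw [e] at h
      apply hwf _ (pInf_mem m)
      have h2 := congrArg (fun y => z.1⁻¹ • y) h
      simp only [inv_smul_smul] at h2
      rw [h2, inv_smul_eq_iff, hz.1]
  have hzz : ∀ w : ↥(Cfsg.Sz F m), z * (z * w) = w := fun w => by
    rw [← mul_assoc, hz2, one_mul]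
  apply Nat.card_eq_of_bijective (fun w : {w : ↥(Cfsg.Sz F m) // Fpf w ∧ z ∈ Subgroup.normalizer
      ((Subgroup.centralizer ({w} : Set ↥(Cfsg.Sz F m)) : Subgroup ↥(Cfsg.Sz F m)) :
        Set ↥(Cfsg.Sz F m))} =>
    (⟨⟨z * w.1, hmem w⟩, by
      show Fpf (z * (z * w.1))
      rw [hzz]
      exact w.2.1⟩ :
      {t : {t : ↥(Cfsg.Sz F m) // t * t = 1 ∧
        t.1 • Cfsg.suzukiPointInfinity F ≠ Cfsg.suzukiPointInfinity F} // Fpf (z * t.1)}))
  constructor
  · rintro ⟨w, hw⟩ ⟨w', hw'⟩ h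
    have h' : z * w = z * w' := congrArg (fun t : {t : {t : ↥(Cfsg.Sz F m) // t * t = 1 ∧
        t.1 • Cfsg.suzukiPointInfinity F ≠ Cfsg.suzukiPointInfinity F} // Fpf (z * t.1)} =>
          t.1.1) h
    exact Subtype.ext (mul_left_cancel h')
  · rintro ⟨⟨t, ht2, htinf⟩, hf⟩
    refine ⟨⟨z * t, hf, (tor_xt hm hF hz hz2 ht2 htinf).2⟩, ?_⟩
    apply Subtype.ext
    apply Subtype.ext
    exact hzz t

/-- square roots of `z` in the normaliser of a torus. -/
theorem card_roots (hm : 1 ≤ m) (hF : Fintype.card F = 2 ^ (2 * m + 1)) {z : ↥(Cfsg.Sz F m)}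
    (hz : OnlyInf m z) (hz2 : z * z = 1) (hz1 : z ≠ 1) {w : ↥(Cfsg.Sz F m)} (hwf : Fpf w)
    (hzN : z ∈ Subgroup.normalizer ((Subgroup.centralizer ({w} : Set ↥(Cfsg.Sz F m)) :
      Subgroup ↥(Cfsg.Sz F m)) : Set ↥(Cfsg.Sz F m))) :
    Nat.card {c : ↥(Cfsg.Sz F m) // c * c = z ∧ c ∈ Subgroup.normalizer
      ((Subgroup.centralizer ({w} : Set ↥(Cfsg.Sz F m)) : Subgroup ↥(Cfsg.Sz F m)) :
        Set ↥(Cfsg.Sz F m))} = 2 := by
  have hfin : Finite (Matrix.SpecialLinearGroup (Fin 4) F) := finite_SL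
  have hzinv : z⁻¹ = z := inv_eq_of_mul_eq_one_left hz2
  obtain ⟨S', hS1, hS2, hcard, hzS⟩ := exists_S hm hF hwf hz hz2 hz1 hzN
  have hT := tor_of_fpf hm hF hwf
  have hinvol : ∀ i ∈ S', i * i = 1 → i = 1 ∨ i = z := by
    intro i hi hi2
    by_cases hi1 : i = 1
    · exact Or.inl hi1
    · right
      have h1 := hT.inv (hS1 hi) hi2 hi1 (self_mem_cent w)
      have h2 := hT.inv hzN hz2 hz1 (self_mem_cent w)
      have hc : i * z ∈ Subgroup.centralizer ({w} : Set ↥(Cfsg.Sz F m)) := by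
        rw [mem_cent_iff]
        have e1 : z * w = w⁻¹ * z := by
          calc z * w = (z * w * z⁻¹) * z := by group
            _ = w⁻¹ * z := by rw [h2]
        have e2 : i * w⁻¹ = w * i := by
          calc i * w⁻¹ = (i * w * i⁻¹)⁻¹ * i := by group
            _ = w * i := by rw [h1, inv_inv]
        calc i * z * w = i * (z * w) := by group
          _ = i * (w⁻¹ * z) := by rw [e1]
          _ = (i * w⁻¹) * z := by group
          _ = w * i * z := by rw [e2]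
          _ = w * (i * z) := by group
      have hfix : (i * z).1 • Cfsg.suzukiPointInfinity F = Cfsg.suzukiPointInfinity F := by
        show (i.1 * z.1) • _ = _
        rw [mul_smul, hz.1, hS2 i hi]
      have h3 : i * z = 1 := by
        by_contra hne
        exact fpf_of_mem_cent hm hF hwf hc hne _ (pInf_mem m) hfix
      calc i = (i * z) * z⁻¹ := by group
        _ = z := by rw [h3, one_mul, hzinv]
  have hsq : ∀ c ∈ S', c ≠ 1 → c ≠ z → c * c = z := by
    intro c hc hc1 hcz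
    have h4 : (⟨c, hc⟩ : ↥S') ^ Nat.card ↥S' = 1 := pow_card_eq_one'
    rw [hcard] at h4
    have h4' : c ^ 4 = 1 := congrArg Subtype.val h4
    have h5 : (c * c) * (c * c) = 1 := by
      calc (c * c) * (c * c) = c ^ 4 := (pow4_eq c).symm
        _ = 1 := h4'
    rcases hinvol (c * c) (S'.mul_mem hc hc) h5 with h | h
    · exfalso
      rcases hinvol c hc h with h' | h'
      · exact hc1 h'
      · exact hcz h'
    · exact h
  have hsplit := card2_eq
    (fun c : ↥(Cfsg.Sz F m) => c * c = z ∧ c ∈ Subgroup.normalizer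
      ((Subgroup.centralizer ({w} : Set ↥(Cfsg.Sz F m)) : Subgroup ↥(Cfsg.Sz F m)) :
        Set ↥(Cfsg.Sz F m)))
    (fun c : ↥(Cfsg.Sz F m) => c = 1 ∨ c = z)
    (fun c : ↥(Cfsg.Sz F m) => c ∈ S')
    (fun c h => by
      have hcz : c * z = z * c := by rw [← h.1, mul_assoc]
      have hfix : z.1 • (c.1 • Cfsg.suzukiPointInfinity F) =
          c.1 • Cfsg.suzukiPointInfinity F := by
        have e : (z * c).1 • Cfsg.suzukiPointInfinity F =
            z.1 • (c.1 • Cfsg.suzukiPointInfinity F) := mul_smul _ _ _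
        have e' : (c * z).1 • Cfsg.suzukiPointInfinity F =
            c.1 • (z.1 • Cfsg.suzukiPointInfinity F) := mul_smul _ _ _
        rw [← e, ← hcz, e', hz.1]
      have hcinf := hz.2 _ (smul_mem_ovoid c.2 (pInf_mem m)) hfix
      exact IV_eq hm hF hwf S' hS1 hS2 hcard h.2 hcinf)
    (fun c h => by
      rcases h with h | h
      · rw [h]
        exact S'.one_mem
      · rw [h]
        exact hzS)
    (fun c h h' => by
      rcases h' with h' | h'
      · apply hz1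
        rw [← h.1, h', mul_one]
      · apply hz1
        have h9 := h.1
        rw [h', hz2] at h9
        exact h9.symm)
    (fun c h => by
      by_cases hc1 : c = 1
      · exact Or.inr (Or.inl hc1)
      · by_cases hcz : c = z
        · exact Or.inr (Or.inr hcz)
        · exact Or.inl ⟨hsq c h hc1 hcz, hS1 h⟩)
  have h2 : Nat.card {c : ↥(Cfsg.Sz F m) // c = 1 ∨ c = z} = 2 := by
    rw [Nat.card_eq_two_iff]
    refine ⟨⟨1, Or.inl rfl⟩, ⟨z, Or.inr rfl⟩, ?_, ?_⟩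
    · intro h
      exact hz1 (congrArg Subtype.val h).symm
    · rw [Set.eq_univ_iff_forall]
      rintro ⟨c, hc⟩
      rw [Set.mem_insert_iff, Set.mem_singleton_iff]
      rcases hc with h | h
      · left
        exact Subtype.ext h
      · right
        exact Subtype.ext h
  have h4 : Nat.card {c : ↥(Cfsg.Sz F m) // c ∈ S'} = 4 := hcard
  rw [h2, h4] at hsplit
  omega

end Cfsg.Agent.Lib.Helper3.SzSol7
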