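import Mathlib
import Cfsg.Prelude.Def_LieExceptional
import Cfsg.Agent.Lib.Helper3.SzSol7

set_option autoImplicit false
set_option linter.unusedSectionVars false

namespace Cfsg.Agent.Lib.Helper3.SzSol8

open Matrix Cfsg.Agent.Lib.Helper3.Sz1 Cfsg.Agent.Lib.Helper3.Sz2 Cfsg.Agent.Lib.Helper3.Sz3
  Cfsg.Agent.Lib.Helper3.Sz4 Cfsg.Agent.Lib.Helper3.Sz5 Cfsg.Agent.Lib.Helper3.Sz6
  Cfsg.Agent.Lib.Helper3.Sz7 Cfsg.Agent.Lib.Helper3.Sz9 Cfsg.Agent.Lib.Helper3.Sz10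
  Cfsg.Agent.Lib.Helper3.Sz11 Cfsg.Agent.Lib.Helper3.Sz15 Cfsg.Agent.Lib.Helper3.SzR
  Cfsg.Agent.Lib.Helper3.SzFix1 Cfsg.Agent.Lib.Helper3.SzFix2 Cfsg.Agent.Lib.Helper3.SzSub2
  Cfsg.Agent.Lib.Helper3.SzMax1 Cfsg.Agent.Lib.Helper3.SzMax2
  Cfsg.Agent.Lib.Helper14.SzTori Cfsg.Agent.Lib.Helper3.SzSol1 Cfsg.Agent.Lib.Helper3.SzSol2
  Cfsg.Agent.Lib.Helper3.SzSol3 Cfsg.Agent.Lib.Helper3.SzSol4 Cfsg.Agent.Lib.Helper3.SzSol5
  Cfsg.Agent.Lib.Helper3.SzFix3 Cfsg.Agent.Lib.Helper3.SzMax3 Cfsg.Agent.Lib.Helper3.SzSol6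
  Cfsg.Agent.Lib.Helper3.SzSol7

variable {F : Type*} [Field F] [Fintype F] {m : ℕ}

/-- square roots of a central involution of `U`. -/
theorem root_form (hm : 1 ≤ m) (hF : Fintype.card F = 2 ^ (2 * m + 1)) {a : F} (ha : a ≠ 0)
    {c : ↥(Cfsg.Sz F m)} (hc : c * c = u hm hF 0 (a ^ (2 ^ (m + 1)) * a)) :
    ∃ b' : F, c = u hm hF a b' := by
  have hs := hyp_of_card hm hF
  have hz0 : a ^ (2 ^ (m + 1)) * a ≠ 0 := mul_ne_zero (pow_ne_zero _ ha) ha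
  have hzO : OnlyInf m (u hm hF 0 (a ^ (2 ^ (m + 1)) * a)) :=
    onlyInf_u hm hF (fun h => hz0 h.2)
  have hc1 : c ≠ 1 := by
    rintro rfl
    rw [mul_one] at hc
    exact hz0 (u_eq_one hm hF hc.symm).2
  have hc4 : c ^ 4 = 1 := by
    rw [pow4_eq, hc, u0_sq]
  have hcz : c * u hm hF 0 (a ^ (2 ^ (m + 1)) * a) = u hm hF 0 (a ^ (2 ^ (m + 1)) * a) * c := by
    rw [← hc, mul_assoc]
  have hfix : (u hm hF 0 (a ^ (2 ^ (m + 1)) * a)).1 • (c.1 • Cfsg.suzukiPointInfinity F) =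
      c.1 • Cfsg.suzukiPointInfinity F := by
    have e : (u hm hF 0 (a ^ (2 ^ (m + 1)) * a) * c).1 • Cfsg.suzukiPointInfinity F =
        (u hm hF 0 (a ^ (2 ^ (m + 1)) * a)).1 • (c.1 • Cfsg.suzukiPointInfinity F) :=
      mul_smul _ _ _
    have e' : (c * u hm hF 0 (a ^ (2 ^ (m + 1)) * a)).1 • Cfsg.suzukiPointInfinity F =
        c.1 • ((u hm hF 0 (a ^ (2 ^ (m + 1)) * a)).1 • Cfsg.suzukiPointInfinity F) :=
      mul_smul _ _ _
    rw [← e, ← hcz, e', hzO.1]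
  have hcinf := hzO.2 _ (smul_mem_ovoid c.2 (pInf_mem m)) hfix
  obtain ⟨g, a', b', hab, rfl⟩ := type_two hm hF hc1 (orderOf_dvd_of_pow_eq_one hc4)
  have hg := conj_u_fix hm hF hab (pInf_mem m) hcinf
  have hγ : g ∈ St m (Cfsg.suzukiPointInfinity F) := hg.symm
  obtain ⟨α, γ, k, rfl⟩ := mem_St_inf hm hF hγ
  have hcU : (u hm hF α γ * DHom hm hF k) * u hm hF a' b' * (u hm hF α γ * DHom hm hF k)⁻¹ ∈
      U hm hF := by
    have e : (u hm hF α γ * DHom hm hF k) * u hm hF a' b' * (u hm hF α γ * DHom hm hF k)⁻¹ =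
        u hm hF α γ * (DHom hm hF k * u hm hF a' b' * (DHom hm hF k)⁻¹) * (u hm hF α γ)⁻¹ := by
      group
    rw [e, D_u]
    exact (U hm hF).mul_mem ((U hm hF).mul_mem ⟨_, _, rfl⟩ ⟨_, _, rfl⟩)
      ((U hm hF).inv_mem ⟨_, _, rfl⟩)
  obtain ⟨a'', b'', hcu⟩ := hcU
  rw [hcu, u_sq'] at hc
  have h2 := (u_inj hm hF hc).2
  have h3 : a'' = a := pow_s1_inj hs h2
  exact ⟨b'', by rw [hcu, h3]⟩

/-- every element is of the form `τ ^ s + τ` or `τ ^ s + τ + 1`. -/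
theorem as_surj (hm : 1 ≤ m) (hF : Fintype.card F = 2 ^ (2 * m + 1)) (ρ : F) :
    ∃ τ : F, ρ = τ ^ (2 ^ (m + 1)) + τ ∨ ρ = τ ^ (2 ^ (m + 1)) + τ + 1 := by
  classical
  have hs := hyp_of_card hm hF
  let f : F →+ F :=
    { toFun := fun τ => τ ^ (2 ^ (m + 1)) + τ
      map_zero' := by rw [pow_s_zero hs, add_zero]
      map_add' := fun x y => by rw [hs.add]; ring }
  have hf : ∀ τ, f τ = τ ^ (2 ^ (m + 1)) + τ := fun τ => rfl
  have hker : ∀ τ, f τ = 0 → τ = 0 ∨ τ = 1 := by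
    intro τ h
    rw [hf] at h
    have h1 : τ ^ (2 ^ (m + 1)) = τ := by
      linear_combination h - τ * hs.two
    have h2 : τ ^ 2 = τ := by
      rw [← hs.sq τ, h1, h1]
    have h3 : τ * (τ - 1) = 0 := by linear_combination h2
    rcases mul_eq_zero.mp h3 with h | h
    · exact Or.inl h
    · exact Or.inr (by linear_combination h)
  have h1 : (1 : F) ∉ f.range := by
    rintro ⟨τ, hτ⟩
    rw [hf] at hτ
    have h2 : τ ^ 2 + τ ^ (2 ^ (m + 1)) = 1 := by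
      have h9 := congrArg (fun z => z ^ (2 ^ (m + 1))) hτ
      simp only [one_pow] at h9
      rw [hs.add, hs.sq] at h9
      exact h9
    have h3 : τ * (τ - 1) = 0 := by
      linear_combination h2 + hτ - (τ + τ ^ (2 ^ (m + 1)) - 1) * hs.two
    rcases mul_eq_zero.mp h3 with h | h
    · rw [h, pow_s_zero hs, add_zero] at hτ
      exact zero_ne_one hτ
    · have h' : τ = 1 := by linear_combination h
      rw [h', one_pow] at hτ
      have h9 : (1 : F) = 0 := by linear_combination hs.two - hτ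
      exact one_ne_zero h9
  have hcK : Nat.card ↥f.ker = 2 := by
    rw [Nat.card_eq_two_iff]
    refine ⟨⟨0, f.ker.zero_mem⟩, ⟨1, ?_⟩, ?_, ?_⟩
    · rw [AddMonoidHom.mem_ker, hf, one_pow]
      linear_combination hs.two
    · intro h
      exact zero_ne_one (congrArg Subtype.val h)
    · rw [Set.eq_univ_iff_forall]
      rintro ⟨τ, hτ⟩
      rw [Set.mem_insert_iff, Set.mem_singleton_iff]
      rcases hker τ (AddMonoidHom.mem_ker.mp hτ) with h | h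
      · left
        exact Subtype.ext h
      · right
        exact Subtype.ext h
  have hidx : f.range.index = 2 := by
    have e1 := AddSubgroup.card_mul_index f.ker
    have e2 := AddSubgroup.card_mul_index f.range
    rw [AddSubgroup.index_ker, hcK] at e1
    have hpos : 0 < Nat.card ↥f.range := Nat.card_pos
    have e3 : Nat.card ↥f.range * f.range.index = Nat.card ↥f.range * 2 := by
      rw [e2, ← e1, mul_comm]
    exact Nat.eq_of_mul_eq_mul_left hpos e3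
  obtain ⟨a0, ha0⟩ := AddSubgroup.index_eq_two_iff.mp hidx
  have key : ∀ b, b ∈ f.range ∨ b + a0 ∈ f.range := fun b =>
    (ha0 b).elim (fun h => Or.inr h.1) (fun h => Or.inl h.1)
  have h1a : 1 + a0 ∈ f.range := (key 1).resolve_left h1
  rcases key ρ with ⟨τ, hτ⟩ | h
  · exact ⟨τ, Or.inl hτ.symm⟩
  · obtain ⟨τ, hτ⟩ := f.range.add_mem h h1a
    rw [hf] at hτ
    refine ⟨τ, Or.inr ?_⟩
    linear_combination -hτ - (a0 + 1) * hs.two

theorem u_conj (hm : 1 ≤ m) (hF : Fintype.card F = 2 ^ (2 * m + 1)) (a b c d : F) :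
    u hm hF c d * u hm hF a b * (u hm hF c d)⁻¹ =
      u hm hF a (b + c ^ (2 ^ (m + 1)) * a + a ^ (2 ^ (m + 1)) * c) := by
  have hs := hyp_of_card hm hF
  rw [mul_inv_eq_iff_eq_mul, u_mul, u_mul]
  congr 1
  · ring
  · linear_combination (-(a ^ (2 ^ (m + 1)) * c)) * hs.two

/-- square roots of the same involution are conjugate up to inversion. -/
theorem root_conj (hm : 1 ≤ m) (hF : Fintype.card F = 2 ^ (2 * m + 1)) {a : F} (ha : a ≠ 0)
    (b b' : F) :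
    ∃ g : ↥(Cfsg.Sz F m), u hm hF a b' = g * u hm hF a b * g⁻¹ ∨
      u hm hF a b' = g * (u hm hF a b)⁻¹ * g⁻¹ := by
  have hs := hyp_of_card hm hF
  have hz0 : a ^ (2 ^ (m + 1)) * a ≠ 0 := mul_ne_zero (pow_ne_zero _ ha) ha
  obtain ⟨τ, hτ⟩ := as_surj hm hF ((b' - b) / (a ^ (2 ^ (m + 1)) * a))
  have hρ : (b' - b) / (a ^ (2 ^ (m + 1)) * a) * (a ^ (2 ^ (m + 1)) * a) = b' - b :=
    div_mul_cancel₀ _ hz0
  refine ⟨u hm hF (a * τ) 0, ?_⟩
  rcases hτ with h | h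
  · left
    rw [u_conj]
    congr 1
    rw [h] at hρ
    rw [mul_pow]
    linear_combination -hρ
  · right
    have hinv : (u hm hF a b)⁻¹ = u hm hF a (b + a ^ (2 ^ (m + 1)) * a) := by
      apply inv_eq_of_mul_eq_one_right
      rw [u_mul, ← u_zero hm hF]
      congr 1
      · linear_combination a * hs.two
      · linear_combination (b + a ^ (2 ^ (m + 1)) * a) * hs.two
    rw [hinv, u_conj]
    congr 1
    rw [h] at hρ
    rw [mul_pow]
    linear_combination -hρ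

theorem card_W_conj (g c : ↥(Cfsg.Sz F m)) :
    Nat.card {w : ↥(Cfsg.Sz F m) // Fpf w ∧ g * c * g⁻¹ ∈ Subgroup.normalizer
      ((Subgroup.centralizer ({w} : Set ↥(Cfsg.Sz F m)) : Subgroup ↥(Cfsg.Sz F m)) :
        Set ↥(Cfsg.Sz F m))} =
    Nat.card {w : ↥(Cfsg.Sz F m) // Fpf w ∧ c ∈ Subgroup.normalizer
      ((Subgroup.centralizer ({w} : Set ↥(Cfsg.Sz F m)) : Subgroup ↥(Cfsg.Sz F m)) :
        Set ↥(Cfsg.Sz F m))} := by
  symm
  apply Nat.card_congr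
  refine Equiv.subtypeEquiv (MulAut.conj g).toEquiv (fun w => ?_)
  show (Fpf w ∧ c ∈ Subgroup.normalizer
      ((Subgroup.centralizer ({w} : Set ↥(Cfsg.Sz F m)) : Subgroup ↥(Cfsg.Sz F m)) :
        Set ↥(Cfsg.Sz F m))) ↔ (Fpf (g * w * g⁻¹) ∧ g * c * g⁻¹ ∈ Subgroup.normalizer
      ((Subgroup.centralizer ({g * w * g⁻¹} : Set ↥(Cfsg.Sz F m)) : Subgroup ↥(Cfsg.Sz F m)) :
        Set ↥(Cfsg.Sz F m)))
  rw [mem_norm_conj]
  have e : g⁻¹ * (g * c * g⁻¹) * g = c := by group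
  rw [e]
  constructor
  · rintro ⟨h1, h2⟩
    exact ⟨fpf_conj h1 g, h2⟩
  · rintro ⟨h1, h2⟩
    refine ⟨?_, h2⟩
    have h3 := fpf_conj h1 g⁻¹
    have e2 : g⁻¹ * (g * w * g⁻¹) * g⁻¹⁻¹ = w := by group
    rw [e2] at h3
    exact h3

theorem card_W_root (hm : 1 ≤ m) (hF : Fintype.card F = 2 ^ (2 * m + 1)) {a : F} (ha : a ≠ 0)
    (b : F) {c : ↥(Cfsg.Sz F m)} (hc : c * c = u hm hF 0 (a ^ (2 ^ (m + 1)) * a)) :
    Nat.card {w : ↥(Cfsg.Sz F m) // Fpf w ∧ c ∈ Subgroup.normalizer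
      ((Subgroup.centralizer ({w} : Set ↥(Cfsg.Sz F m)) : Subgroup ↥(Cfsg.Sz F m)) :
        Set ↥(Cfsg.Sz F m))} =
    Nat.card {w : ↥(Cfsg.Sz F m) // Fpf w ∧ u hm hF a b ∈ Subgroup.normalizer
      ((Subgroup.centralizer ({w} : Set ↥(Cfsg.Sz F m)) : Subgroup ↥(Cfsg.Sz F m)) :
        Set ↥(Cfsg.Sz F m))} := by
  obtain ⟨b', rfl⟩ := root_form hm hF ha hc
  obtain ⟨g, h | h⟩ := root_conj hm hF ha b b'
  · rw [h, card_W_conj]
  · rw [h, card_W_conj]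
    exact card1_eq _ _ (fun w => and_congr Iff.rfl (Subgroup.inv_mem_iff _))

theorem card_W4 (hm : 1 ≤ m) (hF : Fintype.card F = 2 ^ (2 * m + 1)) {a : F} (ha : a ≠ 0)
    (b : F) :
    Nat.card {w : ↥(Cfsg.Sz F m) // Fpf w ∧ u hm hF a b ∈ Subgroup.normalizer
      ((Subgroup.centralizer ({w} : Set ↥(Cfsg.Sz F m)) : Subgroup ↥(Cfsg.Sz F m)) :
        Set ↥(Cfsg.Sz F m))} = (2 ^ (2 * m + 1)) ^ 2 := by
  have hfin : Finite (Matrix.SpecialLinearGroup (Fin 4) F) := finite_SL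
  have hz0 : a ^ (2 ^ (m + 1)) * a ≠ 0 := mul_ne_zero (pow_ne_zero _ ha) ha
  have hzO : OnlyInf m (u hm hF 0 (a ^ (2 ^ (m + 1)) * a)) :=
    onlyInf_u hm hF (fun h => hz0 h.2)
  have hz2 := u0_sq hm hF (a ^ (2 ^ (m + 1)) * a)
  have hz1 : u hm hF 0 (a ^ (2 ^ (m + 1)) * a) ≠ 1 := fun h => hz0 (u_eq_one hm hF h).2
  have hR : Nat.card {c : ↥(Cfsg.Sz F m) // c * c = u hm hF 0 (a ^ (2 ^ (m + 1)) * a)} =
      2 ^ (2 * m + 1) := by
    rw [← hF, ← Nat.card_eq_fintype_card]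
    symm
    apply Nat.card_eq_of_bijective (fun b' : F => (⟨u hm hF a b', u_sq' hm hF a b'⟩ :
      {c : ↥(Cfsg.Sz F m) // c * c = u hm hF 0 (a ^ (2 ^ (m + 1)) * a)}))
    constructor
    · intro b1 b2 h
      exact (u_inj hm hF (congrArg Subtype.val h)).2
    · rintro ⟨c, hc⟩
      obtain ⟨b', rfl⟩ := root_form hm hF ha hc
      exact ⟨b', rfl⟩
  have h1 := card_fib_const
    (fun e : {c : ↥(Cfsg.Sz F m) // c * c = u hm hF 0 (a ^ (2 ^ (m + 1)) * a)} ×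
        {w : ↥(Cfsg.Sz F m) // Fpf w ∧ u hm hF 0 (a ^ (2 ^ (m + 1)) * a) ∈ Subgroup.normalizer
          ((Subgroup.centralizer ({w} : Set ↥(Cfsg.Sz F m)) : Subgroup ↥(Cfsg.Sz F m)) :
            Set ↥(Cfsg.Sz F m))} =>
      e.1.1 ∈ Subgroup.normalizer ((Subgroup.centralizer
        ({e.2.1} : Set ↥(Cfsg.Sz F m)) : Subgroup ↥(Cfsg.Sz F m)) : Set ↥(Cfsg.Sz F m)))
    (Nat.card {w : ↥(Cfsg.Sz F m) // Fpf w ∧ u hm hF a b ∈ Subgroup.normalizer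
      ((Subgroup.centralizer ({w} : Set ↥(Cfsg.Sz F m)) : Subgroup ↥(Cfsg.Sz F m)) :
        Set ↥(Cfsg.Sz F m))})
    (fun c => by
      refine Eq.trans (Nat.card_congr (Equiv.subtypeSubtypeEquivSubtypeInter
        (fun w : ↥(Cfsg.Sz F m) => Fpf w ∧ u hm hF 0 (a ^ (2 ^ (m + 1)) * a) ∈
          Subgroup.normalizer ((Subgroup.centralizer ({w} : Set ↥(Cfsg.Sz F m)) :
            Subgroup ↥(Cfsg.Sz F m)) : Set ↥(Cfsg.Sz F m)))
        (fun w : ↥(Cfsg.Sz F m) => c.1 ∈ Subgroup.normalizer ((Subgroup.centralizer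
          ({w} : Set ↥(Cfsg.Sz F m)) : Subgroup ↥(Cfsg.Sz F m)) : Set ↥(Cfsg.Sz F m))))) ?_
      refine Eq.trans ?_ (card_W_root hm hF ha b c.2)
      apply card1_eq
      intro w
      constructor
      · rintro ⟨⟨h1, -⟩, h2⟩
        exact ⟨h1, h2⟩
      · rintro ⟨h1, h2⟩
        refine ⟨⟨h1, ?_⟩, h2⟩
        rw [← c.2]
        exact Subgroup.mul_mem _ h2 h2)
  have h2 := card_fib_const'
    (fun e : {c : ↥(Cfsg.Sz F m) // c * c = u hm hF 0 (a ^ (2 ^ (m + 1)) * a)} ×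
        {w : ↥(Cfsg.Sz F m) // Fpf w ∧ u hm hF 0 (a ^ (2 ^ (m + 1)) * a) ∈ Subgroup.normalizer
          ((Subgroup.centralizer ({w} : Set ↥(Cfsg.Sz F m)) : Subgroup ↥(Cfsg.Sz F m)) :
            Set ↥(Cfsg.Sz F m))} =>
      e.1.1 ∈ Subgroup.normalizer ((Subgroup.centralizer
        ({e.2.1} : Set ↥(Cfsg.Sz F m)) : Subgroup ↥(Cfsg.Sz F m)) : Set ↥(Cfsg.Sz F m))) 2
    (fun w => by
      refine Eq.trans (Nat.card_congr (Equiv.subtypeSubtypeEquivSubtypeInter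
        (fun c : ↥(Cfsg.Sz F m) => c * c = u hm hF 0 (a ^ (2 ^ (m + 1)) * a))
        (fun c : ↥(Cfsg.Sz F m) => c ∈ Subgroup.normalizer ((Subgroup.centralizer
          ({w.1} : Set ↥(Cfsg.Sz F m)) : Subgroup ↥(Cfsg.Sz F m)) : Set ↥(Cfsg.Sz F m))))) ?_
      exact card_roots hm hF hzO hz2 hz1 w.2.1 w.2.2)
  have h3 := card_W2 hm hF hzO hz2 hz1
  rw [hR] at h1
  have h4 : 2 ^ (2 * m + 1) * Nat.card {w : ↥(Cfsg.Sz F m) // Fpf w ∧ u hm hF a b ∈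
      Subgroup.normalizer ((Subgroup.centralizer ({w} : Set ↥(Cfsg.Sz F m)) :
        Subgroup ↥(Cfsg.Sz F m)) : Set ↥(Cfsg.Sz F m))} = (2 ^ (2 * m + 1)) ^ 3 := by
    rw [← h1, h2, ← h3, mul_comm]
  have hq : 0 < 2 ^ (2 * m + 1) := by positivity
  exact Nat.eq_of_mul_eq_mul_left hq (by rw [h4]; ring)

/-- the solubilizer of an element of order `4`. -/
theorem solC_four (hm : 1 ≤ m) (hF : Fintype.card F = 2 ^ (2 * m + 1)) (hp : (2 * m + 1).Prime)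
    {a : F} (ha : a ≠ 0) (b : F) :
    solC (u hm hF a b) = (2 ^ (2 * m + 1)) ^ 2 * (2 ^ (2 * m + 1) + 3) := by
  have hfin : Finite (Matrix.SpecialLinearGroup (Fin 4) F) := finite_SL
  have hxO : OnlyInf m (u hm hF a b) := onlyInf_u hm hF (fun h => ha h.1)
  have hB := card_B hm hF (F := F)
  have hsplit := card2_eq
    (fun y : ↥(Cfsg.Sz F m) => y.1 • Cfsg.suzukiPointInfinity F = Cfsg.suzukiPointInfinity F)
    (fun y : ↥(Cfsg.Sz F m) => y.1 • Cfsg.suzukiPointInfinity F ≠ Cfsg.suzukiPointInfinity F ∧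
      ∃ V : Subgroup ↥(Cfsg.Sz F m), Tor hm hF V ∧
        u hm hF a b ∈ Subgroup.normalizer (V : Set ↥(Cfsg.Sz F m)) ∧
        y ∈ Subgroup.normalizer (V : Set ↥(Cfsg.Sz F m)))
    (fun y : ↥(Cfsg.Sz F m) =>
      Group.IsSolvable ↥(Subgroup.closure ({u hm hF a b, y} : Set ↥(Cfsg.Sz F m))))
    (fun y h => (sol_U hm hF hp hxO y).mpr (Or.inl h))
    (fun y h => (sol_U hm hF hp hxO y).mpr (Or.inr h))
    (fun y h h' => h'.1 h)
    (fun y h => (sol_U hm hF hp hxO y).mp h)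
  unfold solC
  rw [← hsplit, hB, card_Y4 hm hF ha, card_W4 hm hF ha b]
  have h1 : 1 ≤ 2 ^ (2 * m + 1) := Nat.one_le_two_pow
  obtain ⟨Q, hQ⟩ : ∃ Q, 2 ^ (2 * m + 1) = Q + 1 := ⟨2 ^ (2 * m + 1) - 1, by omega⟩
  rw [hQ]
  have e1 : Q + 1 - 1 = Q := by omega
  rw [e1]
  ring

/-- the solubilizer of an involution. -/
theorem solC_two (hm : 1 ≤ m) (hF : Fintype.card F = 2 ^ (2 * m + 1)) (hp : (2 * m + 1).Prime)
    {x : ↥(Cfsg.Sz F m)} (hx : orderOf x = 2) :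
    solC x = (2 ^ (2 * m + 1)) ^ 2 * (4 * 2 ^ (2 * m + 1) - 3) := by
  have hx1 : x ≠ 1 := by
    rintro rfl
    rw [orderOf_one] at hx
    omega
  have hx2 : x ^ 2 = 1 := by
    rw [← hx]
    exact pow_orderOf_eq_one x
  obtain ⟨g, a, b, hab, rfl⟩ := type_two hm hF hx1 (by rw [hx]; norm_num)
  rw [solC_conj]
  have hu2 : u hm hF a b * u hm hF a b = 1 := by
    rw [conj_pow, pow_two] at hx2
    calc u hm hF a b * u hm hF a b = g⁻¹ * (g * (u hm hF a b * u hm hF a b) * g⁻¹) * g := by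
          group
      _ = 1 := by rw [hx2]; group
  have ha0 := a_zero_of_sq hm hF hu2
  subst ha0
  have hb : b ≠ 0 := fun h => hab ⟨rfl, h⟩
  exact solC_invol hm hF hp (onlyInf_u hm hF hab) hu2 (fun h => hb (u_eq_one hm hF h).2)

/-- the solubilizer of an element of order `4`. -/
theorem solC_four' (hm : 1 ≤ m) (hF : Fintype.card F = 2 ^ (2 * m + 1))
    (hp : (2 * m + 1).Prime) {x : ↥(Cfsg.Sz F m)} (hx : orderOf x = 4) :
    solC x = (2 ^ (2 * m + 1)) ^ 2 * (2 ^ (2 * m + 1) + 3) := by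
  have hx1 : x ≠ 1 := by
    rintro rfl
    rw [orderOf_one] at hx
    omega
  obtain ⟨g, a, b, hab, rfl⟩ := type_two hm hF hx1 (by rw [hx])
  rw [solC_conj]
  have ha : a ≠ 0 := by
    rintro rfl
    have h2 : (g * u hm hF 0 b * g⁻¹) ^ 2 = 1 := by
      rw [conj_pow, pow_two, u0_sq]
      group
    have h3 := orderOf_dvd_of_pow_eq_one h2
    rw [hx] at h3
    omega
  exact solC_four hm hF hp ha b

end Cfsg.Agent.Lib.Helper3.SzSol8
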