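import Mathlib
import Cfsg.Prelude.Def_LieExceptional
import Cfsg.Agent.Lib.Helper3.SzSol8

set_option autoImplicit false
set_option linter.unusedSectionVars false

namespace Cfsg.Agent.Lib.Helper3.SzOre1

open Matrix Cfsg.Agent.Lib.Helper3.Sz1 Cfsg.Agent.Lib.Helper3.Sz2 Cfsg.Agent.Lib.Helper3.Sz3
  Cfsg.Agent.Lib.Helper3.Sz4 Cfsg.Agent.Lib.Helper3.Sz5 Cfsg.Agent.Lib.Helper3.Sz6
  Cfsg.Agent.Lib.Helper3.Sz7 Cfsg.Agent.Lib.Helper3.Sz9 Cfsg.Agent.Lib.Helper3.Sz10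
  Cfsg.Agent.Lib.Helper3.Sz11 Cfsg.Agent.Lib.Helper3.Sz15 Cfsg.Agent.Lib.Helper3.SzR
  Cfsg.Agent.Lib.Helper3.SzFix1 Cfsg.Agent.Lib.Helper3.SzFix2 Cfsg.Agent.Lib.Helper3.SzSub2
  Cfsg.Agent.Lib.Helper3.SzMax1 Cfsg.Agent.Lib.Helper3.SzMax2
  Cfsg.Agent.Lib.Helper14.SzTori Cfsg.Agent.Lib.Helper3.SzSol1 Cfsg.Agent.Lib.Helper3.SzSol2
  Cfsg.Agent.Lib.Helper3.SzSol3 Cfsg.Agent.Lib.Helper3.SzSol4 Cfsg.Agent.Lib.Helper3.SzSol5
  Cfsg.Agent.Lib.Helper3.SzFix3 Cfsg.Agent.Lib.Helper3.SzMax3 Cfsg.Agent.Lib.Helper3.SzSol6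
  Cfsg.Agent.Lib.Helper3.SzSol7 Cfsg.Agent.Lib.Helper3.SzSol8

/-! ### products of two conjugates, in any group -/

section gen

variable {G : Type*} [Group G]

/-- `g` is a product of two conjugates of `x`. -/
def InSq (x g : G) : Prop := ∃ u v : G, g = (u * x * u⁻¹) * (v * x * v⁻¹)

theorem InSq.conj {x g : G} (h : InSq x g) (k : G) : InSq x (k * g * k⁻¹) := by
  obtain ⟨u, v, rfl⟩ := h
  exact ⟨k * u, k * v, by group⟩

theorem InSq.of_conj {x g : G} (k : G) (h : InSq x (k * g * k⁻¹)) : InSq x g := by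
  have h1 := h.conj k⁻¹
  have e : k⁻¹ * (k * g * k⁻¹) * k⁻¹⁻¹ = g := by group
  rwa [e] at h1

theorem InSq.conj_left {x g : G} (k : G) (h : InSq x g) : InSq (k * x * k⁻¹) g := by
  obtain ⟨u, v, rfl⟩ := h
  exact ⟨u * k⁻¹, v * k⁻¹, by group⟩

theorem inSq_mul {x a b : G} (ha : ∃ h : G, a = h * x * h⁻¹) (hb : ∃ h : G, b = h * x * h⁻¹) :
    InSq x (a * b) := by
  obtain ⟨h1, rfl⟩ := ha
  obtain ⟨h2, rfl⟩ := hb
  exact ⟨h1, h2, rfl⟩

end gen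

/-! ### matrix computations -/

section mat

variable {F : Type*} [Field F]

/-- the lower triangular matrix `J T(z,w) J`. -/
def Lm (s : ℕ) (z w : F) : Matrix (Fin 4) (Fin 4) F :=
  !![1, 0, 0, 0; z, 1, 0, 0; w, z ^ s, 1, 0; fq s z w, w + z ^ (s + 1), z, 1]

theorem J_T_J (s : ℕ) (z w : F) : Jm * Tm s z w * Jm = Lm s z w := by
  ext i j
  fin_cases i <;> fin_cases j <;> simp [Jm, Tm, Lm, Matrix.mul_apply, Fin.sum_univ_four]

theorem trace_T_L {s : ℕ} (hs : Hyp F s) (e g z w : F) :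
    Matrix.trace (Tm s e g * Lm s z w) =
      w * e ^ (s + 1) + z ^ s * e ^ s + z ^ (s + 1) * g + fq s z w * fq s e g := by
  have h2 := hs.two
  simp only [Matrix.trace, Matrix.diag_apply, Fin.sum_univ_four, Matrix.mul_apply]
  simp [Tm, Lm]
  linear_combination (2 + z * e + w * g) * h2

theorem trace_J_T_D (s : ℕ) (z w : F) (l : Fˣ) :
    Matrix.trace (Jm * Tm s z w * Dm s l) =
      z ^ s * ((l⁻¹ : Fˣ) : F) + fq s z w * ((l⁻¹ : Fˣ) : F) ^ (s + 1) := by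
  simp only [Dm, Matrix.trace, Matrix.diag_apply, Fin.sum_univ_four, Matrix.mul_apply]
  simp [Jm, Tm]

theorem T_zero_eq {s : ℕ} (hs : Hyp F s) (y : F) :
    Tm s 0 y = !![1, 0, y, y ^ s; 0, 1, 0, y; 0, 0, 1, 0; 0, 0, 0, 1] := by
  have h0 := pow_s_zero hs
  have h1 : (0 : F) ^ (s + 1) = 0 := zero_pow (Nat.succ_ne_zero s)
  have h2 : (0 : F) ^ (s + 2) = 0 := zero_pow (by omega)
  ext i j
  fin_cases i <;> fin_cases j <;> simp [Tm, fq, h0, h1, h2]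

theorem L_zero_eq {s : ℕ} (hs : Hyp F s) (b : F) :
    Lm s 0 b = !![1, 0, 0, 0; 0, 1, 0, 0; b, 0, 1, 0; b ^ s, b, 0, 1] := by
  have h0 := pow_s_zero hs
  have h1 : (0 : F) ^ (s + 1) = 0 := zero_pow (Nat.succ_ne_zero s)
  have h2 : (0 : F) ^ (s + 2) = 0 := zero_pow (by omega)
  ext i j
  fin_cases i <;> fin_cases j <;> simp [Lm, fq, h0, h1, h2]

theorem trace_four {s : ℕ} (hs : Hyp F s) (y b c : F) :
    Matrix.trace (Tm s 0 y * Lm s 0 b * Tm s 0 y * Lm s 0 c) = (b * c) ^ s * (y ^ s) ^ 2 := by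
  have h2 := hs.two
  rw [T_zero_eq hs, L_zero_eq hs, L_zero_eq hs]
  simp only [Matrix.trace, Matrix.diag_apply, Fin.sum_univ_four, Matrix.mul_apply]
  simp
  linear_combination (2 + 2 * y * b + y ^ s * b ^ s + c * (2 * y + y ^ 2 * b + y * y ^ s * b ^ s) +
    c ^ s * y ^ s * (1 + y * b)) * h2

theorem trace_T {s : ℕ} (hs : Hyp F s) (a b : F) : Matrix.trace (Tm s a b) = 0 := by
  have h2 := hs.two
  simp only [Matrix.trace, Matrix.diag_apply, Fin.sum_univ_four]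
  simp [Tm]
  linear_combination 2 * h2

/-! ### field lemmas -/

theorem pow_s2_inj {s : ℕ} (hs : Hyp F s) {x y : F} (h : x ^ (s + 2) = y ^ (s + 2)) : x = y := by
  by_cases hy : y = 0
  · rw [hy, zero_pow (by omega)] at h
    rw [hy]
    exact (pow_eq_zero_iff (by omega)).mp h
  · have h1 : (x / y) ^ (s + 2) = 1 := by
      rw [div_pow, h, div_self (pow_ne_zero _ hy)]
    have key : ∀ v : F, v ^ (s + 2) = 1 → v = 1 := by
      intro v hv
      have h2 : v ^ s * v ^ 2 = 1 := by rw [← pow_add]; exact hv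
      have h3 : v ^ 2 * (v ^ s) ^ 2 = 1 := by
        have h9 := congrArg (fun t => t ^ s) h2
        simp only [mul_pow, one_pow] at h9
        rw [hs.sq, ← pow_mul, mul_comm 2 s, pow_mul] at h9
        exact h9
      have h4 : (v * v ^ s - 1) ^ 2 = 0 := by
        linear_combination h3 + (1 - v * v ^ s) * hs.two
      have h5 : v * v ^ s = 1 := by
        have h9 := pow_eq_zero_iff (two_ne_zero) |>.mp h4
        linear_combination h9
      linear_combination h2 - v * h5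
    exact (div_eq_one_iff_eq hy).mp (key _ h1)

theorem one_not_K {s : ℕ} (hs : Hyp F s) (τ : F) : τ ^ s + τ ≠ 1 := by
  intro hτ
  have h2 : τ ^ 2 + τ ^ s = 1 := by
    have h9 := congrArg (fun z => z ^ s) hτ
    simp only [one_pow] at h9
    rw [hs.add, hs.sq] at h9
    exact h9
  have h3 : τ * (τ - 1) = 0 := by
    linear_combination h2 + hτ - (τ + τ ^ s - 1) * hs.two
  rcases mul_eq_zero.mp h3 with h | h
  · rw [h, pow_s_zero hs, add_zero] at hτ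
    exact zero_ne_one hτ
  · have h' : τ = 1 := by linear_combination h
    rw [h', one_pow] at hτ
    have h9 : (1 : F) = 0 := by linear_combination hs.two - hτ
    exact one_ne_zero h9

theorem ker_K {s : ℕ} (hs : Hyp F s) {τ : F} (h : τ ^ s + τ = 0) : τ = 0 ∨ τ = 1 := by
  have h1 : τ ^ s = τ := by
    linear_combination h - τ * hs.two
  have h2 : τ ^ 2 = τ := by
    rw [← hs.sq τ, h1, h1]
  have h3 : τ * (τ - 1) = 0 := by linear_combination h2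
  rcases mul_eq_zero.mp h3 with h | h
  · exact Or.inl h
  · exact Or.inr (by linear_combination h)

theorem pow_s2_surj [Fintype F] {s : ℕ} (hs : Hyp F s) (c : F) : ∃ x : F, x ^ (s + 2) = c :=
  (Finite.injective_iff_surjective.mp (fun _ _ h => pow_s2_inj hs h)) c

theorem upow_s2 [Fintype F] {s : ℕ} (hs : Hyp F s) {c : F} (hc : c ≠ 0) :
    ∃ k : Fˣ, (k : F) ^ (s + 2) = c := by
  obtain ⟨x, hx⟩ := pow_s2_surj hs c
  have hx0 : x ≠ 0 := by
    rintro rfl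
    rw [zero_pow (by omega)] at hx
    exact hc hx.symm
  exact ⟨Units.mk0 x hx0, hx⟩

end mat

section grp

variable {F : Type*} [Field F] [Fintype F] {m : ℕ}

theorem sroot (hF : Fintype.card F = 2 ^ (2 * m + 1)) (x : F) :
    ∃ y : F, y ^ (2 ^ (m + 1)) = x := by
  refine ⟨x ^ (2 ^ m), ?_⟩
  have e : 2 ^ m * 2 ^ (m + 1) = 2 ^ (2 * m + 1) := by ring
  rw [← pow_mul, e, ← hF, FiniteField.pow_card]

theorem sqroot (hF : Fintype.card F = 2 ^ (2 * m + 1)) (x : F) : ∃ y : F, y ^ 2 = x := by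
  refine ⟨x ^ (2 ^ (2 * m)), ?_⟩
  rw [← pow_mul, ← pow_succ, ← hF, FiniteField.pow_card]

theorem usroot (hF : Fintype.card F = 2 ^ (2 * m + 1)) {x : F} (hx : x ≠ 0) :
    ∃ k : Fˣ, (k : F) ^ (2 ^ (m + 1)) = x := by
  obtain ⟨y, hy⟩ := sroot hF x
  have hy0 : y ≠ 0 := by
    rintro rfl
    rw [zero_pow (by positivity)] at hy
    exact hx hy.symm
  exact ⟨Units.mk0 y hy0, hy⟩

theorem usqroot (hF : Fintype.card F = 2 ^ (2 * m + 1)) (l : Fˣ) : ∃ k : Fˣ, k ^ 2 = l := by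
  obtain ⟨y, hy⟩ := sqroot hF (l : F)
  have hy0 : y ≠ 0 := by
    rintro rfl
    rw [zero_pow two_ne_zero] at hy
    exact l.ne_zero hy.symm
  exact ⟨Units.mk0 y hy0, Units.ext (by rw [Units.val_pow_eq_pow_val]; exact hy)⟩

/-- the trace. -/
def tr (g : ↥(Cfsg.Sz F m)) : F := Matrix.trace g.1.1

theorem tr_mul_comm (a b : ↥(Cfsg.Sz F m)) : tr (a * b) = tr (b * a) := by
  have e1 : (a * b).1.1 = a.1.1 * b.1.1 := rfl
  have e2 : (b * a).1.1 = b.1.1 * a.1.1 := rfl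
  unfold tr
  rw [e1, e2, Matrix.trace_mul_comm]

theorem tr_conj (h g : ↥(Cfsg.Sz F m)) : tr (h * g * h⁻¹) = tr g := by
  rw [tr_mul_comm, ← mul_assoc, inv_mul_cancel, one_mul]

theorem tr_u (hm : 1 ≤ m) (hF : Fintype.card F = 2 ^ (2 * m + 1)) (a b : F) :
    tr (u hm hF a b) = 0 :=
  trace_T (hyp_of_card hm hF) a b

theorem tr_uL (hm : 1 ≤ m) (hF : Fintype.card F = 2 ^ (2 * m + 1)) (e g z w : F) :
    tr (u hm hF e g * (wS hm hF * u hm hF z w * wS hm hF)) =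
      w * e ^ (2 ^ (m + 1) + 1) + z ^ (2 ^ (m + 1)) * e ^ (2 ^ (m + 1)) +
        z ^ (2 ^ (m + 1) + 1) * g + fq (2 ^ (m + 1)) z w * fq (2 ^ (m + 1)) e g := by
  have hs := hyp_of_card hm hF
  show Matrix.trace (Tm (2 ^ (m + 1)) e g * (Jm * Tm (2 ^ (m + 1)) z w * Jm)) = _
  rw [J_T_J, trace_T_L hs]

theorem tr_wuD (hm : 1 ≤ m) (hF : Fintype.card F = 2 ^ (2 * m + 1)) (z w : F) (l : Fˣ) :
    tr (wS hm hF * u hm hF z w * DHom hm hF l) =
      z ^ (2 ^ (m + 1)) * ((l⁻¹ : Fˣ) : F) +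
        fq (2 ^ (m + 1)) z w * ((l⁻¹ : Fˣ) : F) ^ (2 ^ (m + 1) + 1) :=
  trace_J_T_D _ z w l

theorem tr_four (hm : 1 ≤ m) (hF : Fintype.card F = 2 ^ (2 * m + 1)) (y b c : F) :
    tr (u hm hF 0 y * (wS hm hF * u hm hF 0 b * wS hm hF) * u hm hF 0 y *
      (wS hm hF * u hm hF 0 c * wS hm hF)) = (b * c) ^ (2 ^ (m + 1)) * (y ^ (2 ^ (m + 1))) ^ 2 := by
  have hs := hyp_of_card hm hF
  show Matrix.trace (Tm (2 ^ (m + 1)) 0 y * (Jm * Tm (2 ^ (m + 1)) 0 b * Jm) *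
    Tm (2 ^ (m + 1)) 0 y * (Jm * Tm (2 ^ (m + 1)) 0 c * Jm)) = _
  rw [J_T_J, J_T_J, trace_four hs]

/-- the normal form of a product of two involutions. -/
noncomputable def Nf (hm : 1 ≤ m) (hF : Fintype.card F = 2 ^ (2 * m + 1)) (b1 b2 : F) :
    ↥(Cfsg.Sz F m) :=
  u hm hF 0 b1 * (wS hm hF * u hm hF 0 b2 * wS hm hF)

theorem tr_Nf (hm : 1 ≤ m) (hF : Fintype.card F = 2 ^ (2 * m + 1)) (b1 b2 : F) :
    tr (Nf hm hF b1 b2) = (b1 * b2) ^ (2 ^ (m + 1)) := by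
  have hs := hyp_of_card hm hF
  have h0 := pow_s_zero hs
  have h1 : (0 : F) ^ (2 ^ (m + 1) + 1) = 0 := zero_pow (Nat.succ_ne_zero _)
  have h2 : (0 : F) ^ (2 ^ (m + 1) + 2) = 0 := zero_pow (Nat.succ_ne_zero _)
  unfold Nf
  rw [tr_uL]
  simp only [fq, h0, h1, h2]
  ring

theorem L_sq (hm : 1 ≤ m) (hF : Fintype.card F = 2 ^ (2 * m + 1)) (b : F) :
    (wS hm hF * u hm hF 0 b * wS hm hF) * (wS hm hF * u hm hF 0 b * wS hm hF) = 1 := by
  calc (wS hm hF * u hm hF 0 b * wS hm hF) * (wS hm hF * u hm hF 0 b * wS hm hF)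
      = wS hm hF * u hm hF 0 b * (wS hm hF * wS hm hF) * u hm hF 0 b * wS hm hF := by group
    _ = wS hm hF * (u hm hF 0 b * u hm hF 0 b) * wS hm hF := by rw [wS_sq]; group
    _ = 1 := by rw [u0_sq, mul_one, wS_sq]

theorem wS_ne_one (hm : 1 ≤ m) (hF : Fintype.card F = 2 ^ (2 * m + 1)) : wS hm hF ≠ 1 := by
  intro h
  have h1 : (wS hm hF).1 • Cfsg.suzukiPointInfinity F = Cfsg.suzukiPointZero F :=
    W_pInf (hyp_of_card hm hF)
  rw [h] at h1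
  exact pZero_ne_inf ((one_smul _ _).symm.trans h1).symm

theorem DwS_ne_one (hm : 1 ≤ m) (hF : Fintype.card F = 2 ^ (2 * m + 1)) (k : Fˣ) :
    DHom hm hF k * wS hm hF ≠ 1 := by
  intro h
  have h1 : (DHom hm hF k * wS hm hF).1 • Cfsg.suzukiPointInfinity F =
      Cfsg.suzukiPointZero F := by
    show (D (2 ^ (m + 1)) k * W (hyp_of_card hm hF)) • _ = _
    rw [mul_smul, W_pInf, D_pZero]
  rw [h] at h1
  exact pZero_ne_inf ((one_smul _ _).symm.trans h1).symm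

/-- a product of two involutions that is not an involution is conjugate to a normal form. -/
theorem conj_Nf_of_invols (hm : 1 ≤ m) (hF : Fintype.card F = 2 ^ (2 * m + 1))
    {i j : ↥(Cfsg.Sz F m)} (hi1 : i ≠ 1) (hi2 : i * i = 1) (hj1 : j ≠ 1) (hj2 : j * j = 1)
    (hne : (i * j) * (i * j) ≠ 1) :
    ∃ (h : ↥(Cfsg.Sz F m)) (b1 b2 : F), b1 ≠ 0 ∧ b2 ≠ 0 ∧ i * j = h * Nf hm hF b1 b2 * h⁻¹ := by
  have hs := hyp_of_card hm hF
  -- fixed points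
  have hfix : ∀ t : ↥(Cfsg.Sz F m), t ≠ 1 → t * t = 1 →
      ∃ p ∈ Cfsg.suzukiOvoid F m, t.1 • p = p := by
    intro t ht1 ht2
    obtain ⟨γ, β, hβ, rfl⟩ := inv_conj hm hF t ht1 ht2
    refine ⟨γ.1 • Cfsg.suzukiPointInfinity F, smul_mem_ovoid γ.2 (pInf_mem m), ?_⟩
    show (γ.1 * T (2 ^ (m + 1)) 0 β * γ.1⁻¹) • _ = _
    rw [mul_smul, mul_smul, inv_smul_smul, T_pInf]
  -- conjugating an involution with a fixed point at infinity
  have hconj : ∀ (t X : ↥(Cfsg.Sz F m)), t ≠ 1 → t * t = 1 →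
      ∀ p, t.1 • p = p → X.1 • p = Cfsg.suzukiPointInfinity F →
      ∃ b : F, b ≠ 0 ∧ X * t * X⁻¹ = u hm hF 0 b := by
    intro t X ht1 ht2 p hp hX
    apply invol_inf hm hF
    · intro h
      exact ht1 (conj_eq_one_iff.mp h)
    · calc X * t * X⁻¹ * (X * t * X⁻¹) = X * (t * t) * X⁻¹ := by group
        _ = 1 := by rw [ht2, mul_one, mul_inv_cancel]
    · show (X.1 * t.1 * X.1⁻¹) • _ = _
      rw [mul_smul, mul_smul, ← hX, inv_smul_smul, hp]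
  obtain ⟨p1, hp1, hip1⟩ := hfix i hi1 hi2
  obtain ⟨p2, hp2, hjp2⟩ := hfix j hj1 hj2
  by_cases hpp : p1 = p2
  · exfalso
    obtain ⟨X, hX, hXp⟩ := move_to_inf hm hF hp1
    lift X to ↥(Cfsg.Sz F m) using hX
    obtain ⟨b, hb, e1⟩ := hconj i X hi1 hi2 p1 hip1 hXp
    obtain ⟨b', hb', e2⟩ := hconj j X hj1 hj2 p1 (by rw [hpp]; exact hjp2) hXp
    apply hne
    have e3 : X * (i * j) * X⁻¹ = u hm hF 0 (b' + b) := by
      rw [← u0_mul, ← e1, ← e2]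
      group
    have e4 : X * (i * j * (i * j)) * X⁻¹ = 1 := by
      calc X * (i * j * (i * j)) * X⁻¹
          = (X * (i * j) * X⁻¹) * (X * (i * j) * X⁻¹) := by group
        _ = 1 := by rw [e3, u0_sq]
    exact conj_eq_one_iff.mp e4
  · obtain ⟨X, hX, hXp1, hXp2⟩ := two_trans hm hF hp1 hp2 hpp
    lift X to ↥(Cfsg.Sz F m) using hX
    obtain ⟨b1, hb1, e1⟩ := hconj i X hi1 hi2 p1 hip1 hXp1
    have hXp2' : (wS hm hF * X).1 • p2 = Cfsg.suzukiPointInfinity F := by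
      show (W hs * X.1) • p2 = _
      rw [mul_smul, hXp2, W_pZero]
    obtain ⟨b2, hb2, e2⟩ := hconj j (wS hm hF * X) hj1 hj2 p2 hjp2 hXp2'
    refine ⟨X⁻¹, b1, b2, hb1, hb2, ?_⟩
    unfold Nf
    rw [← e1, ← e2]
    have hw := wS_sq hm hF
    have hwi := wS_inv hm hF
    have e9 : (wS hm hF * X)⁻¹ = X⁻¹ * wS hm hF := by rw [_root_.mul_inv_rev, hwi]
    rw [e9]
    calc i * j = X⁻¹ * (X * i * X⁻¹ * ((wS hm hF * wS hm hF) * X * j *
          X⁻¹ * (wS hm hF * wS hm hF))) * X⁻¹⁻¹ := by rw [hw]; group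
      _ = _ := by group

end grp

end Cfsg.Agent.Lib.Helper3.SzOre1
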