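import Mathlib
import Cfsg.Agent.Lib.Helper3.SzOre1

set_option autoImplicit false
set_option linter.unusedSectionVars false

namespace Cfsg.Agent.Lib.Helper3.SzAut1

open Cfsg.Agent.Lib.Helper3.Sz1 Cfsg.Agent.Lib.Helper3.Sz6 Cfsg.Agent.Lib.Helper3.SzMax2
  Cfsg.Agent.Lib.Helper3.SzSub2 Cfsg.Agent.Lib.Helper3.SzOre1

variable {F : Type*} [Field F] [Fintype F] {m : ℕ}

/-- the number of additive endomorphisms of a field with `2 ^ n` elements. -/
theorem card_addHom (n : ℕ) (hF : Fintype.card F = 2 ^ n) (h2 : (2 : F) = 0) :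
    Nat.card (F →+ F) = 2 ^ (n ^ 2) := by
  have : CharP F 2 := CharTwo.of_one_ne_zero_of_two_eq_zero one_ne_zero h2
  let : Algebra (ZMod 2) F := ZMod.algebra F 2
  have h1 : Nat.card (F →+ F) = Nat.card (F →ₗ[ZMod 2] F) :=
    Nat.card_congr (AddMonoidHom.toZModLinearMapEquiv 2).toEquiv
  have h3 : Module.finrank (ZMod 2) F = n := by
    have h := Module.natCard_eq_pow_finrank (K := ZMod 2) (V := F)
    rw [Nat.card_eq_fintype_card, hF, Nat.card_zmod] at h
    exact (Nat.pow_right_injective (le_refl 2) h).symm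
  rw [h1, Module.natCard_eq_pow_finrank (K := ZMod 2) (V := F →ₗ[ZMod 2] F),
    Module.finrank_linearMap, h3, Nat.card_zmod, sq]

/-- the number of automorphisms of a field with `2 ^ n` elements. -/
theorem card_ringAut (n : ℕ) (hF : Fintype.card F = 2 ^ n) (h2 : (2 : F) = 0) :
    Nat.card (F ≃+* F) = n := by
  have : CharP F 2 := CharTwo.of_one_ne_zero_of_two_eq_zero one_ne_zero h2
  let : Algebra (ZMod 2) F := ZMod.algebra F 2
  have h3 : Module.finrank (ZMod 2) F = n := by
    have h := Module.natCard_eq_pow_finrank (K := ZMod 2) (V := F)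
    rw [Nat.card_eq_fintype_card, hF, Nat.card_zmod] at h
    exact (Nat.pow_right_injective (le_refl 2) h).symm
  have hcomm : ∀ (σ : F ≃+* F) (r : ZMod 2),
      σ (algebraMap (ZMod 2) F r) = algebraMap (ZMod 2) F r := by
    intro σ r
    have h : (σ : F →+* F).comp (algebraMap (ZMod 2) F) = algebraMap (ZMod 2) F :=
      Subsingleton.elim _ _
    exact RingHom.congr_fun h r
  let e : (F ≃+* F) ≃ (F ≃ₐ[ZMod 2] F) :=
    { toFun := fun σ => AlgEquiv.ofRingEquiv (f := σ) (hcomm σ)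
      invFun := fun τ => τ.toRingEquiv
      left_inv := fun σ => by ext x; rfl
      right_inv := fun τ => by ext x; rfl }
  rw [Nat.card_congr e, ← Nat.card_congr (Equiv.ofBijective _
    (FiniteField.bijective_frobeniusAlgEquivOfAlgebraic_pow (ZMod 2) F)), Nat.card_fin, h3]

/-- the additive map `t ↦ t ^ s + t`. -/
noncomputable def psi {s : ℕ} (hs : Hyp F s) : F →+ F where
  toFun t := t ^ s + t
  map_zero' := by rw [pow_s_zero hs, add_zero]
  map_add' x y := by rw [hs.add]; ring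

theorem psi_apply {s : ℕ} (hs : Hyp F s) (t : F) : psi hs t = t ^ s + t := rfl

/-- the image of `t ↦ t ^ s + t` has index two. -/
theorem psi_index {s : ℕ} (hs : Hyp F s) : (psi hs).range.index = 2 := by
  have hk : Nat.card (psi hs).ker = 2 := by
    rw [Nat.card_eq_two_iff]
    refine ⟨⟨0, by rw [AddMonoidHom.mem_ker, map_zero]⟩, ⟨1, ?_⟩, ?_, ?_⟩
    · rw [AddMonoidHom.mem_ker, psi_apply, one_pow]
      linear_combination hs.two
    · intro h
      exact zero_ne_one (congrArg Subtype.val h)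
    · ext ⟨x, hx⟩
      simp only [Set.mem_insert_iff, Set.mem_singleton_iff, Set.mem_univ, iff_true]
      rw [AddMonoidHom.mem_ker, psi_apply] at hx
      have hx' : x ^ s = x := by linear_combination hx - x * hs.two
      rcases fix_s hs hx' with h | h
      · left; exact Subtype.ext h
      · right; exact Subtype.ext h
  have h1 := AddSubgroup.card_mul_index (psi hs).ker
  have h2 := AddSubgroup.card_mul_index (psi hs).range
  rw [AddSubgroup.index_ker, hk] at h1
  have hpos : 0 < Nat.card (psi hs).range := Nat.card_pos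
  have h3 : Nat.card (psi hs).range * (psi hs).range.index = Nat.card (psi hs).range * 2 := by
    rw [h2, ← h1, mul_comm]
  exact Nat.eq_of_mul_eq_mul_left hpos h3

/-- additivity of the dual map. -/
theorem gamma_add {s : ℕ} (hs : Hyp F s) (B g : F → F) (hB : Function.Surjective B)
    (h : ∀ x c : F, x * c ∈ (psi hs).range ↔ B x * g c ∈ (psi hs).range) (c c' : F) :
    g (c + c') = g c + g c' := by
  have hi := psi_index hs
  by_contra hne
  have hw : g (c + c') + (g c + g c') ≠ 0 := by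
    intro h0
    apply hne
    linear_combination h0 - (g c + g c') * hs.two
  have hall : ∀ y : F, y * (g (c + c') + (g c + g c')) ∈ (psi hs).range := by
    intro y
    obtain ⟨x, rfl⟩ := hB y
    rw [mul_add, AddSubgroup.add_mem_iff_of_index_two hi, ← h, mul_add (B x),
      AddSubgroup.add_mem_iff_of_index_two hi, ← h, ← h, mul_add,
      AddSubgroup.add_mem_iff_of_index_two hi]
  have htop : (psi hs).range = ⊤ := by
    rw [eq_top_iff]
    intro z _
    have := hall (z / (g (c + c') + (g c + g c')))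
    rwa [div_mul_cancel₀ _ hw] at this
  rw [htop, AddSubgroup.index_top] at hi
  omega

/-- a Hua-type identity: an additive bijection whose conjugate by inversion is additive is a
scalar multiple of a field automorphism. -/
theorem hua (hm : 1 ≤ m) (hF : Fintype.card F = 2 ^ (2 * m + 1)) (B : F → F)
    (hBadd : ∀ x y, B (x + y) = B x + B y) (hBinj : Function.Injective B)
    (hg : ∀ c c' : F, (B (c + c')⁻¹)⁻¹ = (B c⁻¹)⁻¹ + (B c'⁻¹)⁻¹) :
    ∃ (μ : F) (σ : F ≃+* F), μ ≠ 0 ∧ ∀ x, B x = μ * σ x := by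
  have hs := hyp_of_card hm hF
  have h2 := hs.two
  have hB0 : B 0 = 0 := by
    have h := hBadd 0 0
    rw [add_zero] at h
    linear_combination -h
  have hBne : ∀ x, x ≠ 0 → B x ≠ 0 := fun x hx h => hx (hBinj (h.trans hB0.symm))
  obtain ⟨μ, hμ⟩ : ∃ μ, μ = B 1 := ⟨_, rfl⟩
  have hμ0 : μ ≠ 0 := by rw [hμ]; exact hBne 1 one_ne_zero
  obtain ⟨γ, hγ⟩ : ∃ γ : F → F, ∀ c, γ c = μ * (B c⁻¹)⁻¹ := ⟨fun c => μ * (B c⁻¹)⁻¹, fun c => rfl⟩
  have γadd : ∀ c c', γ (c + c') = γ c + γ c' := by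
    intro c c'
    rw [hγ, hγ, hγ, hg, mul_add]
  have γ0 : γ 0 = 0 := by rw [hγ, inv_zero, hB0, inv_zero, mul_zero]
  have γ1 : γ 1 = 1 := by rw [hγ, inv_one, ← hμ]; exact mul_inv_cancel₀ hμ0
  have γne : ∀ c, c ≠ 0 → γ c ≠ 0 := by
    intro c hc
    rw [hγ]
    exact mul_ne_zero hμ0 (inv_ne_zero (hBne _ (inv_ne_zero hc)))
  have hBinv : ∀ x, x ≠ 0 → B x⁻¹ = μ * (γ x)⁻¹ := by
    intro x hx
    rw [hγ, mul_inv, inv_inv, ← mul_assoc, mul_inv_cancel₀ hμ0, one_mul]
  have key : ∀ x a, x ≠ 0 → a ≠ 0 → x ≠ a → γ (x ^ 2 / a) * γ a = γ x ^ 2 := by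
    intro x a hx ha hxa
    have hxa' : x + a ≠ 0 := by
      intro h
      apply hxa
      linear_combination h - a * h2
    have hz : x ^ 2 / a + x ≠ 0 := by
      have e : x ^ 2 / a + x = x * (x + a) / a := by field_simp
      rw [e]
      exact div_ne_zero (mul_ne_zero hx hxa') ha
    have e1 : x⁻¹ + (x + a)⁻¹ = (x ^ 2 / a + x)⁻¹ := by
      have e : x ^ 2 / a + x = x * (x + a) / a := by field_simp
      rw [e, inv_div]
      field_simp
      linear_combination x * h2
    have e2 := congrArg B e1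
    rw [hBadd, hBinv x hx, hBinv _ hxa', hBinv _ hz, γadd, γadd] at e2
    have hp := γne x hx
    have hr := γne a ha
    have hpr : γ x + γ a ≠ 0 := by rw [← γadd]; exact γne _ hxa'
    have hwp : γ (x ^ 2 / a) + γ x ≠ 0 := by rw [← γadd]; exact γne _ hz
    have e3 : (γ x)⁻¹ + (γ x + γ a)⁻¹ = (γ (x ^ 2 / a) + γ x)⁻¹ := by
      apply mul_left_cancel₀ hμ0
      rw [mul_add]
      exact e2
    have e4 : (γ x + γ a) * (γ (x ^ 2 / a) + γ x) + γ x * (γ (x ^ 2 / a) + γ x) =
        γ x * (γ x + γ a) := by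
      calc (γ x + γ a) * (γ (x ^ 2 / a) + γ x) + γ x * (γ (x ^ 2 / a) + γ x)
          = ((γ x)⁻¹ + (γ x + γ a)⁻¹) * (γ x * (γ x + γ a) * (γ (x ^ 2 / a) + γ x)) := by
            field_simp
        _ = (γ (x ^ 2 / a) + γ x)⁻¹ * (γ x * (γ x + γ a) * (γ (x ^ 2 / a) + γ x)) := by rw [e3]
        _ = γ x * (γ x + γ a) := by field_simp
    linear_combination e4 - (γ x * γ (x ^ 2 / a) + γ x ^ 2) * h2
  have γsq : ∀ x, γ (x ^ 2) = γ x ^ 2 := by
    intro x
    by_cases hx : x = 0
    · rw [hx, γ0]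
      simp [γ0]
    by_cases hx1 : x = 1
    · rw [hx1, one_pow, γ1, one_pow]
    have h := key x 1 hx one_ne_zero hx1
    rwa [div_one, γ1, mul_one] at h
  have γmul : ∀ z a, γ (z * a) = γ z * γ a := by
    intro z a
    by_cases ha : a = 0
    · rw [ha, mul_zero, γ0, mul_zero]
    obtain ⟨x, hx⟩ := sqroot hF (z * a)
    have hz : z = x ^ 2 / a := by rw [hx]; field_simp
    by_cases hx0 : x = 0
    · have hz0 : z = 0 := by rw [hz, hx0]; simp
      rw [hz0, zero_mul, γ0, zero_mul]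
    by_cases hxa : x = a
    · have hza : z = a := by rw [hz, hxa]; field_simp
      rw [hza, ← sq, γsq, sq]
    rw [← hx, γsq, hz]
    exact (key x a hx0 ha hxa).symm
  let σ0 : F →+* F :=
    { toFun := γ, map_one' := γ1, map_mul' := γmul, map_zero' := γ0, map_add' := γadd }
  have σinj : Function.Injective σ0 := σ0.injective
  let σ : F ≃+* F := RingEquiv.ofBijective σ0 ⟨σinj, Finite.injective_iff_surjective.mp σinj⟩
  refine ⟨μ, σ, hμ0, fun x => ?_⟩
  by_cases hx : x = 0
  · rw [hx, hB0, map_zero, mul_zero]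
  have h1 : γ x⁻¹ = (γ x)⁻¹ := map_inv₀ σ0 x
  have h3 : γ x⁻¹ = μ * (B x)⁻¹ := by rw [hγ, inv_inv]
  have h4 : (γ x)⁻¹ = μ * (B x)⁻¹ := by rw [← h3]; exact h1.symm
  have hBx := hBne x hx
  have hγx := γne x hx
  show B x = μ * γ x
  calc B x = (γ x)⁻¹ * (γ x * B x) := by field_simp
    _ = μ * (B x)⁻¹ * (γ x * B x) := by rw [h4]
    _ = μ * γ x := by field_simp

/-- surjectivity of `c ↦ c ^ s * c`. -/
theorem N_surj {s : ℕ} (hs : Hyp F s) (b : F) : ∃ c : F, c ^ s * c = b := by
  have hinj : Function.Injective (fun c : F => c ^ s * c) := fun x y h => pow_s1_inj hs h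
  exact Finite.injective_iff_surjective.mp hinj b

end Cfsg.Agent.Lib.Helper3.SzAut1
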