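import Mathlib
import Cfsg.Prelude.Def_Solvable
import Cfsg.Prelude.Def_Transfer
import Cfsg.Agent.Lib.Lead.Cores
import Cfsg.Agent.Lib.Helper3.SuAut1
import Cfsg.Agent.Lib.Helper3.SzAut1

set_option autoImplicit false
set_option linter.unusedSectionVars false

namespace Cfsg.Agent.Lib.Helper3.SuAut2

open Cfsg.Agent.Lib.Helper2.Unitary Cfsg.Agent.Lib.Helper2.HermCount
  Cfsg.Agent.Lib.Helper3.SuAut1 Cfsg.Agent.Lib.Lead.Cores

variable {F : Type*} [Field F] [Fintype F] {H : Type*} [Group H]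

/-! ### the fixed field of the `q`-power map -/

/-- the fixed field of `x ↦ x ^ q`. -/
def Kf {q : ℕ} (hF : Fintype.card F = q ^ 2) : Subfield F :=
  (frob hF).eqLocusField (RingHom.id F)

theorem mem_Kf {q : ℕ} (hF : Fintype.card F = q ^ 2) (x : F) : x ∈ Kf hF ↔ x ^ q = x := Iff.rfl

theorem card_Kf {q : ℕ} (hF : Fintype.card F = q ^ 2) (h2 : (2 : F) = 0) :
    Nat.card ↥(Kf hF) = q := by
  classical
  have hq := two_le_q hF
  have hqa := pow_q_add hF
  have hqq := pow_q_pow_q hF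
  let T : F →+ F :=
    { toFun := fun x => x + x ^ q
      map_zero' := by rw [zero_pow (by omega), add_zero]
      map_add' := fun x y => by rw [hqa]; ring }
  have hT : ∀ x, T x = x + x ^ q := fun x => rfl
  have hker : Nat.card T.ker = Nat.card ↥(Kf hF) := by
    apply Nat.card_congr
    refine Equiv.subtypeEquivRight (fun x => ?_)
    rw [AddMonoidHom.mem_ker, hT, mem_Kf]
    constructor
    · intro h
      linear_combination h - x * h2
    · intro h
      linear_combination h + x * h2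
  have hle : T.range ≤ T.ker := by
    rintro _ ⟨x, rfl⟩
    rw [AddMonoidHom.mem_ker, hT, hT, hqa, hqq]
    linear_combination (x + x ^ q) * h2
  have h1 := AddSubgroup.card_mul_index T.ker
  rw [AddSubgroup.index_ker, Nat.card_eq_fintype_card (α := F), hF] at h1
  have h3 : Nat.card T.range ≤ Nat.card T.ker := AddSubgroup.card_le_of_le hle
  have hp : (Polynomial.X ^ q - Polynomial.X : Polynomial F) ≠ 0 :=
    FiniteField.X_pow_card_sub_X_ne_zero F (by omega)
  have hdeg : (Polynomial.X ^ q - Polynomial.X : Polynomial F).natDegree = q :=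
    FiniteField.X_pow_card_sub_X_natDegree_eq F (by omega)
  have hsub : ((Finset.univ : Finset F).filter (fun x => x ^ q = x)).val ≤
      (Polynomial.X ^ q - Polynomial.X : Polynomial F).roots := by
    rw [Multiset.le_iff_subset (Finset.nodup _)]
    intro x hx
    rw [Finset.mem_val, Finset.mem_filter] at hx
    rw [Polynomial.mem_roots hp]
    simp [hx.2]
  have h4 := (Multiset.card_le_card hsub).trans (Polynomial.card_roots' _)
  rw [hdeg] at h4
  have h5 : Nat.card ↥(Kf hF) ≤ q := by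
    have h6 : Nat.card ↥(Kf hF) = ((Finset.univ : Finset F).filter (fun x => x ^ q = x)).card := by
      rw [Nat.card_eq_fintype_card, ← Fintype.card_subtype]
      exact Fintype.card_congr (Equiv.subtypeEquivRight (fun x => mem_Kf hF x))
    rw [h6]
    exact h4
  rw [hker] at h1 h3
  nlinarith

/-- additive maps between finite fields of characteristic two. -/
theorem card_addHom2 {K' : Type*} [Field K'] [Finite K'] (a b : ℕ)
    (hF : Fintype.card F = 2 ^ a) (hK : Nat.card K' = 2 ^ b) (h2 : (2 : F) = 0)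
    (h2K : (2 : K') = 0) : Nat.card (F →+ K') = 2 ^ (a * b) := by
  have : CharP F 2 := CharTwo.of_one_ne_zero_of_two_eq_zero one_ne_zero h2
  have : CharP K' 2 := CharTwo.of_one_ne_zero_of_two_eq_zero one_ne_zero h2K
  let _ : Algebra (ZMod 2) F := ZMod.algebra F 2
  let _ : Algebra (ZMod 2) K' := ZMod.algebra K' 2
  have h1 : Nat.card (F →+ K') = Nat.card (F →ₗ[ZMod 2] K') :=
    Nat.card_congr (AddMonoidHom.toZModLinearMapEquiv 2).toEquiv
  have h3 : Module.finrank (ZMod 2) F = a := by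
    have h := Module.natCard_eq_pow_finrank (K := ZMod 2) (V := F)
    rw [Nat.card_eq_fintype_card, hF, Nat.card_zmod] at h
    exact (Nat.pow_right_injective (le_refl 2) h).symm
  have h4 : Module.finrank (ZMod 2) K' = b := by
    have h := Module.natCard_eq_pow_finrank (K := ZMod 2) (V := K')
    rw [hK, Nat.card_zmod] at h
    exact (Nat.pow_right_injective (le_refl 2) h).symm
  rw [h1, Module.natCard_eq_pow_finrank (K := ZMod 2) (V := F →ₗ[ZMod 2] K'),
    Module.finrank_linearMap, h3, h4, Nat.card_zmod]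

theorem pow_two_pow_eq_one (h2 : (2 : F) = 0) : ∀ (j : ℕ) (x : F), x ^ 2 ^ j = 1 → x = 1 := by
  intro j
  induction j with
  | zero =>
    intro x hx
    simpa using hx
  | succ j ih =>
    intro x hx
    rw [pow_succ, mul_comm, pow_mul] at hx
    have h := ih _ hx
    apply sq_inj h2
    rw [← pow_two, h, one_mul]

/-! ### coordinates -/

/-- coordinates of unitary type on a group. -/
structure CoU (F : Type*) [Field F] [Fintype F] (q : ℕ) (H : Type*) [Group H] where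
  u : F → F → H
  hF : Fintype.card F = q ^ 2
  h2 : (2 : F) = 0
  surj : ∀ h : H, ∃ a s : F, s + s ^ q = a ^ q * a ∧ u a s = h
  inj : ∀ a s a' s' : F, s + s ^ q = a ^ q * a → s' + s' ^ q = a' ^ q * a' →
    u a s = u a' s' → a = a' ∧ s = s'
  mul : ∀ a s a' s' : F, s + s ^ q = a ^ q * a → s' + s' ^ q = a' ^ q * a' →
    u a s * u a' s' = u (a + a') (s + s' + a * a' ^ q)

namespace CoU

variable {q : ℕ} (C : CoU F q H)

include C

theorem q0 : q ≠ 0 := by
  have := two_le_q C.hF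
  omega

theorem rel_mul {a s a' s' : F} (h : s + s ^ q = a ^ q * a) (h' : s' + s' ^ q = a' ^ q * a') :
    (s + s' + a * a' ^ q) + (s + s' + a * a' ^ q) ^ q = (a + a') ^ q * (a + a') := by
  rw [pow_q_add C.hF, pow_q_add C.hF, pow_q_add C.hF, mul_pow, pow_q_pow_q C.hF]
  linear_combination h + h'

theorem rel_z {z : F} (hz : z ^ q = z) : z + z ^ q = (0 : F) ^ q * 0 := by
  rw [hz, mul_zero]
  linear_combination z * C.h2

theorem z_of_rel {z : F} (h : z + z ^ q = (0 : F) ^ q * 0) : z ^ q = z := by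
  rw [mul_zero] at h
  linear_combination h - z * C.h2

theorem KN (a : F) : (a ^ q * a) ^ q = a ^ q * a := by
  rw [mul_pow, pow_q_pow_q C.hF]
  ring

noncomputable def p1 (h : H) : F := (C.surj h).choose

noncomputable def p2 (h : H) : F := (C.surj h).choose_spec.choose

theorem rel_p (h : H) : C.p2 h + C.p2 h ^ q = C.p1 h ^ q * C.p1 h :=
  (C.surj h).choose_spec.choose_spec.1

theorem u_p (h : H) : C.u (C.p1 h) (C.p2 h) = h := (C.surj h).choose_spec.choose_spec.2

theorem p1_u {a s : F} (h : s + s ^ q = a ^ q * a) : C.p1 (C.u a s) = a :=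
  (C.inj _ _ _ _ (C.rel_p _) h (C.u_p (C.u a s))).1

theorem p2_u {a s : F} (h : s + s ^ q = a ^ q * a) : C.p2 (C.u a s) = s :=
  (C.inj _ _ _ _ (C.rel_p _) h (C.u_p (C.u a s))).2

theorem p1_mul (x y : H) : C.p1 (x * y) = C.p1 x + C.p1 y := by
  obtain ⟨a, s, h, rfl⟩ := C.surj x
  obtain ⟨a', s', h', rfl⟩ := C.surj y
  rw [C.mul _ _ _ _ h h', C.p1_u (C.rel_mul h h'), C.p1_u h, C.p1_u h']

theorem finite : Finite H :=
  Finite.of_surjective (fun p : F × F => C.u p.1 p.2) (fun h => by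
    obtain ⟨a, s, _, e⟩ := C.surj h
    exact ⟨(a, s), e⟩)

theorem exists_eps : ∃ ε : F, ε + ε ^ q = 1 := by
  obtain ⟨ω, hω⟩ := exists_not_fixed C.hF
  have ht : ω + ω ^ q ≠ 0 := by
    intro h
    apply hω
    linear_combination h - ω * C.h2
  have htK : (ω + ω ^ q) ^ q = ω + ω ^ q := by
    rw [pow_q_add C.hF, pow_q_pow_q C.hF]
    ring
  refine ⟨ω / (ω + ω ^ q), ?_⟩
  rw [div_pow, htK]
  field_simp

noncomputable def eps : F := C.exists_eps.choose

theorem eps_spec : C.eps + C.eps ^ q = 1 := C.exists_eps.choose_spec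

/-- a fixed element above `a`. -/
noncomputable def base (a : F) : H := C.u a (C.eps * (a ^ q * a))

theorem rel_base (a : F) :
    C.eps * (a ^ q * a) + (C.eps * (a ^ q * a)) ^ q = a ^ q * a := by
  rw [mul_pow, C.KN]
  linear_combination (a ^ q * a) * C.eps_spec

theorem sq {a s : F} (h : s + s ^ q = a ^ q * a) : C.u a s * C.u a s = C.u 0 (a ^ q * a) := by
  rw [C.mul _ _ _ _ h h]
  congr 1
  · linear_combination a * C.h2
  · linear_combination s * C.h2

theorem split {a s : F} (h : s + s ^ q = a ^ q * a) :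
    C.u a s = C.base a * C.u 0 (s + C.eps * (a ^ q * a)) ∧
      (s + C.eps * (a ^ q * a)) ^ q = s + C.eps * (a ^ q * a) := by
  have hz : (s + C.eps * (a ^ q * a)) ^ q = s + C.eps * (a ^ q * a) := by
    rw [pow_q_add C.hF, mul_pow, C.KN]
    linear_combination h - (a ^ q * a) * C.eps_spec + (C.eps ^ q * (a ^ q * a) - s) * C.h2
  refine ⟨?_, hz⟩
  unfold base
  rw [C.mul _ _ _ _ (C.rel_base a) (C.rel_z hz)]
  congr 1
  · ring
  · rw [zero_pow C.q0]
    linear_combination (-(C.eps * (a ^ q * a))) * C.h2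

theorem zsq {z : F} (hz : z ^ q = z) : ∃ c : F, C.u 0 z = C.base c * C.base c := by
  obtain ⟨w, hw⟩ := sqrt_ex C.h2 z
  have hwK : w ^ q = w := by
    apply sq_inj C.h2
    rw [← mul_pow, hw, hz]
  refine ⟨w, ?_⟩
  unfold base
  rw [C.sq (C.rel_base w), hwK, hw]

/-- the action of an automorphism on the quotient by the centre. -/
noncomputable def A (φ : MulAut H) (a : F) : F := C.p1 (φ (C.base a))

/-- the action of an automorphism on the centre. -/
noncomputable def B (φ : MulAut H) (z : F) : F := C.p2 (φ (C.u 0 z))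

theorem p1_phi_z (φ : MulAut H) {z : F} (hz : z ^ q = z) : C.p1 (φ (C.u 0 z)) = 0 := by
  obtain ⟨c, hc⟩ := C.zsq hz
  rw [hc, map_mul, C.p1_mul]
  linear_combination (C.p1 (φ (C.base c))) * C.h2

theorem phi_z (φ : MulAut H) {z : F} (hz : z ^ q = z) :
    φ (C.u 0 z) = C.u 0 (C.B φ z) ∧ C.B φ z ^ q = C.B φ z := by
  have h := C.u_p (φ (C.u 0 z))
  have hr := C.rel_p (φ (C.u 0 z))
  rw [C.p1_phi_z φ hz] at h hr
  exact ⟨h.symm, C.z_of_rel hr⟩

theorem p1_phi (φ : MulAut H) {a s : F} (h : s + s ^ q = a ^ q * a) :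
    C.p1 (φ (C.u a s)) = C.A φ a := by
  obtain ⟨h1, h2⟩ := C.split h
  rw [h1, map_mul, C.p1_mul, C.p1_phi_z φ h2, add_zero]
  rfl

theorem phi_u (φ : MulAut H) {a s : F} (h : s + s ^ q = a ^ q * a) :
    ∃ s' : F, s' + s' ^ q = C.A φ a ^ q * C.A φ a ∧ φ (C.u a s) = C.u (C.A φ a) s' := by
  refine ⟨C.p2 (φ (C.u a s)), ?_, ?_⟩
  · rw [← C.p1_phi φ h]
    exact C.rel_p _
  · rw [← C.p1_phi φ h]
    exact (C.u_p _).symm

theorem A_add (φ : MulAut H) (a c : F) : C.A φ (a + c) = C.A φ a + C.A φ c := by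
  have h := C.mul _ _ _ _ (C.rel_base a) (C.rel_base c)
  have h2 := congrArg (fun x => C.p1 (φ x)) h
  simp only [map_mul] at h2
  rw [C.p1_mul, C.p1_phi φ (C.rel_mul (C.rel_base a) (C.rel_base c))] at h2
  exact h2.symm

theorem A_one (a : F) : C.A 1 a = a := by
  show C.p1 ((1 : MulAut H) (C.base a)) = a
  rw [MulAut.one_apply]
  exact C.p1_u (C.rel_base a)

theorem A_mul (φ ψ : MulAut H) (a : F) : C.A (φ * ψ) a = C.A φ (C.A ψ a) := by
  obtain ⟨s', hs', h⟩ := C.phi_u ψ (C.rel_base a)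
  show C.p1 ((φ * ψ) (C.base a)) = _
  rw [MulAut.mul_apply]
  have h' : ψ (C.base a) = C.u (C.A ψ a) s' := h
  rw [h', C.p1_phi φ hs']

theorem A_inv (φ : MulAut H) (a : F) : C.A φ⁻¹ (C.A φ a) = a := by
  rw [← C.A_mul, inv_mul_cancel, C.A_one]

theorem A_surj (φ : MulAut H) : Function.Surjective (C.A φ) := fun y =>
  ⟨C.A φ⁻¹ y, by have h := C.A_inv φ⁻¹ y; rwa [inv_inv] at h⟩

theorem A_inj (φ : MulAut H) : Function.Injective (C.A φ) := fun x y h => by
  rw [← C.A_inv φ x, ← C.A_inv φ y, h]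

/-- the homomorphism to the permutations of the quotient by the centre. -/
noncomputable def Phi : MulAut H →* Equiv.Perm F where
  toFun φ :=
    { toFun := C.A φ
      invFun := C.A φ⁻¹
      left_inv := fun a => C.A_inv φ a
      right_inv := fun a => by have h := C.A_inv φ⁻¹ a; rwa [inv_inv] at h }
  map_one' := Equiv.ext (C.A_one)
  map_mul' φ ψ := Equiv.ext (C.A_mul φ ψ)

theorem Phi_apply (φ : MulAut H) (a : F) : C.Phi φ a = C.A φ a := rfl

theorem B_add (φ : MulAut H) {z z' : F} (hz : z ^ q = z) (hz' : z' ^ q = z') :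
    C.B φ (z + z') = C.B φ z + C.B φ z' := by
  have hzz : (z + z') ^ q = z + z' := by rw [pow_q_add C.hF, hz, hz']
  have h := C.mul _ _ _ _ (C.rel_z hz) (C.rel_z hz')
  simp only [add_zero, zero_mul] at h
  have h2 := congrArg φ h
  rw [map_mul, (C.phi_z φ hz).1, (C.phi_z φ hz').1, (C.phi_z φ hzz).1,
    C.mul _ _ _ _ (C.rel_z (C.phi_z φ hz).2) (C.rel_z (C.phi_z φ hz').2)] at h2
  simp only [add_zero, zero_mul] at h2
  have hs : (C.B φ z + C.B φ z') ^ q = C.B φ z + C.B φ z' := by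
    rw [pow_q_add C.hF, (C.phi_z φ hz).2, (C.phi_z φ hz').2]
  exact ((C.inj _ _ _ _ (C.rel_z hs) (C.rel_z (C.phi_z φ hzz).2) h2).2).symm

theorem B_N (φ : MulAut H) (a : F) : C.B φ (a ^ q * a) = C.A φ a ^ q * C.A φ a := by
  obtain ⟨s', hs', h⟩ := C.phi_u φ (C.rel_base a)
  have h2 := congrArg φ (C.sq (C.rel_base a))
  rw [map_mul, h, C.sq hs', (C.phi_z φ (C.KN a)).1] at h2
  exact ((C.inj _ _ _ _ (C.rel_z (C.KN _)) (C.rel_z (C.phi_z φ (C.KN a)).2) h2).2).symm

theorem one_eq : C.u 0 0 = 1 := by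
  have h0 : (0 : F) ^ q = 0 := zero_pow C.q0
  have h := C.mul 0 0 0 0 (by rw [h0]; ring) (by rw [h0]; ring)
  simp only [add_zero, zero_mul] at h
  exact mul_eq_left.mp h

theorem B_zero (φ : MulAut H) : C.B φ 0 = 0 := by
  have h0 : (0 : F) ^ q = 0 := zero_pow C.q0
  have h := (C.phi_z φ h0).1
  rw [C.one_eq, map_one, ← C.one_eq] at h
  exact ((C.inj _ _ _ _ (C.rel_z h0) (C.rel_z (C.phi_z φ h0).2) h).2).symm

theorem B_inv (φ : MulAut H) {z : F} (hz : z ^ q = z) : C.B φ⁻¹ (C.B φ z) = z := by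
  have h : φ⁻¹ (φ (C.u 0 z)) = C.u 0 z := by
    rw [← MulAut.mul_apply, inv_mul_cancel, MulAut.one_apply]
  rw [(C.phi_z φ hz).1, (C.phi_z φ⁻¹ (C.phi_z φ hz).2).1] at h
  exact (C.inj _ _ _ _ (C.rel_z (C.phi_z φ⁻¹ (C.phi_z φ hz).2).2) (C.rel_z hz) h).2

theorem B_inj (φ : MulAut H) {z : F} (hz : z ^ q = z) (h : C.B φ z = 0) : z = 0 := by
  have h1 := C.B_inv φ hz
  rw [h, C.B_zero] at h1
  exact h1.symm

/-- every automorphism acts semilinearly. -/
theorem A_form (φ : MulAut H) : ∃ (l : F) (σ : F ≃+* F), l ≠ 0 ∧ (∀ a, C.A φ a = l * σ a) ∧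
    ∀ z, z ^ q = z → C.B φ z = l ^ q * l * σ z :=
  semilin C.hF C.h2 (C.A φ) (C.B φ) (C.A_add φ) (C.A_inj φ)
    (fun _ _ hx hy => C.B_add φ hx hy) (fun _ hx h => C.B_inj φ hx h) (C.B_N φ)

/-- the automorphism with given scalar and field automorphism. -/
theorem exists_aut (l : F) (hl : l ≠ 0) (σ : F ≃+* F) :
    ∃ φ : MulAut H, ∀ a s, s + s ^ q = a ^ q * a →
      φ (C.u a s) = C.u (l * σ a) (l ^ q * l * σ s) := by
  have := C.finite
  have hrel : ∀ a s : F, s + s ^ q = a ^ q * a →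
      l ^ q * l * σ s + (l ^ q * l * σ s) ^ q = (l * σ a) ^ q * (l * σ a) := by
    intro a s h
    have h1 := congrArg σ h
    rw [map_add, map_mul, map_pow, map_pow] at h1
    rw [mul_pow, mul_pow, mul_pow, pow_q_pow_q C.hF]
    linear_combination (l ^ q * l) * h1
  obtain ⟨f, hf⟩ : ∃ f : H → H, ∀ a s, s + s ^ q = a ^ q * a →
      f (C.u a s) = C.u (l * σ a) (l ^ q * l * σ s) := by
    refine ⟨fun h => C.u (l * σ (C.p1 h)) (l ^ q * l * σ (C.p2 h)), fun a s h => ?_⟩
    show C.u (l * σ (C.p1 (C.u a s))) (l ^ q * l * σ (C.p2 (C.u a s))) = _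
    rw [C.p1_u h, C.p2_u h]
  have hmul : ∀ x y, f (x * y) = f x * f y := by
    intro x y
    obtain ⟨a, s, h, rfl⟩ := C.surj x
    obtain ⟨a', s', h', rfl⟩ := C.surj y
    rw [C.mul _ _ _ _ h h', hf _ _ (C.rel_mul h h'), hf _ _ h, hf _ _ h',
      C.mul _ _ _ _ (hrel _ _ h) (hrel _ _ h')]
    congr 1
    · rw [map_add]; ring
    · rw [map_add, map_add, map_mul, map_pow, mul_pow]; ring
  have hls : l ^ q * l ≠ 0 := mul_ne_zero (pow_ne_zero _ hl) hl
  have hinj : Function.Injective f := by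
    intro x y hxy
    obtain ⟨a, s, h, rfl⟩ := C.surj x
    obtain ⟨a', s', h', rfl⟩ := C.surj y
    rw [hf _ _ h, hf _ _ h'] at hxy
    obtain ⟨h1, h2⟩ := C.inj _ _ _ _ (hrel _ _ h) (hrel _ _ h') hxy
    rw [σ.injective (mul_left_cancel₀ hl h1), σ.injective (mul_left_cancel₀ hls h2)]
  exact ⟨MulEquiv.ofBijective (MonoidHom.mk' f hmul)
    ⟨hinj, Finite.injective_iff_surjective.mp hinj⟩, hf⟩

theorem ker_A (φ : MulAut H) (hφ : φ ∈ C.Phi.ker) (a : F) : C.A φ a = a := by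
  have h := congrArg (fun π : Equiv.Perm F => π a) (MonoidHom.mem_ker.mp hφ)
  exact h

theorem mem_ker (φ : MulAut H) (h : ∀ a, C.A φ a = a) : φ ∈ C.Phi.ker := by
  rw [MonoidHom.mem_ker]
  ext a
  exact h a

theorem ker_form' (φ : MulAut H) (hφ : φ ∈ C.Phi.ker) :
    ∃ f : F → F, (∀ a, f a ^ q = f a) ∧ (∀ a c, f (a + c) = f a + f c) ∧
      ∀ a s, s + s ^ q = a ^ q * a → φ (C.u a s) = C.u a (s + f a) := by
  have hB : ∀ z, z ^ q = z → C.B φ z = z := by
    intro z hz
    obtain ⟨w, hw⟩ := sqrt_ex C.h2 z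
    have hwK : w ^ q = w := by
      apply sq_inj C.h2
      rw [← mul_pow, hw, hz]
    have h := C.B_N φ w
    rw [C.ker_A φ hφ, hwK, hw] at h
    exact h
  have hbase : ∀ a, ∃ s', s' + s' ^ q = a ^ q * a ∧ φ (C.base a) = C.u a s' := by
    intro a
    obtain ⟨s', hs', h⟩ := C.phi_u φ (C.rel_base a)
    rw [C.ker_A φ hφ] at hs' h
    exact ⟨s', hs', h⟩
  choose g hg1 hg2 using hbase
  have hfK : ∀ a, (g a + C.eps * (a ^ q * a)) ^ q = g a + C.eps * (a ^ q * a) := by
    intro a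
    rw [pow_q_add C.hF, mul_pow, C.KN]
    linear_combination hg1 a - (a ^ q * a) * C.eps_spec + (C.eps ^ q * (a ^ q * a) - g a) * C.h2
  have hform : ∀ a s, s + s ^ q = a ^ q * a →
      φ (C.u a s) = C.u a (s + (g a + C.eps * (a ^ q * a))) := by
    intro a s h
    obtain ⟨h1, h2⟩ := C.split h
    rw [h1, map_mul, hg2, (C.phi_z φ h2).1, hB _ h2, C.mul _ _ _ _ (hg1 a) (C.rel_z h2)]
    congr 1
    · ring
    · rw [zero_pow C.q0]
      ring
  refine ⟨fun a => g a + C.eps * (a ^ q * a), hfK, ?_, hform⟩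
  intro a c
  have h := C.mul _ _ _ _ (C.rel_base a) (C.rel_base c)
  have h2 := congrArg φ h
  rw [map_mul, hform _ _ (C.rel_mul (C.rel_base a) (C.rel_base c))] at h2
  have h3 : φ (C.u a (C.eps * (a ^ q * a))) = _ := hform _ _ (C.rel_base a)
  have h4 : φ (C.u c (C.eps * (c ^ q * c))) = _ := hform _ _ (C.rel_base c)
  rw [h3, h4] at h2
  have r1 : ∀ a : F, (C.eps * (a ^ q * a) + (g a + C.eps * (a ^ q * a))) +
      (C.eps * (a ^ q * a) + (g a + C.eps * (a ^ q * a))) ^ q = a ^ q * a := by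
    intro a
    rw [pow_q_add C.hF, hfK a]
    linear_combination C.rel_base a + (g a + C.eps * (a ^ q * a)) * C.h2
  rw [C.mul _ _ _ _ (r1 a) (r1 c)] at h2
  have r2 := C.rel_mul (r1 a) (r1 c)
  have r3 : (C.eps * (a ^ q * a) + C.eps * (c ^ q * c) + a * c ^ q +
      (g (a + c) + C.eps * ((a + c) ^ q * (a + c)))) +
      (C.eps * (a ^ q * a) + C.eps * (c ^ q * c) + a * c ^ q +
      (g (a + c) + C.eps * ((a + c) ^ q * (a + c)))) ^ q = (a + c) ^ q * (a + c) := by
    rw [pow_q_add C.hF _ (g (a + c) + C.eps * ((a + c) ^ q * (a + c))), hfK (a + c)]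
    linear_combination C.rel_mul (C.rel_base a) (C.rel_base c) +
      (g (a + c) + C.eps * ((a + c) ^ q * (a + c))) * C.h2
  have h5 := (C.inj _ _ _ _ r2 r3 h2).2
  linear_combination (-1 : F) * h5

theorem ker_comm (φ ψ : MulAut H) (hφ : φ ∈ C.Phi.ker) (hψ : ψ ∈ C.Phi.ker) :
    φ * ψ = ψ * φ := by
  obtain ⟨f, hfK, -, hf⟩ := C.ker_form' φ hφ
  obtain ⟨g, hgK, -, hg⟩ := C.ker_form' ψ hψ
  have r : ∀ (k : F → F), (∀ a, k a ^ q = k a) → ∀ a s : F, s + s ^ q = a ^ q * a →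
      (s + k a) + (s + k a) ^ q = a ^ q * a := by
    intro k hk a s h
    rw [pow_q_add C.hF, hk a]
    linear_combination h + k a * C.h2
  apply MulEquiv.ext
  intro h
  obtain ⟨a, s, hr, rfl⟩ := C.surj h
  rw [MulAut.mul_apply, MulAut.mul_apply, hg _ _ hr, hf _ _ (r g hgK _ _ hr), hf _ _ hr,
    hg _ _ (r f hfK _ _ hr)]
  congr 1
  ring

theorem ker_sq (φ : MulAut H) (hφ : φ ∈ C.Phi.ker) : φ ^ 2 = 1 := by
  obtain ⟨f, hfK, -, hf⟩ := C.ker_form' φ hφ
  apply MulEquiv.ext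
  intro h
  obtain ⟨a, s, hr, rfl⟩ := C.surj h
  have r : (s + f a) + (s + f a) ^ q = a ^ q * a := by
    rw [pow_q_add C.hF, hfK a]
    linear_combination hr + f a * C.h2
  rw [pow_two, MulAut.mul_apply, MulAut.one_apply, hf _ _ hr, hf _ _ r]
  congr 1
  linear_combination (f a) * C.h2

/-- the central automorphism attached to an additive map into the fixed field. -/
noncomputable def cf (f : F →+ ↥(Kf C.hF)) (h : H) : H :=
  C.u (C.p1 h) (C.p2 h + (f (C.p1 h) : F))

theorem rel_cf (f : F →+ ↥(Kf C.hF)) {a s : F} (h : s + s ^ q = a ^ q * a) :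
    (s + (f a : F)) + (s + (f a : F)) ^ q = a ^ q * a := by
  have hk : (f a : F) ^ q = (f a : F) := (mem_Kf C.hF _).mp (f a).2
  rw [pow_q_add C.hF, hk]
  linear_combination h + (f a : F) * C.h2

theorem cf_u (f : F →+ ↥(Kf C.hF)) {a s : F} (h : s + s ^ q = a ^ q * a) :
    C.cf f (C.u a s) = C.u a (s + (f a : F)) := by
  unfold cf
  rw [C.p1_u h, C.p2_u h]

theorem cf_cf (f : F →+ ↥(Kf C.hF)) (h : H) : C.cf f (C.cf f h) = h := by
  obtain ⟨a, s, hr, rfl⟩ := C.surj h
  rw [C.cf_u f hr, C.cf_u f (C.rel_cf f hr)]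
  congr 1
  linear_combination ((f a : F)) * C.h2

theorem cf_mul (f : F →+ ↥(Kf C.hF)) (x y : H) : C.cf f (x * y) = C.cf f x * C.cf f y := by
  obtain ⟨a, s, h, rfl⟩ := C.surj x
  obtain ⟨a', s', h', rfl⟩ := C.surj y
  rw [C.mul _ _ _ _ h h', C.cf_u f (C.rel_mul h h'), C.cf_u f h, C.cf_u f h',
    C.mul _ _ _ _ (C.rel_cf f h) (C.rel_cf f h')]
  congr 1
  rw [map_add]
  push_cast
  ring

noncomputable def cent (f : F →+ ↥(Kf C.hF)) : MulAut H :=
  { toFun := C.cf f
    invFun := C.cf f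
    left_inv := C.cf_cf f
    right_inv := C.cf_cf f
    map_mul' := C.cf_mul f }

theorem cent_u (f : F →+ ↥(Kf C.hF)) {a s : F} (h : s + s ^ q = a ^ q * a) :
    C.cent f (C.u a s) = C.u a (s + (f a : F)) := C.cf_u f h

theorem cent_mem (f : F →+ ↥(Kf C.hF)) : C.cent f ∈ C.Phi.ker := by
  apply C.mem_ker
  intro a
  show C.p1 (C.cent f (C.base a)) = a
  unfold base
  rw [C.cent_u f (C.rel_base a), C.p1_u (C.rel_cf f (C.rel_base a))]

/-- the kernel is the group of central automorphisms. -/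
theorem card_ker (n : ℕ) (hq : q = 2 ^ n) : Nat.card C.Phi.ker = 2 ^ (2 * n * n) := by
  have hK : Nat.card ↥(Kf C.hF) = 2 ^ n := by rw [card_Kf C.hF C.h2, hq]
  have hF' : Fintype.card F = 2 ^ (2 * n) := by rw [C.hF, hq, ← pow_mul, mul_comm]
  have h2K : (2 : ↥(Kf C.hF)) = 0 := Subtype.ext (by push_cast; exact C.h2)
  rw [← card_addHom2 (2 * n) n hF' hK C.h2 h2K]
  have hchoice : ∀ φ : C.Phi.ker, ∃ f : F →+ ↥(Kf C.hF),
      ∀ a s, s + s ^ q = a ^ q * a → φ.1 (C.u a s) = C.u a (s + (f a : F)) := by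
    intro φ
    obtain ⟨f, hfK, hfadd, hf⟩ := C.ker_form' φ.1 φ.2
    refine ⟨AddMonoidHom.mk' (fun a => ⟨f a, (mem_Kf C.hF _).mpr (hfK a)⟩)
      (fun a c => Subtype.ext (hfadd a c)), hf⟩
  choose e he using hchoice
  apply Nat.card_congr
  refine Equiv.ofBijective e ⟨?_, ?_⟩
  · intro φ ψ h
    apply Subtype.ext
    apply MulEquiv.ext
    intro x
    obtain ⟨a, s, hr, rfl⟩ := C.surj x
    rw [he φ a s hr, he ψ a s hr, h]
  · intro f
    refine ⟨⟨C.cent f, C.cent_mem f⟩, ?_⟩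
    apply AddMonoidHom.ext
    intro a
    have h1 := he ⟨C.cent f, C.cent_mem f⟩ a _ (C.rel_base a)
    have h1' : C.cent f (C.u a (C.eps * (a ^ q * a))) = _ := h1
    rw [C.cent_u f (C.rel_base a)] at h1'
    have r := C.rel_cf f (C.rel_base a)
    have r' := C.rel_cf (e ⟨C.cent f, C.cent_mem f⟩) (C.rel_base a)
    have h2 := (C.inj _ _ _ _ r r' h1').2
    apply Subtype.ext
    linear_combination (-1 : F) * h2

theorem A_pow (φ : MulAut H) (ν : F) (h : ∀ a, C.A φ a = ν * a) :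
    ∀ (k : ℕ) (a : F), C.A (φ ^ k) a = ν ^ k * a := by
  intro k
  induction k with
  | zero =>
    intro a
    rw [pow_zero, C.A_one, pow_zero, one_mul]
  | succ k ih =>
    intro a
    rw [pow_succ, C.A_mul, h, ih, pow_succ]
    ring

/-- the order of the image. -/
theorem card_range (n : ℕ) (hq : q = 2 ^ n) :
    Nat.card C.Phi.range = 2 * n * (q ^ 2 - 1) := by
  have hF' : Fintype.card F = 2 ^ (2 * n) := by rw [C.hF, hq, ← pow_mul, mul_comm]
  obtain ⟨Ψ, hΨ⟩ : ∃ Ψ : Fˣ × (F ≃+* F) → Equiv.Perm F, ∀ p a, Ψ p a = (p.1 : F) * p.2 a := by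
    refine ⟨fun p =>
      { toFun := fun a => (p.1 : F) * p.2 a
        invFun := fun a => p.2.symm (((p.1⁻¹ : Fˣ) : F) * a)
        left_inv := fun a => by simp
        right_inv := fun a => by simp }, fun p a => rfl⟩
  have hΨinj : Function.Injective Ψ := by
    rintro ⟨l, σ⟩ ⟨l', σ'⟩ h
    have h1 : ∀ a, (l : F) * σ a = (l' : F) * σ' a := by
      intro a
      have h2 := congrArg (fun π : Equiv.Perm F => π a) h
      simp only [hΨ] at h2
      exact h2
    have hl : l = l' := by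
      have h3 := h1 1
      rw [map_one, map_one, mul_one, mul_one] at h3
      exact Units.ext h3
    subst hl
    have hσ : σ = σ' := RingEquiv.ext (fun a => mul_left_cancel₀ l.ne_zero (h1 a))
    rw [hσ]
  have hrange : (C.Phi.range : Set (Equiv.Perm F)) = Set.range Ψ := by
    ext π
    constructor
    · rintro ⟨φ, rfl⟩
      obtain ⟨l, σ, hl, h, -⟩ := C.A_form φ
      refine ⟨(Units.mk0 l hl, σ), Equiv.ext (fun a => ?_)⟩
      rw [hΨ, C.Phi_apply, h]
      rfl
    · rintro ⟨⟨l, σ⟩, rfl⟩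
      obtain ⟨φ, hφ⟩ := C.exists_aut (l : F) l.ne_zero σ
      refine ⟨φ, Equiv.ext (fun a => ?_)⟩
      rw [hΨ]
      show C.p1 (φ (C.base a)) = (l : F) * σ a
      unfold base
      have hr : ∀ a s : F, s + s ^ q = a ^ q * a →
          (l : F) ^ q * l * σ s + ((l : F) ^ q * l * σ s) ^ q = (l * σ a) ^ q * (l * σ a) := by
        intro a s h
        have h1 := congrArg σ h
        rw [map_add, map_mul, map_pow, map_pow] at h1
        rw [mul_pow, mul_pow, mul_pow, pow_q_pow_q C.hF]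
        linear_combination ((l : F) ^ q * l) * h1
      rw [hφ _ _ (C.rel_base a), C.p1_u (hr _ _ (C.rel_base a))]
  have h1 : Nat.card C.Phi.range = Nat.card (Set.range Ψ) :=
    Nat.card_congr (Equiv.setCongr hrange)
  rw [h1, ← Nat.card_congr (Equiv.ofInjective Ψ hΨinj), Nat.card_prod,
    Cfsg.Agent.Lib.Helper3.SzAut1.card_ringAut (2 * n) hF' C.h2, Nat.card_units,
    Nat.card_eq_fintype_card, C.hF, mul_comm]

/-- the automorphism group of a Sylow 2-subgroup of `SU₃(2ⁿ)`. -/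
theorem main (n : ℕ) (hq : q = 2 ^ n) :
    Cfsg.IsElementaryAbelian 2 (Cfsg.pCore 2 (MulAut H)) ∧
    Nat.card ↥(Cfsg.pCore 2 (MulAut H)) = 2 ^ (2 * n ^ 2) ∧
    Nat.card (MulAut H) = 2 ^ (2 * n ^ 2) * (2 * n * (q ^ 2 - 1)) := by
  have hK : Nat.card C.Phi.ker = 2 ^ (2 * n ^ 2) := by
    rw [C.card_ker n hq]
    congr 1
    ring
  have hR := C.card_range n hq
  have hG : Nat.card (MulAut H) = 2 ^ (2 * n ^ 2) * (2 * n * (q ^ 2 - 1)) := by
    rw [← Subgroup.card_mul_index C.Phi.ker, Subgroup.index_ker, hK, hR]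
  have hcore : Cfsg.pCore 2 (MulAut H) = C.Phi.ker := by
    have : Fact (Nat.Prime 2) := ⟨Nat.prime_two⟩
    have hnorm : (Cfsg.pCore 2 (MulAut H)).Normal := pCore_normal 2
    apply le_antisymm
    · intro x hx
      obtain ⟨l, σ, hl, hA, -⟩ := C.A_form x
      -- σ is trivial
      have hσ : ∀ μ : F, σ μ = μ := by
        intro μ
        by_cases hμ : μ = 0
        · rw [hμ, map_zero]
        obtain ⟨mμ, hm⟩ := C.exists_aut μ hμ (RingEquiv.refl F)
        have hmA : ∀ a, C.A mμ a = μ * a := by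
          intro a
          show C.p1 (mμ (C.base a)) = μ * a
          unfold base
          have hr : μ ^ q * μ * (C.eps * (a ^ q * a)) + (μ ^ q * μ * (C.eps * (a ^ q * a))) ^ q =
              (μ * a) ^ q * (μ * a) := by
            rw [mul_pow, mul_pow, mul_pow, pow_q_pow_q C.hF]
            linear_combination (μ ^ q * μ) * C.rel_base a
          have h1 := hm _ _ (C.rel_base a)
          simp only [RingEquiv.refl_apply] at h1
          rw [h1, C.p1_u hr]
        have hy : x * mμ * x⁻¹ * mμ⁻¹ ∈ Cfsg.pCore 2 (MulAut H) := by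
          have h1 : mμ * x⁻¹ * mμ⁻¹ ∈ Cfsg.pCore 2 (MulAut H) :=
            hnorm.conj_mem _ (Subgroup.inv_mem _ hx) mμ
          have h2 := Subgroup.mul_mem _ hx h1
          have e : x * (mμ * x⁻¹ * mμ⁻¹) = x * mμ * x⁻¹ * mμ⁻¹ := by group
          rwa [e] at h2
        have hyA : ∀ b, C.A (x * mμ * x⁻¹ * mμ⁻¹) b = σ μ / μ * b := by
          intro b
          obtain ⟨a, rfl⟩ := C.A_surj (mμ * x) b
          rw [← C.A_mul]
          have e : x * mμ * x⁻¹ * mμ⁻¹ * (mμ * x) = x * mμ := by group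
          rw [e, C.A_mul, C.A_mul, hmA, hA, hmA, hA, map_mul]
          field_simp
        obtain ⟨j, hj⟩ := (pCore_isPGroup (G := MulAut H) 2) ⟨_, hy⟩
        have hj' : (x * mμ * x⁻¹ * mμ⁻¹) ^ 2 ^ j = 1 := by simpa using congrArg Subtype.val hj
        have h3 := C.A_pow _ _ hyA (2 ^ j) 1
        rw [hj', C.A_one, mul_one] at h3
        have h4 := pow_two_pow_eq_one C.h2 j _ h3.symm
        field_simp at h4
        exact h4
      obtain ⟨k, hk⟩ := (pCore_isPGroup (G := MulAut H) 2) ⟨x, hx⟩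
      have hk' : x ^ 2 ^ k = 1 := by simpa using congrArg Subtype.val hk
      have hxA : ∀ a, C.A x a = l * a := by
        intro a
        rw [hA, hσ]
      have h3 := C.A_pow _ _ hxA (2 ^ k) 1
      rw [hk', C.A_one, mul_one] at h3
      have h4 := pow_two_pow_eq_one C.h2 k _ h3.symm
      apply C.mem_ker
      intro a
      rw [hxA, h4, one_mul]
    · exact le_pCore (MonoidHom.normal_ker _) (IsPGroup.of_card hK)
  refine ⟨?_, ?_, hG⟩
  · rw [hcore]
    exact ⟨⟨⟨fun a b => Subtype.ext (C.ker_comm a.1 b.1 a.2 b.2)⟩⟩, fun a ha => C.ker_sq a ha⟩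
  · rw [hcore, hK]

end CoU

end Cfsg.Agent.Lib.Helper3.SuAut2
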