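import Mathlib
import Cfsg.Agent.Lib.Helper3.SuAut2

set_option autoImplicit false
set_option linter.unusedSectionVars false

namespace Cfsg.Agent.Lib.Helper3.SuAut2

open Cfsg.Agent.Lib.Helper2.Unitary Cfsg.Agent.Lib.Helper2.HermCount
  Cfsg.Agent.Lib.Helper3.SuAut1 Cfsg.Agent.Lib.Lead.Cores

variable {F : Type*} [Field F] [Fintype F] {H : Type*} [Group H]

/-- characteristic two from the cardinality. -/
theorem two_eq_zero_of_card {m : ℕ} (hF : Fintype.card F = 2 ^ m) : (2 : F) = 0 := by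
  have h : ((Fintype.card F : ℕ) : F) = 0 := Nat.cast_card_eq_zero F
  rw [hF] at h
  push_cast at h
  have hm0 : m ≠ 0 := by
    rintro rfl
    rw [pow_zero] at h
    exact one_ne_zero h
  exact (pow_eq_zero_iff hm0).mp h

/-- a field automorphism of order at most two fixes the subfield of index two pointwise. -/
theorem inv_aut_fix {q n : ℕ} (hq : q = 2 ^ n) (hF : Fintype.card F = q ^ 2) (h2 : (2 : F) = 0)
    (σ : F ≃+* F) (hσ : ∀ a, σ (σ a) = a) (z : F) (hz : z ^ q = z) : σ z = z := by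
  have : CharP F 2 := CharTwo.of_one_ne_zero_of_two_eq_zero one_ne_zero h2
  let : Algebra (ZMod 2) F := ZMod.algebra F 2
  have h3 : Module.finrank (ZMod 2) F = 2 * n := by
    have h := Module.natCard_eq_pow_finrank (K := ZMod 2) (V := F)
    rw [Nat.card_eq_fintype_card, hF, Nat.card_zmod, hq, ← pow_mul] at h
    have h4 := (Nat.pow_right_injective (le_refl 2) h).symm
    omega
  have hcomm : ∀ (σ : F ≃+* F) (r : ZMod 2),
      σ (algebraMap (ZMod 2) F r) = algebraMap (ZMod 2) F r := by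
    intro σ r
    have h : (σ : F →+* F).comp (algebraMap (ZMod 2) F) = algebraMap (ZMod 2) F :=
      Subsingleton.elim _ _
    exact RingHom.congr_fun h r
  obtain ⟨σ', hσ'⟩ : ∃ σ' : F ≃ₐ[ZMod 2] F, ∀ a, σ' a = σ a :=
    ⟨AlgEquiv.ofRingEquiv (f := σ) (hcomm σ), fun a => rfl⟩
  obtain ⟨k, hk2, hk⟩ : ∃ k : ℕ, k < 2 * n ∧
      FiniteField.frobeniusAlgEquivOfAlgebraic (ZMod 2) F ^ k = σ' := by
    obtain ⟨i, hi⟩ := (FiniteField.bijective_frobeniusAlgEquivOfAlgebraic_pow (ZMod 2) F).2 σ'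
    exact ⟨i.1, h3 ▸ i.2, hi⟩
  have hsq : σ' ^ 2 = 1 := by
    ext a
    rw [pow_two, AlgEquiv.mul_apply, hσ', hσ', hσ]
    rfl
  rw [← hk, ← pow_mul] at hsq
  have hdvd := orderOf_dvd_of_pow_eq_one hsq
  rw [FiniteField.orderOf_frobeniusAlgEquivOfAlgebraic, h3] at hdvd
  have hcases : k = 0 ∨ k = n := by
    obtain ⟨c, hc⟩ := hdvd
    rcases Nat.eq_zero_or_pos c with h | h
    · left
      subst h
      omega
    · right
      have hc2 : c < 2 := by
        by_contra hcon
        have : 2 * n * 2 ≤ 2 * n * c := Nat.mul_le_mul_left _ (by omega)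
        omega
      have hc1 : c = 1 := by omega
      subst hc1
      omega
  have hval : σ z = (FiniteField.frobeniusAlgEquivOfAlgebraic (ZMod 2) F ^ k) z := by
    rw [hk, hσ']
  rcases hcases with h | h
  · rw [hval, h, pow_zero]
    rfl
  · rw [hval, h]
    have h5 : (FiniteField.frobeniusAlgEquivOfAlgebraic (ZMod 2) F ^ n) z =
        z ^ (Fintype.card (ZMod 2) ^ n) := by
      have h6 := congrFun (FiniteField.coe_frobeniusAlgEquivOfAlgebraic_iterate (ZMod 2) F n) z
      rw [← h6]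
      rw [AlgEquiv.coe_pow]
    rw [h5, ZMod.card, ← hq, hz]

namespace CoU

variable {q : ℕ} (C : CoU F q H)

include C

/-- transport of coordinates along an isomorphism. -/
def transport {H' : Type*} [Group H'] (e : H' ≃* H) : CoU F q H' where
  u a s := e.symm (C.u a s)
  hF := C.hF
  h2 := C.h2
  surj h := by
    obtain ⟨a, s, hr, hu⟩ := C.surj (e h)
    exact ⟨a, s, hr, by rw [hu, e.symm_apply_apply]⟩
  inj a s a' s' h h' he := C.inj a s a' s' h h' (e.symm.injective he)
  mul a s a' s' h h' := by rw [← map_mul, C.mul a s a' s' h h']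

/-- the order of the group. -/
theorem card : Nat.card H = q ^ 3 := by
  have hr : ∀ (a : F) (z : ↥(Kf C.hF)), (z.1 + C.eps * (a ^ q * a)) +
      (z.1 + C.eps * (a ^ q * a)) ^ q = a ^ q * a := by
    intro a z
    rw [pow_q_add C.hF, mul_pow, C.KN, (mem_Kf C.hF z.1).mp z.2]
    linear_combination (a ^ q * a) * C.eps_spec + z.1 * C.h2
  have hb : Function.Bijective
      (fun p : F × ↥(Kf C.hF) => C.u p.1 (p.2.1 + C.eps * (p.1 ^ q * p.1))) := by
    constructor
    · rintro ⟨a, z⟩ ⟨a', z'⟩ h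
      obtain ⟨h1, h2⟩ := C.inj _ _ _ _ (hr a z) (hr a' z') h
      subst h1
      have h3 : z.1 = z'.1 := add_right_cancel h2
      exact Prod.ext rfl (Subtype.ext h3)
    · intro x
      obtain ⟨a, s, h, rfl⟩ := C.surj x
      obtain ⟨-, hz⟩ := C.split h
      refine ⟨(a, ⟨s + C.eps * (a ^ q * a), hz⟩), ?_⟩
      show C.u a (s + C.eps * (a ^ q * a) + C.eps * (a ^ q * a)) = C.u a s
      congr 1
      linear_combination (C.eps * (a ^ q * a)) * C.h2
  rw [← Nat.card_congr (Equiv.ofBijective _ hb), Nat.card_prod, card_Kf C.hF C.h2,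
    Nat.card_eq_fintype_card, C.hF]
  ring

/-- the central elements. -/
theorem center_form (x : H) (hx : x ∈ Subgroup.center H) : ∃ z : F, z ^ q = z ∧ x = C.u 0 z := by
  obtain ⟨a, s, h, rfl⟩ := C.surj x
  rw [Subgroup.mem_center_iff] at hx
  have key : ∀ c : F, a * c ^ q = c * a ^ q := by
    intro c
    have h1 : C.u c (C.eps * (c ^ q * c)) * C.u a s = C.u a s * C.u c (C.eps * (c ^ q * c)) :=
      hx (C.base c)
    rw [C.mul _ _ _ _ (C.rel_base c) h, C.mul _ _ _ _ h (C.rel_base c)] at h1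
    have h2 := (C.inj _ _ _ _ (C.rel_mul (C.rel_base c) h) (C.rel_mul h (C.rel_base c)) h1).2
    linear_combination -h2
  have ha : a ^ q = a := by
    have h1 := key 1
    rw [one_pow, mul_one, one_mul] at h1
    exact h1.symm
  obtain ⟨ω, hω⟩ := exists_not_fixed C.hF
  have ha0 : a = 0 := by
    have h1 := key ω
    rw [ha] at h1
    have h2 : a * (ω ^ q - ω) = 0 := by linear_combination h1
    rcases mul_eq_zero.mp h2 with h3 | h3
    · exact h3
    · exact absurd (sub_eq_zero.mp h3) hω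
  subst ha0
  exact ⟨s, C.z_of_rel h, rfl⟩

/-- central elements of the given form. -/
theorem u_zero_mem_center {z : F} (hz : z ^ q = z) : C.u 0 z ∈ Subgroup.center H := by
  rw [Subgroup.mem_center_iff]
  intro g
  obtain ⟨a, s, h, rfl⟩ := C.surj g
  rw [C.mul _ _ _ _ h (C.rel_z hz), C.mul _ _ _ _ (C.rel_z hz) h]
  congr 1
  · ring
  · rw [zero_pow C.q0]
    ring

theorem p1_one : C.p1 (1 : H) = 0 := by
  have h := C.p1_mul 1 1
  rw [mul_one] at h
  linear_combination -h

/-- inner automorphisms act trivially on the quotient by the centre. -/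
theorem A_conj (g : H) (a : F) : C.A (MulAut.conj g) a = a := by
  show C.p1 (MulAut.conj g (C.base a)) = a
  rw [MulAut.conj_apply, C.p1_mul, C.p1_mul]
  have h1 : C.p1 g + C.p1 g⁻¹ = 0 := by
    rw [← C.p1_mul, mul_inv_cancel, C.p1_one]
  have h2 : C.p1 (C.base a) = a := C.p1_u (C.rel_base a)
  rw [h2]
  linear_combination h1

/-- an automorphism whose square is inner fixes the centre pointwise. -/
theorem fix_center (n : ℕ) (hq : q = 2 ^ n) (φ : MulAut H) (g : H) (hφ : φ * φ = MulAut.conj g)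
    (x : H) (hx : x ∈ Subgroup.center H) : φ x = x := by
  obtain ⟨z, hz, rfl⟩ := C.center_form x hx
  obtain ⟨l, σ, hl, hA, hB⟩ := C.A_form φ
  have h1 : ∀ a, l * σ l * σ (σ a) = a := by
    intro a
    have h := C.A_mul φ φ a
    rw [hφ, C.A_conj, hA, hA, map_mul] at h
    linear_combination -h
  have h2 : l * σ l = 1 := by
    have h := h1 1
    rw [map_one, map_one, mul_one] at h
    exact h
  have h3 : ∀ a, σ (σ a) = a := by
    intro a
    have h := h1 a
    rw [h2, one_mul] at h
    exact h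
  have hfix := inv_aut_fix hq C.hF C.h2 σ h3
  have hN : l ^ q * l = 1 := by
    have h4 : σ (l ^ q * l) = l ^ q * l := hfix _ (C.KN l)
    have h5 : (l ^ q * l) ^ 2 ^ 1 = 1 := by
      have h6 : (l ^ q * l) * σ (l ^ q * l) = 1 := by
        rw [map_mul, map_pow]
        have h7 : l ^ q * l * (σ l ^ q * σ l) = (l * σ l) ^ q * (l * σ l) := by ring
        rw [h7, h2, one_pow, one_mul]
      rw [h4] at h6
      rw [pow_one, pow_two]
      exact h6
    exact pow_two_pow_eq_one C.h2 1 _ h5
  rw [(C.phi_z φ hz).1, hB z hz, hN, one_mul, hfix z hz]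

end CoU

end Cfsg.Agent.Lib.Helper3.SuAut2
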