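import Mathlib
import Cfsg.Agent.Lib.Helper8.U34
import Cfsg.Agent.S0278
import Cfsg.Agent.Lib.Helper3.SuAut3

set_option autoImplicit false
set_option linter.unusedSectionVars false

namespace Cfsg.Agent.Lib.Helper3.SuSyl

open Matrix Cfsg.Agent.Lib.Helper2.Unitary Cfsg.Agent.Lib.Helper2.HermCount
  Cfsg.Agent.Lib.Helper3.SuAut1 Cfsg.Agent.Lib.Helper3.SuAut2

variable {F : Type*} [Field F] [Fintype F]

/-- the unipotent matrices fixing the isotropic vector `(1,1,0)`. -/
def um (q : ℕ) (a s : F) : Matrix (Fin 3) (Fin 3) F :=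
  !![1 + s, s, a; s, 1 + s, a; a ^ q, a ^ q, 1]

theorem um_mul {q : ℕ} (hF : Fintype.card F = q ^ 2) (h2 : (2 : F) = 0) (a s a' s' : F) :
    um q a s * um q a' s' = um q (a + a') (s + s' + a * a' ^ q) := by
  have hqa := pow_q_add hF
  ext i j
  fin_cases i <;> fin_cases j
  · simp [um, Matrix.mul_apply, Fin.sum_univ_three]
    linear_combination (s * s') * h2
  · simp [um, Matrix.mul_apply, Fin.sum_univ_three]
    linear_combination (s * s') * h2
  · simp [um, Matrix.mul_apply, Fin.sum_univ_three]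
    linear_combination (a' * s) * h2
  · simp [um, Matrix.mul_apply, Fin.sum_univ_three]
    linear_combination (s * s') * h2
  · simp [um, Matrix.mul_apply, Fin.sum_univ_three]
    linear_combination (s * s') * h2
  · simp [um, Matrix.mul_apply, Fin.sum_univ_three]
    linear_combination (a' * s) * h2
  · simp [um, Matrix.mul_apply, Fin.sum_univ_three, hqa]
    linear_combination (a ^ q * s') * h2
  · simp [um, Matrix.mul_apply, Fin.sum_univ_three, hqa]
    linear_combination (a ^ q * s') * h2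
  · simp [um, Matrix.mul_apply, Fin.sum_univ_three]
    linear_combination (a ^ q * a') * h2

theorem um_det {q : ℕ} (h2 : (2 : F) = 0) (a s : F) : (um q a s).det = 1 := by
  rw [Matrix.det_fin_three]
  simp [um]
  linear_combination (s - a ^ q * a) * h2

theorem um_isU {q : ℕ} (hF : Fintype.card F = q ^ 2) (h2 : (2 : F) = 0) (a s : F)
    (hs : s + s ^ q = a ^ q * a) : IsU 3 q (um q a s) := by
  have hqa := pow_q_add hF
  have hqq := pow_q_pow_q hF
  apply Cfsg.Agent.Lib.Helper8.U34.isU_of_orth hF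
  intro j k
  fin_cases j <;> fin_cases k
  · simp [um, Fin.sum_univ_three, hqa, hqq]
    linear_combination hs + (s * s ^ q + a ^ q * a) * h2
  · simp [um, Fin.sum_univ_three, hqa, hqq]
    linear_combination hs + (s * s ^ q + a ^ q * a) * h2
  · simp [um, Fin.sum_univ_three, hqa, hqq]
    linear_combination (a ^ q + s * a ^ q) * h2
  · simp [um, Fin.sum_univ_three, hqa, hqq]
    linear_combination hs + (s * s ^ q + a ^ q * a) * h2
  · simp [um, Fin.sum_univ_three, hqa, hqq]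
    linear_combination hs + (s * s ^ q + a ^ q * a) * h2
  · simp [um, Fin.sum_univ_three, hqa, hqq]
    linear_combination (a ^ q + s * a ^ q) * h2
  · simp [um, Fin.sum_univ_three, hqa, hqq]
    linear_combination (a + a * s ^ q) * h2
  · simp [um, Fin.sum_univ_three, hqa, hqq]
    linear_combination (a + a * s ^ q) * h2
  · simp [um, Fin.sum_univ_three, hqa, hqq]
    linear_combination (a * a ^ q) * h2

theorem um_inj {q : ℕ} {a s a' s' : F} (h : um q a s = um q a' s') : a = a' ∧ s = s' := by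
  have h1 := congrFun (congrFun h 0) 2
  have h2 := congrFun (congrFun h 0) 1
  simp [um] at h1 h2
  exact ⟨h1, h2⟩

theorem um_zero {q : ℕ} (hq : q ≠ 0) : um q (0 : F) 0 = 1 := by
  ext i j
  fin_cases i <;> fin_cases j <;> simp [um, zero_pow hq]

theorem rel_mul' {q : ℕ} (hF : Fintype.card F = q ^ 2) {a s a' s' : F}
    (h : s + s ^ q = a ^ q * a) (h' : s' + s' ^ q = a' ^ q * a') :
    (s + s' + a * a' ^ q) + (s + s' + a * a' ^ q) ^ q = (a + a') ^ q * (a + a') := by
  rw [pow_q_add hF, pow_q_add hF, pow_q_add hF, mul_pow, pow_q_pow_q hF]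
  linear_combination h + h'

theorem rel_zero {q : ℕ} (hF : Fintype.card F = q ^ 2) :
    (0 : F) + (0 : F) ^ q = (0 : F) ^ q * 0 := by
  have hq := two_le_q hF
  rw [zero_pow (by omega)]
  ring

/-- the elements of the Sylow 2-subgroup. -/
noncomputable def uu {q : ℕ} (hF : Fintype.card F = q ^ 2) (h2 : (2 : F) = 0) (a s : F) :
    ↥(Cfsg.SU 3 F q) := by
  classical
  exact if h : s + s ^ q = a ^ q * a then
    ⟨⟨um q a s, um_det h2 a s⟩, (mem_SU_iff 3 q _).mpr (um_isU hF h2 a s h)⟩ else 1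

theorem uu_val {q : ℕ} (hF : Fintype.card F = q ^ 2) (h2 : (2 : F) = 0) {a s : F}
    (h : s + s ^ q = a ^ q * a) :
    ((uu hF h2 a s : ↥(Cfsg.SU 3 F q)) : Matrix.SpecialLinearGroup (Fin 3) F).1 = um q a s := by
  unfold uu
  rw [dif_pos h]

theorem uu_mul {q : ℕ} (hF : Fintype.card F = q ^ 2) (h2 : (2 : F) = 0) {a s a' s' : F}
    (h : s + s ^ q = a ^ q * a) (h' : s' + s' ^ q = a' ^ q * a') :
    uu hF h2 a s * uu hF h2 a' s' = uu hF h2 (a + a') (s + s' + a * a' ^ q) := by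
  apply Subtype.ext
  apply Subtype.ext
  show (uu hF h2 a s).1.1 * (uu hF h2 a' s').1.1 = (uu hF h2 (a + a') (s + s' + a * a' ^ q)).1.1
  rw [uu_val hF h2 h, uu_val hF h2 h', uu_val hF h2 (rel_mul' hF h h'), um_mul hF h2]

theorem uu_zero {q : ℕ} (hF : Fintype.card F = q ^ 2) (h2 : (2 : F) = 0) :
    uu hF h2 0 0 = 1 := by
  have hq := two_le_q hF
  apply Subtype.ext
  apply Subtype.ext
  show (uu hF h2 0 0).1.1 = 1
  rw [uu_val hF h2 (rel_zero hF), um_zero (by omega)]

theorem uu_inj {q : ℕ} (hF : Fintype.card F = q ^ 2) (h2 : (2 : F) = 0) {a s a' s' : F}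
    (h : s + s ^ q = a ^ q * a) (h' : s' + s' ^ q = a' ^ q * a')
    (e : uu hF h2 a s = uu hF h2 a' s') : a = a' ∧ s = s' := by
  have e1 : (uu hF h2 a s).1.1 = (uu hF h2 a' s').1.1 := by rw [e]
  rw [uu_val hF h2 h, uu_val hF h2 h'] at e1
  exact um_inj e1

/-- the Sylow 2-subgroup. -/
noncomputable def Q {q : ℕ} (hF : Fintype.card F = q ^ 2) (h2 : (2 : F) = 0) :
    Subgroup ↥(Cfsg.SU 3 F q) where
  carrier := {g | ∃ a s : F, s + s ^ q = a ^ q * a ∧ uu hF h2 a s = g}
  mul_mem' := by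
    rintro _ _ ⟨a, s, h, rfl⟩ ⟨a', s', h', rfl⟩
    exact ⟨_, _, rel_mul' hF h h', (uu_mul hF h2 h h').symm⟩
  one_mem' := ⟨0, 0, rel_zero hF, uu_zero hF h2⟩
  inv_mem' := by
    rintro _ ⟨a, s, h, rfl⟩
    have h' : (s + a ^ q * a) + (s + a ^ q * a) ^ q = a ^ q * a := by
      rw [pow_q_add hF, mul_pow, pow_q_pow_q hF]
      linear_combination h + (a ^ q * a) * h2
    refine ⟨a, s + a ^ q * a, h', ?_⟩
    symm
    apply inv_eq_of_mul_eq_one_right
    rw [uu_mul hF h2 h h', ← uu_zero hF h2]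
    congr 1
    · linear_combination a * h2
    · linear_combination (s + a ^ q * a) * h2

/-- the coordinates on the Sylow 2-subgroup. -/
noncomputable def coQ {q : ℕ} (hF : Fintype.card F = q ^ 2) (h2 : (2 : F) = 0) :
    CoU F q ↥(Q hF h2) where
  u a s := by
    classical
    exact if h : s + s ^ q = a ^ q * a then ⟨uu hF h2 a s, a, s, h, rfl⟩ else 1
  hF := hF
  h2 := h2
  surj := by
    rintro ⟨_, a, s, h, rfl⟩
    refine ⟨a, s, h, ?_⟩
    rw [dif_pos h]
  inj := by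
    intro a s a' s' h h' e
    rw [dif_pos h, dif_pos h'] at e
    exact uu_inj hF h2 h h' (congrArg Subtype.val e)
  mul := by
    intro a s a' s' h h'
    rw [dif_pos h, dif_pos h', dif_pos (rel_mul' hF h h')]
    apply Subtype.ext
    exact uu_mul hF h2 h h'

theorem finite_SL3 : Finite (Matrix.SpecialLinearGroup (Fin 3) F) :=
  Finite.of_injective (fun g => g.1) Subtype.val_injective

/-- the order of `SU₃(q)`. -/
theorem card_SU3 {q : ℕ} (hF : Fintype.card F = q ^ 2) :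
    Nat.card ↥(Cfsg.SU 3 F q) = q ^ 3 * ((q ^ 2 - 1) * (q ^ 3 + 1)) := by
  have h := Cfsg.Agent.S0278.result hF 3 (by norm_num)
  have hq := two_le_q hF
  have e : (q ^ (3 * (3 - 1) / 2) * ∏ i ∈ Finset.range 3,
      (if Even i then q ^ (i + 1) + 1 else q ^ (i + 1) - 1) : ℕ) =
      (q + 1) * (q ^ 3 * ((q ^ 2 - 1) * (q ^ 3 + 1))) := by
    have h0 : Even 0 := ⟨0, rfl⟩
    have h1 : ¬ Even 1 := by decide
    have h2 : Even 2 := ⟨1, rfl⟩
    rw [Finset.prod_range_succ, Finset.prod_range_succ, Finset.prod_range_one, if_pos h0,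
      if_neg h1, if_pos h2]
    norm_num
    ring
  rw [e] at h
  exact Nat.eq_of_mul_eq_mul_left (by omega) h

/-- coordinates on any group isomorphic to a Sylow 2-subgroup of `SU₃(2ⁿ)`. -/
theorem exists_coU (n : ℕ) (hF : Fintype.card F = (2 ^ n) ^ 2)
    (P : Sylow 2 ↥(Cfsg.SU 3 F (2 ^ n))) {S : Type*} [Group S]
    (e : S ≃* ↥(P : Subgroup ↥(Cfsg.SU 3 F (2 ^ n)))) : Nonempty (CoU F (2 ^ n) S) := by
  have hfin : Finite (Matrix.SpecialLinearGroup (Fin 3) F) := finite_SL3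
  have : Fact (Nat.Prime 2) := ⟨Nat.prime_two⟩
  have h2 : (2 : F) = 0 := by
    rw [← pow_mul] at hF
    exact two_eq_zero_of_card hF
  have hq := two_le_q hF
  have hn : n ≠ 0 := by
    rintro rfl
    norm_num at hq
  have hcQ : Nat.card ↥(Q hF h2) = (2 ^ n) ^ 3 := (coQ hF h2).card
  obtain ⟨c, hc⟩ : ∃ c : ℕ, c = ((2 ^ n) ^ 2 - 1) * ((2 ^ n) ^ 3 + 1) := ⟨_, rfl⟩
  have hodd : Odd c := by
    have hev : Even (2 ^ n) := (Nat.even_pow' hn).mpr even_two
    rw [hc]
    apply Odd.mul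
    · exact Nat.Even.sub_odd (Nat.one_le_pow _ _ (by positivity))
        ((Nat.even_pow' (by norm_num)).mpr hev) odd_one
    · exact ((Nat.even_pow' (by norm_num)).mpr hev).add_one
  have hfac : (Nat.card ↥(Cfsg.SU 3 F (2 ^ n))).factorization 2 = n * 3 := by
    rw [card_SU3 hF, ← hc, ← pow_mul]
    have hc0 : c ≠ 0 := by
      rintro rfl
      simp at hodd
    rw [Nat.factorization_mul (pow_ne_zero _ two_ne_zero) hc0]
    simp only [Finsupp.coe_add, Pi.add_apply]
    rw [Nat.Prime.factorization_pow Nat.prime_two]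
    have h3 : c.factorization 2 = 0 := by
      apply Nat.factorization_eq_zero_of_not_dvd
      intro h
      exact (Nat.not_even_iff_odd.mpr hodd) (even_iff_two_dvd.mpr h)
    rw [h3]
    simp
  have hcard : Nat.card ↥(Q hF h2) = 2 ^ (Nat.card ↥(Cfsg.SU 3 F (2 ^ n))).factorization 2 := by
    rw [hcQ, hfac, ← pow_mul]
  obtain ⟨P2, hP2⟩ : ∃ P2 : Sylow 2 ↥(Cfsg.SU 3 F (2 ^ n)),
      (P2 : Subgroup ↥(Cfsg.SU 3 F (2 ^ n))) = Q hF h2 := ⟨Sylow.ofCard _ hcard, rfl⟩
  have e2 : (P : Subgroup ↥(Cfsg.SU 3 F (2 ^ n))) ≃* (P2 : Subgroup ↥(Cfsg.SU 3 F (2 ^ n))) :=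
    Sylow.equiv P P2
  exact ⟨(coQ hF h2).transport (e.trans (e2.trans (MulEquiv.subgroupCongr hP2)))⟩

end Cfsg.Agent.Lib.Helper3.SuSyl
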