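import Mathlib
import Cfsg.Prelude.Def_LieExceptional
import Cfsg.Agent.Lib.Helper3.Sz10
import Cfsg.Agent.Lib.Helper14.SzLink

set_option autoImplicit false

namespace Cfsg.Agent.Lib.Helper3.Sz12

open Matrix Cfsg.Agent.Lib.Helper3.Sz1 Cfsg.Agent.Lib.Helper3.Sz2 Cfsg.Agent.Lib.Helper3.Sz3
  Cfsg.Agent.Lib.Helper3.Sz4 Cfsg.Agent.Lib.Helper3.Sz5 Cfsg.Agent.Lib.Helper3.Sz6
  Cfsg.Agent.Lib.Helper3.Sz7 Cfsg.Agent.Lib.Helper3.Sz9 Cfsg.Agent.Lib.Helper3.Sz10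

/-- the property of having a "Borel-like" subgroup absorbing the nilpotent subgroups through two
elements that never lie in a common nilpotent subgroup. -/
def HasAbsorber (G : Type*) [Group G] : Prop :=
  ∃ (B : Subgroup G) (u₀ d₀ : G), B ≠ ⊤ ∧
    (∀ A : Subgroup G, Group.IsNilpotent ↥A → u₀ ∈ A → A ≤ B) ∧
    (∀ A : Subgroup G, Group.IsNilpotent ↥A → d₀ ∈ A → A ≤ B) ∧
    (∀ A : Subgroup G, Group.IsNilpotent ↥A → u₀ ∈ A → d₀ ∉ A)

theorem no_nilp_min_cover {G : Type*} [Group G] (h : HasAbsorber G) :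
    ¬ ∃ 𝓐 : Finset (Subgroup G), ((∀ A ∈ 𝓐, A ≠ ⊤) ∧ (∀ g : G, ∃ A ∈ 𝓐, g ∈ A)) ∧
      (∀ 𝓑 : Finset (Subgroup G), (∀ A ∈ 𝓑, A ≠ ⊤) ∧ (∀ g : G, ∃ A ∈ 𝓑, g ∈ A) →
        𝓐.card ≤ 𝓑.card) ∧ (∀ A ∈ 𝓐, Group.IsNilpotent ↥A) := by
  classical
  obtain ⟨B, u₀, d₀, hB, h1, h2, h3⟩ := h
  rintro ⟨𝓐, ⟨hprop, hcov⟩, hmin, hnil⟩
  obtain ⟨A₁, hA₁, hu⟩ := hcov u₀
  obtain ⟨A₂, hA₂, hd⟩ := hcov d₀
  have hA₁B := h1 A₁ (hnil A₁ hA₁) hu
  have hA₂B := h2 A₂ (hnil A₂ hA₂) hd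
  have hne : A₁ ≠ A₂ := fun h => h3 A₁ (hnil A₁ hA₁) hu (h ▸ hd)
  have hB' : (∀ A ∈ insert B (𝓐.filter (fun A => ¬ A ≤ B)), A ≠ ⊤) ∧
      (∀ g : G, ∃ A ∈ insert B (𝓐.filter (fun A => ¬ A ≤ B)), g ∈ A) := by
    constructor
    · intro A hA
      rcases Finset.mem_insert.mp hA with rfl | hA
      · exact hB
      · exact hprop A (Finset.mem_filter.mp hA).1
    · intro g
      obtain ⟨A, hA, hg⟩ := hcov g
      by_cases hAB : A ≤ B
      · exact ⟨B, Finset.mem_insert_self _ _, hAB hg⟩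
      · exact ⟨A, Finset.mem_insert_of_mem (Finset.mem_filter.mpr ⟨hA, hAB⟩), hg⟩
  have hcard := hmin _ hB'
  have h4 : (insert B (𝓐.filter (fun A => ¬ A ≤ B))).card ≤
      (𝓐.filter (fun A => ¬ A ≤ B)).card + 1 := Finset.card_insert_le _ _
  have h5 : (𝓐.filter (fun A => A ≤ B)).card + (𝓐.filter (fun A => ¬ A ≤ B)).card = 𝓐.card :=
    Finset.card_filter_add_card_filter_not (fun A => A ≤ B)
  have h6 : 2 ≤ (𝓐.filter (fun A => A ≤ B)).card := by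
    have hsub : ({A₁, A₂} : Finset (Subgroup G)) ⊆ 𝓐.filter (fun A => A ≤ B) := by
      intro A hA
      rcases Finset.mem_insert.mp hA with rfl | hA
      · exact Finset.mem_filter.mpr ⟨hA₁, hA₁B⟩
      · rw [Finset.mem_singleton] at hA
        subst hA
        exact Finset.mem_filter.mpr ⟨hA₂, hA₂B⟩
    have h7 := Finset.card_le_card hsub
    rwa [Finset.card_pair hne] at h7
  omega

theorem HasAbsorber.of_equiv {G G' : Type*} [Group G] [Group G'] (e : G ≃* G')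
    (h : HasAbsorber G) : HasAbsorber G' := by
  obtain ⟨B, u₀, d₀, hB, h1, h2, h3⟩ := h
  have key : ∀ A' : Subgroup G', Group.IsNilpotent ↥A' →
      Group.IsNilpotent ↥(A'.map e.symm.toMonoidHom) := by
    intro A' hA'
    exact (Group.isNilpotent_congr (e.symm.subgroupMap A')).mp hA'
  have hmem : ∀ (A' : Subgroup G') (x : G), e x ∈ A' → x ∈ A'.map e.symm.toMonoidHom := by
    intro A' x hx
    exact Subgroup.mem_map.mpr ⟨e x, hx, e.symm_apply_apply x⟩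
  have hle : ∀ A' : Subgroup G', A'.map e.symm.toMonoidHom ≤ B → A' ≤ B.map e.toMonoidHom := by
    intro A' hA' x hx
    exact Subgroup.mem_map.mpr ⟨e.symm x, hA' (Subgroup.mem_map.mpr ⟨x, hx, rfl⟩),
      e.apply_symm_apply x⟩
  refine ⟨B.map e.toMonoidHom, e u₀, e d₀, ?_, ?_, ?_, ?_⟩
  · intro htop
    apply hB
    rw [eq_top_iff]
    intro x _
    have h4 : e x ∈ B.map e.toMonoidHom := by
      rw [htop]
      exact Subgroup.mem_top _
    obtain ⟨b, hb, hbx⟩ := Subgroup.mem_map.mp h4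
    have h5 : b = x := e.injective hbx
    rw [← h5]
    exact hb
  · intro A' hA' hu
    exact hle A' (h1 _ (key A' hA') (hmem A' u₀ hu))
  · intro A' hA' hd
    exact hle A' (h2 _ (key A' hA') (hmem A' d₀ hd))
  · intro A' hA' hu hd
    exact h3 _ (key A' hA') (hmem A' u₀ hu) (hmem A' d₀ hd)

section sz

variable {F : Type*} [Field F] [Fintype F] {m : ℕ}

/-- a nilpotent subgroup containing a non-trivial translation consists of translations. -/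
theorem nilp_T (hm : 1 ≤ m) (hF : Fintype.card F = 2 ^ (2 * m + 1))
    (A : Subgroup ↥(Cfsg.Sz F m)) (hA : Group.IsNilpotent ↥A) {a b : F}
    (hab : ¬ (a = 0 ∧ b = 0)) (hu : u hm hF a b ∈ A) :
    ∀ g ∈ A, ∃ c d : F, g.1 = T (2 ^ (m + 1)) c d := by
  have hnt : Nontrivial ↥A := by
    refine ⟨⟨⟨u hm hF a b, hu⟩, 1, fun h => ?_⟩⟩
    have h1 : u hm hF a b = 1 := congrArg Subtype.val h
    rw [← u_zero hm hF] at h1
    exact hab (u_inj hm hF h1)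
  obtain ⟨⟨z, hz⟩, hz1⟩ := Subgroup.ne_bot_iff_exists_ne_one.mp
    (Group.IsNilpotent.center_ne_bot (G := ↥A))
  rw [Subgroup.mem_center_iff] at hz
  have hzu := hz ⟨u hm hF a b, hu⟩
  have hzu' : z.1.1 * T (2 ^ (m + 1)) a b = T (2 ^ (m + 1)) a b * z.1.1 := by
    have h2 := congrArg (fun x : ↥A => x.1.1) hzu
    exact h2.symm
  obtain ⟨c, d, hcd⟩ := cent_T hm hF hab z.1.2 hzu'
  have hcd0 : ¬ (c = 0 ∧ d = 0) := by
    rintro ⟨rfl, rfl⟩
    apply hz1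
    apply Subtype.ext
    apply Subtype.ext
    apply Subtype.ext
    show z.1.1 = 1
    rw [hcd, T_zero hm hF]
  intro g hg
  have hzg := hz ⟨g, hg⟩
  have hzg' : g.1 * T (2 ^ (m + 1)) c d = T (2 ^ (m + 1)) c d * g.1 := by
    have h2 := congrArg (fun x : ↥A => x.1.1) hzg
    rw [← hcd]
    exact h2
  exact cent_T hm hF hcd0 g.2 hzg'

/-- a nilpotent subgroup containing a non-trivial diagonal element is diagonal. -/
theorem nilp_D (hm : 1 ≤ m) (hF : Fintype.card F = 2 ^ (2 * m + 1))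
    (A : Subgroup ↥(Cfsg.Sz F m)) (hA : Group.IsNilpotent ↥A) {k : Fˣ} (hk : k ≠ 1)
    (d₀ : ↥(Cfsg.Sz F m)) (hd₀ : d₀.1 = D (2 ^ (m + 1)) k) (hd : d₀ ∈ A) :
    ∀ g ∈ A, ∃ k' : Fˣ, g.1 = D (2 ^ (m + 1)) k' := by
  have hnt : Nontrivial ↥A := by
    refine ⟨⟨⟨d₀, hd⟩, 1, fun h => ?_⟩⟩
    have h1 : d₀.1 = 1 := congrArg (fun x : ↥A => x.1.1) h
    rw [hd₀, ← D_one (2 ^ (m + 1))] at h1
    exact hk (D_inj h1)
  obtain ⟨⟨z, hz⟩, hz1⟩ := Subgroup.ne_bot_iff_exists_ne_one.mp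
    (Group.IsNilpotent.center_ne_bot (G := ↥A))
  rw [Subgroup.mem_center_iff] at hz
  have hzu := hz ⟨d₀, hd⟩
  have hzu' : z.1.1 * D (2 ^ (m + 1)) k = D (2 ^ (m + 1)) k * z.1.1 := by
    have h2 := congrArg (fun x : ↥A => x.1.1) hzu
    rw [← hd₀]
    exact h2.symm
  obtain ⟨k', hk'⟩ := cent_D hm hF hk z.1.2 hzu'
  have hk'1 : k' ≠ 1 := by
    rintro rfl
    apply hz1
    apply Subtype.ext
    apply Subtype.ext
    apply Subtype.ext
    show z.1.1 = 1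
    rw [hk', D_one]
  intro g hg
  have hzg := hz ⟨g, hg⟩
  have hzg' : g.1 * D (2 ^ (m + 1)) k' = D (2 ^ (m + 1)) k' * g.1 := by
    have h2 := congrArg (fun x : ↥A => x.1.1) hzg
    rw [← hk']
    exact h2
  exact cent_D hm hF hk'1 g.2 hzg'

/-- the stabiliser of the point at infinity. -/
def Binf (F : Type*) [Field F] (m : ℕ) : Subgroup ↥(Cfsg.Sz F m) where
  carrier := {g | g.1 • Cfsg.suzukiPointInfinity F = Cfsg.suzukiPointInfinity F}
  mul_mem' := by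
    intro a b ha hb
    show (a.1 * b.1) • Cfsg.suzukiPointInfinity F = Cfsg.suzukiPointInfinity F
    rw [mul_smul]
    exact (congrArg (fun p => a.1 • p) hb).trans ha
  one_mem' := one_smul _ _
  inv_mem' := by
    intro a ha
    show a.1⁻¹ • Cfsg.suzukiPointInfinity F = Cfsg.suzukiPointInfinity F
    rw [inv_smul_eq_iff]
    exact ha.symm

theorem absorber (hm : 1 ≤ m) (hF : Fintype.card F = 2 ^ (2 * m + 1)) :
    HasAbsorber ↥(Cfsg.Sz F m) := by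
  have hs := hyp_of_card hm hF
  obtain ⟨b₀, hb0, hb1⟩ := exists_ne_zero_one (F := F) hm hF
  have hk₀ : Units.mk0 b₀ hb0 ≠ 1 := by
    intro h
    apply hb1
    have h1 := congrArg Units.val h
    rwa [Units.val_mk0, Units.val_one] at h1
  have h10 : ¬ ((1 : F) = 0 ∧ (0 : F) = 0) := fun h => one_ne_zero h.1
  refine ⟨Binf F m, u hm hF 1 0, ⟨D (2 ^ (m + 1)) (Units.mk0 b₀ hb0), D_mem hm hF _⟩, ?_, ?_, ?_, ?_⟩
  · intro htop
    have h1 : (⟨W hs, W_mem hm hF⟩ : ↥(Cfsg.Sz F m)) ∈ Binf F m := by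
      rw [htop]
      exact Subgroup.mem_top _
    have h2 : W hs • Cfsg.suzukiPointInfinity F = Cfsg.suzukiPointInfinity F := h1
    rw [W_pInf hs] at h2
    exact pZero_ne_inf h2
  · intro A hA hu g hg
    obtain ⟨c, d, hcd⟩ := nilp_T hm hF A hA h10 hu g hg
    show g.1 • Cfsg.suzukiPointInfinity F = Cfsg.suzukiPointInfinity F
    rw [hcd, T_pInf]
  · intro A hA hd g hg
    obtain ⟨k', hk'⟩ := nilp_D hm hF A hA hk₀ _ rfl hd g hg
    show g.1 • Cfsg.suzukiPointInfinity F = Cfsg.suzukiPointInfinity F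
    rw [hk', D_pInf]
  · intro A hA hu hd
    obtain ⟨c, d, hcd⟩ := nilp_T hm hF A hA h10 hu _ hd
    have h1 : D (2 ^ (m + 1)) (Units.mk0 b₀ hb0) = T (2 ^ (m + 1)) c d := hcd
    have h2 : T (2 ^ (m + 1)) 0 0 * D (2 ^ (m + 1)) (Units.mk0 b₀ hb0) =
        T (2 ^ (m + 1)) c d * D (2 ^ (m + 1)) 1 := by
      rw [T_zero hm hF, one_mul, D_one, mul_one, h1]
    exact hk₀ (TD_inj h2).2.2

/-- `S3893`. -/
theorem lie_no_cover (hm : 1 ≤ m) (hF : Fintype.card F = 2 ^ (2 * m + 1)) :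
    HasAbsorber ↥(Cfsg.Lie.Sz F (2 ^ (m + 1))) :=
  (absorber hm hF).of_equiv (Cfsg.Agent.Lib.Helper14.SzLink.szEquiv hm hF)

end sz

end Cfsg.Agent.Lib.Helper3.Sz12
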